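/-
SYMPLECTIC PHASE 2 (helper9): the class-6 data of the rows, shared by the stretch tasks SP2-S2 / SP2-S5.
-/
import Cfsg.Agent.Lib.H11.AschSDefs

set_option autoImplicit false

namespace Cfsg.Agent.Lib.H9.AschSP2

open Cfsg Cfsg.Geo
open scoped MatrixGroups Matrix

/-- The data of a class-6 member of `Sp_2m(F)` exactly as in the rows (`|R| = 2^(1+2k)`), plus "commutators are scalar"
(needed by SP2-B6). -/
def C6Data (m k : ℕ) (F : Type*) [Field F] [Fintype F] (R : Subgroup (GL (Fin m ⊕ Fin m) F)) : Prop :=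
  IsSymplecticTypeGroup 2 R ∧ ActsAbsolutelyIrreducibly (matrixSet R) ∧
    R ≤ similarityGroup (sympForm m F) ∧ Nat.card R = 2 ^ (1 + 2 * k) ∧
    Nat.card (Subgroup.center R) = 2 ∧ IsOfMinusType k R ∧
    (∀ x ∈ R, ∀ y ∈ R, x * y * x⁻¹ * y⁻¹ ∈ scalars (Fin m ⊕ Fin m) F)

end Cfsg.Agent.Lib.H9.AschSP2
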