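import Mathlib
import Cfsg.Agent.Lib.H1.CoprimeAction
import Cfsg.Agent.Lib.H1.CharSubgroup
import Cfsg.Agent.Lib.H1.PGroupBasic

set_option autoImplicit false

namespace Cfsg.Agent.Lib.H9

variable {G : Type*} [Group G]

/-- **Burnside**: a `p'`-element normalizing the `p`-group `Q` and acting trivially on `Q/Φ(Q)`
centralizes `Q`. -/
theorem commute_of_commutator_mem_frattini [Finite G] {p : ℕ} [Fact p.Prime] {Q : Subgroup G}
    (hQ : IsPGroup p Q) {y : G} (hyN : y ∈ Subgroup.normalizer (Q : Set G))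
    (hy : (orderOf y).Coprime p)
    (h : ∀ a ∈ Subgroup.zpowers y, ∀ q ∈ Q, a * q * a⁻¹ * q⁻¹ ∈ (frattini ↥Q).map Q.subtype) :
    ∀ q ∈ Q, y * q = q * y := by
  have hA : Cfsg.Agent.Lib.H1.CoprimeAction (Subgroup.zpowers y) Q := by
    refine ⟨Subgroup.zpowers_le.mpr hyN, ?_, Or.inr ?_⟩
    · rw [Nat.card_zpowers]
      obtain ⟨n, hn⟩ := IsPGroup.iff_card.mp hQ
      rw [hn]
      exact Nat.Coprime.pow_right n hy
    · have : Group.IsNilpotent Q := hQ.isNilpotent
      infer_instance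
  have hchar : (frattini ↥Q).Characteristic := inferInstance
  have hKN : Q ≤ Subgroup.normalizer (((frattini ↥Q).map Q.subtype : Subgroup G) : Set G) :=
    Subgroup.le_normalizer.trans
      (Cfsg.Agent.Lib.H1.normalizer_le_normalizer_map_of_characteristic (frattini ↥Q))
  have hAN : Subgroup.zpowers y ≤
      Subgroup.normalizer (((frattini ↥Q).map Q.subtype : Subgroup G) : Set G) :=
    (Subgroup.zpowers_le.mpr hyN).trans
      (Cfsg.Agent.Lib.H1.normalizer_le_normalizer_map_of_characteristic (frattini ↥Q))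
  have key : ((Q ⊓ Subgroup.centralizer (Subgroup.zpowers y : Set G)).subgroupOf Q) ⊔ frattini ↥Q = ⊤ := by
    rw [eq_top_iff]
    intro q _
    obtain ⟨c, hc, hqc⟩ := Cfsg.Agent.Lib.H1.coprime_centralizer_quotient hA
      (Subgroup.map_subtype_le _) hKN hAN q.2 (fun a ha => h a ha q q.2)
    obtain ⟨f, hf, hfq⟩ := hqc
    have hcQ : c ∈ Q := hc.1
    have e : q = (⟨c, hcQ⟩ : ↥Q) * f⁻¹ := by
      apply Subtype.ext
      have : (f : G) = (q : G)⁻¹ * c := hfq
      simp only [Subgroup.coe_mul, Subgroup.coe_inv, this]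
      group
    rw [e]
    exact Subgroup.mul_mem_sup (Subgroup.mem_subgroupOf.mpr hc) (Subgroup.inv_mem _ hf)
  have htop := frattini_nongenerating key
  intro q hq
  have : (⟨q, hq⟩ : ↥Q) ∈ (Q ⊓ Subgroup.centralizer (Subgroup.zpowers y : Set G)).subgroupOf Q := by
    rw [htop]; exact Subgroup.mem_top _
  have h2 := (Subgroup.mem_subgroupOf.mp this).2
  exact (Subgroup.mem_centralizer_iff.mp h2 y (Subgroup.mem_zpowers y))

end Cfsg.Agent.Lib.H9
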