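import Mathlib
import Cfsg.Prelude.Def_CaseTheorems
import Cfsg.Agent.Lib.H22.PPrimeCore

/-!
# More on `Cfsg.pPrimeCore p G = O_{p'}(G)`

* `pPrimeCore_map_equiv`, `pPrimeCore_characteristic`
* `pPrimeCore_subnormal_le`: `O_{p'}(H) ≤ O_{p'}(G)` for `H` subnormal in a finite group `G`
* `subnormal_coprime_le_pPrimeCore`: a subnormal `p'`-subgroup lies in `O_{p'}(G)`
* `pPrimeCore_quotient_eq_bot`: `O_{p'}(G / O_{p'}(G)) = 1`
-/

set_option autoImplicit false

namespace Cfsg.Agent.Lib.H9

open Cfsg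

universe u v

variable {G : Type u} [Group G]

theorem pPrimeCore_map_equiv_le {G' : Type v} [Group G'] (p : ℕ) (e : G ≃* G') :
    (pPrimeCore p G).map e.toMonoidHom ≤ pPrimeCore p G' := by
  rw [Subgroup.map_le_iff_le_comap]
  apply sSup_le
  rintro N ⟨hNn, hN⟩
  rw [← Subgroup.map_le_iff_le_comap]
  apply Cfsg.Agent.Lib.H22.le_pPrimeCore p _ (hNn.map _ e.surjective)
  rwa [← Nat.card_congr (N.equivMapOfInjective e.toMonoidHom e.injective).toEquiv]

theorem pPrimeCore_map_equiv {G' : Type v} [Group G'] (p : ℕ) (e : G ≃* G') :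
    (pPrimeCore p G).map e.toMonoidHom = pPrimeCore p G' := by
  apply le_antisymm (pPrimeCore_map_equiv_le p e)
  have h := pPrimeCore_map_equiv_le p e.symm
  have h2 := Subgroup.map_mono (f := e.toMonoidHom) h
  rw [Subgroup.map_map] at h2
  have h3 : e.toMonoidHom.comp e.symm.toMonoidHom = MonoidHom.id G' := by
    ext x; simp
  rwa [h3, Subgroup.map_id] at h2

instance pPrimeCore_characteristic (p : ℕ) : (pPrimeCore p G).Characteristic :=
  Subgroup.characteristic_iff_map_eq.2 (fun e => pPrimeCore_map_equiv p e)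

variable [Finite G]

/-- For a subnormal subgroup `H` of a finite group, `O_{p'}(H) ≤ O_{p'}(G)`. -/
theorem pPrimeCore_subnormal_le (p : ℕ) {H : Subgroup G} (hH : H.IsSubnormal) :
    (pPrimeCore p H).map H.subtype ≤ pPrimeCore p G := by
  induction hH with
  | top =>
    have := pPrimeCore_map_equiv p (Subgroup.topEquiv : (⊤ : Subgroup G) ≃* G)
    exact this.le
  | step H K hHK hKsn hHn ih =>
    set H' : Subgroup K := H.subgroupOf K with hH'
    let e : H' ≃* H := Subgroup.subgroupOfEquivOfLe hHK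
    have h1 : ((pPrimeCore p H').map H'.subtype).Normal :=
      ConjAct.normal_of_characteristic_of_normal
    have h2 : (Nat.card ((pPrimeCore p H').map H'.subtype : Subgroup K)).Coprime p := by
      rw [← Nat.card_congr ((pPrimeCore p H').equivMapOfInjective H'.subtype
        (Subgroup.subtype_injective H')).toEquiv]
      exact Cfsg.Agent.Lib.H22.card_pPrimeCore_coprime p
    have h3 : (pPrimeCore p H').map H'.subtype ≤ pPrimeCore p K :=
      Cfsg.Agent.Lib.H22.le_pPrimeCore p _ h1 h2
    have h4 : (pPrimeCore p H).map H.subtype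
        = ((pPrimeCore p H').map H'.subtype).map K.subtype := by
      rw [← pPrimeCore_map_equiv p e, Subgroup.map_map, Subgroup.map_map]
      rfl
    rw [h4]
    exact (Subgroup.map_mono h3).trans ih

/-- A subnormal subgroup of order prime to `p` of a finite group lies in `O_{p'}(G)`. -/
theorem subnormal_coprime_le_pPrimeCore (p : ℕ) {S : Subgroup G} (hS : S.IsSubnormal)
    (hc : (Nat.card S).Coprime p) : S ≤ pPrimeCore p G := by
  have h1 : pPrimeCore p S = ⊤ := by
    rw [eq_top_iff]
    apply Cfsg.Agent.Lib.H22.le_pPrimeCore p _ inferInstance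
    rwa [Nat.card_congr (Subgroup.topEquiv (G := S)).toEquiv]
  have h2 := pPrimeCore_subnormal_le p hS
  rwa [h1, ← MonoidHom.range_eq_map, Subgroup.range_subtype] at h2

/-- `O_{p'}(G / O_{p'}(G)) = 1`. -/
theorem pPrimeCore_quotient_eq_bot (p : ℕ) : pPrimeCore p (G ⧸ pPrimeCore p G) = ⊥ := by
  set N := pPrimeCore p G with hN
  set Mb := pPrimeCore p (G ⧸ N) with hMb
  have hsurj : Function.Surjective (QuotientGroup.mk' N) := QuotientGroup.mk'_surjective N
  have hMn : (Mb.comap (QuotientGroup.mk' N)).Normal := inferInstance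
  have hidx : (Mb.comap (QuotientGroup.mk' N)).index = Mb.index :=
    Subgroup.index_comap_of_surjective Mb hsurj
  have hcard : Nat.card (Mb.comap (QuotientGroup.mk' N)) = Nat.card N * Nat.card Mb := by
    have h1 := Subgroup.card_mul_index (Mb.comap (QuotientGroup.mk' N))
    have h2 := Subgroup.card_mul_index Mb
    have h3 : Nat.card G = Nat.card N * Nat.card (G ⧸ N) := by
      rw [mul_comm]; exact Subgroup.card_eq_card_quotient_mul_card_subgroup N
    have h0 : Mb.index ≠ 0 := Subgroup.index_ne_zero_of_finite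
    rw [hidx] at h1
    have : Nat.card (Mb.comap (QuotientGroup.mk' N)) * Mb.index
        = (Nat.card N * Nat.card Mb) * Mb.index := by
      rw [h1, h3, ← h2, mul_assoc]
    exact Nat.eq_of_mul_eq_mul_right (Nat.pos_of_ne_zero h0) this
  have hle : Mb.comap (QuotientGroup.mk' N) ≤ N := by
    apply Cfsg.Agent.Lib.H22.le_pPrimeCore p _ hMn
    rw [hcard]
    exact Nat.Coprime.mul_left (Cfsg.Agent.Lib.H22.card_pPrimeCore_coprime p)
      (Cfsg.Agent.Lib.H22.card_pPrimeCore_coprime p)
  have h5 : Mb = (Mb.comap (QuotientGroup.mk' N)).map (QuotientGroup.mk' N) :=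
    (Subgroup.map_comap_eq_self_of_surjective hsurj Mb).symm
  rw [h5, eq_bot_iff]
  refine (Subgroup.map_mono hle).trans ?_
  rintro _ ⟨x, hx, rfl⟩
  rw [Subgroup.mem_bot]
  exact (QuotientGroup.eq_one_iff x).mpr hx

/-- If `O_{p'}(X) = 1` then the centre of every subnormal subgroup of the finite group `X` is a
`p`-group. -/
theorem center_isPGroup_of_subnormal (p : ℕ) [hp : Fact p.Prime] (hX : pPrimeCore p G = ⊥)
    (K : Subgroup G) (hK : K.IsSubnormal) : IsPGroup p (Subgroup.center K) := by
  intro z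
  have hn0 : orderOf (z : K) ≠ 0 := (orderOf_pos (z : K)).ne'
  obtain ⟨a, m, hm, hn⟩ := Nat.exists_eq_pow_mul_and_not_dvd hn0 p hp.out.ne_one
  refine ⟨a, ?_⟩
  have hw_ord : orderOf ((z : K) ^ p ^ a) = m := by
    rw [orderOf_pow' _ (pow_pos hp.out.pos a).ne', hn, Nat.gcd_eq_right (Dvd.intro _ rfl)]
    exact Nat.mul_div_cancel_left m (pow_pos hp.out.pos a)
  have hw_cen : (z : K) ^ p ^ a ∈ Subgroup.center K := Subgroup.pow_mem _ z.2 _
  have hWn : (Subgroup.zpowers ((z : K) ^ p ^ a)).Normal := by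
    constructor
    intro x hx g
    have hxc : x ∈ Subgroup.center K :=
      (Subgroup.zpowers_le.mpr hw_cen) hx
    have : g * x * g⁻¹ = x := by
      rw [Subgroup.mem_center_iff] at hxc
      rw [hxc g, mul_inv_cancel_right]
    rw [this]; exact hx
  have hWsn : ((Subgroup.zpowers ((z : K) ^ p ^ a)).map K.subtype).IsSubnormal :=
    hWn.isSubnormal.trans' hK
  have hWc : (Nat.card ((Subgroup.zpowers ((z : K) ^ p ^ a)).map K.subtype)).Coprime p := by
    rw [← Nat.card_congr ((Subgroup.zpowers ((z : K) ^ p ^ a)).equivMapOfInjective K.subtype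
      (Subgroup.subtype_injective K)).toEquiv, Nat.card_zpowers, hw_ord]
    exact ((Nat.Prime.coprime_iff_not_dvd hp.out).mpr hm).symm
  have hle := subnormal_coprime_le_pPrimeCore p hWsn hWc
  rw [hX] at hle
  have h1 : (K.subtype ((z : K) ^ p ^ a)) ∈ (⊥ : Subgroup G) :=
    hle (Subgroup.mem_map_of_mem _ (Subgroup.mem_zpowers _))
  rw [Subgroup.mem_bot] at h1
  have h2 : (z : K) ^ p ^ a = 1 := by
    apply Subtype.ext
    simpa using h1
  apply Subtype.ext
  simpa using h2

end Cfsg.Agent.Lib.H9
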