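import Mathlib
import Cfsg.Agent.Lib.H1.CoprimeAction
import Cfsg.Agent.Lib.H1.CoprimeAbelian
import Cfsg.Agent.Lib.H1.CoprimeSylow
import Cfsg.Agent.Lib.H1.CharSubgroup
import Cfsg.Agent.Lib.H1.PGroupBasic

set_option autoImplicit false

namespace Cfsg.Agent.Lib.H9

section NormIdentity

variable {A V : Type*} [Group A] [CommGroup V] {p : ℕ} [Fact p.Prime]

theorem pow_val_add {x : A} (hx : x ^ p = 1) (i j : ZMod p) :
    x ^ (i + j).val = x ^ i.val * x ^ j.val := by
  rw [ZMod.val_add, ← pow_add, ← pow_eq_pow_mod _ hx]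

theorem pow_val_mul {x : A} (hx : x ^ p = 1) (i j : ZMod p) :
    x ^ (i * j).val = (x ^ i.val) ^ j.val := by
  rw [ZMod.val_mul, ← pow_mul, ← pow_eq_pow_mod _ hx]

theorem pow_val_one {x : A} (hx : x ^ p = 1) : x ^ (1 : ZMod p).val = x := by
  have h1 : (1 : ZMod p).val = 1 % p := by
    have := ZMod.val_natCast (n := p) 1
    simpa using this
  rw [h1, ← pow_eq_pow_mod _ hx, pow_one]

/-- The norm identity for a rank-two elementary abelian group acting on an abelian group: if `W`
contains the fixed points of `x` and of all `x ^ i * y`, then `v ^ p ∈ W` for every `v`. -/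
theorem pow_mem_of_fixed_mem (x y : A) (hxy : x * y = y * x) (hx : x ^ p = 1) (hy : y ^ p = 1)
    (ψ : A → V → V) (ψ_mul : ∀ a b v, ψ (a * b) v = ψ a (ψ b v)) (ψ_one : ∀ v, ψ 1 v = v)
    (ψ_map : ∀ a v w, ψ a (v * w) = ψ a v * ψ a w)
    (W : Subgroup V)
    (hWx : ∀ v, ψ x v = v → v ∈ W)
    (hWxy : ∀ i : ℕ, ∀ v, ψ (x ^ i * y) v = v → v ∈ W)
    (v : V) : v ^ p ∈ W := by
  have hcomm : Commute x y := hxy
  -- bundled homs
  let Ψ : A → V →* V := fun a => MonoidHom.mk' (ψ a) (ψ_map a)
  have hΨ : ∀ a w, Ψ a w = ψ a w := fun _ _ => rfl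
  let F : ZMod p → ZMod p → V := fun i j => ψ (x ^ i.val * y ^ j.val) v
  -- shift by x
  have hshift : ∀ i j, ψ x (F i j) = F (i + 1) j := by
    intro i j
    show ψ x (ψ (x ^ i.val * y ^ j.val) v) = ψ (x ^ (i + 1).val * y ^ j.val) v
    rw [← ψ_mul, pow_val_add hx, pow_val_one hx, ← mul_assoc, ← pow_succ']
    rw [pow_succ]
  -- shift by x^k y
  have hshift2 : ∀ k j : ZMod p, ψ (x ^ k.val * y) (F (k * j) j) = F (k * (j + 1)) (j + 1) := by
    intro k j
    show ψ (x ^ k.val * y) (ψ (x ^ (k * j).val * y ^ j.val) v) =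
      ψ (x ^ (k * (j + 1)).val * y ^ (j + 1).val) v
    rw [← ψ_mul]
    congr 1
    rw [mul_add, mul_one, pow_val_add hx, pow_val_add hy, pow_val_one hy]
    have h1 : Commute y (x ^ (k * j).val) := (hcomm.pow_left _).symm
    calc x ^ k.val * y * (x ^ (k * j).val * y ^ j.val)
        = x ^ k.val * (y * x ^ (k * j).val) * y ^ j.val := by group
      _ = x ^ k.val * (x ^ (k * j).val * y) * y ^ j.val := by rw [h1.eq]
      _ = x ^ (k * j).val * x ^ k.val * (y ^ j.val * y) := by
        rw [(Commute.pow_pow (Commute.refl x) _ _).eq]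
        rw [← pow_succ, pow_succ']
        group
  -- the row products
  let Rj : ZMod p → V := fun j => ∏ i, F i j
  have hRfix : ∀ j, ψ x (Rj j) = Rj j := by
    intro j
    show ψ x (∏ i, F i j) = ∏ i, F i j
    rw [← hΨ, map_prod]
    simp only [hΨ, hshift]
    exact Fintype.prod_equiv (Equiv.addRight 1) _ _ (fun i => rfl)
  have hRW : ∀ j, Rj j ∈ W := fun j => hWx _ (hRfix j)
  -- the total norm
  have hNA : (∏ j, Rj j) ∈ W := Subgroup.prod_mem _ (fun j _ => hRW j)
  -- the diagonal norms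
  let Nk : ZMod p → V := fun k => ∏ j, F (k * j) j
  have hNkfix : ∀ k, ψ (x ^ k.val * y) (Nk k) = Nk k := by
    intro k
    show ψ (x ^ k.val * y) (∏ j, F (k * j) j) = ∏ j, F (k * j) j
    rw [← hΨ, map_prod]
    simp only [hΨ, hshift2]
    exact Fintype.prod_equiv (Equiv.addRight 1) _ _ (fun i => rfl)
  have hNkW : ∀ k, Nk k ∈ W := fun k => hWxy k.val _ (hNkfix k)
  have hNk : (∏ k, Nk k) ∈ W := Subgroup.prod_mem _ (fun k _ => hNkW k)
  -- the identity
  have hF00 : F 0 0 = v := by
    show ψ (x ^ (0 : ZMod p).val * y ^ (0 : ZMod p).val) v = v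
    rw [ZMod.val_zero, pow_zero, pow_zero, one_mul, ψ_one]
  have hcol : ∀ j : ZMod p, (∏ k, F (k * j) j) = if j = 0 then v ^ p else Rj j := by
    intro j
    by_cases hj : j = 0
    · rw [if_pos hj, hj]
      simp only [mul_zero, hF00, Finset.prod_const, Finset.card_univ, ZMod.card]
    · rw [if_neg hj]
      exact Fintype.prod_equiv (Equiv.mulRight₀ j hj) _ _ (fun k => rfl)
  have hident : (∏ k, Nk k) = (∏ j, Rj j) * (v ^ p * (Rj 0)⁻¹) := by
    show (∏ k, ∏ j, F (k * j) j) = _
    rw [Finset.prod_comm]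
    simp only [hcol]
    have : ∀ j : ZMod p, (if j = 0 then v ^ p else Rj j) =
        Rj j * (if j = 0 then v ^ p * (Rj 0)⁻¹ else 1) := by
      intro j
      by_cases hj : j = 0
      · rw [if_pos hj, if_pos hj, hj]
        rw [mul_comm (v ^ p), mul_inv_cancel_left]
      · rw [if_neg hj, if_neg hj, mul_one]
    simp only [this]
    rw [Finset.prod_mul_distrib, Finset.prod_ite_eq' Finset.univ (0 : ZMod p)]
    simp
  have : v ^ p = (∏ k, Nk k) * (∏ j, Rj j)⁻¹ * Rj 0 := by
    rw [hident, mul_comm (∏ j, Rj j) (v ^ p * (Rj 0)⁻¹), mul_inv_cancel_right,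
      inv_mul_cancel_right]
  rw [this]
  exact W.mul_mem (W.mul_mem hNk (W.inv_mem hNA)) (hRW 0)

end NormIdentity


section Ambient

variable {G : Type*} [Group G] [Finite G]

open Cfsg.Agent.Lib.H1

theorem surj_of (K : Type*) [Group K] : Function.Surjective (Abelianization.of : K →* Abelianization K) :=
  QuotientGroup.mk_surjective

/-- Generation for `q`-groups: a `q`-group `K` acted on coprimely by `A ∋ x, y` (commuting, of
exponent `p`) lies in any subgroup containing `C_K(x)` and all `C_K(x ^ i * y)`. -/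
theorem le_of_centralizers_le_of_isPGroup {p q : ℕ} [Fact p.Prime] [Fact q.Prime]
    {A K W : Subgroup G} (h : CoprimeAction A K) (hK : IsPGroup q K)
    (hKp : (Nat.card K).Coprime p)
    {x y : G} (hxA : x ∈ A) (hyA : y ∈ A) (hxy : x * y = y * x) (hx : x ^ p = 1) (hy : y ^ p = 1)
    (hWx : K ⊓ Subgroup.centralizer {x} ≤ W)
    (hWxy : ∀ i : ℕ, K ⊓ Subgroup.centralizer {x ^ i * y} ≤ W) : K ≤ W := by
  -- the action on the abelianization
  let ψ : ↥A → Abelianization ↥K → Abelianization ↥K :=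
    fun a => Abelianization.map (conjHomOfNormalizer h.normalizes a)
  have ψ_of : ∀ (a : ↥A) (k : ↥K), ψ a (Abelianization.of k) =
      Abelianization.of (conjHomOfNormalizer h.normalizes a k) := fun a k => Abelianization.map_of _ k
  have ψ_mul : ∀ a b v, ψ (a * b) v = ψ a (ψ b v) := by
    intro a b v
    obtain ⟨k, rfl⟩ := surj_of ↥K v
    rw [ψ_of, ψ_of, ψ_of, conjHomOfNormalizer_mul]
  have ψ_one : ∀ v, ψ 1 v = v := by
    intro v
    obtain ⟨k, rfl⟩ := surj_of ↥K v
    rw [ψ_of]
    congr 1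
    apply Subtype.ext
    simp [conjHomOfNormalizer_apply]
  have ψ_map : ∀ a v w, ψ a (v * w) = ψ a v * ψ a w := fun a v w => map_mul _ v w
  have ψ_pow : ∀ (a : ↥A) (v : Abelianization ↥K), ψ a v = v → ∀ n : ℕ, ψ (a ^ n) v = v := by
    intro a v hv n
    induction n with
    | zero => rw [pow_zero, ψ_one]
    | succ n ih => rw [pow_succ, ψ_mul, hv, ih]
  -- fixed points come from centralizers
  have hfixed : ∀ a : ↥A, K ⊓ Subgroup.centralizer {(a : G)} ≤ W → ∀ v, ψ a v = v →
      v ∈ (W.subgroupOf K).map (Abelianization.of : ↥K →* Abelianization ↥K) := by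
    intro a haW v hv
    obtain ⟨k, rfl⟩ := surj_of ↥K v
    have hA' : CoprimeAction (Subgroup.zpowers (a : G)) K := by
      refine ⟨(Subgroup.zpowers_le.mpr a.2).trans h.normalizes, ?_, Or.inr ?_⟩
      · exact Nat.Coprime.coprime_dvd_left
          (Subgroup.card_dvd_of_le (Subgroup.zpowers_le.mpr a.2)) h.coprime
      · have : Group.IsNilpotent K := hK.isNilpotent
        infer_instance
    have hchar : (commutator ↥K).Characteristic := inferInstance
    have hKN : K ≤ Subgroup.normalizer (((commutator ↥K).map K.subtype : Subgroup G) : Set G) :=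
      Subgroup.le_normalizer.trans (normalizer_le_normalizer_map_of_characteristic (commutator ↥K))
    have hAN : Subgroup.zpowers (a : G) ≤
        Subgroup.normalizer (((commutator ↥K).map K.subtype : Subgroup G) : Set G) :=
      ((Subgroup.zpowers_le.mpr a.2).trans h.normalizes).trans
        (normalizer_le_normalizer_map_of_characteristic (commutator ↥K))
    have hfix : ∀ a' ∈ Subgroup.zpowers (a : G), a' * k * a'⁻¹ * (k : G)⁻¹ ∈
        (commutator ↥K).map K.subtype := by
      intro a' ha'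
      rw [← mem_powers_iff_mem_zpowers] at ha'
      obtain ⟨n, rfl⟩ := ha'
      have h1 := ψ_pow a _ hv n
      rw [ψ_of] at h1
      have h2 : (conjHomOfNormalizer h.normalizes (a ^ n) k) * k⁻¹ ∈ commutator ↥K := by
        rw [← Abelianization.ker_of, MonoidHom.mem_ker, map_mul, h1, map_inv, mul_inv_cancel]
      refine ⟨_, h2, ?_⟩
      simp [conjHomOfNormalizer_apply]
    obtain ⟨c, hc, hkc⟩ := coprime_centralizer_quotient hA' (Subgroup.map_subtype_le _) hKN hAN
      k.2 hfix
    obtain ⟨f, hf, hfk⟩ := hkc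
    have hcK : c ∈ K := hc.1
    have hcW : c ∈ W := by
      apply haW
      refine Subgroup.mem_inf.mpr ⟨hcK, ?_⟩
      rw [Subgroup.mem_centralizer_singleton_iff]
      exact (Subgroup.mem_centralizer_iff.mp hc.2 a (Subgroup.mem_zpowers _)).symm
    refine ⟨⟨c, hcK⟩, Subgroup.mem_subgroupOf.mpr hcW, ?_⟩
    have e : (⟨c, hcK⟩ : ↥K) = k * f := by
      apply Subtype.ext
      have : (f : G) = (k : G)⁻¹ * c := hfk
      simp only [Subgroup.coe_mul, this]
      group
    rw [e, map_mul]
    have : (Abelianization.of : ↥K →* _) f = 1 := by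
      rw [← MonoidHom.mem_ker, Abelianization.ker_of]; exact hf
    rw [this, mul_one]
  -- norm identity
  have hpow : ∀ v : Abelianization ↥K, v ^ p ∈
      (W.subgroupOf K).map (Abelianization.of : ↥K →* Abelianization ↥K) := by
    intro v
    have hx' : (⟨x, hxA⟩ : ↥A) ^ p = 1 := by
      apply Subtype.ext
      rw [Subgroup.coe_pow, Subgroup.coe_one]
      exact hx
    have hy' : (⟨y, hyA⟩ : ↥A) ^ p = 1 := by
      apply Subtype.ext
      rw [Subgroup.coe_pow, Subgroup.coe_one]
      exact hy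
    refine pow_mem_of_fixed_mem (⟨x, hxA⟩ : ↥A) ⟨y, hyA⟩ (Subtype.ext hxy) hx' hy'
      ψ ψ_mul ψ_one ψ_map _ ?_ ?_ v
    · exact hfixed ⟨x, hxA⟩ hWx
    · intro i
      apply hfixed ((⟨x, hxA⟩ : ↥A) ^ i * ⟨y, hyA⟩)
      have e : ((((⟨x, hxA⟩ : ↥A) ^ i * ⟨y, hyA⟩ : ↥A)) : G) = x ^ i * y := by
        simp only [Subgroup.coe_mul, Subgroup.coe_pow]
      rw [e]
      exact hWxy i
  have hall : ∀ v : Abelianization ↥K, v ∈
      (W.subgroupOf K).map (Abelianization.of : ↥K →* Abelianization ↥K) := by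
    intro v
    have hcop : p.Coprime (orderOf v) := by
      have h1 : orderOf v ∣ Nat.card (Abelianization ↥K) := orderOf_dvd_natCard v
      have h2 : Nat.card (Abelianization ↥K) ∣ Nat.card K :=
        Subgroup.card_dvd_of_surjective _ (surj_of ↥K)
      exact (Nat.Coprime.coprime_dvd_left (h1.trans h2) hKp).symm
    obtain ⟨m, hm⟩ := exists_pow_eq_self_of_coprime hcop
    rw [← hm]
    exact Subgroup.pow_mem _ (hpow v) m
  -- W.subgroupOf K ⊔ frattini = ⊤
  have hsup : W.subgroupOf K ⊔ frattini ↥K = ⊤ := by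
    rw [eq_top_iff]
    intro k _
    obtain ⟨w, hw, hwk⟩ := hall (Abelianization.of k)
    have h1 : w⁻¹ * k ∈ commutator ↥K := by
      rw [← Abelianization.ker_of, MonoidHom.mem_ker, map_mul, map_inv, hwk, inv_mul_cancel]
    have e : k = w * (w⁻¹ * k) := by group
    rw [e]
    exact Subgroup.mul_mem_sup hw (isPGroup_commutator_le_frattini hK h1)
  have htop := frattini_nongenerating hsup
  intro k hk
  have : (⟨k, hk⟩ : ↥K) ∈ W.subgroupOf K := by rw [htop]; exact Subgroup.mem_top _
  exact Subgroup.mem_subgroupOf.mp this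


/-- **Generation by centralizers** (coprime action of a noncyclic abelian group): if `A` acts
coprimely on `K`, `x, y ∈ A` commute and have exponent `p`, and `p ∤ |K|`, then `K` lies in any
subgroup containing `C_K(x)` and all `C_K(x ^ i * y)`. -/
theorem le_of_centralizers_le {p : ℕ} [Fact p.Prime] {A K W : Subgroup G}
    (h : CoprimeAction A K) (hKp : (Nat.card K).Coprime p)
    {x y : G} (hxA : x ∈ A) (hyA : y ∈ A) (hxy : x * y = y * x) (hx : x ^ p = 1) (hy : y ^ p = 1)
    (hWx : K ⊓ Subgroup.centralizer {x} ≤ W)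
    (hWxy : ∀ i : ℕ, K ⊓ Subgroup.centralizer {x ^ i * y} ≤ W) : K ≤ W := by
  have hsyl : ∀ q : ℕ, q.Prime → q ^ (Nat.card K).factorization q ∣ Nat.card (W ⊓ K : Subgroup G) := by
    intro q hq
    haveI : Fact q.Prime := ⟨hq⟩
    obtain ⟨P, hP, hPA⟩ := coprime_exists_invariant_sylow h q
    have hPW : P ≤ W := by
      apply le_of_centralizers_le_of_isPGroup (h.mono hP.le hPA) hP.isPGroup
        (Nat.Coprime.coprime_dvd_left (Subgroup.card_dvd_of_le hP.le) hKp) hxA hyA hxy hx hy
      · exact (inf_le_inf_right _ hP.le).trans hWx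
      · intro i
        exact (inf_le_inf_right _ hP.le).trans (hWxy i)
    rw [← hP.card_eq]
    exact Subgroup.card_dvd_of_le (le_inf hPW hP.le)
  have hdvd : Nat.card K ∣ Nat.card (W ⊓ K : Subgroup G) := by
    rw [← Nat.factorization_prime_le_iff_dvd Nat.card_pos.ne' Nat.card_pos.ne']
    intro q hq
    exact (hq.pow_dvd_iff_le_factorization Nat.card_pos.ne').mp (hsyl q hq)
  have heq : (W ⊓ K : Subgroup G) = K :=
    Subgroup.eq_of_le_of_card_ge inf_le_right (Nat.le_of_dvd Nat.card_pos hdvd)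
  rw [← heq]
  exact inf_le_left

end Ambient

end Cfsg.Agent.Lib.H9
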