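import Cfsg.Agent.Lib.H1.FG19.Defs
import Cfsg.Prelude.Def_Transfer
import Cfsg.Prelude.Def_CaseTheorems
import Cfsg.Agent.Lib.H7.FG19BAS1
import Cfsg.Agent.Lib.H19.FG19BR
import Cfsg.Agent.Lib.H20.FG19A2

set_option autoImplicit false

/-! S4404 piece CASEA (helper9; architect helper1), with A1 as a hypothesis:
every `f` in an elementary abelian 3-group `F` normalised by `x` normalises `V = [⟨x⟩, M]`. -/

namespace Cfsg.Agent.Lib.H9.FG19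

open Cfsg Cfsg.Agent.Lib.H1.FG19
open scoped IsMulCommutative

variable {S : Type*} [Group S]

variable (M : Subgroup S) [M.Normal]

theorem caseA_of [Finite S] (hM : IsElementaryAbelian 2 M)
    (hA1 : haveI : IsMulCommutative ↥M := hM.1
      ∀ (X Γ : MulAut ↥M), (∀ a : ↥M, a * a = 1) → X ^ 3 = 1 → Γ ^ 3 = 1 → Commute Γ (X * Γ * X⁻¹) →
        Commute Γ (X ^ 2 * Γ * (X ^ 2)⁻¹) → (X * Γ) ^ 3 = 1 → Nat.card (cm X) ≤ 4 → X * Γ = Γ * X)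
    (x : S)
    (hx3 : x ^ 3 ∈ Subgroup.centralizer (M : Set S)) (hV : Nat.card ↥⁅Subgroup.zpowers x, M⁆ = 4)
    (F : Subgroup S) (hF : IsElementaryAbelian 3 F) (hxF : ∀ f ∈ F, x * f * x⁻¹ ∈ F)
    (hxF' : ∀ f ∈ F, x⁻¹ * f * x ∈ F) (f : S) (hf : f ∈ F) :
    (⁅Subgroup.zpowers x, M⁆).map (MulAut.conj f).toMonoidHom = ⁅Subgroup.zpowers x, M⁆ := by
  have : IsMulCommutative ↥M := hM.1
  have h2 : ∀ a : ↥M, a * a = 1 := by
    intro a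
    have h := hM.2 a.1 a.2
    apply Subtype.ext
    rw [Subgroup.coe_mul, Subgroup.coe_one, ← pow_two]
    exact h
  have hFc : ∀ a ∈ F, ∀ b ∈ F, a * b = b * a := by
    intro a ha b hb
    have h := hF.1.is_comm.comm (⟨a, ha⟩ : ↥F) ⟨b, hb⟩
    exact congrArg Subtype.val h
  -- the homomorphism ρ
  let ρ : S →* MulAut ↥M := MulAut.conjNormal
  have hker : ∀ g : S, g ∈ Subgroup.centralizer (M : Set S) → ρ g = 1 :=
    fun g hg => (Cfsg.Agent.Lib.H19.FG19.conjNormal_eq_one_iff M g).mpr hg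
  obtain ⟨g, hg_def⟩ : ∃ g : S, g = x⁻¹ * f * x * f⁻¹ := ⟨_, rfl⟩
  have hgF : g ∈ F := by rw [hg_def]; exact F.mul_mem (hxF' f hf) (F.inv_mem hf)
  have hX3 : (ρ x) ^ 3 = 1 := by rw [← map_pow]; exact hker _ hx3
  have hG3 : (ρ g) ^ 3 = 1 := by rw [← map_pow, hF.2 g hgF, map_one]
  have hxg : x * g = f * x * f⁻¹ := by rw [hg_def]; group
  have hc1 : Commute (ρ g) (ρ x * ρ g * (ρ x)⁻¹) := by
    have h : g * (x * g * x⁻¹) = (x * g * x⁻¹) * g := hFc g hgF _ (hxF g hgF)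
    have e : ρ (x * g * x⁻¹) = ρ x * ρ g * (ρ x)⁻¹ := by rw [map_mul, map_mul, map_inv]
    have h' : ρ g * ρ (x * g * x⁻¹) = ρ (x * g * x⁻¹) * ρ g := by rw [← map_mul, ← map_mul, h]
    rw [e] at h'
    exact h'
  have hc2 : Commute (ρ g) ((ρ x) ^ 2 * ρ g * ((ρ x) ^ 2)⁻¹) := by
    have hm : x ^ 2 * g * (x ^ 2)⁻¹ ∈ F := by
      have e : x ^ 2 * g * (x ^ 2)⁻¹ = x * (x * g * x⁻¹) * x⁻¹ := by
        rw [pow_two, mul_inv_rev]; simp only [mul_assoc]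
      rw [e]
      exact hxF _ (hxF g hgF)
    have h : g * (x ^ 2 * g * (x ^ 2)⁻¹) = (x ^ 2 * g * (x ^ 2)⁻¹) * g := hFc g hgF _ hm
    have e : ρ (x ^ 2 * g * (x ^ 2)⁻¹) = (ρ x) ^ 2 * ρ g * ((ρ x) ^ 2)⁻¹ := by
      rw [map_mul, map_mul, map_inv, map_pow]
    have h' : ρ g * ρ (x ^ 2 * g * (x ^ 2)⁻¹) = ρ (x ^ 2 * g * (x ^ 2)⁻¹) * ρ g := by
      rw [← map_mul, ← map_mul, h]
    rw [e] at h'
    exact h'
  have hXG3 : (ρ x * ρ g) ^ 3 = 1 := by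
    have e : ρ x * ρ g = ρ f * ρ x * (ρ f)⁻¹ := by
      rw [← map_mul, hxg, map_mul, map_mul, map_inv]
    rw [e, conj_pow, hX3, mul_one, mul_inv_cancel]
  have hBR1 := Cfsg.Agent.Lib.H19.FG19.comm_zpowers_eq M x
  have hcard : Nat.card (cm (ρ x)) = 4 := by
    rw [← hV, hBR1]
    exact (Nat.card_congr ((cm (MulAut.conjNormal x : MulAut ↥M)).equivMapOfInjective M.subtype
      M.subtype_injective).toEquiv)
  have hcomm : ρ x * ρ g = ρ g * ρ x :=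
    hA1 (ρ x) (ρ g) h2 hX3 hG3 hc1 hc2 hXG3 (le_of_eq hcard)
  have hΦΓ : ρ f * ρ g = ρ g * ρ f := by
    rw [← map_mul, ← map_mul, hFc f hf g hgF]
  have hΦX : ρ f * ρ x * (ρ f)⁻¹ = ρ x * ρ g := by
    rw [← map_inv, ← map_mul, ← map_mul, ← map_mul, hxg]
  have hA2 := Cfsg.Agent.Lib.H20.FG19.map_cm_eq h2 (ρ x) (ρ g) (ρ f) hX3 hG3 hcomm hΦΓ hΦX hcard
  rw [hBR1, Cfsg.Agent.Lib.H19.FG19.map_conj_cm M (MulAut.conjNormal x : MulAut ↥M) f]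
  have h3 : cm ((MulAut.conjNormal f : MulAut ↥M) * (MulAut.conjNormal x : MulAut ↥M) *
      (MulAut.conjNormal f : MulAut ↥M)⁻¹) = cm (MulAut.conjNormal x : MulAut ↥M) := by
    rw [← Cfsg.Agent.Lib.H7.FG19.cm_conj]
    exact hA2
  rw [h3]


end Cfsg.Agent.Lib.H9.FG19
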