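import Cfsg.Agent.Lib.H1.FG19.Defs
import Cfsg.Prelude.Def_Transfer
import Cfsg.Prelude.Def_CaseTheorems
import Cfsg.Agent.Lib.H4.FG19A1
import Cfsg.Agent.Lib.H9.FG19CASEAof

set_option autoImplicit false

/-! S4404 piece CASEA (helper9; architect helper1), exact signature. -/

namespace Cfsg.Agent.Lib.H9.FG19

open Cfsg Cfsg.Agent.Lib.H1.FG19
open scoped IsMulCommutative

variable {S : Type*} [Group S]

variable (M : Subgroup S) [M.Normal]

theorem caseA [Finite S] (hM : IsElementaryAbelian 2 M) (x : S)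
    (hx3 : x ^ 3 ∈ Subgroup.centralizer (M : Set S)) (hV : Nat.card ↥⁅Subgroup.zpowers x, M⁆ = 4)
    (F : Subgroup S) (hF : IsElementaryAbelian 3 F) (hxF : ∀ f ∈ F, x * f * x⁻¹ ∈ F)
    (hxF' : ∀ f ∈ F, x⁻¹ * f * x ∈ F) (f : S) (hf : f ∈ F) :
    (⁅Subgroup.zpowers x, M⁆).map (MulAut.conj f).toMonoidHom = ⁅Subgroup.zpowers x, M⁆ := by
  have : IsMulCommutative ↥M := hM.1
  have : Finite ↥M := inferInstance
  exact caseA_of M hM
    (fun X Γ h2 hX hΓ hc1 hc2 hXΓ hV' =>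
      Cfsg.Agent.Lib.H4.FG19.comm_of_cube h2 X Γ hX hΓ hc1 hc2 hXΓ hV')
    x hx3 hV F hF hxF hxF' f hf

end Cfsg.Agent.Lib.H9.FG19
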