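import Mathlib
import Cfsg.Agent.Lib.H1.JordanB

/-! # S4484, part (X): the eigenvalue list of an isometry of finite order (helper9)

For an isometry `T` of a finite-dimensional complex inner product space of dimension `n` there is a
list `a : Fin n → ℂ` of eigenvalues (with multiplicities, from an orthonormal eigenbasis) such that
`trace (T ^ j) = ∑ k, a k ^ j` for all `j`, the eigenvalues of `T` are exactly the `a k`, every
`a k` has norm one, and `a k ^ m = 1` whenever `T ^ m = 1`.  This is the bridge between the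
character-theoretic part (A) of S4484 (which bounds the number of distinct `a k`) and the linear
part (X). -/

set_option autoImplicit false

namespace Cfsg.Agent.Lib.H9.B60

open Cfsg.Agent.Lib.H1.Jordan Module.End

variable {E : Type*} [NormedAddCommGroup E] [InnerProductSpace ℂ E]

theorem lin_one : lin (1 : E ≃ₗᵢ[ℂ] E) = 1 := rfl

theorem lin_mul (S T : E ≃ₗᵢ[ℂ] E) : lin (S * T) = lin S * lin T := rfl

theorem lin_pow (T : E ≃ₗᵢ[ℂ] E) (j : ℕ) : lin (T ^ j) = lin T ^ j := by
  induction j with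
  | zero => rfl
  | succ j ih => rw [pow_succ, pow_succ, lin_mul, ih]

theorem pow_apply_eigen {T : E ≃ₗᵢ[ℂ] E} {v : E} {a : ℂ} (h : T v = a • v) (j : ℕ) :
    (lin T ^ j) v = a ^ j • v := by
  induction j with
  | zero => simp
  | succ j ih =>
    rw [pow_succ', Module.End.mul_apply, ih, map_smul, lin_apply, h, smul_smul, pow_succ]

/-- **Orthonormal eigenbasis of a single isometry**, with its eigenvalue list. -/
theorem exists_eigenbasis [FiniteDimensional ℂ E] (T : E ≃ₗᵢ[ℂ] E) {n : ℕ}
    (hn : Module.finrank ℂ E = n) :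
    ∃ (b : OrthonormalBasis (Fin n) ℂ E) (a : Fin n → ℂ), ∀ k, T (b k) = a k • b k := by
  obtain ⟨b, hb⟩ := exists_joint_eigenbasis (fun _ : Unit => T) (fun _ _ => rfl) hn
  choose a ha using hb
  exact ⟨b, a (), fun k => ha () k⟩

/-- The facts about an eigenvalue list coming from an orthonormal eigenbasis. -/
theorem eigen_list_facts (T : E ≃ₗᵢ[ℂ] E) {n : ℕ}
    (b : OrthonormalBasis (Fin n) ℂ E) (a : Fin n → ℂ) (hb : ∀ k, T (b k) = a k • b k) :
    (∀ j : ℕ, LinearMap.trace ℂ E (lin T ^ j) = ∑ k, a k ^ j) ∧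
    (∀ μ : ℂ, HasEigenvalue (lin T) μ ↔ ∃ k, a k = μ) ∧
    (∀ k, ‖a k‖ = 1) ∧
    (∀ m : ℕ, T ^ m = 1 → ∀ k, a k ^ m = 1) := by
  have hbne : ∀ k, b k ≠ 0 := fun k => b.orthonormal.ne_zero k
  have hnorm : ∀ k, ‖a k‖ = 1 := by
    intro k
    have h1 : ‖T (b k)‖ = ‖b k‖ := T.norm_map (b k)
    rw [hb k, norm_smul, b.orthonormal.1 k, mul_one] at h1
    exact h1
  refine ⟨?_, ?_, hnorm, ?_⟩
  · intro j
    rw [LinearMap.trace_eq_sum_inner _ b]
    refine Finset.sum_congr rfl fun k _ => ?_
    rw [pow_apply_eigen (hb k) j, inner_smul_right, inner_self_eq_norm_sq_to_K, b.orthonormal.1 k]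
    simp
  · intro μ
    constructor
    · intro hμ
      obtain ⟨v, hv⟩ := hμ.exists_hasEigenvector
      have hv1 : T v = μ • v := by
        have := mem_eigenspace_iff.1 hv.1
        simpa [lin_apply] using this
      have hv0 : v ≠ 0 := hv.2
      -- some coordinate of `v` is nonzero
      have hex : ∃ k, inner ℂ (b k) v ≠ (0 : ℂ) := by
        by_contra hcon
        push Not at hcon
        apply hv0
        rw [← b.sum_repr' v]
        exact Finset.sum_eq_zero fun k _ => by rw [hcon k, zero_smul]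
      obtain ⟨k, hk⟩ := hex
      refine ⟨k, ?_⟩
      -- compute `⟪b k, T v⟫` in two ways
      have e1 : inner ℂ (b k) (T v) = μ * inner ℂ (b k) v := by
        rw [hv1, inner_smul_right]
      have e2 : inner ℂ (b k) (T v) = a k * inner ℂ (b k) v := by
        have hTv : T v = ∑ l, inner ℂ (b l) v • (a l • b l) := by
          conv_lhs => rw [← b.sum_repr' v]
          rw [map_sum]
          refine Finset.sum_congr rfl fun l _ => ?_
          rw [map_smul, hb l]
        rw [hTv, inner_sum, Finset.sum_eq_single k]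
        · rw [inner_smul_right, inner_smul_right, inner_self_eq_norm_sq_to_K, b.orthonormal.1 k]
          simp [mul_comm]
        · intro l _ hl
          rw [inner_smul_right, inner_smul_right, b.orthonormal.2 (Ne.symm hl)]
          simp
        · intro h; exact absurd (Finset.mem_univ k) h
      have : (a k - μ) * inner ℂ (b k) v = 0 := by
        rw [sub_mul, ← e1, ← e2, sub_self]
      rcases mul_eq_zero.1 this with h | h
      · exact sub_eq_zero.1 h
      · exact absurd h hk
    · rintro ⟨k, rfl⟩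
      refine hasEigenvalue_of_hasEigenvector (x := b k) ⟨mem_eigenspace_iff.2 ?_, hbne k⟩
      simpa [lin_apply] using hb k
  · intro m hm k
    have h1 : (lin T ^ m) (b k) = b k := by
      rw [← lin_pow, hm]; rfl
    rw [pow_apply_eigen (hb k) m] at h1
    have h2 : (a k ^ m - 1) • b k = 0 := by rw [sub_smul, h1, one_smul, sub_self]
    rcases smul_eq_zero.1 h2 with h | h
    · exact sub_eq_zero.1 h
    · exact absurd h (hbne k)

/-- **(EIG)** The eigenvalue list of an isometry. -/
theorem exists_eigen_list [FiniteDimensional ℂ E] (T : E ≃ₗᵢ[ℂ] E) {n : ℕ}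
    (hn : Module.finrank ℂ E = n) :
    ∃ a : Fin n → ℂ,
      (∀ j : ℕ, LinearMap.trace ℂ E (lin T ^ j) = ∑ k, a k ^ j) ∧
      (∀ μ : ℂ, HasEigenvalue (lin T) μ ↔ ∃ k, a k = μ) ∧
      (∀ k, ‖a k‖ = 1) ∧
      (∀ m : ℕ, T ^ m = 1 → ∀ k, a k ^ m = 1) := by
  obtain ⟨b, a, hb⟩ := exists_eigenbasis T hn
  exact ⟨a, eigen_list_facts T b a hb⟩

/-- **(EIG), group form.**  For an isometric representation `R` affording the class function `χ`
(`trace (R g) = χ g`) and `x : G`: the eigenvalue list `a` of `R x` satisfies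
`χ (x ^ j) = ∑ k, a k ^ j`, `a k ^ orderOf x = 1`, and the eigenvalues of `R x` are exactly the `a k`. -/
theorem exists_eigen_list_rep {G : Type*} [Group G] [FiniteDimensional ℂ E]
    (R : G →* (E ≃ₗᵢ[ℂ] E)) (χ : G → ℂ)
    (hχ : ∀ g, LinearMap.trace ℂ E (lin (R g)) = χ g) {n : ℕ} (hn : Module.finrank ℂ E = n)
    (x : G) :
    ∃ a : Fin n → ℂ,
      (∀ j : ℕ, χ (x ^ j) = ∑ k, a k ^ j) ∧
      (∀ k, a k ^ orderOf x = 1) ∧
      (∀ k, ‖a k‖ = 1) ∧
      (∀ μ : ℂ, HasEigenvalue (lin (R x)) μ ↔ ∃ k, a k = μ) := by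
  obtain ⟨a, h1, h2, h3, h4⟩ := exists_eigen_list (R x) hn
  refine ⟨a, ?_, ?_, h3, h2⟩
  · intro j
    rw [← h1 j, ← lin_pow, ← map_pow, hχ]
  · intro k
    refine h4 (orderOf x) ?_ k
    rw [← map_pow, pow_orderOf_eq_one, map_one]

end Cfsg.Agent.Lib.H9.B60
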