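import Mathlib
import Cfsg.Agent.Lib.H1.M11U.Defs

/-!
# S0420, piece SUB (helper9): subdegrees 1, 18, 36 of a simple group of order 7920 on its Sylow 3-subgroups
-/

set_option autoImplicit false
open scoped Pointwise

universe u

namespace Cfsg.Agent.Lib.H9.M11U

open Cfsg.Agent.Lib.H1.M11U

variable {G : Type u} [Group G] [Finite G]

theorem smul_eq_iff_nrm (g : G) (P : Sylow 3 G) : g • P = P ↔ g ∈ Nrm P :=
  Sylow.smul_eq_iff_mem_normalizer

/-- a 3-element of `N(P)` lies in `P` -/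
theorem mem_sylow_of_mem_nrm (P : Sylow 3 G) {x : G} (hx : x ∈ Nrm P)
    (hx3 : IsPGroup 3 (Subgroup.zpowers x)) : x ∈ (P : Subgroup G) := by
  have h2 : Subgroup.zpowers x ≤ Subgroup.normalizer ((P : Subgroup G) : Set G) := by
    rw [Subgroup.zpowers_le]; exact hx
  have h3 := hx3.to_sup_of_normal_right' P.isPGroup' h2
  have h4 := P.is_maximal' h3 le_sup_right
  rw [← h4]
  exact (le_sup_left : Subgroup.zpowers x ≤ _) (Subgroup.mem_zpowers x)

theorem semireg (h : Hyp G) {P P' : Sylow 3 G} (hne : P' ≠ P) {u : G} (hu : u ∈ (P : Subgroup G))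
    (hu1 : u ≠ 1) : u • P' ≠ P' := by
  intro hfix
  have hun : u ∈ Nrm P' := (smul_eq_iff_nrm u P').1 hfix
  have h3 : IsPGroup 3 (Subgroup.zpowers u) :=
    P.isPGroup'.to_le (by rw [Subgroup.zpowers_le]; exact hu)
  have hu' := mem_sylow_of_mem_nrm P' hun h3
  exact hne (h.ti3 P' P u hu1 hu' hu)

theorem conj_mem_nrm_smul (g : G) {x : G} {P : Sylow 3 G} (hx : x ∈ Nrm P) :
    g * x * g⁻¹ ∈ Nrm (g • P) := by
  rw [← smul_eq_iff_nrm, mul_smul, mul_smul, inv_smul_smul, (smul_eq_iff_nrm x P).2 hx]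

theorem conj_mem_nrm_of_smul (g : G) {y : G} {P : Sylow 3 G} (hy : y ∈ Nrm (g • P)) :
    g⁻¹ * y * g ∈ Nrm P := by
  have h1 := (smul_eq_iff_nrm y (g • P)).2 hy
  rw [← smul_eq_iff_nrm, mul_smul, mul_smul, h1, inv_smul_smul]

/-- the two-point stabiliser is conjugation invariant -/
theorem card_inf_nrm_smul (g : G) (P P' : Sylow 3 G) :
    Nat.card ↥(Nrm (g • P) ⊓ Nrm (g • P')) = Nat.card ↥(Nrm P ⊓ Nrm P') := by
  symm
  exact Nat.card_congr
    { toFun := fun x => ⟨g * x.1 * g⁻¹, Subgroup.mem_inf.2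
        ⟨conj_mem_nrm_smul g (Subgroup.mem_inf.1 x.2).1, conj_mem_nrm_smul g (Subgroup.mem_inf.1 x.2).2⟩⟩
      invFun := fun y => ⟨g⁻¹ * y.1 * g, Subgroup.mem_inf.2
        ⟨conj_mem_nrm_of_smul g (Subgroup.mem_inf.1 y.2).1,
          conj_mem_nrm_of_smul g (Subgroup.mem_inf.1 y.2).2⟩⟩
      left_inv := fun x => by apply Subtype.ext; simp [mul_assoc]
      right_inv := fun y => by apply Subtype.ext; simp [mul_assoc] }

/-- the two-point stabiliser of two different Sylow 3-subgroups is a 2-group -/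
theorem card_inf_nrm_dvd (h : Hyp G) {P P' : Sylow 3 G} (hne : P ≠ P') :
    Nat.card ↥(Nrm P ⊓ Nrm P') ∣ 16 := by
  have h1 : Nat.card ↥(Nrm P ⊓ Nrm P') ∣ 144 := by
    rw [← h.norm3 P]; exact Subgroup.card_dvd_of_le inf_le_left
  have h2 : ¬ 3 ∣ Nat.card ↥(Nrm P ⊓ Nrm P') := by
    intro h3
    obtain ⟨x, hx⟩ := exists_prime_orderOf_dvd_card' (G := ↥(Nrm P ⊓ Nrm P')) 3 h3
    have hx3 : orderOf (x : G) = 3 := by rw [Subgroup.orderOf_coe]; exact hx
    have hp : IsPGroup 3 (Subgroup.zpowers (x : G)) := by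
      apply IsPGroup.of_card (n := 1)
      rw [Nat.card_zpowers, hx3, pow_one]
    have hxP := mem_sylow_of_mem_nrm P x.2.1 hp
    have hxP' := mem_sylow_of_mem_nrm P' x.2.2 hp
    have hx1 : (x : G) ≠ 1 := by
      intro h1
      rw [h1, orderOf_one] at hx3
      norm_num at hx3
    exact hne (h.ti3 P P' x hx1 hxP hxP')
  have h3 : (Nat.card ↥(Nrm P ⊓ Nrm P')).Coprime 9 := by
    have : (Nat.card ↥(Nrm P ⊓ Nrm P')).Coprime 3 :=
      (Nat.Prime.coprime_iff_not_dvd Nat.prime_three).2 h2 |>.symm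
    exact Nat.Coprime.pow_right 2 this
  have h4 : Nat.card ↥(Nrm P ⊓ Nrm P') ∣ 16 * 9 := by norm_num; exact h1
  exact Nat.Coprime.dvd_of_dvd_mul_right h3 h4

/-- orbit-stabiliser for `N(P)` acting on the Sylow 3-subgroups -/
theorem ncard_orbit_mul (h : Hyp G) (P P' : Sylow 3 G) :
    (MulAction.orbit ↥(Nrm P) P').ncard * Nat.card ↥(Nrm P ⊓ Nrm P') = 144 := by
  rw [← MulAction.index_stabilizer, ← h.norm3 P]
  have hc : Nat.card ↥(MulAction.stabilizer ↥(Nrm P) P') = Nat.card ↥(Nrm P ⊓ Nrm P') :=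
    Nat.card_congr
      { toFun := fun x => ⟨x.1.1, Subgroup.mem_inf.2 ⟨x.1.2, (smul_eq_iff_nrm _ _).1 x.2⟩⟩
        invFun := fun y => ⟨⟨y.1, (Subgroup.mem_inf.1 y.2).1⟩,
          (smul_eq_iff_nrm _ _).2 (Subgroup.mem_inf.1 y.2).2⟩
        left_inv := fun _ => rfl
        right_inv := fun _ => rfl }
  rw [← hc]
  exact Subgroup.index_mul_card _

theorem mem_orbit_nrm {P A B : Sylow 3 G} :
    B ∈ MulAction.orbit ↥(Nrm P) A ↔ ∃ n ∈ Nrm P, n • A = B := by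
  rw [MulAction.mem_orbit_iff]
  constructor
  · rintro ⟨n, hn⟩; exact ⟨n.1, n.2, hn⟩
  · rintro ⟨n, hn, hnA⟩; exact ⟨⟨n, hn⟩, hnA⟩

/-- rank 3: at most two orbits of `N(P)` on the other Sylow 3-subgroups -/
theorem rank3_three (h : Hyp G) (P : Sylow 3 G) {P₁ P₂ P₃ : Sylow 3 G} (h1 : P₁ ≠ P) (h2 : P₂ ≠ P)
    (h3 : P₃ ≠ P) (h12 : ¬ ∃ n ∈ Nrm P, n • P₁ = P₂) :
    (∃ n ∈ Nrm P, n • P₁ = P₃) ∨ (∃ n ∈ Nrm P, n • P₂ = P₃) := by
  classical
  by_contra hcon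
  rw [not_or] at hcon
  obtain ⟨hc1, hc2⟩ := hcon
  let q : Sylow 3 G × Sylow 3 G → MulAction.orbitRel.Quotient G (Sylow 3 G × Sylow 3 G) :=
    Quotient.mk''
  have key : ∀ X A B : Sylow 3 G, q (P, A) = q (X, B) → ∃ n : G, n • X = P ∧ n • B = A := by
    intro X A B hAB
    have h4 : (P, A) ∈ MulAction.orbit G (X, B) := Quotient.eq''.1 hAB
    obtain ⟨g, hg⟩ := h4
    have h5 : g • X = P := congrArg Prod.fst hg
    have h6 : g • B = A := congrArg Prod.snd hg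
    exact ⟨g, h5, h6⟩
  have hd : ∀ A : Sylow 3 G, A ≠ P → q (P, A) ≠ q (P, P) := by
    intro A hA hq
    obtain ⟨n, hn1, hn2⟩ := key P A P hq
    exact hA (hn2.symm.trans hn1)
  have hne : ∀ A B : Sylow 3 G, (¬ ∃ n ∈ Nrm P, n • A = B) → q (P, B) ≠ q (P, A) := by
    intro A B hAB hq
    obtain ⟨n, hn1, hn2⟩ := key P B A hq
    exact hAB ⟨n, (smul_eq_iff_nrm n P).1 hn1, hn2⟩
  have : Fintype (MulAction.orbitRel.Quotient G (Sylow 3 G × Sylow 3 G)) := Fintype.ofFinite _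
  have hcard : ({q (P, P), q (P, P₁), q (P, P₂), q (P, P₃)} : Finset _).card = 4 := by
    rw [Finset.card_insert_of_notMem, Finset.card_insert_of_notMem, Finset.card_insert_of_notMem,
      Finset.card_singleton]
    · rw [Finset.mem_singleton]
      exact (hne P₂ P₃ hc2).symm
    · rw [Finset.mem_insert, Finset.mem_singleton]
      rintro (h7 | h7)
      · exact hne P₁ P₂ h12 h7.symm
      · exact hne P₁ P₃ hc1 h7.symm
    · rw [Finset.mem_insert, Finset.mem_insert, Finset.mem_singleton]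
      rintro (h7 | h7 | h7)
      · exact hd P₁ h1 h7.symm
      · exact hd P₂ h2 h7.symm
      · exact hd P₃ h3 h7.symm
  have hle := Finset.card_le_univ
    ({q (P, P), q (P, P₁), q (P, P₂), q (P, P₃)} : Finset _)
  rw [hcard, ← Nat.card_eq_fintype_card, h.rank3] at hle
  omega

theorem card_sylow3 (h : Hyp G) : Nat.card (Sylow 3 G) = 55 := by
  obtain ⟨P⟩ := (inferInstance : Nonempty (Sylow 3 G))
  rw [Sylow.card_eq_index_normalizer P]
  have h1 := Subgroup.index_mul_card (Nrm P)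
  rw [h.norm3 P, h.card] at h1
  show (Nrm P).index = 55
  omega

/-- the orbit of `N(P)` on a Sylow 3-subgroup different from `P` does not contain `P` -/
theorem not_mem_orbit_nrm {P A : Sylow 3 G} (hA : A ≠ P) : P ∉ MulAction.orbit ↥(Nrm P) A := by
  rw [mem_orbit_nrm]
  rintro ⟨n, hn, hnA⟩
  apply hA
  have h1 : n • P = P := (smul_eq_iff_nrm n P).2 hn
  have h2 : n • A = n • P := hnA.trans h1.symm
  exact smul_left_cancel n h2

/-- the structure of the action of `N(P)`: two orbits besides `{P}`, with stabilisers of order 8 and 4 -/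
theorem structure_sub (h : Hyp G) (P : Sylow 3 G) :
    ∃ P₁ P₂ : Sylow 3 G, P₁ ≠ P ∧ P₂ ≠ P ∧ Nat.card ↥(Nrm P ⊓ Nrm P₁) = 8 ∧
      Nat.card ↥(Nrm P ⊓ Nrm P₂) = 4 ∧
      ∀ P₃, P₃ ≠ P → (∃ n ∈ Nrm P, n • P₁ = P₃) ∨ (∃ n ∈ Nrm P, n • P₂ = P₃) := by
  have h55 := card_sylow3 h
  have : Nontrivial (Sylow 3 G) := by
    rw [← Finite.one_lt_card_iff_nontrivial, h55]; norm_num
  obtain ⟨A, hA⟩ := exists_ne P
  have hfA := card_inf_nrm_dvd h hA.symm
  have hoA := ncard_orbit_mul h P A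
  have hfA16 : Nat.card ↥(Nrm P ⊓ Nrm A) ≤ 16 := Nat.le_of_dvd (by norm_num) hfA
  -- a second orbit
  have hB : ∃ B : Sylow 3 G, B ≠ P ∧ ¬ ∃ n ∈ Nrm P, n • A = B := by
    by_contra hcon
    have hall : ∀ B : Sylow 3 G, B ≠ P → B ∈ MulAction.orbit ↥(Nrm P) A := by
      intro B hB
      by_contra hBo
      exact hcon ⟨B, hB, fun hx => hBo (mem_orbit_nrm.2 hx)⟩
    have huniv : (Set.univ : Set (Sylow 3 G)) = insert P (MulAction.orbit ↥(Nrm P) A) := by
      ext x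
      simp only [Set.mem_univ, Set.mem_insert_iff, true_iff]
      by_cases hx : x = P
      · exact Or.inl hx
      · exact Or.inr (hall x hx)
    have h1 := congrArg Set.ncard huniv
    rw [Set.ncard_univ, h55, Set.ncard_insert_of_notMem (not_mem_orbit_nrm hA)] at h1
    have h2 : (MulAction.orbit ↥(Nrm P) A).ncard = 54 := by omega
    rw [h2] at hoA
    omega
  obtain ⟨B, hB, hAB⟩ := hB
  have hfB := card_inf_nrm_dvd h hB.symm
  have hoB := ncard_orbit_mul h P B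
  have hfB16 : Nat.card ↥(Nrm P ⊓ Nrm B) ≤ 16 := Nat.le_of_dvd (by norm_num) hfB
  have hcover : ∀ P₃, P₃ ≠ P → (∃ n ∈ Nrm P, n • A = P₃) ∨ (∃ n ∈ Nrm P, n • B = P₃) :=
    fun P₃ h3 => rank3_three h P hA hB h3 hAB
  have hdisj : Disjoint (MulAction.orbit ↥(Nrm P) A) (MulAction.orbit ↥(Nrm P) B) := by
    rw [Set.disjoint_left]
    intro x hxA hxB
    apply hAB
    rw [← mem_orbit_nrm]
    rw [← MulAction.orbit_eq_iff] at hxA hxB
    rw [← hxA, hxB]
    exact MulAction.mem_orbit_self B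
  have huniv : (Set.univ : Set (Sylow 3 G)) =
      insert P (MulAction.orbit ↥(Nrm P) A ∪ MulAction.orbit ↥(Nrm P) B) := by
    ext x
    simp only [Set.mem_univ, Set.mem_insert_iff, Set.mem_union, true_iff]
    by_cases hx : x = P
    · exact Or.inl hx
    · right
      rcases hcover x hx with h1 | h1
      · exact Or.inl (mem_orbit_nrm.2 h1)
      · exact Or.inr (mem_orbit_nrm.2 h1)
  have hPnot : P ∉ MulAction.orbit ↥(Nrm P) A ∪ MulAction.orbit ↥(Nrm P) B := by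
    rw [Set.mem_union]
    rintro (h1 | h1)
    · exact not_mem_orbit_nrm hA h1
    · exact not_mem_orbit_nrm hB h1
  have h1 := congrArg Set.ncard huniv
  rw [Set.ncard_univ, h55, Set.ncard_insert_of_notMem hPnot, Set.ncard_union_eq hdisj] at h1
  -- arithmetic
  set a := (MulAction.orbit ↥(Nrm P) A).ncard with ha
  set b := (MulAction.orbit ↥(Nrm P) B).ncard with hb
  set f := Nat.card ↥(Nrm P ⊓ Nrm A) with hf
  set f' := Nat.card ↥(Nrm P ⊓ Nrm B) with hf'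
  have hcases : (f = 8 ∧ f' = 4) ∨ (f = 4 ∧ f' = 8) := by
    have hf1 : 1 ≤ f := Nat.pos_of_ne_zero (by rintro h0; rw [h0] at hoA; omega)
    have hf1' : 1 ≤ f' := Nat.pos_of_ne_zero (by rintro h0; rw [h0] at hoB; omega)
    clear_value a b f f'
    interval_cases f <;> interval_cases f' <;> omega
  rcases hcases with ⟨h8, h4⟩ | ⟨h4, h8⟩
  · exact ⟨A, B, hA, hB, h8, h4, hcover⟩
  · refine ⟨B, A, hB, hA, h8, h4, fun P₃ h3 => ?_⟩
    rcases hcover P₃ h3 with h5 | h5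
    · exact Or.inr h5
    · exact Or.inl h5

/-- the order of the two-point stabiliser is constant on the orbits of `N(P)` -/
theorem card_inf_nrm_of_conj {P A B : Sylow 3 G} (hAB : ∃ n ∈ Nrm P, n • A = B) :
    Nat.card ↥(Nrm P ⊓ Nrm B) = Nat.card ↥(Nrm P ⊓ Nrm A) := by
  obtain ⟨n, hn, rfl⟩ := hAB
  have h1 := card_inf_nrm_smul n P A
  rw [(smul_eq_iff_nrm n P).2 hn] at h1
  exact h1

theorem card_inf_nrm (h : Hyp G) {P P' : Sylow 3 G} (hne : P ≠ P') :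
    Nat.card ↥(Nrm P ⊓ Nrm P') = 8 ∨ Nat.card ↥(Nrm P ⊓ Nrm P') = 4 := by
  obtain ⟨P₁, P₂, h1, h2, h8, h4, hcover⟩ := structure_sub h P
  rcases hcover P' hne.symm with h5 | h5
  · left; rw [card_inf_nrm_of_conj h5, h8]
  · right; rw [card_inf_nrm_of_conj h5, h4]

theorem not_adj_self (h : Hyp G) (P : Sylow 3 G) : ¬ Adj P P := by
  intro h1
  unfold Adj at h1
  rw [inf_idem, h.norm3 P] at h1
  norm_num at h1

/-- adjacency = lying in the orbit of length 18 -/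
theorem adj_iff_of_structure (h : Hyp G) {P P₁ P₂ : Sylow 3 G}
    (h8 : Nat.card ↥(Nrm P ⊓ Nrm P₁) = 8) (h4 : Nat.card ↥(Nrm P ⊓ Nrm P₂) = 4)
    (hcover : ∀ P₃, P₃ ≠ P → (∃ n ∈ Nrm P, n • P₁ = P₃) ∨ (∃ n ∈ Nrm P, n • P₂ = P₃))
    (X : Sylow 3 G) : Adj P X ↔ ∃ n ∈ Nrm P, n • P₁ = X := by
  constructor
  · intro hadj
    have hX : X ≠ P := by
      rintro rfl
      exact not_adj_self h X hadj
    rcases hcover X hX with h5 | h5
    · exact h5
    · exfalso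
      unfold Adj at hadj
      rw [card_inf_nrm_of_conj h5, h4] at hadj
      norm_num at hadj
  · intro h5
    unfold Adj
    rw [card_inf_nrm_of_conj h5, h8]

theorem card_adj (h : Hyp G) (P : Sylow 3 G) : Nat.card {P' : Sylow 3 G // Adj P P'} = 18 := by
  obtain ⟨P₁, P₂, h1, h2, h8, h4, hcover⟩ := structure_sub h P
  have hset : {P' : Sylow 3 G | Adj P P'} = MulAction.orbit ↥(Nrm P) P₁ := by
    ext X
    rw [Set.mem_ofPred_eq, adj_iff_of_structure h h8 h4 hcover X, mem_orbit_nrm]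
  have h5 : Nat.card {P' : Sylow 3 G // Adj P P'} = (MulAction.orbit ↥(Nrm P) P₁).ncard := by
    rw [← hset]
    exact Nat.card_coe_set_eq {P' : Sylow 3 G | Adj P P'}
  rw [h5]
  have h6 := ncard_orbit_mul h P P₁
  rw [h8] at h6
  omega

theorem adj_trans (h : Hyp G) {P P₁ P₂ : Sylow 3 G} (h1 : Adj P P₁) (h2 : Adj P P₂) :
    ∃ n ∈ Nrm P, n • P₁ = P₂ := by
  obtain ⟨Q₁, Q₂, _, _, h8, h4, hcover⟩ := structure_sub h P
  obtain ⟨n₁, hn₁, rfl⟩ := (adj_iff_of_structure h h8 h4 hcover P₁).1 h1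
  obtain ⟨n₂, hn₂, rfl⟩ := (adj_iff_of_structure h h8 h4 hcover P₂).1 h2
  refine ⟨n₂ * n₁⁻¹, (Nrm P).mul_mem hn₂ ((Nrm P).inv_mem hn₁), ?_⟩
  rw [mul_smul, inv_smul_smul]

theorem nonadj_trans (h : Hyp G) {P P₁ P₂ : Sylow 3 G} (h1 : P₁ ≠ P) (h1' : ¬ Adj P P₁)
    (h2 : P₂ ≠ P) (h2' : ¬ Adj P P₂) : ∃ n ∈ Nrm P, n • P₁ = P₂ := by
  obtain ⟨Q₁, Q₂, _, _, h8, h4, hcover⟩ := structure_sub h P
  have key : ∀ X : Sylow 3 G, X ≠ P → ¬ Adj P X → ∃ n ∈ Nrm P, n • Q₂ = X := by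
    intro X hX hXadj
    rcases hcover X hX with h5 | h5
    · exact absurd ((adj_iff_of_structure h h8 h4 hcover X).2 h5) hXadj
    · exact h5
  obtain ⟨n₁, hn₁, rfl⟩ := key P₁ h1 h1'
  obtain ⟨n₂, hn₂, rfl⟩ := key P₂ h2 h2'
  refine ⟨n₂ * n₁⁻¹, (Nrm P).mul_mem hn₂ ((Nrm P).inv_mem hn₁), ?_⟩
  rw [mul_smul, inv_smul_smul]

end Cfsg.Agent.Lib.H9.M11U
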