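import Mathlib
import Cfsg.Prelude.Def_EvenType
import Cfsg.Agent.Lib.H2.NormGrow
import Cfsg.Agent.Lib.H26.Basic
import Cfsg.Agent.Lib.H5.SylowIn

/-!
# Strongly `p`-embedded subgroups (`Cfsg.IsStronglyPEmbedded`, the `Γ_{P,1}` form)

* `not_pRankLE_zero` / `ne_bot_of_not_pRankLE_zero`: for a `p`-subgroup, `¬ PRankLE p 0 Q ↔ Q ≠ ⊥`.
* `normalizer_le_kGeneratedCore_one`: `N_G(Q) ≤ Γ_{P,1}(G)` for `1 ≠ Q ≤ P`.
* `stronglyPEmbedded_sylow`: a strongly `p`-embedded `X` contains a nontrivial Sylow `p`-subgroup.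
* `stronglyPEmbedded_normalizer_le`: `N_G(Q) ≤ X` for every nontrivial `p`-subgroup `Q ≤ X`.
* `stronglyPEmbedded_inf_subgroupOf`: inheritance by subgroups `H ≰ X` with `p ∣ |H ∩ X|`.
* `stronglyPEmbedded_mem_of_conj`: if `1 ≠ Q ≤ X` is a `p`-subgroup and `g Q g⁻¹ ≤ X` then `g ∈ X`.
-/

set_option autoImplicit false

namespace Cfsg.Agent.Lib.H9

open Cfsg

variable {G : Type*} [Group G]

/-- A nontrivial finite `p`-subgroup does not have `p`-rank at most `0`. -/
theorem not_pRankLE_zero {p : ℕ} [Fact p.Prime] [Finite G] (Q : Subgroup G) (hQ : IsPGroup p Q)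
    (hne : Q ≠ ⊥) : ¬ PRankLE p 0 Q := by
  intro h
  have hnt : Nontrivial Q := (Subgroup.nontrivial_iff_ne_bot Q).mpr hne
  have hdvd : p ∣ Nat.card Q := by
    rcases hQ.card_eq_or_dvd with h1 | h1
    · exact absurd h1 (Finite.one_lt_card_iff_nontrivial.mpr hnt).ne'
    · exact h1
  obtain ⟨y, hy⟩ := exists_prime_orderOf_dvd_card' p hdvd
  have h1 := h (Subgroup.zpowers y) inferInstance (by
    intro a ha
    obtain ⟨n, rfl⟩ := Subgroup.mem_zpowers_iff.mp ha
    rw [← zpow_natCast, ← zpow_mul, mul_comm, zpow_mul, zpow_natCast, ← hy, pow_orderOf_eq_one,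
      one_zpow])
  rw [Nat.card_zpowers, hy, pow_zero] at h1
  exact absurd h1 (by have := (Fact.out : p.Prime).two_le; omega)

/-- Conversely a subgroup with `¬ PRankLE p 0` is nontrivial. -/
theorem ne_bot_of_not_pRankLE_zero {p : ℕ} (Q : Subgroup G) (h : ¬ PRankLE p 0 Q) : Q ≠ ⊥ := by
  rintro rfl
  apply h
  intro A _ _
  rw [pow_zero]
  have : Subsingleton (↥(⊥ : Subgroup G)) := inferInstance
  have : Subsingleton A := inferInstance
  exact Finite.card_le_one_iff_subsingleton.mpr this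

/-- `N_G(Q) ≤ Γ_{P,1}(G)` for every nontrivial subgroup `Q` of the Sylow `p`-subgroup `P`. -/
theorem normalizer_le_kGeneratedCore_one {p : ℕ} [Fact p.Prime] [Finite G] (P : Sylow p G)
    (Q : Subgroup G) (hQP : Q ≤ P) (hne : Q ≠ ⊥) :
    Subgroup.normalizer (Q : Set G) ≤ kGeneratedCore p 1 (P : Subgroup G) := by
  unfold kGeneratedCore
  exact le_iSup (fun Q : {Q : Subgroup G // Q ≤ P ∧ ¬ PRankLE p (1 - 1) Q} =>
    Subgroup.normalizer ((Q : Subgroup G) : Set G))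
    ⟨Q, hQP, by
      have h0 : 1 - 1 = 0 := rfl
      rw [h0]
      exact not_pRankLE_zero Q (P.2.to_le hQP) hne⟩

/-- `Γ_{P,1}(G) ≤ X` iff `N_G(Q) ≤ X` for all nontrivial `Q ≤ P`. -/
theorem kGeneratedCore_one_le_iff {p : ℕ} [Fact p.Prime] [Finite G] (P : Sylow p G)
    (X : Subgroup G) :
    kGeneratedCore p 1 (P : Subgroup G) ≤ X ↔
      ∀ Q : Subgroup G, Q ≤ P → Q ≠ ⊥ → Subgroup.normalizer (Q : Set G) ≤ X := by
  constructor
  · intro h Q hQP hne
    exact (normalizer_le_kGeneratedCore_one P Q hQP hne).trans h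
  · intro h
    unfold kGeneratedCore
    refine iSup_le ?_
    rintro ⟨Q, hQP, hQr⟩
    have h0 : 1 - 1 = 0 := rfl
    rw [h0] at hQr
    exact h Q hQP (ne_bot_of_not_pRankLE_zero Q hQr)

/-- A strongly `p`-embedded subgroup contains a (nontrivial) Sylow `p`-subgroup `P` of `G` with
`Γ_{P,1}(G) ≤ X`. -/
theorem stronglyPEmbedded_sylow {p : ℕ} [Fact p.Prime] [Finite G] {X : Subgroup G}
    (hX : IsStronglyPEmbedded p X) :
    ∃ P : Sylow p G, (P : Subgroup G) ≠ ⊥ ∧ (P : Subgroup G) ≤ X ∧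
      kGeneratedCore p 1 (P : Subgroup G) ≤ X := by
  obtain ⟨hdvd, -, P, hP⟩ := hX
  have hne : (P : Subgroup G) ≠ ⊥ := P.ne_bot_of_dvd_card hdvd
  refine ⟨P, hne, ?_, hP⟩
  exact Subgroup.le_normalizer.trans ((normalizer_le_kGeneratedCore_one P P le_rfl hne).trans hP)

/-- In a strongly `p`-embedded subgroup `X`, the normalizer of every nontrivial `p`-subgroup of `X`
lies in `X`. -/
theorem stronglyPEmbedded_normalizer_le {p : ℕ} [Fact p.Prime] [Finite G] {X : Subgroup G}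
    (hX : IsStronglyPEmbedded p X) (Q : Subgroup G) (hQ : IsPGroup p Q) (hQX : Q ≤ X)
    (hne : Q ≠ ⊥) : Subgroup.normalizer (Q : Set G) ≤ X := by
  obtain ⟨P, -, hPX, hΓ⟩ := stronglyPEmbedded_sylow hX
  obtain ⟨h, hhX, hh⟩ := Cfsg.Agent.Lib.H26.exists_conj_mem_sylow_of_le P X Q hPX hQX hQ
  -- Q' = h Q h⁻¹ ≤ P
  have hQ'P : Q.map (MulAut.conj h).toMonoidHom ≤ P := by
    rintro _ ⟨x, hx, rfl⟩
    exact hh x hx
  have hQ'ne : Q.map (MulAut.conj h).toMonoidHom ≠ ⊥ := by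
    intro h0
    apply hne
    rw [Subgroup.map_eq_bot_iff_of_injective _ (MulAut.conj h).injective] at h0
    exact h0
  have hN := (kGeneratedCore_one_le_iff P X).mp hΓ _ hQ'P hQ'ne
  intro n hn
  have h1 : (MulAut.conj h).toMonoidHom n ∈
      Subgroup.normalizer ((Q.map (MulAut.conj h).toMonoidHom : Subgroup G) : Set G) :=
    Subgroup.le_normalizer_map _ (Subgroup.mem_map_of_mem _ hn)
  have h2 : h * n * h⁻¹ ∈ X := hN h1
  have : n = h⁻¹ * (h * n * h⁻¹) * h := by group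
  rw [this]
  exact X.mul_mem (X.mul_mem (X.inv_mem hhX) h2) hhX

/-- Inheritance: if `X` is strongly `p`-embedded in `G`, `H ≰ X` and `p ∣ |H ∩ X|`, then `H ∩ X` is
strongly `p`-embedded in `H`. -/
theorem stronglyPEmbedded_inf_subgroupOf {p : ℕ} [Fact p.Prime] [Finite G] {X : Subgroup G}
    (hX : IsStronglyPEmbedded p X) (H : Subgroup G) (hHX : ¬ H ≤ X)
    (hdvd : p ∣ Nat.card ↥(H ⊓ X)) :
    IsStronglyPEmbedded p ((H ⊓ X).subgroupOf H) := by
  refine ⟨?_, ?_, ?_⟩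
  · exact hdvd.trans (Subgroup.card_dvd_of_le inf_le_left)
  · rw [Ne, Subgroup.subgroupOf_eq_top]
    intro h; exact hHX (h.trans inf_le_right)
  · -- Sylow of H ⊓ X
    obtain ⟨S₀⟩ : Nonempty (Sylow p ↥(H ⊓ X)) := inferInstance
    have hS₀ne : (S₀ : Subgroup ↥(H ⊓ X)) ≠ ⊥ := S₀.ne_bot_of_dvd_card hdvd
    obtain ⟨S, hS⟩ : ∃ S : Subgroup G, S = (S₀ : Subgroup ↥(H ⊓ X)).map (H ⊓ X).subtype := ⟨_, rfl⟩
    have hSp : IsPGroup p S := by rw [hS]; exact S₀.2.map _
    have hSle : S ≤ H ⊓ X := by rw [hS]; rintro _ ⟨x, _, rfl⟩; exact x.2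
    have hSne : S ≠ ⊥ := by
      intro h0; apply hS₀ne
      rwa [hS, Subgroup.map_eq_bot_iff_of_injective _ (Subgroup.subtype_injective _)] at h0
    -- maximality of S among p-subgroups of H ⊓ X
    have hSmax : ∀ R : Subgroup G, IsPGroup p R → R ≤ H ⊓ X → S ≤ R → R = S := by
      intro R hR hRle hSR
      have h1 : R.subgroupOf (H ⊓ X) = S₀ := S₀.is_maximal' (hR.comap_subtype) (by
        intro x hx
        rw [Subgroup.mem_subgroupOf]
        apply hSR
        rw [hS]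
        exact ⟨x, hx, rfl⟩)
      rw [hS, ← h1, Subgroup.subgroupOf_map_subtype, inf_eq_left.mpr hRle]
    -- Sylow of H containing S
    obtain ⟨P₁, hP₁⟩ := (hSp.comap_subtype : IsPGroup p (S.subgroupOf H)).exists_le_sylow
    obtain ⟨T, hT⟩ : ∃ T : Subgroup G, T = (P₁ : Subgroup H).map H.subtype := ⟨_, rfl⟩
    have hTp : IsPGroup p T := by rw [hT]; exact P₁.2.map _
    have hTH : T ≤ H := by rw [hT]; rintro _ ⟨x, _, rfl⟩; exact x.2
    have hST : S ≤ T := by
      intro x hx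
      rw [hT]
      exact ⟨⟨x, (hSle hx).1⟩, hP₁ (Subgroup.mem_subgroupOf.mpr hx), rfl⟩
    have hNS := stronglyPEmbedded_normalizer_le hX S hSp (hSle.trans inf_le_right) hSne
    have hST' : S = T := by
      apply Cfsg.Agent.Lib.H2.eq_of_inf_normalizer_le hTp hST
      have hR : T ⊓ Subgroup.normalizer (S : Set G) = S := by
        apply hSmax _ (hTp.to_le inf_le_left)
        · exact le_inf (inf_le_left.trans hTH) (inf_le_right.trans hNS)
        · exact le_inf hST Subgroup.le_normalizer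
      exact hR.le
    have hTX : T ≤ X := hST' ▸ (hSle.trans inf_le_right)
    refine ⟨P₁, ?_⟩
    rw [kGeneratedCore_one_le_iff]
    intro Q hQP hQne
    have hQG : Q.map H.subtype ≤ T := by rw [hT]; exact Subgroup.map_mono hQP
    have hQGne : Q.map H.subtype ≠ ⊥ := by
      intro h0; apply hQne
      rwa [Subgroup.map_eq_bot_iff_of_injective _ (Subgroup.subtype_injective _)] at h0
    have hN := stronglyPEmbedded_normalizer_le hX (Q.map H.subtype) (hTp.to_le hQG)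
      (hQG.trans hTX) hQGne
    intro n hn
    rw [Subgroup.mem_subgroupOf]
    refine ⟨n.2, hN ?_⟩
    exact Subgroup.le_normalizer_map H.subtype (Subgroup.mem_map_of_mem _ hn)

/-- Conjugates of strongly `p`-embedded subgroups are strongly `p`-embedded. -/
theorem stronglyPEmbedded_conj {p : ℕ} [Fact p.Prime] [Finite G] {X : Subgroup G}
    (hX : IsStronglyPEmbedded p X) (c : G) :
    IsStronglyPEmbedded p (X.map (MulAut.conj c).toMonoidHom) := by
  obtain ⟨P, -, -, hΓ⟩ := stronglyPEmbedded_sylow hX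
  refine ⟨hX.1, ?_, c • P, ?_⟩
  · intro htop
    apply hX.2.1
    rw [eq_top_iff]
    intro x _
    have h1 : c * x * c⁻¹ ∈ X.map (MulAut.conj c).toMonoidHom := by rw [htop]; trivial
    rw [Cfsg.Agent.Lib.H5.mem_map_conj_iff] at h1
    have h2 : c⁻¹ * (c * x * c⁻¹) * c = x := by group
    rwa [h2] at h1
  · rw [kGeneratedCore_one_le_iff]
    intro Q hQP hQne
    have hQ'P : Q.map (MulAut.conj c⁻¹).toMonoidHom ≤ P := by
      rintro _ ⟨x, hx, rfl⟩
      have := (Cfsg.Agent.Lib.H5.sylow_mem_smul_iff c P x).mp (hQP hx)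
      show c⁻¹ * x * c⁻¹⁻¹ ∈ (P : Subgroup G)
      rw [inv_inv]; exact this
    have hQ'ne : Q.map (MulAut.conj c⁻¹).toMonoidHom ≠ ⊥ := by
      intro h0; apply hQne
      rwa [Subgroup.map_eq_bot_iff_of_injective _ (MulAut.conj c⁻¹).injective] at h0
    have hN := (kGeneratedCore_one_le_iff P X).mp hΓ _ hQ'P hQ'ne
    intro n hn
    rw [Cfsg.Agent.Lib.H5.mem_map_conj_iff]
    have h1 : (MulAut.conj c⁻¹).toMonoidHom n ∈
        Subgroup.normalizer ((Q.map (MulAut.conj c⁻¹).toMonoidHom : Subgroup G) : Set G) :=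
      Subgroup.le_normalizer_map _ (Subgroup.mem_map_of_mem _ hn)
    have h2 := hN h1
    simpa [MulAut.conj_apply] using h2

/-- If `X`, `Y` both contain the normalizers of their nontrivial `p`-subgroups, then a nontrivial
Sylow `p`-subgroup of `X ⊓ Y` is a Sylow `p`-subgroup of `X`. -/
theorem isSylowIn_of_inf {p : ℕ} [Fact p.Prime] [Finite G] {X Y S : Subgroup G}
    (hY : ∀ Q : Subgroup G, IsPGroup p Q → Q ≤ Y → Q ≠ ⊥ → Subgroup.normalizer (Q : Set G) ≤ Y)
    (hS : Cfsg.Agent.Lib.H5.IsSylowIn p S (X ⊓ Y)) (hSne : S ≠ ⊥) :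
    Cfsg.Agent.Lib.H5.IsSylowIn p S X := by
  obtain ⟨T, hT, hST⟩ := Cfsg.Agent.Lib.H5.exists_isSylowIn_ge hS.2.1 (hS.1.trans inf_le_left)
  have hNS := hY S hS.2.1 (hS.1.trans inf_le_right) hSne
  have hST' : S = T := by
    apply Cfsg.Agent.Lib.H2.eq_of_inf_normalizer_le hT.2.1 hST
    have hR : T ⊓ Subgroup.normalizer (S : Set G) = S := by
      apply hS.2.2 _ (hT.2.1.to_le inf_le_left)
      · exact le_inf hST Subgroup.le_normalizer
      · exact le_inf (inf_le_left.trans hT.1) (inf_le_right.trans hNS)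
    exact hR.le
  rw [hST']; exact hT

/-- If `X` is strongly `p`-embedded, `Q ≤ X` is a nontrivial `p`-subgroup and `c Q c⁻¹ ≤ X`, then
`c ∈ X`. -/
theorem stronglyPEmbedded_mem_of_conj_le {p : ℕ} [Fact p.Prime] [Finite G] {X : Subgroup G}
    (hX : IsStronglyPEmbedded p X) (Q : Subgroup G) (hQ : IsPGroup p Q) (hne : Q ≠ ⊥)
    (hQX : Q ≤ X) (c : G) (hQc : Q.map (MulAut.conj c).toMonoidHom ≤ X) : c ∈ X := by
  have hXN := stronglyPEmbedded_normalizer_le hX
  have hYN := stronglyPEmbedded_normalizer_le (stronglyPEmbedded_conj hX c⁻¹)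
  have hQY : Q ≤ X.map (MulAut.conj c⁻¹).toMonoidHom := by
    intro q hq
    rw [Cfsg.Agent.Lib.H5.mem_map_conj_iff]
    have := hQc (Subgroup.mem_map_of_mem _ hq)
    simpa [MulAut.conj_apply] using this
  obtain ⟨S, hS, hQS⟩ := Cfsg.Agent.Lib.H5.exists_isSylowIn_ge hQ (le_inf hQX hQY)
  have hSne : S ≠ ⊥ := fun h0 => hne (le_bot_iff.mp (h0 ▸ hQS))
  have hSX := isSylowIn_of_inf hYN hS hSne
  have hSY := isSylowIn_of_inf hXN (inf_comm X _ ▸ hS) hSne
  have hSc := hSY.conj c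
  have hback : (X.map (MulAut.conj c⁻¹).toMonoidHom).map (MulAut.conj c).toMonoidHom = X := by
    ext x
    rw [Cfsg.Agent.Lib.H5.mem_map_conj_iff, Cfsg.Agent.Lib.H5.mem_map_conj_iff]
    have : c⁻¹⁻¹ * (c⁻¹ * x * c) * c⁻¹ = x := by group
    rw [this]
  rw [hback] at hSc
  obtain ⟨z, hzX, hz⟩ := hSX.exists_conj hSc
  -- z⁻¹ c normalizes S
  have hn : z⁻¹ * c ∈ Subgroup.normalizer (S : Set G) := by
    rw [Subgroup.mem_normalizer_iff]
    intro h
    have e1 : z⁻¹ * c * h * (z⁻¹ * c)⁻¹ = z⁻¹ * (c * h * c⁻¹) * z := by group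
    rw [e1, ← Cfsg.Agent.Lib.H5.mem_map_conj_iff, ← hz, Cfsg.Agent.Lib.H5.mem_map_conj_iff]
    have e2 : c⁻¹ * (c * h * c⁻¹) * c = h := by group
    rw [e2]
  have h1 := hXN S hS.2.1 (hS.1.trans inf_le_left) hSne hn
  have : c = z * (z⁻¹ * c) := by group
  rw [this]
  exact X.mul_mem hzX h1

/-- Element form: if `x ∈ X` has order `p` and `c x c⁻¹ ∈ X` then `c ∈ X`. -/
theorem stronglyPEmbedded_mem_of_conj_mem {p : ℕ} [Fact p.Prime] [Finite G] {X : Subgroup G}
    (hX : IsStronglyPEmbedded p X) (x : G) (hx : orderOf x = p) (hxX : x ∈ X) (c : G)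
    (hc : c * x * c⁻¹ ∈ X) : c ∈ X := by
  refine stronglyPEmbedded_mem_of_conj_le hX (Subgroup.zpowers x) ?_ ?_ ?_ c ?_
  · exact IsPGroup.of_card (n := 1) (by rw [Nat.card_zpowers, hx, pow_one])
  · intro h0
    have h1 : x = 1 := by rwa [Subgroup.zpowers_eq_bot] at h0
    rw [h1, orderOf_one] at hx
    exact (Fact.out : p.Prime).one_lt.ne hx
  · rw [Subgroup.zpowers_le]; exact hxX
  · rw [MonoidHom.map_zpowers, Subgroup.zpowers_le]
    exact hc

end Cfsg.Agent.Lib.H9
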