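import Mathlib

/-!
helper9: polynomial sequences in a group with respect to a strongly central filtration
(an `N`-series), and the weak Hall–Petrescu collection formula derived from them:
`(x y)^n = x^n y^n w` with `w` a product of elements `g ^ (n.choose i)`, `g ∈ Γ i`, `i ≥ 2`.
For `n = p^k` and `Γ p = ⊥` this shows that groups of class `< p` are regular.
-/

set_option autoImplicit false

namespace Cfsg.Agent.Lib.H9.PolySeq

open scoped commutatorElement

variable {G : Type*} [Group G]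

/-- A strongly central filtration indexed by `ℕ`. -/
structure IsNSeries (Γ : ℕ → Subgroup G) : Prop where
  normal : ∀ i, (Γ i).Normal
  anti : ∀ i, Γ (i + 1) ≤ Γ i
  comm : ∀ i j, ⁅Γ i, Γ j⁆ ≤ Γ (i + j)

theorem IsNSeries.antitone {Γ : ℕ → Subgroup G} (h : IsNSeries Γ) {a b : ℕ} (hab : a ≤ b) :
    Γ b ≤ Γ a := by
  induction b, hab using Nat.le_induction with
  | base => exact le_rfl
  | succ b _ ih => exact (h.anti b).trans ih

/-- The (multiplicative, right) difference operator on sequences. -/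
def D (f : ℕ → G) : ℕ → G := fun n => (f n)⁻¹ * f (n + 1)

/-- `Pol Γ k d f`: the sequence `f` and its first `k` iterated differences `D^j f` take values in
`Γ (d + j)`. -/
def Pol (Γ : ℕ → Subgroup G) : ℕ → ℕ → (ℕ → G) → Prop
  | 0, d, f => ∀ n, f n ∈ Γ d
  | k + 1, d, f => (∀ n, f n ∈ Γ d) ∧ Pol Γ k (d + 1) (D f)

variable {Γ : ℕ → Subgroup G}

theorem Pol.mem {k d : ℕ} {f : ℕ → G} (h : Pol Γ k d f) (n : ℕ) : f n ∈ Γ d := by
  cases k with
  | zero => exact h n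
  | succ k => exact h.1 n

theorem Pol.of_succ {k : ℕ} : ∀ {d : ℕ} {f : ℕ → G}, Pol Γ (k + 1) d f → Pol Γ k d f := by
  induction k with
  | zero => intro d f h; exact h.1
  | succ k ih => intro d f h; exact ⟨h.1, ih h.2⟩

theorem Pol.mono_le (hΓ : IsNSeries Γ) {k : ℕ} :
    ∀ {d d' : ℕ} {f : ℕ → G}, d ≤ d' → Pol Γ k d' f → Pol Γ k d f := by
  induction k with
  | zero => intro d d' f hle h n; exact hΓ.antitone hle (h n)
  | succ k ih =>
    intro d d' f hle h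
    exact ⟨fun n => hΓ.antitone hle (h.1 n), ih (Nat.succ_le_succ hle) h.2⟩

theorem D_one : D (1 : ℕ → G) = 1 := by
  funext n; simp [D]

theorem D_mul (f g : ℕ → G) : D (f * g) = D f * ⁅(D f)⁻¹, g⁻¹⁆ * D g := by
  funext n
  simp only [D, Pi.mul_apply, Pi.inv_apply, commutatorElement_def]
  group

theorem D_inv (f : ℕ → G) : D f⁻¹ = ⁅f, (D f)⁻¹⁆ * (D f)⁻¹ := by
  funext n
  simp only [D, Pi.mul_apply, Pi.inv_apply, commutatorElement_def]
  group

theorem D_comm (f g : ℕ → G) :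
    D ⁅f, g⁆ = ⁅f, g⁆⁻¹ * (f * (⁅D f, g⁆ * (g * ⁅D f, D g⁆ * g⁻¹)) * f⁻¹) * ⁅f, g⁆ *
      (g * ⁅f, D g⁆ * g⁻¹) := by
  funext n
  simp only [D, Pi.mul_apply, Pi.inv_apply, commutatorElement_def]
  group

/-- The closure properties of `Pol Γ k`, proved simultaneously by induction on `k`. -/
structure Q (Γ : ℕ → Subgroup G) (k : ℕ) : Prop where
  one : ∀ d, Pol Γ k d (1 : ℕ → G)
  mul : ∀ d (f g : ℕ → G), Pol Γ k d f → Pol Γ k d g → Pol Γ k d (f * g)
  inv : ∀ d (f : ℕ → G), Pol Γ k d f → Pol Γ k d f⁻¹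
  comm : ∀ i j (f g : ℕ → G), Pol Γ k i f → Pol Γ k j g → Pol Γ k (i + j) ⁅f, g⁆

theorem Q.conj (hΓ : IsNSeries Γ) {k : ℕ} (hQ : Q Γ k) {e e' : ℕ} {h u : ℕ → G}
    (hh : Pol Γ k e' h) (hu : Pol Γ k e u) : Pol Γ k e (h * u * h⁻¹) := by
  have : h * u * h⁻¹ = ⁅h, u⁆ * u := by
    rw [commutatorElement_def]; group
  rw [this]
  exact hQ.mul e _ _ (Pol.mono_le hΓ (by omega) (hQ.comm e' e h u hh hu)) hu

theorem Q.conj' (hΓ : IsNSeries Γ) {k : ℕ} (hQ : Q Γ k) {e e' : ℕ} {h u : ℕ → G}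
    (hh : Pol Γ k e' h) (hu : Pol Γ k e u) : Pol Γ k e (h⁻¹ * u * h) := by
  have := Q.conj hΓ hQ (hQ.inv e' h hh) hu
  rwa [inv_inv] at this

theorem Q_zero (hΓ : IsNSeries Γ) : Q Γ 0 where
  one := fun d n => one_mem _
  mul := fun d f g hf hg n => mul_mem (hf n) (hg n)
  inv := fun d f hf n => inv_mem (hf n)
  comm := fun i j f g hf hg n =>
    hΓ.comm i j (Subgroup.commutator_mem_commutator (hf n) (hg n))

theorem Q_succ (hΓ : IsNSeries Γ) {k : ℕ} (hQ : Q Γ k) : Q Γ (k + 1) where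
  one := fun d => ⟨fun n => one_mem _, by rw [D_one]; exact hQ.one (d + 1)⟩
  mul := by
    intro d f g hf hg
    refine ⟨fun n => mul_mem (hf.1 n) (hg.1 n), ?_⟩
    rw [D_mul]
    refine hQ.mul _ _ _ (hQ.mul _ _ _ hf.2 ?_) hg.2
    exact Pol.mono_le hΓ (by omega)
      (hQ.comm (d + 1) d _ _ (hQ.inv _ _ hf.2) (hQ.inv _ _ hg.of_succ))
  inv := by
    intro d f hf
    refine ⟨fun n => inv_mem (hf.1 n), ?_⟩
    rw [D_inv]
    refine hQ.mul _ _ _ ?_ (hQ.inv _ _ hf.2)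
    exact Pol.mono_le hΓ (by omega) (hQ.comm d (d + 1) _ _ hf.of_succ (hQ.inv _ _ hf.2))
  comm := by
    intro i j f g hf hg
    refine ⟨fun n => hΓ.comm i j (Subgroup.commutator_mem_commutator (hf.1 n) (hg.1 n)), ?_⟩
    rw [D_comm]
    have hf0 := hf.of_succ
    have hg0 := hg.of_succ
    have hc : Pol Γ k (i + j) ⁅f, g⁆ := hQ.comm i j f g hf0 hg0
    have h1 : Pol Γ k (i + j + 1) ⁅D f, g⁆ :=
      Pol.mono_le hΓ (by omega) (hQ.comm (i + 1) j _ _ hf.2 hg0)
    have h2 : Pol Γ k (i + j + 1) ⁅D f, D g⁆ :=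
      Pol.mono_le hΓ (by omega) (hQ.comm (i + 1) (j + 1) _ _ hf.2 hg.2)
    have h3 : Pol Γ k (i + j + 1) ⁅f, D g⁆ :=
      Pol.mono_le hΓ (by omega) (hQ.comm i (j + 1) _ _ hf0 hg.2)
    have h4 : Pol Γ k (i + j + 1) (g * ⁅D f, D g⁆ * g⁻¹) := Q.conj hΓ hQ hg0 h2
    have h5 : Pol Γ k (i + j + 1) (f * (⁅D f, g⁆ * (g * ⁅D f, D g⁆ * g⁻¹)) * f⁻¹) :=
      Q.conj hΓ hQ hf0 (hQ.mul _ _ _ h1 h4)
    have h6 := Q.conj' hΓ hQ hc h5
    have h7 : Pol Γ k (i + j + 1) (g * ⁅f, D g⁆ * g⁻¹) := Q.conj hΓ hQ hg0 h3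
    exact hQ.mul _ _ _ h6 h7

theorem Q_all (hΓ : IsNSeries Γ) (k : ℕ) : Q Γ k := by
  induction k with
  | zero => exact Q_zero hΓ
  | succ k ih => exact Q_succ hΓ ih

/-- The binomial sequence `n ↦ g ^ (n.choose m)`. -/
def B (g : G) (m : ℕ) : ℕ → G := fun n => g ^ (n.choose m)

theorem D_B_zero (g : G) : D (B g 0) = 1 := by
  funext n; simp [D, B]

theorem D_B_succ (g : G) (m : ℕ) : D (B g (m + 1)) = B g m := by
  funext n
  simp only [D, B]
  have : (n + 1).choose (m + 1) = n.choose (m + 1) + n.choose m := by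
    rw [Nat.choose_succ_succ, add_comm]
  rw [this, pow_add, inv_mul_cancel_left]

theorem pol_B (hΓ : IsNSeries Γ) (k : ℕ) :
    ∀ (d m : ℕ) (g : G), g ∈ Γ (d + m) → Pol Γ k d (B g m) := by
  induction k with
  | zero =>
    intro d m g hg n
    exact pow_mem (hΓ.antitone (by omega) hg) _
  | succ k ih =>
    intro d m g hg
    refine ⟨fun n => pow_mem (hΓ.antitone (by omega) hg) _, ?_⟩
    cases m with
    | zero => rw [D_B_zero]; exact (Q_all hΓ k).one _
    | succ m =>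
      rw [D_B_succ]
      exact ih (d + 1) m g (by rwa [show d + 1 + m = d + (m + 1) by omega])

/-- `h` is trivial below `m`. -/
def Vanish (m : ℕ) (h : ℕ → G) : Prop := ∀ n < m, h n = 1

theorem Vanish.diff {m : ℕ} {h : ℕ → G} (hv : Vanish (m + 1) h) : Vanish m (D h) := by
  intro n hn
  simp only [PolySeq.D]
  rw [hv n (by omega), hv (n + 1) (by omega)]
  simp

theorem Vanish.diff_apply {m : ℕ} {h : ℕ → G} (hv : Vanish (m + 1) h) : D h m = h (m + 1) := by
  simp only [PolySeq.D]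
  rw [hv m (by omega)]
  simp

theorem peel (m : ℕ) : ∀ (d : ℕ) (h : ℕ → G), (∀ k, Pol Γ k d h) → Vanish m h →
    h m ∈ Γ (d + m) := by
  induction m with
  | zero => intro d h hp _; exact hp 0 0
  | succ m ih =>
    intro d h hp hv
    have := ih (d + 1) (D h) (fun k => (hp (k + 1)).2) hv.diff
    rw [hv.diff_apply] at this
    rwa [show d + 1 + m = d + (m + 1) by omega] at this

/-- The subgroup generated by the `g ^ (n.choose i)` with `g ∈ Γ i`, `i ≥ m`. -/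
def W (Γ : ℕ → Subgroup G) (m n : ℕ) : Subgroup G :=
  Subgroup.closure {y : G | ∃ i, m ≤ i ∧ ∃ g ∈ Γ i, y = g ^ (n.choose i)}

theorem W_anti (Γ : ℕ → Subgroup G) {m m' : ℕ} (h : m ≤ m') (n : ℕ) : W Γ m' n ≤ W Γ m n := by
  apply Subgroup.closure_mono
  rintro y ⟨i, hi, g, hg, rfl⟩
  exact ⟨i, h.trans hi, g, hg, rfl⟩

theorem expansion (hΓ : IsNSeries Γ) {c : ℕ} (hc : Γ (c + 1) = ⊥) (t : ℕ) :
    ∀ (m : ℕ) (h : ℕ → G), c + 1 ≤ m + t → (∀ k, Pol Γ k 0 h) → Vanish m h →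
      ∀ n, h n ∈ W Γ m n := by
  induction t with
  | zero =>
    intro m h hm hp hv n
    have key : ∀ n, h n = 1 := by
      intro n
      induction n using Nat.strong_induction_on with
      | _ n ihn =>
        by_cases hn : n < m
        · exact hv n hn
        · have h1 : h n ∈ Γ (0 + n) := peel n 0 h hp ihn
          have h2 : Γ (0 + n) ≤ Γ (c + 1) := hΓ.antitone (by omega)
          have h3 := h2 h1
          rw [hc] at h3
          exact (Subgroup.mem_bot).1 h3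
    rw [key n]; exact one_mem _
  | succ t ih =>
    intro m h hm hp hv n
    have hg : h m ∈ Γ (0 + m) := peel m 0 h hp hv
    set g := h m with hgdef
    have hp' : ∀ k, Pol Γ k 0 ((B g m)⁻¹ * h) := fun k =>
      (Q_all hΓ k).mul _ _ _ ((Q_all hΓ k).inv _ _ (pol_B hΓ k 0 m g hg)) (hp k)
    have hv' : Vanish (m + 1) ((B g m)⁻¹ * h) := by
      intro n hn
      simp only [Pi.mul_apply, Pi.inv_apply, B]
      rcases Nat.lt_succ_iff_lt_or_eq.1 hn with h1 | h1
      · rw [Nat.choose_eq_zero_of_lt h1, hv n h1]; simp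
      · rw [h1, Nat.choose_self, pow_one, hgdef]; simp
    have h1 := ih (m + 1) _ (by omega) hp' hv' n
    have h2 : h n = g ^ (n.choose m) * ((B g m)⁻¹ * h) n := by
      simp only [Pi.mul_apply, Pi.inv_apply, B]; group
    rw [h2]
    refine mul_mem (Subgroup.subset_closure ⟨m, le_rfl, g, ?_, rfl⟩) (W_anti Γ (by omega) n h1)
    simpa using hg

/-- Weak Hall–Petrescu formula. -/
theorem hall_petrescu (hΓ : IsNSeries Γ) (h1 : Γ 1 = ⊤) {c : ℕ} (hc : Γ (c + 1) = ⊥)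
    (x y : G) (n : ℕ) : ∃ w ∈ W Γ 2 n, (x * y) ^ n = x ^ n * y ^ n * w := by
  have hB : ∀ (z : G) (k : ℕ), Pol Γ k 0 (B z 1) := fun z k =>
    pol_B hΓ k 0 1 z (by rw [h1]; exact Subgroup.mem_top z)
  have hp : ∀ k, Pol Γ k 0 ((B (x * y) 1)⁻¹ * B x 1 * B y 1) := fun k =>
    (Q_all hΓ k).mul _ _ _ ((Q_all hΓ k).mul _ _ _ ((Q_all hΓ k).inv _ _ (hB _ k)) (hB _ k)) (hB _ k)
  have hv : Vanish 2 ((B (x * y) 1)⁻¹ * B x 1 * B y 1) := by
    intro n hn
    simp only [Pi.mul_apply, Pi.inv_apply, B, Nat.choose_one_right]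
    interval_cases n
    · simp
    · simp
  have := expansion hΓ hc (c + 1) 2 _ (by omega) hp hv n
  refine ⟨_, inv_mem this, ?_⟩
  simp only [Pi.mul_apply, Pi.inv_apply, B, Nat.choose_one_right]
  group

/-! ### The lower central series as an `N`-series -/

/-- Three subgroups lemma modulo a normal subgroup `N` (as in helper19's `HallComm`). -/
theorem three_subgroups_mod (N : Subgroup G) [N.Normal] {H₁ H₂ H₃ : Subgroup G}
    (h1 : ⁅⁅H₂, H₃⁆, H₁⁆ ≤ N) (h2 : ⁅⁅H₃, H₁⁆, H₂⁆ ≤ N) : ⁅⁅H₁, H₂⁆, H₃⁆ ≤ N := by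
  have key : ∀ A B C : Subgroup G, ⁅⁅A, B⁆, C⁆ ≤ N ↔
      ⁅⁅A.map (QuotientGroup.mk' N), B.map (QuotientGroup.mk' N)⁆,
        C.map (QuotientGroup.mk' N)⁆ = ⊥ := by
    intro A B C
    rw [← Subgroup.map_commutator, ← Subgroup.map_commutator, Subgroup.map_eq_bot_iff,
      QuotientGroup.ker_mk']
  rw [key] at h1 h2 ⊢
  exact Subgroup.commutator_commutator_eq_bot_of_rotate h1 h2

/-- `[γ_{i+1}, γ_{j+1}] ≤ γ_{i+j+2}` (with Mathlib's indexing from `0`). -/
theorem commutator_lcs_le (j : ℕ) : ∀ i : ℕ,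
    ⁅(⊤ : Subgroup G).lowerCentralSeries i, (⊤ : Subgroup G).lowerCentralSeries j⁆ ≤
      (⊤ : Subgroup G).lowerCentralSeries (i + j + 1) := by
  induction j with
  | zero => intro i; exact le_rfl
  | succ j ih =>
    intro i
    rw [Subgroup.lowerCentralSeries_succ _ j, Subgroup.commutator_comm]
    apply three_subgroups_mod
    · rw [Subgroup.commutator_comm ⊤, ← Subgroup.lowerCentralSeries_succ]
      have := ih (i + 1)
      rwa [show i + 1 + j + 1 = i + (j + 1) + 1 by omega] at this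
    · have h1 : ⁅⁅(⊤ : Subgroup G).lowerCentralSeries i, (⊤ : Subgroup G).lowerCentralSeries j⁆,
          (⊤ : Subgroup G)⁆ ≤ ⁅(⊤ : Subgroup G).lowerCentralSeries (i + j + 1), ⊤⁆ :=
        Subgroup.commutator_mono (ih i) le_rfl
      rwa [← Subgroup.lowerCentralSeries_succ] at h1

/-- The lower central series, shifted so that `Γ 0 = Γ 1 = G`, `Γ 2 = G'`, … -/
def lcsΓ (G : Type*) [Group G] : ℕ → Subgroup G :=
  fun i => (⊤ : Subgroup G).lowerCentralSeries (i - 1)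

theorem isNSeries_lcsΓ : IsNSeries (lcsΓ G) where
  normal := fun i => by unfold lcsΓ; infer_instance
  anti := fun i => Subgroup.lowerCentralSeries_antitone _ (by omega)
  comm := by
    intro i j
    unfold lcsΓ
    rcases Nat.eq_zero_or_pos i with hi | hi
    · subst hi
      simp only [Nat.zero_sub, Subgroup.lowerCentralSeries_zero, zero_add]
      exact Subgroup.commutator_le_right _ _
    rcases Nat.eq_zero_or_pos j with hj | hj
    · subst hj
      simp only [Nat.zero_sub, Subgroup.lowerCentralSeries_zero, add_zero]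
      exact Subgroup.commutator_le_left _ _
    have := commutator_lcs_le (G := G) (j - 1) (i - 1)
    rwa [show i - 1 + (j - 1) + 1 = i + j - 1 by omega] at this

theorem prime_pow_dvd_choose {p : ℕ} (hp : p.Prime) (k i : ℕ) (hi0 : 0 < i) (hip : i < p) :
    p ^ k ∣ (p ^ k).choose i := by
  have hN : 0 < p ^ k := pow_pos hp.pos k
  obtain ⟨N, hN'⟩ : ∃ N, p ^ k = N + 1 := ⟨p ^ k - 1, by omega⟩
  obtain ⟨i', rfl⟩ : ∃ i', i = i' + 1 := ⟨i - 1, by omega⟩
  have h1 := Nat.add_one_mul_choose_eq N i'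
  have hcop : Nat.Coprime (p ^ k) (i' + 1) :=
    Nat.Coprime.pow_left k ((Nat.Prime.coprime_iff_not_dvd hp).2
      (Nat.not_dvd_of_pos_of_lt hi0 hip))
  apply hcop.dvd_of_dvd_mul_right
  rw [hN']
  exact ⟨N.choose i', h1.symm⟩

theorem W_le_powerClosure {p : ℕ} (hp : p.Prime) (hΓ : IsNSeries Γ) (hp' : Γ p = ⊥) (k : ℕ) :
    W Γ 2 (p ^ k) ≤ Subgroup.closure {y : G | ∃ x ∈ Γ 2, y = x ^ (p ^ k)} := by
  unfold W
  rw [Subgroup.closure_le]
  rintro y ⟨i, hi, g, hg, rfl⟩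
  by_cases hip : p ≤ i
  · have : g ∈ Γ p := hΓ.antitone hip hg
    rw [hp', Subgroup.mem_bot] at this
    rw [this, one_pow]
    exact one_mem _
  · obtain ⟨t, ht⟩ := prime_pow_dvd_choose hp k i (by omega) (by omega)
    rw [ht, mul_comm, pow_mul]
    exact Subgroup.subset_closure ⟨g ^ t, pow_mem (hΓ.antitone hi hg) _, rfl⟩

/-- In a group of class less than `p`: `(x y)^(p^k) = x^(p^k) y^(p^k) c` with `c` a product of
`p^k`-th powers of elements of the derived subgroup. -/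
theorem regular_formula {p : ℕ} (hp : p.Prime)
    (hcl : (⊤ : Subgroup G).lowerCentralSeries (p - 1) = ⊥) (x y : G) (k : ℕ) :
    ∃ c ∈ Subgroup.closure {z : G | ∃ u ∈ commutator G, z = u ^ (p ^ k)},
      (x * y) ^ (p ^ k) = x ^ (p ^ k) * y ^ (p ^ k) * c := by
  have hΓ : IsNSeries (lcsΓ G) := isNSeries_lcsΓ
  have h1 : lcsΓ G 1 = ⊤ := rfl
  have hc : lcsΓ G (p - 1 + 1) = ⊥ := by
    unfold lcsΓ; simpa using hcl
  have hp' : lcsΓ G p = ⊥ := by
    rwa [show p - 1 + 1 = p from Nat.sub_add_cancel hp.pos] at hc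
  obtain ⟨w, hw, heq⟩ := hall_petrescu hΓ h1 hc x y (p ^ k)
  exact ⟨w, W_le_powerClosure hp hΓ hp' k hw, heq⟩

end Cfsg.Agent.Lib.H9.PolySeq
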