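import Mathlib

set_option autoImplicit false

/-!
# Derived length: general lemmas

`dser H j` is the `j`-th term of the derived series of the subgroup `H`, as a subgroup of the
ambient group.  We prove bounds for extensions (`derivedSeries_sup_eq_bot`), direct powers, and a
lower bound for "wreath products with a group of order two on top" (`swap_ne_bot`).
-/

namespace Cfsg.Agent.Lib.H9.DerLen

open scoped commutatorElement

variable {G : Type*} [Group G]

/-- derived series of a subgroup, inside the ambient group -/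
def dser (H : Subgroup G) : ℕ → Subgroup G
  | 0 => H
  | (j + 1) => ⁅dser H j, dser H j⁆

theorem dser_zero (H : Subgroup G) : dser H 0 = H := rfl

theorem dser_succ (H : Subgroup G) (j : ℕ) : dser H (j + 1) = ⁅dser H j, dser H j⁆ := rfl

theorem dser_eq_map (H : Subgroup G) (j : ℕ) :
    dser H j = (derivedSeries ↥H j).map H.subtype := by
  induction j with
  | zero =>
    rw [dser_zero, derivedSeries_zero, ← MonoidHom.range_eq_map, Subgroup.range_subtype]
  | succ j ih =>
    rw [dser_succ, ih, derivedSeries_succ, Subgroup.map_commutator]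

theorem dser_mono {H K : Subgroup G} (h : H ≤ K) (j : ℕ) : dser H j ≤ dser K j := by
  induction j with
  | zero => exact h
  | succ j ih => exact Subgroup.commutator_mono ih ih

theorem dser_le (H : Subgroup G) (j : ℕ) : dser H j ≤ H := by
  rw [dser_eq_map]
  exact Subgroup.map_subtype_le _

theorem dser_eq_bot_iff (H : Subgroup G) (j : ℕ) :
    dser H j = ⊥ ↔ derivedSeries ↥H j = ⊥ := by
  rw [dser_eq_map]
  exact Subgroup.map_eq_bot_iff_of_injective _ H.subtype_injective

theorem dser_map {G' : Type*} [Group G'] (f : G →* G') (H : Subgroup G) (j : ℕ) :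
    dser (H.map f) j = (dser H j).map f := by
  induction j with
  | zero => rfl
  | succ j ih => rw [dser_succ, ih, dser_succ, Subgroup.map_commutator]

theorem derivedSeries_eq_bot_of_injective {H K : Type*} [Group H] [Group K] (f : H →* K)
    (hf : Function.Injective f) (j : ℕ) (h : derivedSeries K j = ⊥) :
    derivedSeries H j = ⊥ := by
  have h1 := map_derivedSeries_le_derivedSeries f j
  rw [h, le_bot_iff, Subgroup.map_eq_bot_iff_of_injective _ hf] at h1
  exact h1

theorem derivedSeries_eq_bot_of_surjective {H K : Type*} [Group H] [Group K] (f : H →* K)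
    (hf : Function.Surjective f) (j : ℕ) (h : derivedSeries H j = ⊥) :
    derivedSeries K j = ⊥ := by
  rw [← map_derivedSeries_eq hf, h, Subgroup.map_bot]

theorem derivedSeries_eq_bot_of_mulEquiv {H K : Type*} [Group H] [Group K] (e : H ≃* K)
    (j : ℕ) (h : derivedSeries H j = ⊥) : derivedSeries K j = ⊥ :=
  derivedSeries_eq_bot_of_surjective e.toMonoidHom e.surjective j h

theorem derivedSeries_eq_bot_mono {H : Type*} [Group H] {a b : ℕ} (hab : a ≤ b)
    (h : derivedSeries H a = ⊥) : derivedSeries H b = ⊥ := by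
  have := derivedSeries_antitone (G := H) hab
  rw [h, le_bot_iff] at this
  exact this

/-- if the `a`-th derived subgroup lies in `H`, and `H` has derived length `≤ b`, then the group
has derived length `≤ a + b`. -/
theorem derivedSeries_add_eq_bot {K : Type*} [Group K] (H : Subgroup K) (a b : ℕ)
    (h1 : derivedSeries K a ≤ H) (h2 : derivedSeries ↥H b = ⊥) :
    derivedSeries K (a + b) = ⊥ := by
  have key : ∀ j, derivedSeries K (a + j) ≤ (derivedSeries ↥H j).map H.subtype := by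
    intro j
    induction j with
    | zero =>
      rw [derivedSeries_zero, ← MonoidHom.range_eq_map, Subgroup.range_subtype]
      exact h1
    | succ j ih =>
      rw [← add_assoc, derivedSeries_succ, derivedSeries_succ, Subgroup.map_commutator]
      exact Subgroup.commutator_mono ih ih
  have := key b
  rw [h2, Subgroup.map_bot, le_bot_iff] at this
  exact this

/-- extension lemma -/
theorem derivedSeries_ext_eq_bot {K : Type*} [Group K] (B N : Subgroup K) [hN : N.Normal]
    (hBN : B ⊔ N = ⊤) (a b : ℕ) (h1 : derivedSeries ↥B a = ⊥) (h2 : derivedSeries ↥N b = ⊥) :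
    derivedSeries K (a + b) = ⊥ := by
  apply derivedSeries_add_eq_bot N a b _ h2
  let q : K →* K ⧸ N := QuotientGroup.mk' N
  have hsurj : Function.Surjective (q.comp B.subtype) := by
    rw [← MonoidHom.range_eq_top, MonoidHom.range_eq_map, ← Subgroup.map_map,
      ← MonoidHom.range_eq_map, Subgroup.range_subtype]
    have h3 : (B ⊔ N).map q = ⊤ := by
      rw [hBN, ← MonoidHom.range_eq_map, MonoidHom.range_eq_top]
      exact QuotientGroup.mk'_surjective N
    rw [Subgroup.map_sup] at h3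
    have h4 : N.map q = ⊥ := by
      rw [Subgroup.map_eq_bot_iff, QuotientGroup.ker_mk']
    rw [h4, sup_bot_eq] at h3
    exact h3
  have h5 : derivedSeries (K ⧸ N) a = ⊥ :=
    derivedSeries_eq_bot_of_surjective _ hsurj a h1
  have h6 := map_derivedSeries_le_derivedSeries q a
  rw [h5, le_bot_iff, Subgroup.map_eq_bot_iff, QuotientGroup.ker_mk'] at h6
  exact h6

/-- derived length of `A ⊔ N` when `A` normalizes `N` -/
theorem derivedSeries_sup_eq_bot (A N : Subgroup G)
    (hAN : A ≤ Subgroup.normalizer (N : Set G)) (a b : ℕ)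
    (h1 : derivedSeries ↥A a = ⊥) (h2 : derivedSeries ↥N b = ⊥) :
    derivedSeries ↥(A ⊔ N) (a + b) = ⊥ := by
  have hA : A ≤ A ⊔ N := le_sup_left
  have hN : N ≤ A ⊔ N := le_sup_right
  have hnorm : (N.subgroupOf (A ⊔ N)).Normal :=
    Subgroup.normal_subgroupOf_sup_of_le_normalizer hAN
  have htop : A.subgroupOf (A ⊔ N) ⊔ N.subgroupOf (A ⊔ N) = ⊤ := by
    rw [← Subgroup.subgroupOf_sup hA hN, Subgroup.subgroupOf_self]
  apply derivedSeries_ext_eq_bot (A.subgroupOf (A ⊔ N)) (N.subgroupOf (A ⊔ N)) htop a b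
  · exact derivedSeries_eq_bot_of_mulEquiv (Subgroup.subgroupOfEquivOfLe hA).symm a h1
  · exact derivedSeries_eq_bot_of_mulEquiv (Subgroup.subgroupOfEquivOfLe hN).symm b h2

/-- direct powers -/
theorem derivedSeries_pi_eq_bot {ι : Type*} {A : Type*} [Group A] (Q : Subgroup A) (b : ℕ)
    (h : derivedSeries ↥Q b = ⊥) :
    derivedSeries ↥(Subgroup.pi Set.univ fun _ : ι => Q) b = ⊥ := by
  let f : ↥(Subgroup.pi Set.univ fun _ : ι => Q) →* (ι → ↥Q) :=
    { toFun := fun x i => ⟨x.1 i, x.2 i (Set.mem_univ i)⟩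
      map_one' := rfl
      map_mul' := fun _ _ => rfl }
  have hf : Function.Injective f := by
    intro x y hxy
    apply Subtype.ext
    funext i
    exact congrArg Subtype.val (congrFun hxy i)
  apply derivedSeries_eq_bot_of_injective f hf
  rw [eq_bot_iff]
  intro x hx
  rw [Subgroup.mem_bot]
  funext i
  have h1 := map_derivedSeries_le_derivedSeries (Pi.evalMonoidHom (fun _ : ι => ↥Q) i) b
  rw [h, le_bot_iff] at h1
  have h2 : Pi.evalMonoidHom (fun _ : ι => ↥Q) i x ∈
      (derivedSeries (ι → ↥Q) b).map (Pi.evalMonoidHom (fun _ : ι => ↥Q) i) :=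
    Subgroup.mem_map_of_mem _ hx
  rw [h1, Subgroup.mem_bot] at h2
  exact h2

theorem comm_aux (x1 x2 w1 w2 : G) (c11 : x1 * w1 = w1 * x1) (c12 : x1 * w2 = w2 * x1)
    (c21 : x2 * w1 = w1 * x2) (c22 : x2 * w2 = w2 * x2) :
    ⁅x1, x2⁆ * ⁅w1, w2⁆ = ⁅x1 * w1, x2 * w2⁆ := by
  have h11 : Commute x1 w1 := c11
  have h12 : Commute x1 w2 := c12
  have h21 : Commute x2 w1 := c21
  have h22 : Commute x2 w2 := c22
  have k1 : w1 * x2 = x2 * w1 := h21.symm.eq
  have k2 : w1⁻¹ * x1⁻¹ = x1⁻¹ * w1⁻¹ := h11.inv_inv.symm.eq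
  have k3 : w2⁻¹ * x2⁻¹ = x2⁻¹ * w2⁻¹ := h22.inv_inv.symm.eq
  have k4 : w2 * x1⁻¹ = x1⁻¹ * w2 := h12.inv_left.symm.eq
  have k5 : w1 * x1⁻¹ = x1⁻¹ * w1 := h11.inv_left.symm.eq
  have k6 : w1⁻¹ * x2⁻¹ = x2⁻¹ * w1⁻¹ := h21.inv_inv.symm.eq
  have k7 : w2 * x2⁻¹ = x2⁻¹ * w2 := h22.inv_left.symm.eq
  have k8 : w1 * x2⁻¹ = x2⁻¹ * w1 := h21.inv_left.symm.eq
  rw [commutatorElement_def, commutatorElement_def, commutatorElement_def]
  calc x1 * x2 * x1⁻¹ * x2⁻¹ * (w1 * w2 * w1⁻¹ * w2⁻¹)
      = x1 * x2 * x1⁻¹ * (x2⁻¹ * w1) * w2 * w1⁻¹ * w2⁻¹ := by group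
    _ = x1 * x2 * x1⁻¹ * (w1 * x2⁻¹) * w2 * w1⁻¹ * w2⁻¹ := by rw [k8]
    _ = x1 * x2 * (x1⁻¹ * w1) * (x2⁻¹ * w2) * w1⁻¹ * w2⁻¹ := by group
    _ = x1 * x2 * (w1 * x1⁻¹) * (w2 * x2⁻¹) * w1⁻¹ * w2⁻¹ := by rw [k5, k7]
    _ = x1 * (x2 * w1) * (x1⁻¹ * w2) * (x2⁻¹ * w1⁻¹) * w2⁻¹ := by group
    _ = x1 * (w1 * x2) * (w2 * x1⁻¹) * (w1⁻¹ * x2⁻¹) * w2⁻¹ := by rw [k1, k4, k6]
    _ = x1 * w1 * (x2 * w2) * (x1⁻¹ * w1⁻¹) * (x2⁻¹ * w2⁻¹) := by group
    _ = x1 * w1 * (x2 * w2) * (w1⁻¹ * x1⁻¹) * (w2⁻¹ * x2⁻¹) := by rw [k2, k3]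
    _ = x1 * w1 * (x2 * w2) * (x1 * w1)⁻¹ * (x2 * w2)⁻¹ := by rw [mul_inv_rev, mul_inv_rev]

/-- **Swap lemma.** If `L` commutes elementwise with its conjugate `s L s⁻¹` and meets it
trivially, then any subgroup `K` containing `L` and `s` has derived length larger than that of
`L`. -/
theorem swap_ne_bot (L K : Subgroup G) (s : G) (hLK : L ≤ K) (hs : s ∈ K)
    (hcomm : ∀ x ∈ L, ∀ y ∈ L, x * (s * y * s⁻¹) = (s * y * s⁻¹) * x)
    (hdisj : ∀ x ∈ L, ∀ y ∈ L, x * (s * y * s⁻¹) = 1 → x = 1) (j : ℕ)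
    (h : dser L j ≠ ⊥) : dser K (j + 1) ≠ ⊥ := by
  have key : ∀ j, ∀ x ∈ dser L j, ∃ y ∈ L, x * (s * y * s⁻¹) ∈ dser K (j + 1) := by
    intro j
    induction j with
    | zero =>
      intro x hx
      rw [dser_zero] at hx
      refine ⟨x⁻¹, inv_mem hx, ?_⟩
      have h1 : x * (s * x⁻¹ * s⁻¹) = ⁅x, s⁆ := by
        rw [commutatorElement_def]; group
      rw [h1, dser_succ, dser_zero]
      exact Subgroup.commutator_mem_commutator (hLK hx) hs
    | succ j ih =>
      intro x hx
      rw [dser_succ, Subgroup.commutator_def] at hx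
      induction hx using Subgroup.closure_induction with
      | mem x hx =>
        obtain ⟨x1, hx1, x2, hx2, rfl⟩ := hx
        obtain ⟨y1, hy1, hz1⟩ := ih x1 hx1
        obtain ⟨y2, hy2, hz2⟩ := ih x2 hx2
        refine ⟨⁅y1, y2⁆, ?_, ?_⟩
        · rw [commutatorElement_def]
          exact mul_mem (mul_mem (mul_mem hy1 hy2) (inv_mem hy1)) (inv_mem hy2)
        · have hx1L := dser_le L j hx1
          have hx2L := dser_le L j hx2
          have e : ⁅x1, x2⁆ * (s * ⁅y1, y2⁆ * s⁻¹) =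
              ⁅x1 * (s * y1 * s⁻¹), x2 * (s * y2 * s⁻¹)⁆ := by
            set w1 := s * y1 * s⁻¹ with hw1
            set w2 := s * y2 * s⁻¹ with hw2
            have e1 : s * ⁅y1, y2⁆ * s⁻¹ = ⁅w1, w2⁆ := by
              rw [commutatorElement_def, commutatorElement_def, hw1, hw2]; group
            rw [e1]
            exact comm_aux x1 x2 w1 w2 (hcomm x1 hx1L y1 hy1) (hcomm x1 hx1L y2 hy2)
              (hcomm x2 hx2L y1 hy1) (hcomm x2 hx2L y2 hy2)
          rw [e, dser_succ]
          exact Subgroup.commutator_mem_commutator hz1 hz2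
      | one =>
        refine ⟨1, one_mem _, ?_⟩
        simp
      | mul x x' hx hx' ihx ihx' =>
        obtain ⟨y, hy, hz⟩ := ihx
        obtain ⟨y', hy', hz'⟩ := ihx'
        refine ⟨y * y', mul_mem hy hy', ?_⟩
        have hx'L : x' ∈ L := by
          have : x' ∈ dser L (j + 1) := by
            rw [dser_succ, Subgroup.commutator_def]; exact hx'
          exact dser_le L _ this
        have c := hcomm x' hx'L y hy
        have e : x * x' * (s * (y * y') * s⁻¹) = x * (s * y * s⁻¹) * (x' * (s * y' * s⁻¹)) := by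
          calc x * x' * (s * (y * y') * s⁻¹) = x * (x' * (s * y * s⁻¹)) * (s * y' * s⁻¹) := by group
            _ = x * ((s * y * s⁻¹) * x') * (s * y' * s⁻¹) := by rw [c]
            _ = x * (s * y * s⁻¹) * (x' * (s * y' * s⁻¹)) := by group
        rw [e]
        exact mul_mem hz hz'
      | inv x hx ihx =>
        obtain ⟨y, hy, hz⟩ := ihx
        refine ⟨y⁻¹, inv_mem hy, ?_⟩
        have hxL : x ∈ L := by
          have : x ∈ dser L (j + 1) := by
            rw [dser_succ, Subgroup.commutator_def]; exact hx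
          exact dser_le L _ this
        have c := hcomm x hxL y hy
        have e : x⁻¹ * (s * y⁻¹ * s⁻¹) = (x * (s * y * s⁻¹))⁻¹ := by
          rw [c]; group
        rw [e]
        exact inv_mem hz
  intro hbot
  apply h
  rw [eq_bot_iff]
  intro x hx
  rw [Subgroup.mem_bot]
  obtain ⟨y, hy, hz⟩ := key j x hx
  rw [hbot, Subgroup.mem_bot] at hz
  exact hdisj x (dser_le L j hx) y hy hz

end Cfsg.Agent.Lib.H9.DerLen
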