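import Mathlib

set_option autoImplicit false

/-!
# Subgroups all of whose squares are commutators

`SqComm H`: every `g ∈ H` has `g ^ 2 ∈ ⁅H, H⁆`, that is `H / H'` is elementary abelian of
exponent two.  The property passes to joins and images, and may be checked on generators.
-/

namespace Cfsg.Agent.Lib.H9.SqC

open scoped commutatorElement

variable {G : Type*} [Group G]

def SqComm (H : Subgroup G) : Prop := ∀ g ∈ H, g ^ 2 ∈ ⁅H, H⁆

theorem sqComm_of_closure {H : Subgroup G} (S : Set G) (hS : Subgroup.closure S = H)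
    (h : ∀ s ∈ S, s ^ 2 ∈ ⁅H, H⁆) : SqComm H := by
  intro g hg
  rw [← hS] at hg
  have key : g ∈ H ∧ g ^ 2 ∈ ⁅H, H⁆ := by
    induction hg using Subgroup.closure_induction with
    | mem x hx =>
      refine ⟨?_, h x hx⟩
      rw [← hS]
      exact Subgroup.subset_closure hx
    | one => exact ⟨one_mem _, by simp⟩
    | mul x y _ _ hx hy =>
      refine ⟨mul_mem hx.1 hy.1, ?_⟩
      have h1 : (x * y) ^ 2 = x ^ 2 * ⁅x⁻¹, y⁆ * y ^ 2 := by
        rw [commutatorElement_def, pow_two, pow_two, pow_two]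
        group
      rw [h1]
      exact mul_mem (mul_mem hx.2 (Subgroup.commutator_mem_commutator (inv_mem hx.1) hy.1)) hy.2
    | inv x _ hx =>
      refine ⟨inv_mem hx.1, ?_⟩
      have h1 : x⁻¹ ^ 2 = (x ^ 2)⁻¹ := by rw [inv_pow]
      rw [h1]
      exact inv_mem hx.2
  exact key.2

theorem SqComm.sup {H K : Subgroup G} (hH : SqComm H) (hK : SqComm K) : SqComm (H ⊔ K) := by
  apply sqComm_of_closure ((H : Set G) ∪ (K : Set G))
  · rw [Subgroup.closure_union, Subgroup.closure_eq, Subgroup.closure_eq]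
  · rintro s (hs | hs)
    · exact Subgroup.commutator_mono le_sup_left le_sup_left (hH s hs)
    · exact Subgroup.commutator_mono le_sup_right le_sup_right (hK s hs)

theorem sqComm_iSup {ι : Sort*} (H : ι → Subgroup G) (h : ∀ i, SqComm (H i)) :
    SqComm (⨆ i, H i) := by
  apply sqComm_of_closure (⋃ i, (H i : Set G))
  · rw [Subgroup.iSup_eq_closure]
  · rintro s hs
    rw [Set.mem_iUnion] at hs
    obtain ⟨i, hi⟩ := hs
    exact Subgroup.commutator_mono (le_iSup H i) (le_iSup H i) (h i s hi)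

theorem SqComm.map {H : Subgroup G} {G' : Type*} [Group G'] (f : G →* G') (h : SqComm H) :
    SqComm (H.map f) := by
  rintro _ ⟨x, hx, rfl⟩
  rw [← Subgroup.map_commutator, ← map_pow]
  exact Subgroup.mem_map_of_mem f (h x hx)

theorem sqComm_bot : SqComm (⊥ : Subgroup G) := by
  intro g hg
  rw [Subgroup.mem_bot] at hg
  subst hg
  simp

theorem SqComm.subtype {H : Subgroup G} (h : SqComm H) (x : ↥H) : x ^ 2 ∈ commutator ↥H := by
  have h1 : ((x ^ 2 : ↥H) : G) ∈ ⁅H, H⁆ := by
    have := h x x.2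
    simpa using this
  rw [← Subgroup.map_subtype_commutator] at h1
  obtain ⟨y, hy, hyx⟩ := h1
  have : y = x ^ 2 := Subtype.ext (by simpa using hyx)
  rw [← this]
  exact hy

theorem sqComm_of_mulEquiv {H : Subgroup G} {G' : Type*} [Group G'] {K : Subgroup G'}
    (e : ↥H ≃* ↥K) (h : SqComm H) : SqComm K := by
  intro g hg
  obtain ⟨x, hx⟩ := e.surjective ⟨g, hg⟩
  have h2 := h.subtype x
  have h3 : e (x ^ 2) ∈ commutator ↥K := by
    have : (commutator ↥H).map e.toMonoidHom = commutator ↥K := by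
      rw [commutator_def, commutator_def, Subgroup.map_commutator]
      have : (⊤ : Subgroup ↥H).map e.toMonoidHom = ⊤ := by
        rw [← MonoidHom.range_eq_map, MonoidHom.range_eq_top]
        exact e.surjective
      rw [this]
    rw [← this]
    exact Subgroup.mem_map_of_mem _ h2
  rw [map_pow, hx] at h3
  have h4 : ((⟨g, hg⟩ : ↥K) ^ 2 : ↥K).1 ∈ (commutator ↥K).map K.subtype :=
    Subgroup.mem_map_of_mem _ h3
  rw [Subgroup.map_subtype_commutator] at h4
  simpa using h4

end Cfsg.Agent.Lib.H9.SqC
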