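import Mathlib

set_option autoImplicit false

/-!
# Groups generated by elements of order dividing `p`

`GenP p G`: the group `G` is generated by the elements `g` with `g ^ p = 1`.  Then `G / G'` has
exponent dividing `p`.  `GenIn p H` is the same for a subgroup `H` of an ambient group.
-/

namespace Cfsg.Agent.Lib.H9.SylSym

variable {G : Type*} [Group G]

def GenP (p : ℕ) (G : Type*) [Group G] : Prop := Subgroup.closure {g : G | g ^ p = 1} = ⊤

def GenIn (p : ℕ) (H : Subgroup G) : Prop := Subgroup.closure {g : G | g ∈ H ∧ g ^ p = 1} = H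

theorem GenP.pow_mem_commutator {p : ℕ} (h : GenP p G) (g : G) : g ^ p ∈ commutator G := by
  let K : Subgroup G := (powMonoidHom p : Abelianization G →* Abelianization G).ker.comap
    Abelianization.of
  have hK : Subgroup.closure {g : G | g ^ p = 1} ≤ K := by
    rw [Subgroup.closure_le]
    intro x hx
    show (powMonoidHom p : Abelianization G →* Abelianization G) (Abelianization.of x) = 1
    rw [powMonoidHom_apply, ← map_pow, hx, map_one]
  rw [h] at hK
  have hg : g ∈ K := hK (Subgroup.mem_top g)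
  have h1 : (Abelianization.of g) ^ p = 1 := hg
  rw [← map_pow] at h1
  rw [← Abelianization.ker_of]
  exact h1

theorem GenP.of_surjective {p : ℕ} {H : Type*} [Group H] (f : G →* H)
    (hf : Function.Surjective f) (h : GenP p G) : GenP p H := by
  unfold GenP at *
  rw [eq_top_iff]
  have h1 : Subgroup.map f (Subgroup.closure {g : G | g ^ p = 1}) = ⊤ := by
    rw [h, ← MonoidHom.range_eq_map, MonoidHom.range_eq_top]
    exact hf
  rw [← h1, MonoidHom.map_closure]
  apply Subgroup.closure_mono
  rintro _ ⟨x, hx, rfl⟩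
  show f x ^ p = 1
  rw [← map_pow, hx, map_one]

theorem GenIn.genP {p : ℕ} {H : Subgroup G} (h : GenIn p H) : GenP p ↥H := by
  unfold GenP
  unfold GenIn at h
  apply Subgroup.map_injective H.subtype_injective
  rw [MonoidHom.map_closure, ← MonoidHom.range_eq_map, Subgroup.range_subtype]
  convert h using 2
  ext x
  constructor
  · rintro ⟨y, hy, rfl⟩
    refine ⟨y.2, ?_⟩
    have := congrArg Subtype.val hy
    simpa using this
  · rintro ⟨hx, hxp⟩
    refine ⟨⟨x, hx⟩, ?_, rfl⟩
    apply Subtype.ext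
    simpa using hxp

theorem GenIn.le_closure {p : ℕ} {H : Subgroup G} :
    Subgroup.closure {g : G | g ∈ H ∧ g ^ p = 1} ≤ H := by
  rw [Subgroup.closure_le]
  intro x hx
  exact hx.1

theorem genIn_of_le {p : ℕ} {H : Subgroup G}
    (h : H ≤ Subgroup.closure {g : G | g ∈ H ∧ g ^ p = 1}) : GenIn p H :=
  le_antisymm GenIn.le_closure h

theorem genIn_of_forall {p : ℕ} {H : Subgroup G} (h : ∀ g ∈ H, g ^ p = 1) : GenIn p H := by
  apply genIn_of_le
  intro g hg
  exact Subgroup.subset_closure ⟨hg, h g hg⟩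

theorem GenIn.map {p : ℕ} {H : Subgroup G} {G' : Type*} [Group G'] (f : G →* G')
    (h : GenIn p H) : GenIn p (H.map f) := by
  apply genIn_of_le
  have h1 : H.map f ≤ Subgroup.map f (Subgroup.closure {g : G | g ∈ H ∧ g ^ p = 1}) := by
    rw [h]
  refine h1.trans ?_
  rw [MonoidHom.map_closure]
  apply Subgroup.closure_mono
  rintro _ ⟨x, ⟨hx, hxp⟩, rfl⟩
  refine ⟨⟨x, hx, rfl⟩, ?_⟩
  rw [← map_pow, hxp, map_one]

theorem GenIn.sup {p : ℕ} {H K : Subgroup G} (hH : GenIn p H) (hK : GenIn p K) :
    GenIn p (H ⊔ K) := by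
  apply genIn_of_le
  rw [sup_le_iff]
  constructor
  · refine (le_of_eq hH.symm).trans ?_
    apply Subgroup.closure_mono
    rintro x ⟨hx, hxp⟩
    exact ⟨Subgroup.mem_sup_left hx, hxp⟩
  · refine (le_of_eq hK.symm).trans ?_
    apply Subgroup.closure_mono
    rintro x ⟨hx, hxp⟩
    exact ⟨Subgroup.mem_sup_right hx, hxp⟩

end Cfsg.Agent.Lib.H9.SylSym
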