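import Mathlib
import Cfsg.Agent.Lib.H9.SqCommA
import Cfsg.Agent.Lib.H9.SylSymA

set_option autoImplicit false

/-!
# Abstract wreath products inside a group

`WrData A G n` packages an injective homomorphism `Φ : (Fin n → A) →* G` and a homomorphism
`Ψ : Perm (Fin n) →* G` permuting the coordinates, with `Φ`-image meeting `Ψ`-image trivially.
For `Q ≤ A` and `S ≤ Perm (Fin n)` the subgroup `D.sub Q S = Ψ(S) ⊔ Φ(Q^n)` has order at least
`|Q|^n |S|`, is a `p`-group when `Q` and `S` are, and inherits `SqComm`.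
-/

namespace Cfsg.Agent.Lib.H9.SqC

open Equiv

structure WrData (A G : Type*) [Group A] [Group G] (n : ℕ) where
  Φ : (Fin n → A) →* G
  Ψ : Perm (Fin n) →* G
  inj : Function.Injective Φ
  conj : ∀ σ g, Ψ σ * Φ g * (Ψ σ)⁻¹ = Φ (fun i => g (σ⁻¹ i))
  disj : ∀ g σ, Φ g = Ψ σ → σ = 1

namespace WrData

variable {A G : Type*} [Group A] [Group G] {n : ℕ} (D : WrData A G n)

/-- compose with an injective homomorphism -/
def comp {G' : Type*} [Group G'] (f : G →* G') (hf : Function.Injective f) : WrData A G' n where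
  Φ := f.comp D.Φ
  Ψ := f.comp D.Ψ
  inj := hf.comp D.inj
  conj σ g := by
    show f (D.Ψ σ) * f (D.Φ g) * (f (D.Ψ σ))⁻¹ = f (D.Φ _)
    rw [← map_inv, ← map_mul, ← map_mul, D.conj]
  disj g σ h := D.disj g σ (hf h)

def base (Q : Subgroup A) : Subgroup G := (Subgroup.pi Set.univ fun _ : Fin n => Q).map D.Φ

def top (S : Subgroup (Perm (Fin n))) : Subgroup G := S.map D.Ψ

def sub (Q : Subgroup A) (S : Subgroup (Perm (Fin n))) : Subgroup G := D.top S ⊔ D.base Q

theorem top_le_normalizer [Finite G] (Q : Subgroup A) (S : Subgroup (Perm (Fin n))) :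
    D.top S ≤ Subgroup.normalizer (D.base Q : Set G) := by
  rintro _ ⟨σ, hσ, rfl⟩
  apply Subgroup.mem_normalizer_fintype
  rintro _ ⟨g, hg, rfl⟩
  rw [D.conj]
  exact ⟨_, fun i _ => hg (σ⁻¹ i) (Set.mem_univ _), rfl⟩

theorem pi_isPGroup {p : ℕ} [Fact p.Prime] [Finite A] (Q : Subgroup A) (hQ : IsPGroup p ↥Q) :
    IsPGroup p ↥(Subgroup.pi Set.univ fun _ : Fin n => Q) := by
  obtain ⟨j, hj⟩ := hQ.exists_card_eq
  intro g
  refine ⟨j, ?_⟩
  apply Subtype.ext
  funext i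
  have hgi : g.1 i ∈ Q := g.2 i (Set.mem_univ i)
  have h1 : (⟨g.1 i, hgi⟩ : ↥Q) ^ Nat.card ↥Q = 1 := pow_card_eq_one'
  rw [hj] at h1
  have h2 := congrArg Subtype.val h1
  simpa using h2

theorem sub_isPGroup {p : ℕ} [Fact p.Prime] [Finite A] [Finite G] (Q : Subgroup A)
    (S : Subgroup (Perm (Fin n))) (hQ : IsPGroup p ↥Q) (hS : IsPGroup p ↥S) :
    IsPGroup p ↥(D.sub Q S) :=
  IsPGroup.to_sup_of_normal_right' (hS.map _) ((pi_isPGroup Q hQ).map _)
    (D.top_le_normalizer Q S)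

theorem sub_card_le [Finite G] (Q : Subgroup A) (S : Subgroup (Perm (Fin n))) :
    Nat.card ↥Q ^ n * Nat.card ↥S ≤ Nat.card ↥(D.sub Q S) := by
  let J : (Fin n → ↥Q) × ↥S → ↥(D.sub Q S) := fun x =>
    ⟨D.Φ (fun i => (x.1 i : A)) * D.Ψ (x.2 : Perm (Fin n)),
      mul_mem (Subgroup.mem_sup_right ⟨_, fun i _ => (x.1 i).2, rfl⟩)
        (Subgroup.mem_sup_left ⟨_, x.2.2, rfl⟩)⟩
  have hJ : Function.Injective J := by
    rintro ⟨f1, s1⟩ ⟨f2, s2⟩ hx
    have h1 : D.Φ (fun i => (f1 i : A)) * D.Ψ (s1 : Perm (Fin n)) =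
        D.Φ (fun i => (f2 i : A)) * D.Ψ (s2 : Perm (Fin n)) :=
      congrArg Subtype.val hx
    have h2 : D.Φ ((fun i => (f2 i : A))⁻¹ * (fun i => (f1 i : A))) =
        D.Ψ ((s2 : Perm (Fin n)) * (s1 : Perm (Fin n))⁻¹) := by
      rw [map_mul, map_mul, map_inv, map_inv]
      rw [inv_mul_eq_iff_eq_mul, ← mul_assoc, ← h1]
      group
    have h3 := D.disj _ _ h2
    have hs : (s1 : Perm (Fin n)) = s2 := by
      rw [mul_inv_eq_one] at h3
      exact h3.symm
    rw [hs] at h1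
    have h4 := D.inj (mul_right_cancel h1)
    have hf : f1 = f2 := by
      funext i
      exact Subtype.ext (congrFun h4 i)
    rw [hf, Subtype.ext hs]
  have := Nat.card_le_card_of_injective J hJ
  rwa [Nat.card_prod, Nat.card_fun, Nat.card_fin] at this

theorem pi_sqComm (Q : Subgroup A) (hQ : SqComm Q) :
    SqComm (Subgroup.pi Set.univ fun _ : Fin n => Q) := by
  intro g hg
  rw [Subgroup.commutator_pi_pi_of_finite]
  intro i _
  exact hQ (g i) (hg i (Set.mem_univ i))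

theorem sub_sqComm (Q : Subgroup A) (S : Subgroup (Perm (Fin n))) (hQ : SqComm Q)
    (hS : SqComm S) : SqComm (D.sub Q S) :=
  SqComm.sup (hS.map _) ((pi_sqComm Q hQ).map _)

end WrData

theorem genIn_two_sqComm {G : Type*} [Group G] {H : Subgroup G}
    (h : Cfsg.Agent.Lib.H9.SylSym.GenIn 2 H) : SqComm H := by
  apply sqComm_of_closure _ h
  rintro s ⟨-, hs⟩
  rw [hs]
  exact one_mem _

end Cfsg.Agent.Lib.H9.SqC
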