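import Mathlib
import Cfsg.Agent.Lib.H9.SqCommE
import Cfsg.Agent.Lib.H9.DerLenA

set_option autoImplicit false

/-!
# Supported parts of an abstract wreath product and a lower bound for derived lengths

For `D : WrData A G n` and a set `X` of coordinates, `suppSub D X` is the subgroup of elements
`Φ g * Ψ σ` with `g` and `σ` supported on `X`.  Parts with disjoint supports commute and meet
trivially; this feeds the swap lemma and yields `2`-subgroups of large derived length.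
-/

namespace Cfsg.Agent.Lib.H9.DerLen

open Equiv Cfsg.Agent.Lib.H9.SqC

variable {A G : Type*} [Group A] [Group G] {n : ℕ} (D : WrData A G n)

theorem psi_phi (σ : Perm (Fin n)) (g : Fin n → A) :
    D.Ψ σ * D.Φ g = D.Φ (fun i => g (σ⁻¹ i)) * D.Ψ σ := by
  rw [← D.conj σ g]; group

theorem perm_apply_inv (σ : Perm (Fin n)) (i : Fin n) : σ (σ⁻¹ i) = i := by simp

theorem perm_inv_fix {σ : Perm (Fin n)} {i : Fin n} (h : σ i = i) : σ⁻¹ i = i := by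
  rw [Perm.inv_eq_iff_eq]; exact h.symm

/-- the part of the wreath product supported on `X` -/
def suppSub (X : Set (Fin n)) : Subgroup G where
  carrier := {x | ∃ (g : Fin n → A) (σ : Perm (Fin n)), (∀ i, i ∉ X → g i = 1) ∧
    (∀ i, i ∉ X → σ i = i) ∧ x = D.Φ g * D.Ψ σ}
  one_mem' := ⟨1, 1, fun _ _ => rfl, fun _ _ => rfl, by simp⟩
  mul_mem' := by
    rintro _ _ ⟨g, σ, hg, hσ, rfl⟩ ⟨g', σ', hg', hσ', rfl⟩
    refine ⟨g * fun i => g' (σ⁻¹ i), σ * σ', ?_, ?_, ?_⟩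
    · intro i hi
      rw [Pi.mul_apply, hg i hi, perm_inv_fix (hσ i hi), hg' i hi, one_mul]
    · intro i hi
      rw [Perm.mul_apply, hσ' i hi, hσ i hi]
    · rw [map_mul, map_mul]
      calc D.Φ g * D.Ψ σ * (D.Φ g' * D.Ψ σ') = D.Φ g * (D.Ψ σ * D.Φ g') * D.Ψ σ' := by group
        _ = D.Φ g * (D.Φ (fun i => g' (σ⁻¹ i)) * D.Ψ σ) * D.Ψ σ' := by rw [psi_phi]
        _ = D.Φ g * D.Φ (fun i => g' (σ⁻¹ i)) * (D.Ψ σ * D.Ψ σ') := by group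
  inv_mem' := by
    rintro _ ⟨g, σ, hg, hσ, rfl⟩
    refine ⟨fun i => (g (σ i))⁻¹, σ⁻¹, ?_, ?_, ?_⟩
    · intro i hi
      show (g (σ i))⁻¹ = 1
      rw [hσ i hi, hg i hi, inv_one]
    · intro i hi
      exact perm_inv_fix (hσ i hi)
    · have h1 : D.Ψ σ⁻¹ * D.Φ g⁻¹ = D.Φ (fun i => (g (σ i))⁻¹) * D.Ψ σ⁻¹ := by
        rw [psi_phi]
        simp
      rw [mul_inv_rev, ← map_inv, ← map_inv, h1]

theorem mem_suppSub {X : Set (Fin n)} {x : G} : x ∈ suppSub D X ↔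
    ∃ (g : Fin n → A) (σ : Perm (Fin n)), (∀ i, i ∉ X → g i = 1) ∧
      (∀ i, i ∉ X → σ i = i) ∧ x = D.Φ g * D.Ψ σ := Iff.rfl

theorem suppSub_mono {X Y : Set (Fin n)} (h : X ⊆ Y) : suppSub D X ≤ suppSub D Y := by
  rintro _ ⟨g, σ, hg, hσ, rfl⟩
  exact ⟨g, σ, fun i hi => hg i (fun hX => hi (h hX)), fun i hi => hσ i (fun hX => hi (h hX)), rfl⟩

theorem phi_mem_suppSub {X : Set (Fin n)} {g : Fin n → A} (hg : ∀ i, i ∉ X → g i = 1) :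
    D.Φ g ∈ suppSub D X := ⟨g, 1, hg, fun _ _ => rfl, by simp⟩

theorem psi_mem_suppSub {X : Set (Fin n)} {σ : Perm (Fin n)} (hσ : ∀ i, i ∉ X → σ i = i) :
    D.Ψ σ ∈ suppSub D X := ⟨1, σ, fun _ _ => rfl, hσ, by simp⟩

theorem perm_inv_mem {X : Set (Fin n)} {σ : Perm (Fin n)} (hσ : ∀ i, i ∉ X → σ i = i)
    {i : Fin n} (hi : i ∈ X) : σ⁻¹ i ∈ X := by
  by_contra h
  have h1 := hσ _ h
  rw [perm_apply_inv] at h1
  rw [← h1] at h
  exact h hi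

/-- `Ψ σ` commutes with `Φ g'` when supports are disjoint -/
theorem psi_phi_comm {X Y : Set (Fin n)} (hXY : Disjoint X Y) {σ : Perm (Fin n)}
    {g' : Fin n → A} (hσ : ∀ i, i ∉ X → σ i = i) (hg' : ∀ i, i ∉ Y → g' i = 1) :
    D.Ψ σ * D.Φ g' = D.Φ g' * D.Ψ σ := by
  rw [psi_phi]
  congr 2
  funext i
  by_cases hi : i ∈ X
  · have h1 : σ⁻¹ i ∈ X := perm_inv_mem hσ hi
    rw [hg' _ (Set.disjoint_left.mp hXY h1), hg' _ (Set.disjoint_left.mp hXY hi)]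
  · rw [perm_inv_fix (hσ i hi)]

theorem suppSub_comm {X Y : Set (Fin n)} (hXY : Disjoint X Y) {x y : G}
    (hx : x ∈ suppSub D X) (hy : y ∈ suppSub D Y) : x * y = y * x := by
  obtain ⟨g, σ, hg, hσ, rfl⟩ := hx
  obtain ⟨g', σ', hg', hσ', rfl⟩ := hy
  have h1 : D.Ψ σ * D.Φ g' = D.Φ g' * D.Ψ σ := psi_phi_comm D hXY hσ hg'
  have h2 : D.Ψ σ' * D.Φ g = D.Φ g * D.Ψ σ' := psi_phi_comm D hXY.symm hσ' hg
  have h3 : D.Φ g * D.Φ g' = D.Φ g' * D.Φ g := by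
    rw [← map_mul, ← map_mul]
    congr 1
    funext i
    by_cases hi : i ∈ X
    · rw [Pi.mul_apply, Pi.mul_apply, hg' _ (Set.disjoint_left.mp hXY hi), one_mul, mul_one]
    · rw [Pi.mul_apply, Pi.mul_apply, hg _ hi, one_mul, mul_one]
  have h4 : D.Ψ σ * D.Ψ σ' = D.Ψ σ' * D.Ψ σ := by
    rw [← map_mul, ← map_mul]
    congr 1
    apply Perm.Disjoint.commute
    intro i
    by_cases hi : i ∈ X
    · right; exact hσ' _ (Set.disjoint_left.mp hXY hi)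
    · left; exact hσ _ hi
  calc D.Φ g * D.Ψ σ * (D.Φ g' * D.Ψ σ') = D.Φ g * (D.Ψ σ * D.Φ g') * D.Ψ σ' := by group
    _ = D.Φ g * (D.Φ g' * D.Ψ σ) * D.Ψ σ' := by rw [h1]
    _ = (D.Φ g * D.Φ g') * (D.Ψ σ * D.Ψ σ') := by group
    _ = (D.Φ g' * D.Φ g) * (D.Ψ σ' * D.Ψ σ) := by rw [h3, h4]
    _ = D.Φ g' * (D.Φ g * D.Ψ σ') * D.Ψ σ := by group
    _ = D.Φ g' * (D.Ψ σ' * D.Φ g) * D.Ψ σ := by rw [h2]
    _ = D.Φ g' * D.Ψ σ' * (D.Φ g * D.Ψ σ) := by group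

theorem suppSub_disj {X Y : Set (Fin n)} (hXY : Disjoint X Y) {x y : G}
    (hx : x ∈ suppSub D X) (hy : y ∈ suppSub D Y) (hxy : x * y = 1) : x = 1 := by
  obtain ⟨g, σ, hg, hσ, rfl⟩ := hx
  obtain ⟨g', σ', hg', hσ', rfl⟩ := hy
  have h1 : D.Ψ σ * D.Φ g' = D.Φ g' * D.Ψ σ := psi_phi_comm D hXY hσ hg'
  have h2 : D.Φ (g * g') * D.Ψ (σ * σ') = 1 := by
    rw [map_mul, map_mul, ← hxy]
    calc D.Φ g * D.Φ g' * (D.Ψ σ * D.Ψ σ') = D.Φ g * (D.Φ g' * D.Ψ σ) * D.Ψ σ' := by group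
      _ = D.Φ g * (D.Ψ σ * D.Φ g') * D.Ψ σ' := by rw [h1]
      _ = D.Φ g * D.Ψ σ * (D.Φ g' * D.Ψ σ') := by group
  have h3 : D.Φ (g * g') = D.Ψ (σ * σ')⁻¹ := by
    rw [map_inv]; exact eq_inv_of_mul_eq_one_left h2
  have h4 : (σ * σ')⁻¹ = 1 := D.disj _ _ h3
  have h5 : σ * σ' = 1 := inv_eq_one.mp h4
  have h6 : g * g' = 1 := by
    apply D.inj
    rw [h3, h4, map_one, map_one]
  have hσ1 : σ = 1 := by
    ext i
    by_cases hi : i ∈ X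
    · have h7 : σ' i = i := hσ' _ (Set.disjoint_left.mp hXY hi)
      have h8 : (σ * σ') i = i := by rw [h5]; rfl
      rw [Perm.mul_apply, h7] at h8
      rw [h8]; rfl
    · rw [hσ _ hi]; rfl
  have hg1 : g = 1 := by
    funext i
    by_cases hi : i ∈ X
    · have h7 : g' i = 1 := hg' _ (Set.disjoint_left.mp hXY hi)
      have h8 : (g * g') i = 1 := by rw [h6]; rfl
      rw [Pi.mul_apply, h7, mul_one] at h8
      exact h8
    · exact hg _ hi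
  rw [hσ1, hg1, map_one, map_one, one_mul]

theorem suppSub_conj {X Y : Set (Fin n)} (s : Perm (Fin n)) (hs : ∀ i, i ∈ X → s i ∈ Y)
    {x : G} (hx : x ∈ suppSub D X) : D.Ψ s * x * (D.Ψ s)⁻¹ ∈ suppSub D Y := by
  obtain ⟨g, σ, hg, hσ, rfl⟩ := hx
  have hsinv : ∀ i, i ∉ Y → s⁻¹ i ∉ X := by
    intro i hi hX
    have := hs _ hX
    rw [perm_apply_inv] at this
    exact hi this
  refine ⟨fun i => g (s⁻¹ i), s * σ * s⁻¹, ?_, ?_, ?_⟩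
  · intro i hi
    exact hg _ (hsinv i hi)
  · intro i hi
    rw [Perm.mul_apply, Perm.mul_apply, hσ _ (hsinv i hi), perm_apply_inv]
  · rw [map_mul, map_mul, map_inv]
    calc D.Ψ s * (D.Φ g * D.Ψ σ) * (D.Ψ s)⁻¹ = (D.Ψ s * D.Φ g) * D.Ψ σ * (D.Ψ s)⁻¹ := by group
      _ = (D.Φ (fun i => g (s⁻¹ i)) * D.Ψ s) * D.Ψ σ * (D.Ψ s)⁻¹ := by rw [psi_phi]
      _ = D.Φ (fun i => g (s⁻¹ i)) * (D.Ψ s * D.Ψ σ * (D.Ψ s)⁻¹) := by group

end Cfsg.Agent.Lib.H9.DerLen
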