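import Mathlib
import Cfsg.Agent.Lib.H9.DerLenB

set_option autoImplicit false

/-!
# Iterated swaps: `2`-subgroups of large derived length in an abstract wreath product
-/

namespace Cfsg.Agent.Lib.H9.DerLen

open Equiv Cfsg.Agent.Lib.H9.SqC

/-- swap the blocks `[0,N)` and `[N,2N)` -/
def blockSwapFun (N n : ℕ) (h : 2 * N ≤ n) (i : Fin n) : Fin n :=
  if h1 : i.val < N then ⟨i.val + N, by omega⟩
  else if h2 : i.val < 2 * N then ⟨i.val - N, by omega⟩ else i

theorem blockSwapFun_lt {N n : ℕ} (h : 2 * N ≤ n) {i : Fin n} (hi : i.val < N) :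
    (blockSwapFun N n h i).val = i.val + N := by
  unfold blockSwapFun
  rw [dif_pos hi]

theorem blockSwapFun_mid {N n : ℕ} (h : 2 * N ≤ n) {i : Fin n} (hi : N ≤ i.val)
    (hi2 : i.val < 2 * N) : (blockSwapFun N n h i).val = i.val - N := by
  unfold blockSwapFun
  rw [dif_neg (by omega), dif_pos hi2]

theorem blockSwapFun_ge {N n : ℕ} (h : 2 * N ≤ n) {i : Fin n} (hi : 2 * N ≤ i.val) :
    blockSwapFun N n h i = i := by
  unfold blockSwapFun
  rw [dif_neg (by omega), dif_neg (by omega)]

theorem blockSwapFun_involutive (N n : ℕ) (h : 2 * N ≤ n) :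
    Function.Involutive (blockSwapFun N n h) := by
  intro i
  by_cases h1 : i.val < N
  · have e1 := blockSwapFun_lt h h1
    have e2 : N ≤ (blockSwapFun N n h i).val := by omega
    have e3 : (blockSwapFun N n h i).val < 2 * N := by omega
    apply Fin.ext
    rw [blockSwapFun_mid h e2 e3, e1]
    omega
  · by_cases h2 : i.val < 2 * N
    · have e1 := blockSwapFun_mid h (by omega) h2
      have e2 : (blockSwapFun N n h i).val < N := by omega
      apply Fin.ext
      rw [blockSwapFun_lt h e2, e1]
      omega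
    · have e1 : blockSwapFun N n h i = i := blockSwapFun_ge h (by omega)
      rw [e1, e1]

def blockSwap (N n : ℕ) (h : 2 * N ≤ n) : Perm (Fin n) :=
  (blockSwapFun_involutive N n h).toPerm _

theorem blockSwap_apply (N n : ℕ) (h : 2 * N ≤ n) (i : Fin n) :
    blockSwap N n h i = blockSwapFun N n h i := rfl

theorem blockSwap_mul_self (N n : ℕ) (h : 2 * N ≤ n) : blockSwap N n h * blockSwap N n h = 1 := by
  ext i
  rw [Perm.mul_apply, blockSwap_apply, blockSwap_apply, blockSwapFun_involutive N n h i]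
  rfl

theorem isPGroup_zpowers_of_sq {G : Type*} [Group G] (t : G) (ht : t * t = 1) :
    IsPGroup 2 ↥(Subgroup.zpowers t) := by
  rintro ⟨x, hx⟩
  obtain ⟨m, rfl⟩ := Subgroup.mem_zpowers_iff.mp hx
  refine ⟨1, ?_⟩
  apply Subtype.ext
  show (t ^ m) ^ 2 ^ 1 = 1
  rw [pow_one, ← zpow_natCast, ← zpow_mul, mul_comm, zpow_mul, zpow_natCast, pow_two, ht, one_zpow]

variable {A G : Type*} [Group A] [Group G] {n : ℕ} (D : WrData A G n)

theorem exists_two_subgroup_dser_ne_bot [Finite G] (Q : Subgroup A) (hQ : IsPGroup 2 ↥Q) (c : ℕ)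
    (hc : dser Q c ≠ ⊥) : ∀ k, 2 ^ k ≤ n → ∃ L : Subgroup G, IsPGroup 2 ↥L ∧
      L ≤ suppSub D {i : Fin n | i.val < 2 ^ k} ∧ dser L (c + k) ≠ ⊥ := by
  intro k
  induction k with
  | zero =>
    intro hn
    have hn1 : 0 < n := by
      have : 2 ^ 0 = 1 := pow_zero 2
      omega
    let i0 : Fin n := ⟨0, hn1⟩
    let f : A →* G := D.Φ.comp (MonoidHom.mulSingle (fun _ : Fin n => A) i0)
    have hf : Function.Injective f := D.inj.comp (Pi.mulSingle_injective (M := fun _ : Fin n => A) i0)
    refine ⟨Q.map f, hQ.map f, ?_, ?_⟩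
    · rintro _ ⟨a, -, rfl⟩
      apply phi_mem_suppSub
      intro i hi
      have hne : i ≠ i0 := by
        intro h
        apply hi
        rw [h]
        show (0 : ℕ) < 2 ^ 0
        norm_num
      exact Pi.mulSingle_eq_of_ne (M := fun _ : Fin n => A) hne a
    · rw [add_zero, dser_map]
      intro h
      exact hc ((Subgroup.map_eq_bot_iff_of_injective _ hf).mp h)
  | succ k ih =>
    intro hn
    have hN : 2 * 2 ^ k ≤ n := by rw [pow_succ] at hn; omega
    obtain ⟨L, hLp, hLX, hLd⟩ := ih (by omega)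
    set N := 2 ^ k with hNdef
    let s := blockSwap N n hN
    let t := D.Ψ s
    have htt : t * t = 1 := by
      show D.Ψ s * D.Ψ s = 1
      rw [← map_mul, blockSwap_mul_self, map_one]
    have htinv : t⁻¹ = t := inv_eq_of_mul_eq_one_left htt
    let X : Set (Fin n) := {i | i.val < N}
    let Y : Set (Fin n) := {i | N ≤ i.val ∧ i.val < 2 * N}
    let X' : Set (Fin n) := {i | i.val < 2 ^ (k + 1)}
    have hXY : Disjoint X Y := by
      rw [Set.disjoint_left]
      intro i hi hi'
      have h1 : i.val < N := hi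
      have h2 : N ≤ i.val := hi'.1
      omega
    have hXX' : X ⊆ X' := by
      intro i hi
      have h1 : i.val < N := hi
      show i.val < 2 ^ (k + 1)
      rw [pow_succ]; omega
    have hYX' : Y ⊆ X' := by
      intro i hi
      have h1 : i.val < 2 * N := hi.2
      show i.val < 2 ^ (k + 1)
      rw [pow_succ]; omega
    have hsXY : ∀ i, i ∈ X → s i ∈ Y := by
      intro i hi
      have h1 : i.val < N := hi
      have h2 : (s i).val = i.val + N := blockSwapFun_lt hN h1
      show N ≤ (s i).val ∧ (s i).val < 2 * N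
      omega
    have hsX' : ∀ i, i ∉ X' → s i = i := by
      intro i hi
      have h1 : ¬ i.val < 2 ^ (k + 1) := hi
      apply blockSwapFun_ge hN
      rw [pow_succ] at h1; omega
    let L' : Subgroup G := L.map (MulAut.conj t).toMonoidHom
    have hL'Y : L' ≤ suppSub D Y := by
      rintro _ ⟨y, hy, rfl⟩
      exact suppSub_conj D s hsXY (hLX hy)
    have hL'p : IsPGroup 2 ↥L' := hLp.map _
    have hcomm : ∀ x ∈ L, ∀ y ∈ L, x * (t * y * t⁻¹) = (t * y * t⁻¹) * x := by
      intro x hx y hy
      exact suppSub_comm D hXY (hLX hx) (suppSub_conj D s hsXY (hLX hy))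
    have hdisj : ∀ x ∈ L, ∀ y ∈ L, x * (t * y * t⁻¹) = 1 → x = 1 := by
      intro x hx y hy h
      exact suppSub_disj D hXY (hLX hx) (suppSub_conj D s hsXY (hLX hy)) h
    have hLL' : IsPGroup 2 ↥(L ⊔ L') := by
      apply IsPGroup.to_sup_of_normal_right' hLp hL'p
      intro x hx
      apply Subgroup.mem_normalizer_fintype
      rintro _ ⟨y, hy, rfl⟩
      have h1 := hcomm x hx y hy
      have h2 : x * ((MulAut.conj t).toMonoidHom y) * x⁻¹ = (MulAut.conj t).toMonoidHom y := by
        show x * (t * y * t⁻¹) * x⁻¹ = t * y * t⁻¹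
        rw [h1]; group
      rw [h2]
      exact ⟨y, hy, rfl⟩
    have hconjL' : L'.map (MulAut.conj t).toMonoidHom = L := by
      ext x
      constructor
      · rintro ⟨_, ⟨y, hy, rfl⟩, rfl⟩
        have : (MulAut.conj t).toMonoidHom ((MulAut.conj t).toMonoidHom y) = y := by
          show t * (t * y * t⁻¹) * t⁻¹ = y
          rw [htinv]
          calc t * (t * y * t) * t = (t * t) * y * (t * t) := by group
            _ = y := by rw [htt, one_mul, mul_one]
        rw [this]; exact hy
      · intro hx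
        refine ⟨(MulAut.conj t).toMonoidHom x, ⟨x, hx, rfl⟩, ?_⟩
        show t * (t * x * t⁻¹) * t⁻¹ = x
        rw [htinv]
        calc t * (t * x * t) * t = (t * t) * x * (t * t) := by group
          _ = x := by rw [htt, one_mul, mul_one]
    have hnorm : Subgroup.zpowers t ≤ Subgroup.normalizer ((L ⊔ L' : Subgroup G) : Set G) := by
      rw [Subgroup.zpowers_le]
      apply Subgroup.mem_normalizer_fintype
      intro w hw
      have h1 : (MulAut.conj t).toMonoidHom w ∈ (L ⊔ L').map (MulAut.conj t).toMonoidHom :=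
        Subgroup.mem_map_of_mem _ hw
      rw [Subgroup.map_sup, hconjL'] at h1
      rw [sup_comm]
      exact h1
    let K : Subgroup G := Subgroup.zpowers t ⊔ (L ⊔ L')
    have hKp : IsPGroup 2 ↥K :=
      IsPGroup.to_sup_of_normal_right' (isPGroup_zpowers_of_sq t htt) hLL' hnorm
    have hLK : L ≤ K := le_sup_left.trans le_sup_right
    have htK : t ∈ K := Subgroup.mem_sup_left (Subgroup.mem_zpowers t)
    refine ⟨K, hKp, ?_, ?_⟩
    · apply sup_le
      · rw [Subgroup.zpowers_le]
        exact psi_mem_suppSub D hsX'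
      · exact sup_le (hLX.trans (suppSub_mono D hXX')) (hL'Y.trans (suppSub_mono D hYX'))
    · rw [← add_assoc]
      exact swap_ne_bot L K t hLK htK hcomm hdisj (c + k) hLd

end Cfsg.Agent.Lib.H9.DerLen
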