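import Mathlib
import Cfsg.Agent.Lib.H9.SylSymA

set_option autoImplicit false

namespace Cfsg.Agent.Lib.H9.SylSym

open Equiv

section Wreath

variable (p : ℕ) [hp : Fact p.Prime] (ι : Type*) [Fintype ι] [DecidableEq ι]

/-- The base group `C_p^ι` acting on `ι × ZMod p` by translations in the fibres. -/
def beta : (ι → Multiplicative (ZMod p)) →* Perm (ι × ZMod p) where
  toFun f :=
    { toFun := fun x => (x.1, x.2 + Multiplicative.toAdd (f x.1))
      invFun := fun x => (x.1, x.2 - Multiplicative.toAdd (f x.1))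
      left_inv := by intro x; simp
      right_inv := by intro x; simp }
  map_one' := by
    ext x <;> simp
  map_mul' := by
    intro f g
    ext x <;> simp [add_comm, add_left_comm]

/-- The top group `Perm ι` acting on `ι × ZMod p` through the first coordinate. -/
def tau : Perm ι →* Perm (ι × ZMod p) where
  toFun σ := Equiv.prodCongrLeft (fun _ => σ)
  map_one' := by
    ext x <;> simp [Equiv.prodCongrLeft]
  map_mul' := by
    intro f g
    ext x <;> simp [Equiv.prodCongrLeft]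

variable {p ι}

@[simp] theorem beta_apply (f : ι → Multiplicative (ZMod p)) (x : ι × ZMod p) :
    beta p ι f x = (x.1, x.2 + Multiplicative.toAdd (f x.1)) := rfl

@[simp] theorem tau_apply (σ : Perm ι) (x : ι × ZMod p) :
    tau p ι σ x = (σ x.1, x.2) := rfl

theorem beta_mul_tau_apply (f : ι → Multiplicative (ZMod p)) (σ : Perm ι) (x : ι × ZMod p) :
    (beta p ι f * tau p ι σ) x = (σ x.1, x.2 + Multiplicative.toAdd (f (σ x.1))) := by
  rw [Perm.mul_apply, tau_apply, beta_apply]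

theorem beta_pow_eq_one (f : ι → Multiplicative (ZMod p)) : beta p ι f ^ p = 1 := by
  rw [← map_pow]
  have : f ^ p = 1 := by
    funext i
    rw [Pi.pow_apply, Pi.one_apply]
    apply Multiplicative.toAdd.injective
    rw [toAdd_pow, toAdd_one]
    have : (p : ZMod p) = 0 := ZMod.natCast_self p
    rw [nsmul_eq_mul, this, zero_mul]
  rw [this, map_one]

theorem prod_injective :
    Function.Injective (fun x : (ι → Multiplicative (ZMod p)) × Perm ι =>
      beta p ι x.1 * tau p ι x.2) := by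
  rintro ⟨f, σ⟩ ⟨f', σ'⟩ h
  have h1 : ∀ x : ι × ZMod p, (beta p ι f * tau p ι σ) x = (beta p ι f' * tau p ι σ') x := by
    intro x
    exact congrFun (congrArg DFunLike.coe h) x
  have hσ : σ = σ' := by
    ext i
    have := h1 (i, 0)
    rw [beta_mul_tau_apply, beta_mul_tau_apply] at this
    exact congrArg Prod.fst this
  subst hσ
  have hf : f = f' := by
    funext i
    have := h1 (σ⁻¹ i, 0)
    rw [beta_mul_tau_apply, beta_mul_tau_apply] at this
    have h2 := congrArg Prod.snd this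
    have h3 : σ (σ⁻¹ i) = i := by simp
    rw [h3] at h2
    simp only [zero_add] at h2
    exact Multiplicative.toAdd.injective h2
  rw [hf]

variable (p)

/-- The wreath product `C_p ≀ H` inside `Perm (ι × ZMod p)`. -/
def wr (H : Subgroup (Perm ι)) : Subgroup (Perm (ι × ZMod p)) where
  carrier := {g | ∃ f : ι → Multiplicative (ZMod p), ∃ σ ∈ H, g = beta p ι f * tau p ι σ}
  one_mem' := ⟨1, 1, H.one_mem, by simp⟩
  mul_mem' := by
    rintro _ _ ⟨f, σ, hσ, rfl⟩ ⟨f', σ', hσ', rfl⟩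
    refine ⟨fun i => f i * f' (σ⁻¹ i), σ * σ', H.mul_mem hσ hσ', ?_⟩
    apply Equiv.ext
    intro x
    rw [Perm.mul_apply, beta_mul_tau_apply, beta_mul_tau_apply, beta_mul_tau_apply]
    have h3 : σ⁻¹ (σ (σ' x.1)) = σ' x.1 := by simp
    apply Prod.ext
    · simp
    · simp only [toAdd_mul, Perm.mul_apply, h3]
      abel
  inv_mem' := by
    rintro _ ⟨f, σ, hσ, rfl⟩
    refine ⟨fun i => (f (σ i))⁻¹, σ⁻¹, H.inv_mem hσ, ?_⟩
    apply inv_eq_of_mul_eq_one_right
    apply Equiv.ext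
    intro x
    rw [Perm.mul_apply, beta_mul_tau_apply, beta_mul_tau_apply]
    have h3 : σ (σ⁻¹ x.1) = x.1 := by simp
    apply Prod.ext
    · simp
    · simp only [h3, toAdd_inv, Perm.one_apply]
      abel

variable {p}

theorem mem_wr {H : Subgroup (Perm ι)} {g : Perm (ι × ZMod p)} :
    g ∈ wr p H ↔ ∃ f : ι → Multiplicative (ZMod p), ∃ σ ∈ H, g = beta p ι f * tau p ι σ := Iff.rfl

theorem beta_mem_wr (H : Subgroup (Perm ι)) (f : ι → Multiplicative (ZMod p)) :
    beta p ι f ∈ wr p H := ⟨f, 1, H.one_mem, by simp⟩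

theorem tau_mem_wr {H : Subgroup (Perm ι)} {σ : Perm ι} (hσ : σ ∈ H) :
    tau p ι σ ∈ wr p H := ⟨1, σ, hσ, by simp⟩

theorem card_wr (H : Subgroup (Perm ι)) :
    Nat.card (wr p H) = p ^ Fintype.card ι * Nat.card H := by
  have e : ((ι → Multiplicative (ZMod p)) × H) ≃ wr p H := by
    refine Equiv.ofBijective (fun x => ⟨beta p ι x.1 * tau p ι x.2.1, ⟨x.1, x.2.1, x.2.2, rfl⟩⟩) ⟨?_, ?_⟩
    · rintro ⟨f, σ⟩ ⟨f', σ'⟩ h
      have h1 := congrArg Subtype.val h
      have h2 := prod_injective (p := p) (ι := ι) (a₁ := (f, σ.1)) (a₂ := (f', σ'.1)) h1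
      have h3 := congrArg Prod.fst h2
      have h4 := congrArg Prod.snd h2
      simp only at h3 h4
      rw [Prod.mk.injEq]
      exact ⟨h3, Subtype.ext h4⟩
    · rintro ⟨g, f, σ, hσ, rfl⟩
      exact ⟨(f, ⟨σ, hσ⟩), rfl⟩
  rw [← Nat.card_congr e, Nat.card_prod, Nat.card_fun, Nat.card_eq_fintype_card (α := ι)]
  congr 2
  rw [Nat.card_eq_fintype_card, Fintype.card_multiplicative, ZMod.card]

theorem genIn_wr {H : Subgroup (Perm ι)} (hH : GenIn p H) : GenIn p (wr p H) := by
  apply genIn_of_le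
  rintro _ ⟨f, σ, hσ, rfl⟩
  apply Subgroup.mul_mem
  · apply Subgroup.subset_closure
    exact ⟨beta_mem_wr H f, beta_pow_eq_one f⟩
  · have h1 : σ ∈ Subgroup.closure {g : Perm ι | g ∈ H ∧ g ^ p = 1} := by
      rw [hH]; exact hσ
    have h2 : tau p ι σ ∈ Subgroup.map (tau p ι)
        (Subgroup.closure {g : Perm ι | g ∈ H ∧ g ^ p = 1}) := ⟨σ, h1, rfl⟩
    rw [MonoidHom.map_closure] at h2
    refine Subgroup.closure_mono ?_ h2
    rintro _ ⟨s, ⟨hs, hsp⟩, rfl⟩
    refine ⟨tau_mem_wr hs, ?_⟩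
    rw [← map_pow, hsp, map_one]

theorem sign_tau_two (σ : Perm ι) : Perm.sign (tau 2 ι σ) = 1 := by
  show Perm.sign (Equiv.prodCongrLeft (fun _ : ZMod 2 => σ)) = 1
  rw [Perm.sign_prodCongrLeft]
  rw [Finset.prod_const, Finset.card_univ, ZMod.card]
  exact Int.units_sq _

end Wreath

end Cfsg.Agent.Lib.H9.SylSym
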