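import Mathlib
import Cfsg.Agent.Lib.H9.SylSymB

set_option autoImplicit false

namespace Cfsg.Agent.Lib.H9.SylSym

open Equiv

section Step

variable {p : ℕ} [hp : Fact p.Prime]

theorem sign_via {α β : Type*} [Fintype α] [DecidableEq α] [Fintype β] [DecidableEq β]
    (e : α ↪ β) (g : Perm α) : Perm.sign (Perm.viaEmbeddingHom e g) = Perm.sign g := by
  classical
  rw [Perm.viaEmbeddingHom_apply]
  unfold Perm.viaEmbedding
  convert Perm.sign_extendDomain g (ofInjective e.1 e.2)

theorem legendre_step (n : ℕ) :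
    (n.factorial).factorization p = ((n / p).factorial).factorization p + n / p := by
  rw [Nat.factorization_def _ hp.out, Nat.factorization_def _ hp.out]
  have h1 : n = p * (n / p) + n % p := (Nat.div_add_mod n p).symm
  have h2 : n % p < p := Nat.mod_lt _ hp.out.pos
  conv_lhs => rw [h1]
  rw [padicValNat_factorial_mul_add (n / p) h2, padicValNat_factorial_mul]

theorem card_sylow_perm (n : ℕ) (P : Sylow p (Perm (Fin n))) :
    Nat.card (P : Subgroup (Perm (Fin n))) = p ^ (n.factorial).factorization p := by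
  rw [Sylow.card_eq_multiplicity, Nat.card_perm, Nat.card_fin]

/-- The wreath product transported to `Perm (Fin n)`. -/
noncomputable def wrN {n a : ℕ} (e : Fin a × ZMod p ↪ Fin n) (H : Subgroup (Perm (Fin a))) :
    Subgroup (Perm (Fin n)) :=
  (wr p H).map (Perm.viaEmbeddingHom e)

theorem card_wrN {n a : ℕ} (e : Fin a × ZMod p ↪ Fin n) (H : Subgroup (Perm (Fin a))) :
    Nat.card (wrN e H) = p ^ a * Nat.card H := by
  unfold wrN
  rw [Subgroup.card_map_of_injective (Perm.viaEmbeddingHom_injective e), card_wr, Fintype.card_fin]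

theorem genIn_wrN {n a : ℕ} (e : Fin a × ZMod p ↪ Fin n) {H : Subgroup (Perm (Fin a))}
    (hH : GenIn p H) : GenIn p (wrN e H) :=
  (genIn_wr hH).map _

end Step

section Two

theorem genIn_wrN_inf_alt {n a : ℕ} (e : Fin a × ZMod 2 ↪ Fin n) {H : Subgroup (Perm (Fin a))}
    (hH : GenIn 2 H) : GenIn 2 (wrN e H ⊓ alternatingGroup (Fin n)) := by
  have : Fact (Nat.Prime 2) := ⟨Nat.prime_two⟩
  apply genIn_of_le
  rintro x ⟨hxW, hxA0⟩
  obtain ⟨_, ⟨f, σ, hσ, rfl⟩, rfl⟩ := hxW
  have hxA : Perm.viaEmbeddingHom e (beta 2 (Fin a) f * tau 2 (Fin a) σ) ∈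
      alternatingGroup (Fin n) := hxA0
  rw [map_mul]
  have hτA : Perm.viaEmbeddingHom e (tau 2 (Fin a) σ) ∈ alternatingGroup (Fin n) := by
    rw [Perm.mem_alternatingGroup, sign_via, sign_tau_two]
  apply Subgroup.mul_mem
  · apply Subgroup.subset_closure
    refine ⟨⟨⟨_, beta_mem_wr H f, rfl⟩, ?_⟩, ?_⟩
    · have h1 : Perm.viaEmbeddingHom e (beta 2 (Fin a) f) =
          (Perm.viaEmbeddingHom e (beta 2 (Fin a) f * tau 2 (Fin a) σ)) *
            (Perm.viaEmbeddingHom e (tau 2 (Fin a) σ))⁻¹ := by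
        rw [map_mul, mul_inv_cancel_right]
      show Perm.viaEmbeddingHom e (beta 2 (Fin a) f) ∈ alternatingGroup (Fin n)
      rw [h1]
      exact Subgroup.mul_mem _ hxA (Subgroup.inv_mem _ hτA)
    · rw [← map_pow, beta_pow_eq_one, map_one]
  · have h1 : σ ∈ Subgroup.closure {g : Perm (Fin a) | g ∈ H ∧ g ^ 2 = 1} := by
      rw [hH]; exact hσ
    have h2 : (Perm.viaEmbeddingHom e).comp (tau 2 (Fin a)) σ ∈ Subgroup.map
        ((Perm.viaEmbeddingHom e).comp (tau 2 (Fin a)))
        (Subgroup.closure {g : Perm (Fin a) | g ∈ H ∧ g ^ 2 = 1}) := ⟨σ, h1, rfl⟩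
    rw [MonoidHom.map_closure] at h2
    refine Subgroup.closure_mono ?_ h2
    rintro _ ⟨s, ⟨hs, hsp⟩, rfl⟩
    refine ⟨⟨⟨_, tau_mem_wr hs, rfl⟩, ?_⟩, ?_⟩
    · show Perm.viaEmbeddingHom e (tau 2 (Fin a) s) ∈ alternatingGroup (Fin n)
      rw [Perm.mem_alternatingGroup, sign_via, sign_tau_two]
    · show (Perm.viaEmbeddingHom e (tau 2 (Fin a) s)) ^ 2 = 1
      rw [← map_pow, ← map_pow, hsp, map_one, map_one]

end Two

section Main

variable {p : ℕ} [hp : Fact p.Prime]

theorem exists_sylow_genIn (n : ℕ) : ∃ P : Sylow p (Perm (Fin n)),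
    GenIn p (P : Subgroup (Perm (Fin n))) ∧
      (p = 2 → GenIn p ((P : Subgroup (Perm (Fin n))) ⊓ alternatingGroup (Fin n))) := by
  induction n using Nat.strong_induction_on with
  | _ n ih =>
    by_cases hnp : n < p
    · -- trivial Sylow subgroup
      let P : Sylow p (Perm (Fin n)) := default
      have hcard : Nat.card (P : Subgroup (Perm (Fin n))) = 1 := by
        rw [card_sylow_perm]
        have : (n.factorial).factorization p = 0 := by
          apply Nat.factorization_eq_zero_of_not_dvd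
          rw [hp.out.dvd_factorial]
          omega
        rw [this, pow_zero]
      have hbot : (P : Subgroup (Perm (Fin n))) = ⊥ := Subgroup.card_eq_one.mp hcard
      refine ⟨P, ?_, fun _ => ?_⟩
      · apply genIn_of_forall
        intro g hg
        rw [hbot, Subgroup.mem_bot] at hg
        rw [hg, one_pow]
      · apply genIn_of_forall
        intro g hg
        have hg1 : g ∈ (P : Subgroup (Perm (Fin n))) := hg.1
        rw [hbot, Subgroup.mem_bot] at hg1
        rw [hg1, one_pow]
    · push Not at hnp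
      have hp2 : 2 ≤ p := hp.out.two_le
      have ha : n / p < n := Nat.div_lt_self (by omega) (by omega)
      obtain ⟨H0, hH0, -⟩ := ih (n / p) ha
      have hcard_le : Fintype.card (Fin (n / p) × ZMod p) ≤ Fintype.card (Fin n) := by
        rw [Fintype.card_prod, Fintype.card_fin, ZMod.card, Fintype.card_fin]
        exact Nat.div_mul_le_self n p
      obtain ⟨e⟩ := Function.Embedding.nonempty_of_card_le hcard_le
      have hcard : Nat.card (wrN e (H0 : Subgroup (Perm (Fin (n / p))))) =
          p ^ (Nat.card (Perm (Fin n))).factorization p := by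
        rw [card_wrN, card_sylow_perm, Nat.card_perm, Nat.card_fin, legendre_step n, ← pow_add,
          add_comm]
      refine ⟨Sylow.ofCard _ hcard, ?_, ?_⟩
      · rw [Sylow.coe_ofCard]
        exact genIn_wrN e hH0
      · intro h2
        subst h2
        rw [Sylow.coe_ofCard]
        exact genIn_wrN_inf_alt e hH0

end Main

end Cfsg.Agent.Lib.H9.SylSym
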