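import Mathlib
import Cfsg.Agent.Lib.H9.SylSymC
import Cfsg.Agent.Lib.H9.DerLenA

set_option autoImplicit false

/-!
# Derived length of Sylow `2`-subgroups of symmetric groups (upper bound)

Every Sylow `2`-subgroup of `Perm (Fin n)` has derived length at most `Nat.log 2 n`.
-/

namespace Cfsg.Agent.Lib.H9.DerLen

open Equiv Cfsg.Agent.Lib.H9.SylSym

section wreath

variable {p : ℕ} [hp : Fact p.Prime] {ι : Type*} [Fintype ι] [DecidableEq ι]

theorem tau_conj_beta (σ : Perm ι) (f : ι → Multiplicative (ZMod p)) :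
    tau p ι σ * beta p ι f * (tau p ι σ)⁻¹ = beta p ι (fun i => f (σ⁻¹ i)) := by
  rw [mul_inv_eq_iff_eq_mul]
  apply Equiv.ext
  intro x
  rw [Perm.mul_apply, Perm.mul_apply, beta_apply, tau_apply, tau_apply, beta_apply]
  simp

theorem wr_eq_sup (H : Subgroup (Perm ι)) :
    wr p H = H.map (tau p ι) ⊔ (beta p ι).range := by
  apply le_antisymm
  · rintro _ ⟨f, σ, hσ, rfl⟩
    exact mul_mem (Subgroup.mem_sup_right ⟨f, rfl⟩) (Subgroup.mem_sup_left ⟨σ, hσ, rfl⟩)
  · apply sup_le
    · rintro _ ⟨σ, hσ, rfl⟩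
      exact tau_mem_wr hσ
    · rintro _ ⟨f, rfl⟩
      exact beta_mem_wr H f

theorem derivedSeries_of_comm {K : Type*} [Group K] (h : ∀ x y : K, x * y = y * x) :
    derivedSeries K 1 = ⊥ := by
  rw [derivedSeries_one, commutator_def, eq_bot_iff, Subgroup.commutator_le]
  intro x _ y _
  rw [Subgroup.mem_bot, commutatorElement_eq_one_iff_mul_comm]
  exact h x y

theorem tau_injective : Function.Injective (tau p ι) := by
  intro σ σ' h
  have h2 := prod_injective (p := p) (ι := ι) (a₁ := (1, σ)) (a₂ := (1, σ')) (by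
    show beta p ι 1 * tau p ι σ = beta p ι 1 * tau p ι σ'
    rw [h])
  exact congrArg Prod.snd h2

theorem derivedSeries_wr (H : Subgroup (Perm ι)) (a : ℕ) (h : derivedSeries ↥H a = ⊥) :
    derivedSeries ↥(wr p H) (a + 1) = ⊥ := by
  rw [wr_eq_sup]
  apply derivedSeries_sup_eq_bot
  · rintro _ ⟨σ, hσ, rfl⟩
    apply Subgroup.mem_normalizer_fintype
    rintro _ ⟨f, rfl⟩
    rw [tau_conj_beta]
    exact ⟨_, rfl⟩
  · exact derivedSeries_eq_bot_of_mulEquiv (H.equivMapOfInjective _ tau_injective) a h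
  · apply derivedSeries_of_comm
    rintro ⟨_, f, rfl⟩ ⟨_, f', rfl⟩
    apply Subtype.ext
    show beta p ι f * beta p ι f' = beta p ι f' * beta p ι f
    rw [← map_mul, ← map_mul, mul_comm]

end wreath

theorem derivedSeries_wrN {n a : ℕ} (e : Fin a × ZMod 2 ↪ Fin n) (H : Subgroup (Perm (Fin a)))
    (d : ℕ) (h : derivedSeries ↥H d = ⊥) : derivedSeries ↥(wrN e H) (d + 1) = ⊥ := by
  have : Fact (Nat.Prime 2) := ⟨Nat.prime_two⟩
  unfold wrN
  exact derivedSeries_eq_bot_of_mulEquiv
    ((wr 2 H).equivMapOfInjective _ (Perm.viaEmbeddingHom_injective e)) (d + 1)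
    (derivedSeries_wr H d h)

theorem exists_sylow_derivedSeries (n : ℕ) : ∃ P : Sylow 2 (Perm (Fin n)),
    derivedSeries ↥(P : Subgroup (Perm (Fin n))) (Nat.log 2 n) = ⊥ := by
  have : Fact (Nat.Prime 2) := ⟨Nat.prime_two⟩
  induction n using Nat.strong_induction_on with
  | _ n ih =>
    by_cases hn2 : n < 2
    · let P : Sylow 2 (Perm (Fin n)) := default
      have hcard : Nat.card (P : Subgroup (Perm (Fin n))) = 1 := by
        rw [card_sylow_perm]
        have : (n.factorial).factorization 2 = 0 := by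
          apply Nat.factorization_eq_zero_of_not_dvd
          rw [Nat.prime_two.dvd_factorial]
          omega
        rw [this, pow_zero]
      have hsub : Subsingleton ↥(P : Subgroup (Perm (Fin n))) :=
        (Nat.card_eq_one_iff_unique.mp hcard).1
      refine ⟨P, ?_⟩
      rw [eq_bot_iff]
      intro x _
      rw [Subgroup.mem_bot]
      exact Subsingleton.elim _ _
    · push Not at hn2
      have ha : n / 2 < n := Nat.div_lt_self (by omega) (by omega)
      obtain ⟨H0, hH0⟩ := ih (n / 2) ha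
      have hcard_le : Fintype.card (Fin (n / 2) × ZMod 2) ≤ Fintype.card (Fin n) := by
        rw [Fintype.card_prod, Fintype.card_fin, ZMod.card, Fintype.card_fin]
        exact Nat.div_mul_le_self n 2
      obtain ⟨e⟩ := Function.Embedding.nonempty_of_card_le hcard_le
      have hcard : Nat.card (wrN e (H0 : Subgroup (Perm (Fin (n / 2))))) =
          2 ^ (Nat.card (Perm (Fin n))).factorization 2 := by
        rw [card_wrN, card_sylow_perm, Nat.card_perm, Nat.card_fin, legendre_step n, ← pow_add,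
          add_comm]
      refine ⟨Sylow.ofCard _ hcard, ?_⟩
      rw [Sylow.coe_ofCard, Nat.log_of_one_lt_of_le (by norm_num) hn2]
      exact derivedSeries_wrN e _ _ hH0

theorem sylow_perm_derivedSeries (n : ℕ) (P : Sylow 2 (Perm (Fin n))) :
    derivedSeries ↥(P : Subgroup (Perm (Fin n))) (Nat.log 2 n) = ⊥ := by
  have : Fact (Nat.Prime 2) := ⟨Nat.prime_two⟩
  obtain ⟨P0, hP0⟩ := exists_sylow_derivedSeries n
  exact derivedSeries_eq_bot_of_mulEquiv (Sylow.equiv P0 P) _ hP0

end Cfsg.Agent.Lib.H9.DerLen
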