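import Mathlib
import Cfsg.Agent.Lib.H9.SqCommA

/-!
# The rotation torus of SL2 over a finite field and the circle count
-/

set_option autoImplicit false

namespace Cfsg.Agent.Lib.H9.SqC

open Matrix
open scoped commutatorElement

variable {F : Type*} [Field F]

abbrev SL2 (F : Type*) [Field F] := Matrix.SpecialLinearGroup (Fin 2) F

theorem sl2_mul_val (g h : SL2 F) : (g * h).1 = g.1 * h.1 := rfl

theorem sl2_ext {g h : SL2 F} (h00 : g.1 0 0 = h.1 0 0) (h01 : g.1 0 1 = h.1 0 1)
    (h10 : g.1 1 0 = h.1 1 0) (h11 : g.1 1 1 = h.1 1 1) : g = h := by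
  apply Subtype.ext
  ext i j
  fin_cases i <;> fin_cases j <;> assumption

theorem sl2_det (g : SL2 F) : g.1 0 0 * g.1 1 1 - g.1 0 1 * g.1 1 0 = 1 := by
  have := g.2
  rwa [det_fin_two] at this

theorem sl2_inv_val (g : SL2 F) : (g⁻¹).1 = !![g.1 1 1, -g.1 0 1; -g.1 1 0, g.1 0 0] := by
  show (g⁻¹ : SL2 F).1 = _
  rw [Matrix.SpecialLinearGroup.coe_inv, adjugate_fin_two]

/-- the rotation torus `{[[x,-y],[y,x]]}` -/
def rotT (F : Type*) [Field F] : Subgroup (SL2 F) where
  carrier := {g | g.1 0 0 = g.1 1 1 ∧ g.1 0 1 = - g.1 1 0}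
  mul_mem' := by
    rintro a b ⟨ha1, ha2⟩ ⟨hb1, hb2⟩
    refine ⟨?_, ?_⟩
    · rw [sl2_mul_val, mul_apply, mul_apply, Fin.sum_univ_two, Fin.sum_univ_two, ha1, ha2, hb1, hb2]
      ring
    · rw [sl2_mul_val, mul_apply, mul_apply, Fin.sum_univ_two, Fin.sum_univ_two, ha1, ha2, hb1, hb2]
      ring
  one_mem' := by
    refine ⟨?_, ?_⟩ <;> simp
  inv_mem' := by
    rintro a ⟨ha1, ha2⟩
    refine ⟨?_, ?_⟩
    · rw [sl2_inv_val]; simp [ha1]
    · rw [sl2_inv_val]; simp [ha2]

theorem mem_rotT {g : SL2 F} : g ∈ rotT F ↔ g.1 0 0 = g.1 1 1 ∧ g.1 0 1 = - g.1 1 0 := Iff.rfl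

theorem rotT_norm {g : SL2 F} (hg : g ∈ rotT F) : g.1 1 1 ^ 2 + g.1 1 0 ^ 2 = 1 := by
  have := sl2_det g
  rw [hg.1, hg.2] at this
  linear_combination this

/-- the reflecting element `[[u,v],[v,-u]]`, `u² + v² = -1`. -/
def bEl (u v : F) (h : u ^ 2 + v ^ 2 = -1) : SL2 F :=
  ⟨!![u, v; v, -u], by rw [det_fin_two_of]; linear_combination -h⟩

theorem bEl_mul_rot (u v : F) (h : u ^ 2 + v ^ 2 = -1) {t : SL2 F} (ht : t ∈ rotT F) :
    bEl u v h * t = t⁻¹ * bEl u v h := by
  obtain ⟨h1, h2⟩ := ht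
  apply sl2_ext <;>
  · rw [sl2_mul_val, sl2_mul_val, sl2_inv_val, mul_apply, mul_apply, Fin.sum_univ_two,
      Fin.sum_univ_two]
    simp [bEl, h1, h2]
    try ring

theorem bEl_conj (u v : F) (h : u ^ 2 + v ^ 2 = -1) {t : SL2 F} (ht : t ∈ rotT F) :
    bEl u v h * t * (bEl u v h)⁻¹ = t⁻¹ := by
  rw [bEl_mul_rot u v h ht, mul_assoc, mul_inv_cancel, mul_one]

theorem bEl_not_mem (u v : F) (h : u ^ 2 + v ^ 2 = -1) (h2 : (2 : F) ≠ 0) :
    bEl u v h ∉ rotT F := by
  rintro ⟨h1, h3⟩
  simp only [bEl, of_apply, cons_val', cons_val_zero, cons_val_one, cons_val_fin_one] at h1 h3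
  have hu : u = 0 := by
    have : 2 * u = 0 := by linear_combination h1
    rcases mul_eq_zero.1 this with h | h
    · exact absurd h h2
    · exact h
  have hv : v = 0 := by
    have : 2 * v = 0 := by linear_combination h3
    rcases mul_eq_zero.1 this with h | h
    · exact absurd h h2
    · exact h
  rw [hu, hv] at h
  have : (0 : F) = -1 := by simpa using h
  have : (1 : F) = 0 := by linear_combination this
  exact one_ne_zero this

/-- elements of the torus of order at most two are `1` and `b²`. -/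
theorem rotT_sq_eq_one (u v : F) (h : u ^ 2 + v ^ 2 = -1) (h2 : (2 : F) ≠ 0) {w : SL2 F}
    (hw : w ∈ rotT F) (hw2 : w * w = 1) : w = 1 ∨ w = bEl u v h * bEl u v h := by
  have hn := rotT_norm hw
  obtain ⟨h1, h3⟩ := hw
  have e00 := congrArg (fun m : SL2 F => m.1 0 0) hw2
  have e10 := congrArg (fun m : SL2 F => m.1 1 0) hw2
  simp only [sl2_mul_val, mul_apply, Fin.sum_univ_two] at e00 e10
  rw [h1, h3] at e00
  rw [h1] at e10
  have e00' : w.1 1 1 * w.1 1 1 + -w.1 1 0 * w.1 1 0 = 1 := by simpa using e00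
  have e10' : w.1 1 0 * w.1 1 1 + w.1 1 1 * w.1 1 0 = 0 := by simpa using e10
  have hy : w.1 1 0 = 0 := by
    have : 2 * (w.1 1 0 * w.1 1 0) = 0 := by linear_combination hn - e00'
    rcases mul_eq_zero.1 this with h | h
    · exact absurd h h2
    · exact mul_self_eq_zero.1 h
  have hx : w.1 1 1 * w.1 1 1 = 1 := by rw [hy] at e00'; simpa using e00'
  rcases mul_self_eq_one_iff.1 hx with hx1 | hx1
  · left
    apply sl2_ext
    · rw [h1, hx1]; simp
    · rw [h3, hy]; simp
    · rw [hy]; simp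
    · rw [hx1]; simp
  · right
    apply sl2_ext <;>
    · rw [sl2_mul_val, mul_apply, Fin.sum_univ_two]
      simp [bEl, h1, h3, hy, hx1]
      try first | ring1 | linear_combination -h

/-- rational parametrisation of the circle -/
theorem conic_card [Fintype F] (h2 : (2 : F) ≠ 0) :
    Nat.card {p : F × F // p.1 ^ 2 + p.2 ^ 2 = 1} + Nat.card {t : F // t ^ 2 + 1 = 0} =
      Fintype.card F + 1 := by
  classical
  let α := {p : F × F // p.1 ^ 2 + p.2 ^ 2 = 1}
  let a0 : α := ⟨(-1, 0), by ring⟩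
  have hx1 : ∀ b : {b : α // b ≠ a0}, 1 + b.1.1.1 ≠ 0 := by
    intro b hb
    apply b.2
    have hx : b.1.1.1 = -1 := by linear_combination hb
    have hc := b.1.2
    rw [hx] at hc
    have hy : b.1.1.2 = 0 := by
      have : b.1.1.2 ^ 2 = 0 := by linear_combination hc
      exact pow_eq_zero_iff (two_ne_zero) |>.1 this
    apply Subtype.ext
    apply Prod.ext
    · exact hx
    · exact hy
  let e : {t : F // t ^ 2 + 1 ≠ 0} ≃ {b : α // b ≠ a0} :=
    { toFun := fun t => ⟨⟨((1 - t.1 ^ 2) / (t.1 ^ 2 + 1), 2 * t.1 / (t.1 ^ 2 + 1)), by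
          have := t.2
          field_simp
          ring⟩, by
        intro h
        have h1 := congrArg (fun b : α => b.1.1) h
        simp only [a0] at h1
        have := t.2
        rw [div_eq_iff this] at h1
        apply h2
        linear_combination h1⟩
      invFun := fun b => ⟨b.1.1.2 / (1 + b.1.1.1), by
        have hd := hx1 b
        have hc := b.1.2
        have : (b.1.1.2 / (1 + b.1.1.1)) ^ 2 + 1 = 2 / (1 + b.1.1.1) := by
          field_simp
          linear_combination hc
        rw [this]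
        exact div_ne_zero h2 hd⟩
      left_inv := by
        intro t
        apply Subtype.ext
        have := t.2
        show 2 * t.1 / (t.1 ^ 2 + 1) / (1 + (1 - t.1 ^ 2) / (t.1 ^ 2 + 1)) = t.1
        have h3 : 1 + (1 - t.1 ^ 2) / (t.1 ^ 2 + 1) = 2 / (t.1 ^ 2 + 1) := by
          field_simp
          ring
        rw [h3]
        field_simp
      right_inv := by
        intro b
        have hd := hx1 b
        have hc := b.1.2
        apply Subtype.ext
        apply Subtype.ext
        have h3 : (b.1.1.2 / (1 + b.1.1.1)) ^ 2 + 1 = 2 / (1 + b.1.1.1) := by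
          field_simp
          linear_combination hc
        apply Prod.ext
        · show (1 - (b.1.1.2 / (1 + b.1.1.1)) ^ 2) / ((b.1.1.2 / (1 + b.1.1.1)) ^ 2 + 1) = b.1.1.1
          rw [h3]
          field_simp
          linear_combination -hc
        · show 2 * (b.1.1.2 / (1 + b.1.1.1)) / ((b.1.1.2 / (1 + b.1.1.1)) ^ 2 + 1) = b.1.1.2
          rw [h3]
          field_simp }
  have h1 : Fintype.card α = Fintype.card {t : F // t ^ 2 + 1 ≠ 0} + 1 := by
    rw [← Fintype.card_congr (Equiv.optionSubtypeNe a0), Fintype.card_option,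
      Fintype.card_congr e]
  have h3 : Fintype.card {t : F // t ^ 2 + 1 ≠ 0} =
      Fintype.card F - Fintype.card {t : F // t ^ 2 + 1 = 0} :=
    Fintype.card_subtype_compl _
  have h4 : Fintype.card {t : F // t ^ 2 + 1 = 0} ≤ Fintype.card F := Fintype.card_subtype_le _
  rw [Nat.card_eq_fintype_card, Nat.card_eq_fintype_card]
  show Fintype.card α + _ = _
  omega

theorem card_sqrt_neg_one (h2 : (2 : F) ≠ 0) :
    (IsSquare (-1 : F) → Nat.card {t : F // t ^ 2 + 1 = 0} = 2) ∧
      (¬ IsSquare (-1 : F) → Nat.card {t : F // t ^ 2 + 1 = 0} = 0) := by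
  refine ⟨fun h => ?_, fun h => ?_⟩
  · obtain ⟨i, hi⟩ := h
    have hi0 : i ≠ 0 := by
      rintro rfl
      simp at hi
    have hne : i ≠ -i := by
      intro h
      have : 2 * i = 0 := by linear_combination h
      rcases mul_eq_zero.1 this with h | h
      · exact h2 h
      · exact hi0 h
    have hset : {t : F | t ^ 2 + 1 = 0} = {i, -i} := by
      ext t
      simp only [Set.mem_ofPred_eq, Set.mem_insert_iff, Set.mem_singleton_iff]
      constructor
      · intro ht
        have : (t - i) * (t + i) = 0 := by linear_combination ht + hi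
        rcases mul_eq_zero.1 this with h | h
        · left; linear_combination h
        · right; linear_combination h
      · rintro (rfl | rfl)
        · linear_combination -hi
        · linear_combination -hi
    show Nat.card ↥{t : F | t ^ 2 + 1 = 0} = 2
    rw [Nat.card_coe_set_eq, hset, Set.ncard_pair hne]
  · rw [Nat.card_eq_zero]
    left
    constructor
    rintro ⟨t, ht⟩
    apply h
    exact ⟨t, by linear_combination -ht⟩

section fin

variable [Fintype F]

theorem two_ne_zero_of_odd_card (hq : Odd (Fintype.card F)) : (2 : F) ≠ 0 := by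
  apply Ring.two_ne_zero
  intro h
  have := FiniteField.even_card_of_char_two h
  rcases hq with ⟨k, hk⟩
  omega

def rotEquiv : ↥(rotT F) ≃ {p : F × F // p.1 ^ 2 + p.2 ^ 2 = 1} where
  toFun g := ⟨(g.1.1 1 1, g.1.1 1 0), rotT_norm g.2⟩
  invFun p := ⟨⟨!![p.1.1, -p.1.2; p.1.2, p.1.1], by
      rw [det_fin_two_of]; linear_combination p.2⟩, ⟨rfl, rfl⟩⟩
  left_inv g := by
    apply Subtype.ext
    apply sl2_ext <;> simp [g.2.1, g.2.2]
  right_inv p := by
    apply Subtype.ext
    apply Prod.ext <;> simp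

theorem card_rotT (hq : Odd (Fintype.card F)) :
    (Fintype.card F % 4 = 3 → Nat.card (rotT F) = Fintype.card F + 1) ∧
      (Fintype.card F % 4 = 1 → Nat.card (rotT F) + 1 = Fintype.card F) := by
  have h2 := two_ne_zero_of_odd_card hq
  have h1 := conic_card (F := F) h2
  rw [← Nat.card_congr rotEquiv] at h1
  have h3 := card_sqrt_neg_one (F := F) h2
  have h4 := FiniteField.isSquare_neg_one_iff (F := F)
  constructor
  · intro hmod
    have : ¬ IsSquare (-1 : F) := by rw [h4]; simpa using hmod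
    rw [h3.2 this] at h1
    omega
  · intro hmod
    have : IsSquare (-1 : F) := by rw [h4]; omega
    rw [h3.1 this] at h1
    omega

theorem padicValNat_two_of_mod_four {n : ℕ} (h : n % 4 = 2) : padicValNat 2 n = 1 := by
  have hn : n ≠ 0 := by omega
  have h1 : 1 ≤ padicValNat 2 n := (padicValNat_dvd_iff_le hn).1 (by omega)
  have h2 : ¬ 2 ≤ padicValNat 2 n := fun h' => by
    have := (padicValNat_dvd_iff_le hn).2 h'
    omega
  omega

theorem val_rotT (hq : Odd (Fintype.card F)) :
    padicValNat 2 (Nat.card (rotT F)) + 1 =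
      padicValNat 2 (Fintype.card F + 1) + padicValNat 2 (Fintype.card F - 1) ∧
    2 ≤ padicValNat 2 (Nat.card (rotT F)) := by
  obtain ⟨hA, hB⟩ := card_rotT hq
  have hq1 : 1 < Fintype.card F := Fintype.one_lt_card
  rcases hq with ⟨k, hk⟩
  have hcases : Fintype.card F % 4 = 3 ∨ Fintype.card F % 4 = 1 := by omega
  rcases hcases with h | h
  · have h1 := hA h
    rw [h1]
    have h5 : padicValNat 2 (Fintype.card F - 1) = 1 :=
      padicValNat_two_of_mod_four (by omega)
    refine ⟨by rw [h5], ?_⟩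
    exact (padicValNat_dvd_iff_le (by omega)).1 (by omega)
  · have h1 := hB h
    have h6 : Nat.card (rotT F) = Fintype.card F - 1 := by omega
    rw [h6]
    have h5 : padicValNat 2 (Fintype.card F + 1) = 1 :=
      padicValNat_two_of_mod_four (by omega)
    refine ⟨by rw [h5]; ring, ?_⟩
    exact (padicValNat_dvd_iff_le (by omega)).1 (by omega)

/-- the Sylow 2-subgroup of the torus, inside SL2 -/
noncomputable def rotT2 (F : Type*) [Field F] [Fintype F] : Subgroup (SL2 F) :=
  ((default : Sylow 2 ↥(rotT F)) : Subgroup ↥(rotT F)).map (rotT F).subtype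

theorem rotT2_le : rotT2 F ≤ rotT F := Subgroup.map_subtype_le _

theorem rotT2_isPGroup : IsPGroup 2 ↥(rotT2 F) :=
  (default : Sylow 2 ↥(rotT F)).isPGroup'.map _

theorem card_rotT2 : Nat.card ↥(rotT2 F) = 2 ^ padicValNat 2 (Nat.card ↥(rotT F)) := by
  unfold rotT2
  rw [Subgroup.card_map_of_injective (Subgroup.subtype_injective _), Sylow.card_eq_multiplicity,
    Nat.factorization_def _ Nat.prime_two]

variable (u v : F) (h : u ^ 2 + v ^ 2 = -1)

theorem bEl_sq_sq : (bEl u v h * bEl u v h) * (bEl u v h * bEl u v h) = 1 := by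
  have hz : (bEl u v h * bEl u v h).1 = !![-1, 0; 0, -1] := by
    rw [sl2_mul_val]
    ext i j
    fin_cases i <;> fin_cases j <;>
    · simp [bEl, mul_apply, Fin.sum_univ_two]
      try first | ring1 | linear_combination h
  apply sl2_ext <;>
  · rw [sl2_mul_val, hz]
    simp [mul_apply, Fin.sum_univ_two]

theorem bEl_pow_four : (bEl u v h) ^ 4 = 1 := by
  have := bEl_sq_sq u v h
  rw [show (4 : ℕ) = 2 + 2 from rfl, pow_add, pow_two]
  exact this

/-- the generalized quaternion Sylow 2-subgroup of SL2 -/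
noncomputable def quatQ : Subgroup (SL2 F) := Subgroup.zpowers (bEl u v h) ⊔ rotT2 F

theorem zpowers_bEl_isPGroup : IsPGroup 2 ↥(Subgroup.zpowers (bEl u v h)) := by
  intro g
  refine ⟨2, ?_⟩
  obtain ⟨k, hk⟩ := Subgroup.mem_zpowers_iff.1 g.2
  apply Subtype.ext
  rw [Subgroup.coe_pow, Subgroup.coe_one, ← hk]
  show (bEl u v h ^ k) ^ 4 = 1
  rw [← zpow_natCast, ← _root_.zpow_mul, mul_comm, _root_.zpow_mul, zpow_natCast, bEl_pow_four, _root_.one_zpow]

theorem bEl_mem_normalizer : bEl u v h ∈ Subgroup.normalizer (rotT2 F : Set (SL2 F)) := by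
  apply Subgroup.mem_normalizer_fintype
  intro t ht
  rw [bEl_conj u v h (rotT2_le ht)]
  exact inv_mem ht

theorem quatQ_isPGroup : IsPGroup 2 ↥(quatQ u v h) := by
  apply IsPGroup.to_sup_of_normal_right' (zpowers_bEl_isPGroup u v h) rotT2_isPGroup
  rw [Subgroup.zpowers_le]
  exact bEl_mem_normalizer u v h

theorem quatQ_card (hq : Odd (Fintype.card F)) :
    2 ^ (padicValNat 2 (Nat.card ↥(rotT F)) + 1) ∣ Nat.card ↥(quatQ u v h) := by
  have h2 := two_ne_zero_of_odd_card hq
  obtain ⟨j, hj⟩ := (quatQ_isPGroup u v h).exists_card_eq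
  have hle : rotT2 F ≤ quatQ u v h := le_sup_right
  have hdvd := Subgroup.card_dvd_of_le hle
  rw [card_rotT2, hj] at hdvd
  have hmj : padicValNat 2 (Nat.card ↥(rotT F)) ≤ j :=
    (Nat.pow_dvd_pow_iff_le_right (by norm_num)).1 hdvd
  have hne : padicValNat 2 (Nat.card ↥(rotT F)) ≠ j := by
    intro heq
    have : rotT2 F = quatQ u v h := by
      apply Subgroup.eq_of_le_of_card_ge hle
      rw [hj, card_rotT2, heq]
    have hb : bEl u v h ∈ quatQ u v h :=
      Subgroup.mem_sup_left (Subgroup.mem_zpowers _)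
    rw [← this] at hb
    exact bEl_not_mem u v h h2 (rotT2_le hb)
  rw [hj]
  apply pow_dvd_pow
  omega

theorem quatQ_sqComm (hq : Odd (Fintype.card F)) : SqComm (quatQ u v h) := by
  have h2 := two_ne_zero_of_odd_card hq
  have hval := (val_rotT (F := F) hq).2
  set b := bEl u v h with hb
  have hbQ : b ∈ quatQ u v h := Subgroup.mem_sup_left (Subgroup.mem_zpowers _)
  have hTQ : rotT2 F ≤ quatQ u v h := le_sup_right
  -- squares of torus elements are commutators
  have hsq : ∀ s ∈ rotT2 F, s ^ 2 ∈ ⁅quatQ u v h, quatQ u v h⁆ := by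
    intro s hs
    have h1 : ⁅b, s⁆ ∈ ⁅quatQ u v h, quatQ u v h⁆ :=
      Subgroup.commutator_mem_commutator hbQ (hTQ hs)
    rw [commutatorElement_def, bEl_conj u v h (rotT2_le hs)] at h1
    have h3 : s ^ 2 = (s⁻¹ * s⁻¹)⁻¹ := by group
    rw [h3]
    exact inv_mem h1
  -- an element of order four in the torus
  have hex : ∃ t ∈ rotT2 F, t * t ≠ 1 := by
    by_contra hcon
    push Not at hcon
    have hsub : (rotT2 F : Set (SL2 F)) ⊆ {1, b * b} := by
      intro t ht
      rcases rotT_sq_eq_one u v h h2 (rotT2_le ht) (hcon t ht) with h | h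
      · left; exact h
      · right; exact h
    have hc : Nat.card ↥(rotT2 F) ≤ 2 := by
      rw [← SetLike.coe_sort_coe, Nat.card_coe_set_eq]
      refine (Set.ncard_le_ncard hsub (Set.toFinite _)).trans ?_
      exact (Set.ncard_insert_le _ _).trans (by rw [Set.ncard_singleton])
    rw [card_rotT2] at hc
    have : 2 ^ 2 ≤ 2 ^ padicValNat 2 (Nat.card ↥(rotT F)) :=
      Nat.pow_le_pow_right (by norm_num) hval
    omega
  obtain ⟨t1, ht1, ht1ne⟩ := hex
  obtain ⟨k, hk⟩ : ∃ k, orderOf t1 = 2 ^ k := by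
    rw [exists_orderOf_eq_prime_pow_iff]
    obtain ⟨m, hm⟩ := rotT2_isPGroup (F := F) ⟨t1, ht1⟩
    refine ⟨m, ?_⟩
    have := congrArg Subtype.val hm
    simpa using this
  have hk2 : 2 ≤ k := by
    by_contra hlt
    push Not at hlt
    apply ht1ne
    have hdvd : orderOf t1 ∣ 2 := by
      rw [hk]
      interval_cases k
      · norm_num
      · norm_num
    have := orderOf_dvd_iff_pow_eq_one.1 hdvd
    rw [← this, pow_two]
  set t0 := t1 ^ 2 ^ (k - 2) with ht0
  have ht0m : t0 ∈ rotT2 F := pow_mem ht1 _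
  have hw : (t0 * t0) * (t0 * t0) = 1 := by
    have : (t0 * t0) * (t0 * t0) = t1 ^ (2 ^ (k - 2) * 4) := by
      rw [ht0, pow_mul]
      group
    rw [this]
    have : 2 ^ (k - 2) * 4 = 2 ^ k := by
      have : k = (k - 2) + 2 := by omega
      conv_rhs => rw [this, pow_add]
      norm_num
    rw [this, ← hk, pow_orderOf_eq_one]
  have hw1 : t0 * t0 ≠ 1 := by
    have : t0 * t0 = t1 ^ (2 ^ (k - 2) * 2) := by
      rw [ht0, pow_mul]
      group
    rw [this]
    apply pow_ne_one_of_lt_orderOf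
    · positivity
    · rw [hk]
      have : k = (k - 2) + 2 := by omega
      conv_rhs => rw [this, pow_add]
      have : 0 < 2 ^ (k - 2) := by positivity
      omega
  have hzz : t0 * t0 = b * b := by
    rcases rotT_sq_eq_one u v h h2 (mul_mem (rotT2_le ht0m) (rotT2_le ht0m)) hw with h | h
    · exact absurd h hw1
    · exact h
  apply sqComm_of_closure ((Subgroup.zpowers b : Set (SL2 F)) ∪ (rotT2 F : Set (SL2 F)))
  · rw [Subgroup.closure_union, Subgroup.closure_eq, Subgroup.closure_eq]
    rfl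
  · rintro s (hs | hs)
    · obtain ⟨m, rfl⟩ := Subgroup.mem_zpowers_iff.1 hs
      have : (b ^ m) ^ 2 = (b * b) ^ m := by
        rw [← zpow_natCast, ← _root_.zpow_mul, mul_comm, _root_.zpow_mul]
        congr 1
        rw [zpow_natCast, pow_two]
      rw [this, ← hzz]
      apply zpow_mem
      have := hsq t0 ht0m
      rwa [pow_two] at this
    · exact hsq s hs


omit u v h in
theorem exists_sq_add_sq_neg_one (hq : Odd (Fintype.card F)) : ∃ u v : F, u ^ 2 + v ^ 2 = -1 := by
  open Polynomial in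
  have h1 : (X ^ 2 : F[X]).degree = 2 := by
    rw [degree_X_pow]; rfl
  have h2 : (X ^ 2 + C 1 : F[X]).degree = 2 := by
    rw [degree_X_pow_add_C (by norm_num)]; rfl
  obtain ⟨a, b, hab⟩ := FiniteField.exists_root_sum_quadratic h1 h2 (Nat.odd_iff.1 hq)
  refine ⟨a, b, ?_⟩
  simp only [eval_pow, eval_X, eval_add, eval_C] at hab
  linear_combination hab

omit u v h in
/-- a 2-subgroup of `SL2(q)`, `q` odd, of order at least `(q^2-1)_2`, with elementary abelian
abelianisation -/
theorem exists_quat (hq : Odd (Fintype.card F)) : ∃ Q : Subgroup (SL2 F), IsPGroup 2 ↥Q ∧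
    2 ^ (padicValNat 2 (Fintype.card F + 1) + padicValNat 2 (Fintype.card F - 1)) ∣ Nat.card ↥Q ∧
    SqComm Q := by
  obtain ⟨u, v, h⟩ := exists_sq_add_sq_neg_one hq
  refine ⟨quatQ u v h, quatQ_isPGroup u v h, ?_, quatQ_sqComm u v h hq⟩
  rw [← (val_rotT hq).1]
  exact quatQ_card u v h hq

end fin

end Cfsg.Agent.Lib.H9.SqC
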