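import Mathlib
import Cfsg.Agent.Lib.H9.SqCommA
import Cfsg.Agent.Lib.H9.SqCommB

/-!
# The wreath product `SL2 ≀ Sym(n)` inside `Sp(2n)`
-/

set_option autoImplicit false

namespace Cfsg.Agent.Lib.H9.SqC

open Matrix Equiv
open scoped commutatorElement

variable {F : Type*} [Field F] {n : ℕ}

/-- block matrix of `n` copies of `SL2` acting on the hyperbolic planes `⟨e_i, f_i⟩` -/
def phiMat (g : Fin n → SL2 F) : Matrix (Fin n ⊕ Fin n) (Fin n ⊕ Fin n) F :=
  fromBlocks (diagonal fun i => (g i).1 0 0) (diagonal fun i => (g i).1 0 1)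
    (diagonal fun i => (g i).1 1 0) (diagonal fun i => (g i).1 1 1)

theorem phiMat_mem (g : Fin n → SL2 F) : phiMat g ∈ symplecticGroup (Fin n) F := by
  rw [phiMat, SymplecticGroup.fromBlocks_mem_iff]
  simp only [diagonal_transpose, diagonal_mul_diagonal]
  refine ⟨?_, ?_, ?_⟩
  · congr 1; funext i; ring
  · congr 1; funext i; ring
  · rw [diagonal_sub, ← diagonal_one]
    congr 1
    funext i
    have := sl2_det (g i)
    linear_combination this

def phiHom : (Fin n → SL2 F) →* symplecticGroup (Fin n) F where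
  toFun g := ⟨phiMat g, phiMat_mem g⟩
  map_one' := by
    apply Subtype.ext
    show phiMat (1 : Fin n → SL2 F) = 1
    rw [phiMat, ← fromBlocks_one]
    congr 1 <;> ext i j <;> simp [diagonal_apply, one_apply]
  map_mul' g g' := by
    apply Subtype.ext
    show phiMat (g * g') = phiMat g * phiMat g'
    simp only [phiMat, fromBlocks_multiply, diagonal_mul_diagonal, diagonal_add]
    congr 1 <;>
    · congr 1
      funext i
      simp [mul_apply, Fin.sum_univ_two]

theorem phiHom_val (g : Fin n → SL2 F) : (phiHom g).1 = phiMat g := rfl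

theorem phiHom_injective : Function.Injective (phiHom (F := F) (n := n)) := by
  intro g g' hgg
  have h1 : phiMat g = phiMat g' := congrArg Subtype.val hgg
  simp only [phiMat, fromBlocks_inj] at h1
  obtain ⟨h00, h01, h10, h11⟩ := h1
  funext i
  apply sl2_ext
  · exact congrFun (diagonal_injective h00) i
  · exact congrFun (diagonal_injective h01) i
  · exact congrFun (diagonal_injective h10) i
  · exact congrFun (diagonal_injective h11) i

/-- the permutation matrix `P σ`, with `P σ i j = 1` iff `i = σ j`. -/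
def pM (σ : Perm (Fin n)) : Matrix (Fin n) (Fin n) F :=
  Matrix.of fun i j => if i = σ j then 1 else 0

theorem pM_apply (σ : Perm (Fin n)) (i j : Fin n) :
    pM (F := F) σ i j = if i = σ j then 1 else 0 := rfl

theorem pM_one : pM (F := F) (1 : Perm (Fin n)) = 1 := by
  ext i j
  by_cases h : i = j <;> simp [pM_apply, one_apply, h]

theorem pM_mul (σ τ : Perm (Fin n)) : pM (F := F) (σ * τ) = pM σ * pM τ := by
  ext i j
  simp only [mul_apply, pM_apply, Perm.coe_mul, Function.comp_apply, mul_ite, mul_one, mul_zero]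
  rw [Finset.sum_eq_single (τ j)]
  · by_cases h : i = σ (τ j) <;> simp [h]
  · intro k _ hk
    rw [if_neg hk]
  · intro h; exact absurd (Finset.mem_univ _) h

theorem pM_transpose_mul (σ : Perm (Fin n)) : (pM (F := F) σ)ᵀ * pM σ = 1 := by
  ext i j
  simp only [mul_apply, transpose_apply, pM_apply, one_apply]
  simp only [mul_ite, mul_one, mul_zero]
  by_cases hij : i = j
  · subst hij
    simp
  · simp only [hij, if_false]
    apply Finset.sum_eq_zero
    intro k _
    split_ifs with h1 h2
    · exfalso; apply hij; exact σ.injective (h2.symm.trans h1)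
    · rfl
    · rfl

def psiMat (σ : Perm (Fin n)) : Matrix (Fin n ⊕ Fin n) (Fin n ⊕ Fin n) F :=
  fromBlocks (pM σ) 0 0 (pM σ)

theorem psiMat_mem (σ : Perm (Fin n)) : psiMat (F := F) σ ∈ symplecticGroup (Fin n) F := by
  rw [psiMat, SymplecticGroup.fromBlocks_mem_iff]
  refine ⟨by simp, by simp, ?_⟩
  rw [pM_transpose_mul]
  simp

def psiHom : Perm (Fin n) →* symplecticGroup (Fin n) F where
  toFun σ := ⟨psiMat σ, psiMat_mem σ⟩
  map_one' := by
    apply Subtype.ext
    show psiMat (1 : Perm (Fin n)) = 1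
    rw [psiMat, pM_one, fromBlocks_one]
  map_mul' σ τ := by
    apply Subtype.ext
    show psiMat (σ * τ) = psiMat σ * psiMat τ
    simp [psiMat, pM_mul, fromBlocks_multiply]

theorem psiHom_val (σ : Perm (Fin n)) : (psiHom (F := F) σ).1 = psiMat σ := rfl

theorem pM_mul_diagonal (σ : Perm (Fin n)) (a : Fin n → F) :
    pM σ * diagonal a = diagonal (fun i => a (σ⁻¹ i)) * pM σ := by
  ext i j
  rw [mul_diagonal, diagonal_mul, pM_apply]
  split_ifs with h
  · rw [h]; simp
  · simp

theorem psi_mul_phi (σ : Perm (Fin n)) (g : Fin n → SL2 F) :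
    psiHom σ * phiHom g = phiHom (fun i => g (σ⁻¹ i)) * psiHom σ := by
  apply Subtype.ext
  show psiMat σ * phiMat g = phiMat (fun i => g (σ⁻¹ i)) * psiMat σ
  simp only [psiMat, phiMat, fromBlocks_multiply, Matrix.zero_mul, Matrix.mul_zero, add_zero,
    zero_add, pM_mul_diagonal]

theorem psi_conj_phi (σ : Perm (Fin n)) (g : Fin n → SL2 F) :
    psiHom σ * phiHom g * (psiHom σ)⁻¹ = phiHom (fun i => g (σ⁻¹ i)) := by
  rw [psi_mul_phi, mul_assoc, mul_inv_cancel, mul_one]

/-- a block-diagonal element which is also a permutation matrix is trivial. -/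
theorem phi_eq_psi {g : Fin n → SL2 F} {σ : Perm (Fin n)} (h : phiHom g = psiHom σ) : σ = 1 := by
  have h1 : phiMat g = psiMat σ := congrArg Subtype.val h
  simp only [phiMat, psiMat, fromBlocks_inj] at h1
  obtain ⟨h00, -, -, -⟩ := h1
  ext j
  by_contra hne
  have := congrFun (congrFun h00 (σ j)) j
  rw [pM_apply, if_pos rfl, diagonal_apply, if_neg] at this
  · exact zero_ne_one this
  · intro h; apply hne; rw [h]; simp

end Cfsg.Agent.Lib.H9.SqC
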