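import Mathlib
import Cfsg.Agent.Lib.H9.SqCommA
import Cfsg.Agent.Lib.H9.SqCommB
import Cfsg.Agent.Lib.H9.SqCommC
import Cfsg.Agent.Lib.H9.SylSymC
import Cfsg.Agent.Lib.H2.SpOrder

/-!
# Sylow 2-subgroups of `Sp(2n, q)`, `q` odd: squares are commutators
-/

set_option autoImplicit false

namespace Cfsg.Agent.Lib.H9.SqC

open Matrix Equiv
open scoped commutatorElement

theorem val_prod (q : ℕ) (hq : Odd q) (hq1 : 1 < q) (n : ℕ) :
    padicValNat 2 (∏ i ∈ Finset.range n, (q ^ (2 * (i + 1)) - 1)) =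
      n * (padicValNat 2 (q + 1) + padicValNat 2 (q - 1)) + padicValNat 2 n.factorial := by
  have hne : ∀ i : ℕ, q ^ (2 * (i + 1)) - 1 ≠ 0 := by
    intro i
    have : 1 < q ^ (2 * (i + 1)) := Nat.one_lt_pow (by omega) hq1
    omega
  have h2q : ¬ 2 ∣ q := by
    rcases hq with ⟨k, hk⟩
    omega
  induction n with
  | zero => simp
  | succ n ih =>
    rw [Finset.prod_range_succ, padicValNat.mul (Finset.prod_ne_zero_iff.2 fun i _ => hne i) (hne n),
      ih, Nat.factorial_succ, padicValNat.mul (by omega) (Nat.factorial_ne_zero n)]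
    have h1 := padicValNat.pow_two_sub_one hq1 h2q (n := 2 * (n + 1)) (by omega) (even_two_mul _)
    rw [padicValNat.mul (by norm_num) (by omega), padicValNat_self] at h1
    rw [add_mul, one_mul]
    omega

variable {F : Type*} [Field F] [Fintype F]

theorem val_card_Sp (hq : Odd (Fintype.card F)) (n : ℕ) :
    padicValNat 2 (Nat.card ↥(symplecticGroup (Fin n) F)) =
      n * (padicValNat 2 (Fintype.card F + 1) + padicValNat 2 (Fintype.card F - 1)) +
        padicValNat 2 n.factorial := by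
  have hq1 : 1 < Fintype.card F := Fintype.one_lt_card
  have h2q : ¬ 2 ∣ Fintype.card F := by
    rcases hq with ⟨k, hk⟩
    omega
  have hprod : ∏ i ∈ Finset.range n, (Fintype.card F ^ (2 * (i + 1)) - 1) ≠ 0 := by
    apply Finset.prod_ne_zero_iff.2
    intro i _
    have : 1 < Fintype.card F ^ (2 * (i + 1)) := Nat.one_lt_pow (by omega) hq1
    omega
  rw [Cfsg.Agent.Lib.H2.Sp.card_Sp, padicValNat.mul (by positivity) hprod, padicValNat.pow,
    padicValNat.eq_zero_of_not_dvd h2q, mul_zero, zero_add, val_prod _ hq hq1]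


variable {n : ℕ} (Q : Subgroup (SL2 F)) (S : Subgroup (Perm (Fin n)))

/-- the base group `Q^n` -/
def baseH : Subgroup ↥(symplecticGroup (Fin n) F) :=
  (Subgroup.pi Set.univ fun _ : Fin n => Q).map phiHom

/-- the permutation part -/
def topK : Subgroup ↥(symplecticGroup (Fin n) F) := S.map psiHom

theorem topK_le_normalizer :
    topK (F := F) S ≤ Subgroup.normalizer (baseH (n := n) Q : Set ↥(symplecticGroup (Fin n) F)) := by
  rintro _ ⟨σ, hσ, rfl⟩
  apply Subgroup.mem_normalizer_fintype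
  rintro _ ⟨g, hg, rfl⟩
  rw [psi_conj_phi]
  exact ⟨_, fun i _ => hg (σ⁻¹ i) (Set.mem_univ _), rfl⟩

theorem pi_isPGroup (hQ : IsPGroup 2 ↥Q) :
    IsPGroup 2 ↥(Subgroup.pi Set.univ fun _ : Fin n => Q) := by
  obtain ⟨j, hj⟩ := hQ.exists_card_eq
  intro g
  refine ⟨j, ?_⟩
  apply Subtype.ext
  funext i
  have hgi : g.1 i ∈ Q := g.2 i (Set.mem_univ i)
  have h1 : (⟨g.1 i, hgi⟩ : ↥Q) ^ Nat.card ↥Q = 1 := pow_card_eq_one'
  rw [hj] at h1
  have h2 := congrArg Subtype.val h1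
  simpa using h2

theorem baseH_isPGroup (hQ : IsPGroup 2 ↥Q) : IsPGroup 2 ↥(baseH (n := n) Q) :=
  (pi_isPGroup Q hQ).map _

theorem topK_isPGroup (hS : IsPGroup 2 ↥S) : IsPGroup 2 ↥(topK (F := F) S) := hS.map _

theorem wr_isPGroup (hQ : IsPGroup 2 ↥Q) (hS : IsPGroup 2 ↥S) :
    IsPGroup 2 ↥(topK (F := F) S ⊔ baseH Q) :=
  IsPGroup.to_sup_of_normal_right' (topK_isPGroup S hS) (baseH_isPGroup Q hQ)
    (topK_le_normalizer Q S)

theorem wr_card_le : Nat.card ↥Q ^ n * Nat.card ↥S ≤ Nat.card ↥(topK (F := F) S ⊔ baseH Q) := by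
  let J : (Fin n → ↥Q) × ↥S → ↥(topK (F := F) S ⊔ baseH Q) := fun x =>
    ⟨phiHom (fun i => (x.1 i : SL2 F)) * psiHom (x.2 : Perm (Fin n)),
      mul_mem (Subgroup.mem_sup_right ⟨_, fun i _ => (x.1 i).2, rfl⟩)
        (Subgroup.mem_sup_left ⟨_, x.2.2, rfl⟩)⟩
  have hJ : Function.Injective J := by
    rintro ⟨f1, s1⟩ ⟨f2, s2⟩ hx
    have h1 : phiHom (fun i => (f1 i : SL2 F)) * psiHom (s1 : Perm (Fin n)) =
        phiHom (fun i => (f2 i : SL2 F)) * psiHom (F := F) (s2 : Perm (Fin n)) :=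
      congrArg Subtype.val hx
    have h2 : phiHom ((fun i => (f2 i : SL2 F))⁻¹ * (fun i => (f1 i : SL2 F))) =
        psiHom (F := F) ((s2 : Perm (Fin n)) * (s1 : Perm (Fin n))⁻¹) := by
      rw [map_mul, map_mul, map_inv, map_inv]
      rw [inv_mul_eq_iff_eq_mul, ← mul_assoc, ← h1]
      group
    have h3 := phi_eq_psi h2
    have hs : (s1 : Perm (Fin n)) = s2 := by
      rw [mul_inv_eq_one] at h3
      exact h3.symm
    rw [hs] at h1
    have h4 := phiHom_injective (mul_right_cancel h1)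
    have hf : f1 = f2 := by
      funext i
      exact Subtype.ext (congrFun h4 i)
    rw [hf, Subtype.ext hs]
  have := Nat.card_le_card_of_injective J hJ
  rwa [Nat.card_prod, Nat.card_fun, Nat.card_fin] at this

theorem pi_sqComm (hQ : SqComm Q) : SqComm (Subgroup.pi Set.univ fun _ : Fin n => Q) := by
  intro g hg
  rw [Subgroup.commutator_pi_pi_of_finite]
  intro i _
  exact hQ (g i) (hg i (Set.mem_univ i))

theorem genIn_sqComm {G : Type*} [Group G] {H : Subgroup G}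
    (h : Cfsg.Agent.Lib.H9.SylSym.GenIn 2 H) : SqComm H := by
  apply sqComm_of_closure _ h
  rintro s ⟨-, hs⟩
  rw [hs]
  exact one_mem _

theorem wr_sqComm (hQ : SqComm Q) (hS : Cfsg.Agent.Lib.H9.SylSym.GenIn 2 S) :
    SqComm (topK (F := F) S ⊔ baseH Q) :=
  SqComm.sup ((genIn_sqComm hS).map _) ((pi_sqComm Q hQ).map _)

/-- Sylow 2-subgroups of `Sp(2n, q)`, `q` odd, have elementary abelian abelianisation. -/
theorem sylow_sp_sqComm (hq : Odd (Fintype.card F)) (n : ℕ)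
    (P : Sylow 2 ↥(symplecticGroup (Fin n) F)) :
    SqComm (P : Subgroup ↥(symplecticGroup (Fin n) F)) := by
  obtain ⟨Q, hQp, hQc, hQs⟩ := exists_quat (F := F) hq
  obtain ⟨S, hS, -⟩ := Cfsg.Agent.Lib.H9.SylSym.exists_sylow_genIn (p := 2) n
  have hP0 := wr_isPGroup (F := F) Q (S : Subgroup (Perm (Fin n))) hQp S.isPGroup'
  have hcard := wr_card_le (F := F) Q (S : Subgroup (Perm (Fin n)))
  have hsq := wr_sqComm (F := F) Q (S : Subgroup (Perm (Fin n))) hQs hS
  set P0 := topK (F := F) (S : Subgroup (Perm (Fin n))) ⊔ baseH Q with hP0def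
  obtain ⟨P1, hP1⟩ := hP0.exists_le_sylow
  have hQle : 2 ^ (padicValNat 2 (Fintype.card F + 1) + padicValNat 2 (Fintype.card F - 1)) ≤
      Nat.card ↥Q := Nat.le_of_dvd Nat.card_pos hQc
  have hScard : Nat.card ↥(S : Subgroup (Perm (Fin n))) = 2 ^ padicValNat 2 n.factorial := by
    rw [Cfsg.Agent.Lib.H9.SylSym.card_sylow_perm, Nat.factorization_def _ Nat.prime_two]
  have hP1card : Nat.card ↥(P1 : Subgroup ↥(symplecticGroup (Fin n) F)) ≤ Nat.card ↥P0 := by
    rw [Sylow.card_eq_multiplicity, Nat.factorization_def _ Nat.prime_two, val_card_Sp hq]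
    refine le_trans ?_ hcard
    rw [hScard, pow_add, pow_mul']
    exact Nat.mul_le_mul_right _ (Nat.pow_le_pow_left hQle n)
  have heq : P0 = (P1 : Subgroup ↥(symplecticGroup (Fin n) F)) :=
    Subgroup.eq_of_le_of_card_ge hP1 hP1card
  rw [heq] at hsq
  exact sqComm_of_mulEquiv (Sylow.equiv P1 P) hsq

end Cfsg.Agent.Lib.H9.SqC
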