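import Mathlib
import Cfsg.Agent.Lib.H9.SqCommD
import Cfsg.Agent.Lib.H9.SqCommE
import Cfsg.Agent.Lib.H9.DerLenC
import Cfsg.Agent.Lib.H9.DerLenD

set_option autoImplicit false

/-!
# Derived length of the Sylow `2`-subgroups of `Sp(2n, q)`, `q` odd
-/

namespace Cfsg.Agent.Lib.H9.DerLen

open Equiv Matrix Cfsg.Agent.Lib.H9.SqC
open scoped commutatorElement

variable {F : Type*} [Field F]

/-- the wreath data `SL2 ≀ S_n` inside `Sp(2n)` -/
def spWr (F : Type*) [Field F] (n : ℕ) : WrData (SL2 F) ↥(symplecticGroup (Fin n) F) n where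
  Φ := phiHom
  Ψ := psiHom
  inj := phiHom_injective
  conj := psi_conj_phi
  disj := fun _ _ h => phi_eq_psi h

theorem rotT_comm {a b : SL2 F} (ha : a ∈ rotT F) (hb : b ∈ rotT F) : a * b = b * a := by
  obtain ⟨ha1, ha2⟩ := ha
  obtain ⟨hb1, hb2⟩ := hb
  apply sl2_ext <;>
  · rw [sl2_mul_val, sl2_mul_val, mul_apply, mul_apply, Fin.sum_univ_two, Fin.sum_univ_two]
    simp only [ha1, ha2, hb1, hb2]
    ring

variable [Fintype F]

section quat

variable (u v : F) (h : u ^ 2 + v ^ 2 = -1)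

theorem quatQ_derivedSeries : derivedSeries ↥(quatQ u v h) 2 = ⊥ := by
  unfold quatQ
  apply derivedSeries_sup_eq_bot _ _ _ 1 1
  · apply derivedSeries_of_comm
    rintro ⟨x, hx⟩ ⟨y, hy⟩
    apply Subtype.ext
    obtain ⟨k, rfl⟩ := Subgroup.mem_zpowers_iff.mp hx
    obtain ⟨l, rfl⟩ := Subgroup.mem_zpowers_iff.mp hy
    show bEl u v h ^ k * bEl u v h ^ l = bEl u v h ^ l * bEl u v h ^ k
    rw [← _root_.zpow_add, ← _root_.zpow_add, add_comm]
  · apply derivedSeries_of_comm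
    rintro ⟨x, hx⟩ ⟨y, hy⟩
    apply Subtype.ext
    exact rotT_comm (rotT2_le hx) (rotT2_le hy)
  · rw [Subgroup.zpowers_le]
    exact bEl_mem_normalizer u v h

theorem exists_rotT2_sq_ne (u v : F) (h : u ^ 2 + v ^ 2 = -1) (hq : Odd (Fintype.card F)) :
    ∃ t ∈ rotT2 F, t * t ≠ 1 := by
  have h2 := two_ne_zero_of_odd_card hq
  by_contra hcon
  push Not at hcon
  have hsub : (rotT2 F : Set (SL2 F)) ⊆ {1, bEl u v h * bEl u v h} := by
    intro w hw
    rcases rotT_sq_eq_one u v h h2 (rotT2_le hw) (hcon w hw) with h1 | h1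
    · left; exact h1
    · right; exact h1
  have hcard : Nat.card ↥(rotT2 F) ≤ 2 := by
    have h3 : Nat.card ↥(rotT2 F) = ((rotT2 F : Set (SL2 F))).ncard := by
      rw [← Nat.card_coe_set_eq]; rfl
    rw [h3]
    calc ((rotT2 F : Set (SL2 F))).ncard ≤ ({1, bEl u v h * bEl u v h} : Set (SL2 F)).ncard :=
          Set.ncard_le_ncard hsub (Set.toFinite _)
      _ ≤ 2 := Set.ncard_insert_le _ _ |>.trans (by rw [Set.ncard_singleton])
  have hval := (val_rotT (F := F) hq).2
  rw [card_rotT2] at hcard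
  have : 2 ^ 2 ≤ 2 ^ padicValNat 2 (Nat.card ↥(rotT F)) :=
    Nat.pow_le_pow_right (by norm_num) hval
  omega

theorem quatQ_dser_one_ne_bot (hq : Odd (Fintype.card F)) : dser (quatQ u v h) 1 ≠ ⊥ := by
  obtain ⟨t, ht, htt⟩ := exists_rotT2_sq_ne u v h hq
  intro hbot
  have hb : bEl u v h ∈ quatQ u v h := Subgroup.mem_sup_left (Subgroup.mem_zpowers _)
  have htQ : t ∈ quatQ u v h := Subgroup.mem_sup_right ht
  have h1 : ⁅bEl u v h, t⁆ ∈ dser (quatQ u v h) 1 := by
    rw [dser_succ, dser_zero]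
    exact Subgroup.commutator_mem_commutator hb htQ
  rw [hbot, Subgroup.mem_bot, commutatorElement_def, bEl_conj u v h (rotT2_le ht)] at h1
  apply htt
  have h3 : t * t = (t⁻¹ * t⁻¹)⁻¹ := by rw [_root_.mul_inv_rev, inv_inv]
  rw [h3, h1, inv_one]

end quat

theorem exists_sylow_eq_sub (hq : Odd (Fintype.card F)) (n : ℕ) (Q : Subgroup (SL2 F))
    (hQp : IsPGroup 2 ↥Q)
    (hQc : 2 ^ (padicValNat 2 (Fintype.card F + 1) + padicValNat 2 (Fintype.card F - 1)) ∣
      Nat.card ↥Q) (S : Sylow 2 (Perm (Fin n))) :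
    ∃ P1 : Sylow 2 ↥(symplecticGroup (Fin n) F),
      (P1 : Subgroup ↥(symplecticGroup (Fin n) F)) =
        (spWr F n).sub Q (S : Subgroup (Perm (Fin n))) := by
  have : Fact (Nat.Prime 2) := ⟨Nat.prime_two⟩
  have hP0 := (spWr F n).sub_isPGroup Q (S : Subgroup (Perm (Fin n))) hQp S.isPGroup'
  have hcard := (spWr F n).sub_card_le Q (S : Subgroup (Perm (Fin n)))
  obtain ⟨P1, hP1⟩ := hP0.exists_le_sylow
  have hQle : 2 ^ (padicValNat 2 (Fintype.card F + 1) + padicValNat 2 (Fintype.card F - 1)) ≤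
      Nat.card ↥Q := Nat.le_of_dvd Nat.card_pos hQc
  have hScard : Nat.card ↥(S : Subgroup (Perm (Fin n))) = 2 ^ padicValNat 2 n.factorial := by
    rw [Cfsg.Agent.Lib.H9.SylSym.card_sylow_perm, Nat.factorization_def _ Nat.prime_two]
  have hP1card : Nat.card ↥(P1 : Subgroup ↥(symplecticGroup (Fin n) F)) ≤
      Nat.card ↥((spWr F n).sub Q (S : Subgroup (Perm (Fin n)))) := by
    rw [Sylow.card_eq_multiplicity, Nat.factorization_def _ Nat.prime_two, val_card_Sp hq]
    refine le_trans ?_ hcard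
    rw [hScard, pow_add, pow_mul']
    exact Nat.mul_le_mul_right _ (Nat.pow_le_pow_left hQle n)
  exact ⟨P1, (Subgroup.eq_of_le_of_card_ge hP1 hP1card).symm⟩

/-- Sylow `2`-subgroups of `Sp(2n, q)`, `q` odd, `n ≥ 1`, have derived length exactly
`log₂ n + 2`. -/
theorem sylow_sp_derivedSeries (hq : Odd (Fintype.card F)) (n : ℕ) (hn : 1 ≤ n)
    (R : Sylow 2 ↥(symplecticGroup (Fin n) F)) :
    derivedSeries ↥(R : Subgroup ↥(symplecticGroup (Fin n) F)) (Nat.log 2 n + 2) = ⊥ ∧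
    derivedSeries ↥(R : Subgroup ↥(symplecticGroup (Fin n) F)) (Nat.log 2 n + 1) ≠ ⊥ := by
  have : Fact (Nat.Prime 2) := ⟨Nat.prime_two⟩
  obtain ⟨u, v, h⟩ := exists_sq_add_sq_neg_one (F := F) hq
  have hQp := quatQ_isPGroup u v h
  have hQc : 2 ^ (padicValNat 2 (Fintype.card F + 1) + padicValNat 2 (Fintype.card F - 1)) ∣
      Nat.card ↥(quatQ u v h) := by
    rw [← (val_rotT hq).1]
    exact quatQ_card u v h hq
  constructor
  · -- upper bound
    obtain ⟨S⟩ : Nonempty (Sylow 2 (Perm (Fin n))) := inferInstance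
    obtain ⟨P1, hP1⟩ := exists_sylow_eq_sub hq n (quatQ u v h) hQp hQc S
    have hub : derivedSeries ↥((spWr F n).sub (quatQ u v h) (S : Subgroup (Perm (Fin n))))
        (Nat.log 2 n + 2) = ⊥ := by
      unfold WrData.sub
      apply derivedSeries_sup_eq_bot _ _ ((spWr F n).top_le_normalizer _ _)
      · unfold WrData.top
        have hΨ : Function.Injective (spWr F n).Ψ := by
          intro σ τ hστ
          have h1 : (spWr F n).Φ 1 = (spWr F n).Ψ (σ * τ⁻¹) := by
            rw [map_one, map_mul, map_inv, hστ, mul_inv_cancel]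
          have h2 := (spWr F n).disj _ _ h1
          exact mul_inv_eq_one.mp h2
        exact derivedSeries_eq_bot_of_mulEquiv
          ((S : Subgroup (Perm (Fin n))).equivMapOfInjective _ hΨ) _
          (sylow_perm_derivedSeries n S)
      · unfold WrData.base
        exact derivedSeries_eq_bot_of_mulEquiv
          ((Subgroup.pi Set.univ fun _ : Fin n => quatQ u v h).equivMapOfInjective _
            (spWr F n).inj) _
          (derivedSeries_pi_eq_bot _ 2 (quatQ_derivedSeries u v h))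
    rw [← hP1] at hub
    exact derivedSeries_eq_bot_of_mulEquiv (Sylow.equiv P1 R) _ hub
  · -- lower bound
    have hk : 2 ^ Nat.log 2 n ≤ n := Nat.pow_log_le_self 2 (by omega)
    obtain ⟨L, hLp, -, hLd⟩ := exists_two_subgroup_dser_ne_bot (spWr F n) (quatQ u v h) hQp 1
      (quatQ_dser_one_ne_bot u v h hq) (Nat.log 2 n) hk
    obtain ⟨R', hR'⟩ := hLp.exists_le_sylow
    intro hbot
    have h1 : derivedSeries ↥(R' : Subgroup ↥(symplecticGroup (Fin n) F)) (Nat.log 2 n + 1) = ⊥ :=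
      derivedSeries_eq_bot_of_mulEquiv (Sylow.equiv R R') _ hbot
    rw [← dser_eq_bot_iff] at h1
    apply hLd
    rw [eq_bot_iff, add_comm, ← h1]
    exact dser_mono hR' _

end Cfsg.Agent.Lib.H9.DerLen
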