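import Mathlib
import Cfsg.Prelude.Def_OddOrderLocal
import Cfsg.Prelude.Def_CaseTheorems
import Cfsg.Agent.Lib.H19.R2Defs
import Cfsg.Agent.Lib.H22.UniqueOrderP
import Cfsg.Agent.Lib.H1.NilpotentBasic

/-!
# S3888, piece C1E (helper9): the subgroup `E = N⟨x⟩` of Case 1.
-/

set_option autoImplicit false

namespace Cfsg.Agent.Lib.H9.R2

open Cfsg Cfsg.Agent.Lib.H19.R2
open scoped commutatorElement Pointwise

set_option linter.unusedSectionVars false
set_option linter.deprecated false

universe u

variable {p : ℕ} [Fact p.Prime]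

/-- a nonabelian group of order `p ^ 3`: the centre has order `p` and contains all commutators -/
theorem center_of_card_cube {P : Type*} [Group P] [Finite P] (hcard : Nat.card P = p ^ 3)
    (hnc : ∃ a b : P, a * b ≠ b * a) :
    Nat.card (Subgroup.center P) = p ∧ ∀ u v : P, ⁅u, v⁆ ∈ Subgroup.center P := by
  have hp := (Fact.out : p.Prime)
  have hP : IsPGroup p P := IsPGroup.of_card hcard
  have hnt : Nontrivial P := by
    obtain ⟨a, b, hab⟩ := hnc
    exact ⟨⟨a * b, b * a, hab⟩⟩
  have hcn : Nontrivial (Subgroup.center P) := hP.center_nontrivial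
  have hdvd : Nat.card (Subgroup.center P) ∣ p ^ 3 :=
    hcard ▸ Subgroup.card_subgroup_dvd_card (Subgroup.center P)
  obtain ⟨k, hk3, hk⟩ := (Nat.dvd_prime_pow hp).1 hdvd
  have hidx : (Subgroup.center P).index * Nat.card (Subgroup.center P) = p ^ 3 := by
    rw [← hcard, mul_comm]; exact Subgroup.card_mul_index _
  have hk1 : k = 1 := by
    have h0 : k ≠ 0 := by
      rintro rfl
      rw [pow_zero] at hk
      have := Finite.one_lt_card (α := Subgroup.center P)
      omega
    have h3 : k ≠ 3 := by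
      rintro rfl
      have htop : Subgroup.center P = ⊤ := (Subgroup.card_eq_iff_eq_top _).1 (hk.trans hcard.symm)
      obtain ⟨a, b, hab⟩ := hnc
      apply hab
      have : b ∈ Subgroup.center P := htop ▸ Subgroup.mem_top b
      exact (Subgroup.mem_center_iff.1 this a)
    have h2 : k ≠ 2 := by
      rintro rfl
      rw [hk] at hidx
      have hi : (Subgroup.center P).index = p := by
        have : (Subgroup.center P).index * p ^ 2 = p * p ^ 2 := by rw [hidx]; ring
        exact Nat.eq_of_mul_eq_mul_right (pow_pos hp.pos 2) this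
      have hq : Nat.card (P ⧸ Subgroup.center P) = p := hi
      haveI : IsCyclic (P ⧸ Subgroup.center P) := isCyclic_of_prime_card hq
      obtain ⟨a, b, hab⟩ := hnc
      apply hab
      exact commutative_of_cyclic_center_quotient (QuotientGroup.mk' (Subgroup.center P))
        (by rw [QuotientGroup.ker_mk']) a b
    omega
  subst hk1
  rw [pow_one] at hk
  refine ⟨hk, ?_⟩
  rw [hk] at hidx
  have hi : (Subgroup.center P).index = p ^ 2 := by
    have : (Subgroup.center P).index * p = p ^ 2 * p := by rw [hidx]; ring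
    exact Nat.eq_of_mul_eq_mul_right hp.pos this
  have hq : Nat.card (P ⧸ Subgroup.center P) = p ^ 2 := hi
  intro u v
  have hc := IsPGroup.commutative_of_card_eq_prime_sq hq
    (QuotientGroup.mk u : P ⧸ Subgroup.center P) (QuotientGroup.mk v)
  rw [← QuotientGroup.eq_one_iff]
  show (QuotientGroup.mk' (Subgroup.center P)) ⁅u, v⁆ = 1
  rw [map_commutatorElement, commutatorElement_eq_one_iff_mul_comm]
  exact hc

variable {G : Type u} [Group G] [Finite G]

/-- C1E. -/
theorem c1_E (hp2 : p ≠ 2) {N : Subgroup G} {x : G} (h : C1 p G N x) :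
    Nat.card ↥(N ⊔ Subgroup.zpowers x) = p ^ 3 ∧ (∀ e ∈ N ⊔ Subgroup.zpowers x, e ^ p = 1) ∧
    Nat.card ↥(N ⊓ Subgroup.centralizer ({x} : Set G)) = p ∧
    (∀ a ∈ N, a⁻¹ * x⁻¹ * a * x ∈ N ⊓ Subgroup.centralizer ({x} : Set G)) ∧
    (∀ g : G, g ^ p = 1 → g ∈ Subgroup.centralizer (N : Set G) → g ∈ N) := by
  have hp := (Fact.out : p.Prime)
  obtain ⟨⟨hNn, hNc, hNe, hNcard⟩, hx, hxC, hrk⟩ := h
  haveI := hNn
  have hxN : x ∉ N := by
    intro hx'
    apply hxC
    rw [Subgroup.mem_centralizer_iff]
    intro a ha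
    exact hNc a ha x hx'
  have hx1 : x ≠ 1 := fun h1 => hxN (h1 ▸ N.one_mem)
  have hox : orderOf x = p := orderOf_eq_prime hx hx1
  have hcardX : Nat.card (Subgroup.zpowers x) = p := by rw [Nat.card_zpowers, hox]
  have hsub : N.subgroupOf (Subgroup.zpowers x) = ⊥ := by
    haveI : Fact (Nat.card (Subgroup.zpowers x)).Prime := ⟨hcardX.symm ▸ hp⟩
    rcases Subgroup.eq_bot_or_eq_top_of_prime_card (N.subgroupOf (Subgroup.zpowers x)) with
      h1 | h1
    · exact h1
    · exfalso
      apply hxN
      have : (⟨x, Subgroup.mem_zpowers x⟩ : Subgroup.zpowers x) ∈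
          N.subgroupOf (Subgroup.zpowers x) := h1 ▸ Subgroup.mem_top _
      exact Subgroup.mem_subgroupOf.1 this
  have hrel : N.relIndex (Subgroup.zpowers x) = p := by
    unfold Subgroup.relIndex
    rw [hsub, Subgroup.index_bot, hcardX]
  have hcardE : Nat.card ↥(N ⊔ Subgroup.zpowers x) = p ^ 3 := by
    have h1 := Subgroup.relIndex_mul_relIndex ⊥ N (N ⊔ Subgroup.zpowers x) bot_le le_sup_left
    rw [Subgroup.relIndex_bot_left, Subgroup.relIndex_bot_left, Subgroup.relIndex_sup_left, hrel,
      hNcard] at h1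
    rw [← h1]; ring
  set E := N ⊔ Subgroup.zpowers x with hE
  have hNE : N ≤ E := le_sup_left
  have hxE : x ∈ E := (le_sup_right : Subgroup.zpowers x ≤ E) (Subgroup.mem_zpowers x)
  -- `E` is not abelian
  have hncE : ∃ a b : ↥E, a * b ≠ b * a := by
    by_contra hcon
    push Not at hcon
    apply hxC
    rw [Subgroup.mem_centralizer_iff]
    intro a ha
    have := hcon ⟨a, hNE ha⟩ ⟨x, hxE⟩
    exact congrArg Subtype.val this
  obtain ⟨hcZ, hcomm⟩ := center_of_card_cube hcardE hncE
  have hPE : IsPGroup p ↥E := IsPGroup.of_card hcardE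
  haveI : Group.IsNilpotent ↥E := hPE.isNilpotent
  -- the centre of `E` lies in `N`
  have hN'ne : N.subgroupOf E ≠ ⊥ := by
    intro h0
    have h1 : Nat.card (N.subgroupOf E) = p ^ 2 := by
      rw [Nat.card_congr (Subgroup.subgroupOfEquivOfLe hNE).toEquiv, hNcard]
    rw [h0, Subgroup.card_bot] at h1
    have := hp.one_lt
    nlinarith [pow_pos hp.pos 2]
  have hcenN : Subgroup.center ↥E ≤ N.subgroupOf E := by
    have hne := Cfsg.Agent.Lib.H1.normal_inf_center_ne_bot (N.subgroupOf E) hN'ne
    have hle : N.subgroupOf E ⊓ Subgroup.center ↥E ≤ Subgroup.center ↥E := inf_le_right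
    have hd := Subgroup.card_dvd_of_le hle
    rw [hcZ] at hd
    rcases (Nat.dvd_prime hp).1 hd with h1 | h1
    · exact absurd (Subgroup.card_eq_one.1 h1) hne
    · have : N.subgroupOf E ⊓ Subgroup.center ↥E = Subgroup.center ↥E :=
        Subgroup.eq_of_le_of_card_ge hle (by rw [h1, hcZ])
      rw [← this]
      exact inf_le_left
  -- (4)
  have h4 : ∀ a ∈ N, a⁻¹ * x⁻¹ * a * x ∈ N ⊓ Subgroup.centralizer ({x} : Set G) := by
    intro a ha
    refine ⟨?_, ?_⟩
    · have h1 : x⁻¹ * a * x ∈ N := by
        have := hNn.conj_mem a ha x⁻¹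
        rwa [inv_inv] at this
      have : a⁻¹ * x⁻¹ * a * x = a⁻¹ * (x⁻¹ * a * x) := by group
      rw [this]
      exact N.mul_mem (N.inv_mem ha) h1
    · show a⁻¹ * x⁻¹ * a * x ∈ Subgroup.centralizer ({x} : Set G)
      rw [Subgroup.mem_centralizer_iff]
      intro y hy
      rw [Set.mem_singleton_iff] at hy
      subst hy
      have hc := hcomm ⟨a⁻¹, hNE (N.inv_mem ha)⟩ ⟨y⁻¹, E.inv_mem hxE⟩
      have := Subgroup.mem_center_iff.1 hc ⟨y, hxE⟩
      have h2 := congrArg Subtype.val this
      simp only [commutatorElement_def, Subgroup.coe_mul, Subgroup.coe_inv, inv_inv] at h2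
      exact h2
  -- (3)
  have h3 : Nat.card ↥(N ⊓ Subgroup.centralizer ({x} : Set G)) = p := by
    set Z := N ⊓ Subgroup.centralizer ({x} : Set G) with hZ
    have hZN : Z ≤ N := inf_le_left
    have hd2 : Nat.card Z ∣ p ^ 2 := hNcard ▸ Subgroup.card_dvd_of_le hZN
    have hmap : (Subgroup.center ↥E).map E.subtype ≤ Z := by
      rintro _ ⟨c, hc, rfl⟩
      refine ⟨Subgroup.mem_subgroupOf.1 (hcenN hc), ?_⟩
      show (E.subtype c) ∈ Subgroup.centralizer ({x} : Set G)
      rw [Subgroup.mem_centralizer_iff]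
      intro y hy
      rw [Set.mem_singleton_iff] at hy
      subst hy
      have := Subgroup.mem_center_iff.1 hc ⟨y, hxE⟩
      exact congrArg Subtype.val this
    have hd1 : p ∣ Nat.card Z := by
      have := Subgroup.card_dvd_of_le hmap
      rwa [Subgroup.card_map_of_injective E.subtype_injective, hcZ] at this
    obtain ⟨k, hk2, hk⟩ := (Nat.dvd_prime_pow hp).1 hd2
    have hk2' : k ≠ 2 := by
      rintro rfl
      have hZeq : Z = N := Subgroup.eq_of_le_of_card_ge hZN (by rw [hk, hNcard])
      apply hxC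
      rw [Subgroup.mem_centralizer_iff]
      intro a ha
      have haZ : a ∈ Z := hZeq ▸ ha
      have := Subgroup.mem_centralizer_iff.1 haZ.2 x (Set.mem_singleton x)
      exact this.symm
    have hk0 : k ≠ 0 := by
      rintro rfl
      rw [hk, pow_zero] at hd1
      exact hp.one_lt.ne' (Nat.dvd_one.1 hd1)
    have hk1 : k = 1 := by omega
    rw [hk, hk1, pow_one]
  -- (2)
  have h2 : ∀ e ∈ E, e ^ p = 1 := by
    intro e he
    have hmem : e ∈ (N : Set G) * (Subgroup.zpowers x : Set G) := by
      have : ((N ⊔ Subgroup.zpowers x : Subgroup G) : Set G) =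
          (N : Set G) * (Subgroup.zpowers x : Set G) := Subgroup.normal_mul N (Subgroup.zpowers x)
      rw [← this]
      exact he
    obtain ⟨a, ha, b, hb, rfl⟩ := hmem
    have hbE : b ∈ E := (le_sup_right : Subgroup.zpowers x ≤ E) hb
    have hbp : b ^ p = 1 := by
      obtain ⟨i, rfl⟩ := Subgroup.mem_zpowers_iff.1 hb
      rw [← zpow_natCast, ← zpow_mul, mul_comm, zpow_mul, zpow_natCast, hx, one_zpow]
    let u : ↥E := ⟨a, hNE ha⟩
    let v : ↥E := ⟨b, hbE⟩
    have hcuv : v * u * v⁻¹ * u⁻¹ ∈ Subgroup.center ↥E := hcomm v u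
    have hc : ∀ g : ↥E, g * (v * u * v⁻¹ * u⁻¹) = (v * u * v⁻¹ * u⁻¹) * g :=
      fun g => (Subgroup.mem_center_iff.1 hcuv g)
    have hpow := Cfsg.Agent.Lib.H22.mul_pow_of_central hc p
    have hup : u ^ p = 1 := Subtype.ext (by simpa using hNe a ha)
    have hvp : v ^ p = 1 := Subtype.ext (by simpa using hbp)
    have hcp : (v * u * v⁻¹ * u⁻¹) ^ p = 1 := by
      have := pow_card_eq_one' (G := Subgroup.center ↥E) (x := ⟨_, hcuv⟩)
      rw [hcZ] at this
      exact congrArg Subtype.val this
    have hodd : p * (p - 1) / 2 = p * ((p - 1) / 2) := by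
      have hpo : Odd p := hp.odd_of_ne_two hp2
      obtain ⟨m, hm⟩ := hpo
      have : p - 1 = 2 * m := by omega
      rw [this, Nat.mul_div_cancel_left m (by norm_num : 0 < 2), ← mul_assoc, mul_comm p 2, mul_assoc,
        Nat.mul_div_cancel_left _ (by norm_num : 0 < 2)]
    rw [hup, hvp, hodd, pow_mul, hcp, one_pow, mul_one, mul_one] at hpow
    have := congrArg Subtype.val hpow
    simpa [u, v] using this
  -- (5)
  have h5 : ∀ g : G, g ^ p = 1 → g ∈ Subgroup.centralizer (N : Set G) → g ∈ N := by
    intro g hgp hgC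
    set A := N ⊔ Subgroup.zpowers g with hA
    have hgN : ∀ a ∈ N, a * g = g * a := fun a ha => Subgroup.mem_centralizer_iff.1 hgC a ha
    -- every element of `A` commutes with `N` and `g`
    have hA1 : A ≤ Subgroup.centralizer ((N : Set G) ∪ {g}) := by
      rw [hA, sup_le_iff]
      constructor
      · intro a ha
        rw [Subgroup.mem_centralizer_iff]
        rintro b (hb | hb)
        · exact hNc b hb a ha
        · rw [Set.mem_singleton_iff] at hb; subst hb
          exact (hgN a ha).symm
      · rw [Subgroup.zpowers_le]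
        rw [Subgroup.mem_centralizer_iff]
        rintro b (hb | hb)
        · exact hgN b hb
        · rw [Set.mem_singleton_iff] at hb; subst hb; rfl
    have hcommA : ∀ a ∈ A, ∀ b ∈ A, a * b = b * a := by
      intro a ha b hb
      have hbC := Subgroup.mem_centralizer_iff.1 (hA1 hb)
      have : A ≤ Subgroup.centralizer ({b} : Set G) := by
        rw [hA, sup_le_iff]
        constructor
        · intro c hc
          rw [Subgroup.mem_centralizer_iff]
          intro y hy
          rw [Set.mem_singleton_iff] at hy; subst hy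
          exact (hbC c (Or.inl hc)).symm
        · rw [Subgroup.zpowers_le, Subgroup.mem_centralizer_iff]
          intro y hy
          rw [Set.mem_singleton_iff] at hy; subst hy
          exact (hbC g (Or.inr rfl)).symm
      have := Subgroup.mem_centralizer_iff.1 (this ha) b (Set.mem_singleton b)
      exact this.symm
    haveI : IsMulCommutative A := ⟨⟨fun a b => Subtype.ext (hcommA a.1 a.2 b.1 b.2)⟩⟩
    have hexpA : ∀ a ∈ A, a ^ p = 1 := by
      intro e he
      have hmem : e ∈ (N : Set G) * (Subgroup.zpowers g : Set G) := by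
        have : ((N ⊔ Subgroup.zpowers g : Subgroup G) : Set G) =
            (N : Set G) * (Subgroup.zpowers g : Set G) := Subgroup.normal_mul N (Subgroup.zpowers g)
        rw [← this]
        exact he
      obtain ⟨a, ha, b, hb, rfl⟩ := hmem
      have hbp : b ^ p = 1 := by
        obtain ⟨i, rfl⟩ := Subgroup.mem_zpowers_iff.1 hb
        rw [← zpow_natCast, ← zpow_mul, mul_comm, zpow_mul, zpow_natCast, hgp, one_zpow]
      have hab : Commute a b :=
        hcommA a ((le_sup_left : N ≤ A) ha) b ((le_sup_right : Subgroup.zpowers g ≤ A) hb)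
      rw [hab.mul_pow, hNe a ha, hbp, one_mul]
    have hle := hrk A inferInstance hexpA
    have hNA : N = A := Subgroup.eq_of_le_of_card_ge le_sup_left (by rw [hNcard]; exact hle)
    rw [hNA]
    exact (le_sup_right : Subgroup.zpowers g ≤ A) (Subgroup.mem_zpowers g)
  exact ⟨hcardE, h2, h3, h4, h5⟩

end Cfsg.Agent.Lib.H9.R2
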