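import Mathlib

/-!
# S3776 (2-groups with a solvable group of automorphisms transitive on involutions): the cut

Paper proof: board posts of helper9 "COMPLETE paper proof of S3776 - FRAME 1/3, 2/3, 3/3".
`(*)` = `StarStmt`, proved by strong induction on `|G|` for a finite 2-group `G` and a finite solvable
group `E` of odd order ACTING on `G` (`φ : E →* MulAut G`).  All pieces are `Prop`-valued defs.
-/

set_option autoImplicit false

namespace Cfsg.Agent.Lib.H9.S3776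

universe u

/-- the standing hypotheses of `(*)` -/
structure Hyp (G E : Type u) [Group G] [Group E] (φ : E →* MulAut G) : Prop where
  pG : IsPGroup 2 G
  solv : Group.IsSolvable E
  odd : Odd (Nat.card E)
  two : ∃ x y : G, x ≠ y ∧ x ≠ 1 ∧ x ^ 2 = 1 ∧ y ≠ 1 ∧ y ^ 2 = 1
  trans : ∀ x y : G, x ≠ 1 → x ^ 2 = 1 → y ≠ 1 → y ^ 2 = 1 → ∃ e : E, φ e x = y

/-- the second alternative of the conclusion (= the conclusion of the frozen S3776) -/
def Special (G : Type u) [Group G] : Prop :=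
  commutator G = frattini G ∧ frattini G = Subgroup.center G ∧
    ∀ x : G, x ∈ Subgroup.center G ↔ x ^ 2 = 1

/-- the conclusion of `(*)` -/
def Concl (G : Type u) [Group G] : Prop := (∀ a b : G, a * b = b * a) ∨ Special G

/-- `(*)` -/
def StarStmt : Prop :=
  ∀ (G E : Type u) [Group G] [Finite G] [Group E] [Finite E] (φ : E →* MulAut G),
    Hyp G E φ → Concl G

/-- the induction hypothesis of `(*)` at `G` -/
def IH (G : Type u) [Group G] : Prop :=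
  ∀ (H E : Type u) [Group H] [Finite H] [Group E] [Finite E] (φ : E →* MulAut H),
    Nat.card H < Nat.card G → Hyp H E φ → Concl H

/-- `E`-invariance of a subgroup -/
def Inv {G E : Type u} [Group G] [Group E] (φ : E →* MulAut G) (H : Subgroup G) : Prop :=
  ∀ e : E, ∀ h ∈ H, φ e h ∈ H

/-- the frame: `V = {x | x² = 1}` is a central `E`-irreducible subgroup, `E` is fixed-point-free -/
structure Frame {G E : Type u} [Group G] [Group E] (φ : E →* MulAut G) (V : Subgroup G) : Prop where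
  mem : ∀ x : G, x ∈ V ↔ x ^ 2 = 1
  cen : ∀ v ∈ V, ∀ g : G, g * v = v * g
  inv : Inv φ V
  trans : ∀ v w : G, v ∈ V → w ∈ V → v ≠ 1 → w ≠ 1 → ∃ e : E, φ e v = w
  two : ∃ x y : G, x ∈ V ∧ y ∈ V ∧ x ≠ y ∧ x ≠ 1 ∧ y ≠ 1
  fix : ∀ g : G, (∀ e : E, φ e g = g) → g = 1
  irr : ∀ W : Subgroup G, W ≤ V → Inv φ W → W = ⊥ ∨ W = V

/-- (FRAME) -/
def FrameStmt : Prop :=
  ∀ (G E : Type u) [Group G] [Finite G] [Group E] [Finite E] (φ : E →* MulAut G),
    Hyp G E φ → ∃ V : Subgroup G, Frame φ V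

/-- the induction hypothesis in internal form, for proper `E`-invariant subgroups containing `V` -/
def SubIH {G E : Type u} [Group G] [Group E] (φ : E →* MulAut G) (V : Subgroup G) : Prop :=
  ∀ H : Subgroup G, H ≠ ⊤ → Inv φ H → V ≤ H →
    (∀ a ∈ H, ∀ b ∈ H, a * b = b * a) ∨
    ((∀ x ∈ H, x ^ 2 ∈ V) ∧ (∀ a ∈ H, ∀ b ∈ H, a * b * a⁻¹ * b⁻¹ ∈ V) ∧
      ∀ z ∈ H, (∀ h ∈ H, z * h = h * z) → z ∈ V)

/-- (SUBIH) `IH` for the subgroup types `↥H` with the restricted action -/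
def SubIHStmt : Prop :=
  ∀ (G E : Type u) [Group G] [Finite G] [Group E] [Finite E] (φ : E →* MulAut G) (V : Subgroup G),
    Hyp G E φ → IH G → Frame φ V → SubIH φ V

/-! ### LEMMA E -/

/-- **LEMMA E**, additive form. -/
def LemEStmt : Prop :=
  ∀ (E V T : Type u) [Group E] [Finite E] [AddCommGroup V] [Finite V] [AddCommGroup T] [Finite T]
    (aV : E → V → V) (aT : E → T → T) (b : T → V → V),
    Group.IsSolvable E →
    (∀ v : V, v + v = 0) → (∀ t : T, t + t = 0) →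
    (∀ e v w, aV e (v + w) = aV e v + aV e w) → (∀ e f v, aV (e * f) v = aV e (aV f v)) →
    (∀ v, aV 1 v = v) →
    (∀ e t s, aT e (t + s) = aT e t + aT e s) → (∀ e f t, aT (e * f) t = aT e (aT f t)) →
    (∀ t, aT 1 t = t) →
    (∃ v w : V, v ≠ 0 ∧ w ≠ 0 ∧ v ≠ w) → (∀ v w : V, v ≠ 0 → w ≠ 0 → ∃ e, aV e v = w) →
    (∀ S : AddSubgroup T, (∀ e, ∀ t ∈ S, aT e t ∈ S) → S = ⊥ ∨ S = ⊤) →
    (∀ t s v, b (t + s) v = b t v + b s v) → (∀ t v w, b t (v + w) = b t v + b t w) →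
    (∀ e t v, b (aT e t) (aV e v) = aV e (b t v)) →
    (∃ t v, b t v ≠ 0) →
    ∀ t v, t ≠ 0 → v ≠ 0 → b t v ≠ 0

/-- **LEMMA E**, multiplicative form (commutativity follows from exponent 2). -/
def LemEMulStmt : Prop :=
  ∀ (E V T : Type u) [Group E] [Finite E] [Group V] [Finite V] [Group T] [Finite T]
    (aV : E → V → V) (aT : E → T → T) (b : T → V → V),
    Group.IsSolvable E →
    (∀ v : V, v * v = 1) → (∀ t : T, t * t = 1) →
    (∀ e v w, aV e (v * w) = aV e v * aV e w) → (∀ e f v, aV (e * f) v = aV e (aV f v)) →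
    (∀ v, aV 1 v = v) →
    (∀ e t s, aT e (t * s) = aT e t * aT e s) → (∀ e f t, aT (e * f) t = aT e (aT f t)) →
    (∀ t, aT 1 t = t) →
    (∃ v w : V, v ≠ 1 ∧ w ≠ 1 ∧ v ≠ w) → (∀ v w : V, v ≠ 1 → w ≠ 1 → ∃ e, aV e v = w) →
    (∀ S : Subgroup T, (∀ e, ∀ t ∈ S, aT e t ∈ S) → S = ⊥ ∨ S = ⊤) →
    (∀ t s v, b (t * s) v = b t v * b s v) → (∀ t v w, b t (v * w) = b t v * b t w) →
    (∀ e t v, b (aT e t) (aV e v) = aV e (b t v)) →
    (∃ t v, b t v ≠ 1) →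
    ∀ t v, t ≠ 1 → v ≠ 1 → b t v ≠ 1

/-- (LEMEM) the multiplicative form from the additive one -/
def LemEMStmt : Prop := LemEStmt.{u} → LemEMulStmt.{u}

/-! ### STEP 1: the centre has an element of order 4 -/

/-- (S1A) step (1a) -/
def S1AStmt : Prop :=
  ∀ (G E : Type u) [Group G] [Finite G] [Group E] [Finite E] (φ : E →* MulAut G) (V : Subgroup G),
    Frame φ V → (∃ z ∈ Subgroup.center G, z ^ 2 ≠ 1) →
    (∀ v ∈ V, ∃ z ∈ Subgroup.center G, z ^ 2 = v) ∧ (∀ x : G, x ^ 2 ∈ V → x ∈ Subgroup.center G)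

/-- (S1Q) `IH` for `G ⧸ V` with the induced action, pulled back to `G` -/
def S1QStmt : Prop :=
  ∀ (G E : Type u) [Group G] [Finite G] [Group E] [Finite E] (φ : E →* MulAut G) (V : Subgroup G),
    Hyp G E φ → IH G → Frame φ V →
    (∀ v ∈ V, ∃ z ∈ Subgroup.center G, z ^ 2 = v) → (∀ x : G, x ^ 2 ∈ V → x ∈ Subgroup.center G) →
    (∀ x y : G, x * y * x⁻¹ * y⁻¹ ∈ V) ∨
    ((∀ x : G, (x ^ 2) ^ 2 ∈ V) ∧ ∀ x y : G, (x * y * x⁻¹ * y⁻¹) ^ 2 ∈ V)

/-- (S1B) step (1b) -/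
def S1BStmt : Prop :=
  ∀ (G : Type u) [Group G] [Finite G] (V : Subgroup G), (∀ x : G, x ∈ V ↔ x ^ 2 = 1) →
    (∀ x : G, x ^ 2 ∈ V → x ∈ Subgroup.center G) →
    (∀ x : G, (x ^ 2) ^ 2 ∈ V) → (∀ x y : G, (x * y * x⁻¹ * y⁻¹) ^ 2 ∈ V) →
    ∀ x y : G, x * y * x⁻¹ * y⁻¹ ∈ V

/-- (S1C) step (1c): uses LEMMA E -/
def S1CStmt : Prop :=
  ∀ (G E : Type u) [Group G] [Finite G] [Group E] [Finite E] (φ : E →* MulAut G) (V : Subgroup G),
    LemEMulStmt.{u} → Hyp G E φ → Frame φ V →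
    (∀ v ∈ V, ∃ z ∈ Subgroup.center G, z ^ 2 = v) → (∀ x : G, x ^ 2 ∈ V → x ∈ Subgroup.center G) →
    (∀ x y : G, x * y * x⁻¹ * y⁻¹ ∈ V) → ∀ a b : G, a * b = b * a

/-! ### STEP 2: the centre is `V` -/

/-- `K = K1` -/
structure K1Data {G E : Type u} [Group G] [Group E] (φ : E →* MulAut G) (V K : Subgroup G) : Prop where
  mem : ∀ x : G, x ∈ K ↔ (x ^ 2 ∈ V ∧ ∀ g : G, x * g * x⁻¹ * g⁻¹ ∈ V)
  nor : K.Normal
  inv : Inv φ K
  VK : V ≤ K

/-- (K1EX) -/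
def K1ExStmt : Prop :=
  ∀ (G E : Type u) [Group G] [Finite G] [Group E] [Finite E] (φ : E →* MulAut G) (V : Subgroup G),
    Hyp G E φ → Frame φ V → ∃ K : Subgroup G, K1Data φ V K ∧ ((∃ a b : G, a * b ≠ b * a) → ∃ k ∈ K, k ∉ V)

/-- (S2A) step (2a) -/
def S2AStmt : Prop :=
  ∀ (G E : Type u) [Group G] [Finite G] [Group E] [Finite E] (φ : E →* MulAut G) (V K : Subgroup G),
    Hyp G E φ → Frame φ V → (∀ z ∈ Subgroup.center G, z ^ 2 = 1) → K1Data φ V K →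
    (∃ a b : G, a * b ≠ b * a) →
    (∀ k ∈ K, (∀ k' ∈ K, k * k' = k' * k) → k ∈ V) → Special G

/-- (S2B) step (2b): uses the landed `Cfsg.Agent.Lib.H6.S3776QB.quad_count` -/
def S2BStmt : Prop :=
  ∀ (G E : Type u) [Group G] [Finite G] [Group E] [Finite E] (φ : E →* MulAut G) (V K : Subgroup G),
    Hyp G E φ → Frame φ V → K1Data φ V K → (∃ k ∈ K, k ∉ V) →
    (∀ k ∈ K, (∀ k' ∈ K, k * k' = k' * k) → k ∈ V) ∨
    ((∀ a ∈ K, ∀ b ∈ K, a * b = b * a) ∧ Nat.card K = Nat.card V ^ 2 ∧ ∀ v ∈ V, ∃ k ∈ K, k ^ 2 = v)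

/-- the residual configuration -/
structure Resid {G E : Type u} [Group G] [Group E] (φ : E →* MulAut G) (V K : Subgroup G) : Prop where
  hyp : Hyp G E φ
  fr : Frame φ V
  sub : SubIH φ V
  hZ : ∀ z ∈ Subgroup.center G, z ^ 2 = 1
  kd : K1Data φ V K
  ab : ∀ a ∈ K, ∀ b ∈ K, a * b = b * a
  card : Nat.card K = Nat.card V ^ 2
  sq : ∀ v ∈ V, ∃ k ∈ K, k ^ 2 = v
  big : ∃ g : G, g ∉ K

/-- `J = C_G(K)` -/
structure JData {G E : Type u} [Group G] [Group E] (φ : E →* MulAut G) (K J : Subgroup G) : Prop where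
  mem : ∀ x : G, x ∈ J ↔ ∀ k ∈ K, x * k = k * x
  KJ : K ≤ J
  ne : J ≠ ⊤
  inv : Inv φ J
  nor : J.Normal
  ab : ∀ a ∈ J, ∀ b ∈ J, a * b = b * a
  quot : ∀ g h : G, g * h * g⁻¹ * h⁻¹ ∈ J

/-- (R0) -/
def R0Stmt : Prop :=
  ∀ (G E : Type u) [Group G] [Finite G] [Group E] [Finite E] (φ : E →* MulAut G) (V K : Subgroup G),
    Resid φ V K → ∃ J : Subgroup G, JData φ K J

/-- (R1) `G ⧸ J` is `E`-irreducible: uses `Cfsg.Agent.Lib.H19.S3776MLAct.ml_act` -/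
def R1Stmt : Prop :=
  ∀ (G E : Type u) [Group G] [Finite G] [Group E] [Finite E] (φ : E →* MulAut G) (V K J : Subgroup G),
    Resid φ V K → JData φ K J → ∀ G1 : Subgroup G, J ≤ G1 → Inv φ G1 → G1 = J ∨ G1 = ⊤

/-- (R2) `J = K`: uses `Cfsg.Agent.H15.IdemTrans.zero_or_id` -/
def R2Stmt : Prop :=
  ∀ (G E : Type u) [Group G] [Finite G] [Group E] [Finite E] (φ : E →* MulAut G) (V K J : Subgroup G),
    Resid φ V K → JData φ K J → J = K

/-- (R3) the end game: uses LEMMA E -/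
def R3Stmt : Prop :=
  ∀ (G E : Type u) [Group G] [Finite G] [Group E] [Finite E] (φ : E →* MulAut G) (V K : Subgroup G),
    LemEMulStmt.{u} → Resid φ V K → JData φ K K →
    (∀ G1 : Subgroup G, K ≤ G1 → Inv φ G1 → G1 = K ∨ G1 = ⊤) → False

/-! ### From `(*)` to S3776 -/

/-- (FIN) the frozen S3776 from `(*)` and the Hall reduction -/
def FinStmt : Prop :=
  StarStmt.{u} →
  ∀ (G : Type u) [Group G] [Finite G], IsPGroup 2 G → ¬ IsMulCommutative G →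
    (∃ x y : G, x ≠ y ∧ x ≠ 1 ∧ x ^ 2 = 1 ∧ y ≠ 1 ∧ y ^ 2 = 1) →
    (∃ Y : Subgroup (MulAut G), Group.IsSolvable Y ∧
      ∀ x y : G, x ≠ 1 → x ^ 2 = 1 → y ≠ 1 → y ^ 2 = 1 → ∃ a ∈ Y, a x = y) →
    commutator G = frattini G ∧ frattini G = Subgroup.center G ∧
      ∀ x : G, x ∈ Subgroup.center G ↔ x ^ 2 = 1

end Cfsg.Agent.Lib.H9.S3776
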