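import Mathlib

/-!
# S3797, MAIN LEMMA step (M1): the count, the sign-sum identity and the arithmetic

Shape-independent, Mathlib only.  Additive groups with an exponent-2 hypothesis.
-/

set_option autoImplicit false

namespace Cfsg.Agent.Lib.H9.S3797M1

open Finset

/-- the sign `(-1)^a` of `a : ZMod 2`, as an integer -/
def sgn (a : ZMod 2) : ℤ := if a = 0 then 1 else -1

lemma sgn_zero : sgn 0 = 1 := by decide

lemma sgn_add (a b : ZMod 2) : sgn (a + b) = sgn a * sgn b := by
  revert a b; decide

lemma sgn_of_ne_zero {a : ZMod 2} (h : a ≠ 0) : sgn a = -1 := by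
  revert a; decide

lemma zmod2_add_self (a : ZMod 2) : a + a = 0 := by
  revert a; decide

/-- the sign sum of a nontrivial additive character vanishes -/
lemma sum_sgn_hom_eq_zero {U : Type*} [AddCommGroup U] [Fintype U] (χ : U → ZMod 2)
    (hχ : ∀ x y, χ (x + y) = χ x + χ y) (x0 : U) (hx0 : χ x0 ≠ 0) :
    ∑ x : U, sgn (χ x) = 0 := by
  have h1 : ∑ x : U, sgn (χ (x0 + x)) = ∑ x : U, sgn (χ x) :=
    Fintype.sum_equiv (Equiv.addLeft x0) _ _ (fun x => rfl)
  have h2 : ∑ x : U, sgn (χ (x0 + x)) = - ∑ x : U, sgn (χ x) := by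
    rw [← Finset.sum_neg_distrib]
    refine Finset.sum_congr rfl (fun x _ => ?_)
    rw [hχ, sgn_add, sgn_of_ne_zero hx0]; ring
  linarith

section signsum

variable {U : Type*} [AddCommGroup U]

/-- the polar form of `f` -/
def polar (f : U → ZMod 2) (x y : U) : ZMod 2 := f (x + y) + f x + f y

lemma polar_symm (f : U → ZMod 2) (x y : U) :
    polar f x y = polar f y x := by
  unfold polar; rw [add_comm x y]; ring

lemma polar_zero_left (f : U → ZMod 2)
    (hB : ∀ x y z : U, polar f (x + y) z = polar f x z + polar f y z) (z : U) :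
    polar f 0 z = 0 := by
  have h := hB 0 0 z
  rw [zero_add, zmod2_add_self] at h
  exact h

/-- `f x + f (x + t) = polar f x t + f t` in characteristic 2 -/
lemma add_eq_polar_add (f : U → ZMod 2) (x t : U) :
    f x + f (x + t) = polar f x t + f t := by
  unfold polar
  have := zmod2_add_self (f t)
  calc f x + f (x + t) = f (x + t) + f x + 0 := by ring
    _ = f (x + t) + f x + (f t + f t) := by rw [this]
    _ = f (x + t) + f x + f t + f t := by ring

/-- on the radical `f` is additive -/
lemma map_add_of_polar_zero (f : U → ZMod 2) (x t : U) (h : polar f x t = 0) :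
    f (x + t) = f x + f t := by
  have h1 := add_eq_polar_add f x t
  rw [h, zero_add] at h1
  have h2 := zmod2_add_self (f x)
  calc f (x + t) = 0 + f (x + t) := by ring
    _ = (f x + f x) + f (x + t) := by rw [h2]
    _ = f x + (f x + f (x + t)) := by ring
    _ = f x + f t := by rw [h1]

/-- the radical of the polar form, as a subgroup -/
def rad (f : U → ZMod 2)
    (hB : ∀ x y z : U, polar f (x + y) z = polar f x z + polar f y z) : AddSubgroup U where
  carrier := {t | ∀ x, polar f x t = 0}
  zero_mem' := by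
    intro x
    rw [polar_symm]
    exact polar_zero_left f hB x
  add_mem' := by
    intro s t hs ht x
    rw [polar_symm, hB, polar_symm f s x, polar_symm f t x, hs x, ht x, add_zero]
  neg_mem' := by
    intro t ht x
    have h0 : polar f x (t + -t) = 0 := by
      rw [add_neg_cancel, polar_symm]; exact polar_zero_left f hB x
    have h1 : polar f x (t + -t) = polar f x t + polar f x (-t) := by
      rw [polar_symm, hB, polar_symm f t x, polar_symm f (-t) x]
    rw [h1, ht x, zero_add] at h0
    exact h0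

lemma mem_rad (f : U → ZMod 2)
    (hB : ∀ x y z : U, polar f (x + y) z = polar f x z + polar f y z) (t : U) :
    t ∈ rad f hB ↔ ∀ x, polar f x t = 0 := Iff.rfl

variable [Fintype U]

open Classical in
/-- the square of the sign sum of a quadratic form on an elementary abelian 2-group -/
theorem sq_sum_sgn (f : U → ZMod 2)
    (hB : ∀ x y z : U, polar f (x + y) z = polar f x z + polar f y z) :
    (∑ u : U, sgn (f u)) ^ 2
      = (Fintype.card U : ℤ) * ∑ t ∈ univ.filter (fun t : U => ∀ x, polar f x t = 0), sgn (f t) := by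
  have inner : ∀ t : U, ∑ x : U, sgn (polar f x t)
      = if (∀ x, polar f x t = 0) then (Fintype.card U : ℤ) else 0 := by
    intro t
    split_ifs with h
    · simp [h, sgn_zero]
    · have h' : ∃ x0, polar f x0 t ≠ 0 := by
        by_contra hc
        exact h (fun x => by
          by_contra hx
          exact hc ⟨x, hx⟩)
      obtain ⟨x0, hx0⟩ := h'
      exact sum_sgn_hom_eq_zero (fun x => polar f x t) (fun x y => hB x y t) x0 hx0
  calc (∑ u : U, sgn (f u)) ^ 2
      = ∑ x : U, ∑ y : U, sgn (f x) * sgn (f y) := by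
        rw [sq, Finset.sum_mul_sum]
    _ = ∑ x : U, ∑ t : U, sgn (f x) * sgn (f (x + t)) := by
        refine Finset.sum_congr rfl (fun x _ => ?_)
        exact (Fintype.sum_equiv (Equiv.addLeft x) _ _ (fun t => rfl)).symm
    _ = ∑ t : U, ∑ x : U, sgn (f x) * sgn (f (x + t)) := Finset.sum_comm
    _ = ∑ t : U, sgn (f t) * ∑ x : U, sgn (polar f x t) := by
        refine Finset.sum_congr rfl (fun t _ => ?_)
        rw [Finset.mul_sum]
        refine Finset.sum_congr rfl (fun x _ => ?_)
        rw [← sgn_add, add_eq_polar_add, sgn_add]; ring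
    _ = ∑ t : U, sgn (f t) * (if (∀ x, polar f x t = 0) then (Fintype.card U : ℤ) else 0) := by
        refine Finset.sum_congr rfl (fun t _ => ?_)
        rw [inner t]
    _ = (Fintype.card U : ℤ) * ∑ t ∈ univ.filter (fun t : U => ∀ x, polar f x t = 0), sgn (f t) := by
        rw [Finset.mul_sum, Finset.sum_filter]
        refine Finset.sum_congr rfl (fun t _ => ?_)
        split_ifs <;> ring

open Classical in
/-- the sign sum over the radical is `0` or the order of the radical -/
theorem sum_rad_sgn (hU : ∀ x : U, x + x = 0) (f : U → ZMod 2)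
    (hB : ∀ x y z : U, polar f (x + y) z = polar f x z + polar f y z) :
    (∑ t ∈ univ.filter (fun t : U => ∀ x, polar f x t = 0), sgn (f t) = 0) ∨
    (∑ t ∈ univ.filter (fun t : U => ∀ x, polar f x t = 0), sgn (f t)
      = ((univ.filter (fun t : U => ∀ x, polar f x t = 0)).card : ℤ)) := by
  by_cases h : ∃ t0 : U, (∀ x, polar f x t0 = 0) ∧ f t0 ≠ 0
  · left
    obtain ⟨t0, ht0, hf0⟩ := h
    have hmem : t0 ∈ rad f hB := ht0
    have h1 : ∑ t ∈ univ.filter (fun t : U => ∀ x, polar f x t = 0), sgn (f (t0 + t))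
        = ∑ t ∈ univ.filter (fun t : U => ∀ x, polar f x t = 0), sgn (f t) := by
      refine Finset.sum_equiv (Equiv.addLeft t0) ?_ (fun t _ => rfl)
      intro t
      simp only [Finset.mem_filter, Finset.mem_univ, true_and, Equiv.coe_addLeft]
      constructor
      · intro ht
        exact (rad f hB).add_mem hmem ht
      · intro ht
        have h2 : t0 + (t0 + t) ∈ rad f hB := (rad f hB).add_mem hmem ht
        rw [← add_assoc, hU t0, zero_add] at h2
        exact h2
    have h2 : ∑ t ∈ univ.filter (fun t : U => ∀ x, polar f x t = 0), sgn (f (t0 + t))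
        = - ∑ t ∈ univ.filter (fun t : U => ∀ x, polar f x t = 0), sgn (f t) := by
      rw [← Finset.sum_neg_distrib]
      refine Finset.sum_congr rfl (fun t ht => ?_)
      have ht' : ∀ x, polar f x t = 0 := (Finset.mem_filter.1 ht).2
      rw [map_add_of_polar_zero f t0 t (ht' t0), sgn_add, sgn_of_ne_zero hf0]; ring
    linarith
  · right
    have h' : ∀ t : U, (∀ x, polar f x t = 0) → f t = 0 := by
      intro t ht
      by_contra hft
      exact h ⟨t, ht, hft⟩
    rw [Finset.card_eq_sum_ones, Nat.cast_sum]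
    refine Finset.sum_congr rfl (fun t ht => ?_)
    rw [h' t (Finset.mem_filter.1 ht).2, sgn_zero]; simp

end signsum

section arith

/-- an odd number `c ≥ 2` does not divide a power of two times... : if `2 ^ u = A * c`
with `c + 1 = 2 * e`, `2 ≤ e`, contradiction -/
lemma no_odd_factor (u A c e : ℕ) (h : 2 ^ u = A * c) (hc : c + 1 = 2 * e) (he : 2 ≤ e) : False := by
  have hdvd : c ∣ 2 ^ u := Dvd.intro_left A h.symm
  obtain ⟨i, _, hi⟩ := (Nat.dvd_prime_pow Nat.prime_two).1 hdvd
  rcases Nat.eq_zero_or_pos i with h0 | hpos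
  · rw [h0, pow_zero] at hi; omega
  · obtain ⟨k, rfl⟩ : ∃ k, i = k + 1 := ⟨i - 1, by omega⟩
    rw [pow_succ] at hi
    omega

/-- the arithmetic of (M1) -/
theorem arith (n u N1 ρ : ℕ) (hn : 1 ≤ n) (hcount : 2 ^ u + N1 = 1 + 2 ^ n * N1)
    (hsq : ((N1 : ℤ) - 1) ^ 2 = 0 ∨ ((N1 : ℤ) - 1) ^ 2 = 2 ^ (u + ρ)) :
    (u = 0 ∨ u = n ∨ u = 2 * n) ∧ (u = 2 * n → ρ = 0) := by
  rcases hsq with h0 | h1
  · -- N1 = 1, u = n
    have hN : N1 = 1 := by
      have : (N1 : ℤ) - 1 = 0 := by
        exact pow_eq_zero_iff (two_ne_zero) |>.1 h0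
      omega
    subst hN
    have hun : 2 ^ u = 2 ^ n := by omega
    have : u = n := Nat.pow_right_injective (le_refl 2) hun
    refine ⟨Or.inr (Or.inl this), fun h => ?_⟩
    omega
  · rcases Nat.eq_zero_or_pos N1 with hN0 | hNpos
    · subst hN0
      have hu1 : 2 ^ u = 1 := by omega
      have hu : u = 0 := by
        rcases Nat.eq_zero_or_pos u with h | h
        · exact h
        · exfalso
          have : 2 ≤ 2 ^ u := by
            calc 2 = 2 ^ 1 := by norm_num
              _ ≤ 2 ^ u := Nat.pow_le_pow_right (by norm_num) h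
          omega
      refine ⟨Or.inl hu, fun h => ?_⟩
      omega
    · obtain ⟨k, rfl⟩ : ∃ k, N1 = k + 1 := ⟨N1 - 1, by omega⟩
      have hk : k ^ 2 = 2 ^ (u + ρ) := by
        have : ((k : ℤ)) ^ 2 = 2 ^ (u + ρ) := by
          have e : ((k + 1 : ℕ) : ℤ) - 1 = (k : ℤ) := by push_cast; ring
          rw [e] at h1; exact h1
        exact_mod_cast this
      have hkd : k ∣ 2 ^ (u + ρ) := by
        rw [← hk, sq]; exact Dvd.intro k rfl
      obtain ⟨j, _, rfl⟩ := (Nat.dvd_prime_pow Nat.prime_two).1 hkd
      have hj : 2 * j = u + ρ := by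
        have : 2 ^ (j * 2) = 2 ^ (u + ρ) := by rw [pow_mul]; exact hk
        have := Nat.pow_right_injective (le_refl 2) this
        omega
      -- main equation: 2 ^ u + (2 ^ j + 1) = 1 + 2 ^ n * (2 ^ j + 1)
      rcases Nat.lt_trichotomy j n with hlt | heq | hgt
      · exfalso
        obtain ⟨d, rfl⟩ : ∃ d, n = j + (d + 1) := ⟨n - j - 1, by omega⟩
        have hA : 1 ≤ 2 ^ j := Nat.one_le_two_pow
        have hD : 1 ≤ 2 ^ d := Nat.one_le_two_pow
        have hpow : 2 ^ (j + (d + 1)) = 2 ^ j * (2 * 2 ^ d) := by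
          rw [pow_add, pow_succ]; ring
        rw [hpow] at hcount
        generalize 2 ^ j = A at *
        generalize 2 ^ d = D at *
        -- 2^u + A + 1 = 1 + A*2*D*(A+1), c = 2*D*(A+1) - 1
        obtain ⟨c, hc⟩ : ∃ c, c + 1 = 2 * (D * (A + 1)) := ⟨2 * (D * (A + 1)) - 1, by
          have : 1 ≤ D * (A + 1) := Nat.mul_pos (by omega) (by omega)
          omega⟩
        have he : 2 ≤ D * (A + 1) := by
          calc 2 = 1 * 2 := by norm_num
            _ ≤ D * (A + 1) := Nat.mul_le_mul hD (by omega)
        have hu : 2 ^ u = A * c := by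
          have h1 : 2 ^ u + (A + 1) = A * (c + 1) + 1 := by
            rw [hc]; rw [hcount]; ring
          have h2 : A * (c + 1) = A * c + A := by ring
          omega
        exact no_odd_factor u A c (D * (A + 1)) hu hc he
      · subst heq
        have hu : 2 ^ u = 2 ^ (j * 2) := by
          rw [pow_mul, sq]
          have h2 : 2 ^ j * (2 ^ j + 1) = 2 ^ j * 2 ^ j + 2 ^ j := by ring
          omega
        have huj : u = j * 2 := Nat.pow_right_injective (le_refl 2) hu
        refine ⟨Or.inr (Or.inr (by omega)), fun _ => by omega⟩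
      · exfalso
        obtain ⟨d, rfl⟩ : ∃ d, j = n + (d + 1) := ⟨j - n - 1, by omega⟩
        have hA2 : 2 ≤ 2 ^ n := by
          calc 2 = 2 ^ 1 := by norm_num
            _ ≤ 2 ^ n := Nat.pow_le_pow_right (by norm_num) hn
        have hD : 1 ≤ 2 ^ d := Nat.one_le_two_pow
        have hpow : 2 ^ (n + (d + 1)) = 2 ^ n * (2 * 2 ^ d) := by
          rw [pow_add, pow_succ]; ring
        rw [hpow] at hcount
        obtain ⟨A', hA'⟩ : ∃ A', 2 ^ n = A' + 1 := ⟨2 ^ n - 1, by omega⟩
        rw [hA'] at hcount
        have hA1 : 1 ≤ A' := by omega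
        generalize 2 ^ d = D at *
        -- 2^u + (A'+1)*2*D + 1 = 1 + (A'+1)*((A'+1)*2*D+1); c = 2*D*A' + 1
        have hu : 2 ^ u = (A' + 1) * (2 * (D * A') + 1) := by
          have h1 : 1 + (A' + 1) * ((A' + 1) * (2 * D) + 1)
              = (A' + 1) * (2 * (D * A') + 1) + ((A' + 1) * (2 * D) + 1) := by ring
          omega
        have he : 2 ≤ D * A' + 1 := by
          have : 1 ≤ D * A' := Nat.mul_pos (by omega) (by omega)
          omega
        exact no_odd_factor u (A' + 1) (2 * (D * A') + 1) (D * A' + 1) hu (by ring) he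

end arith



section functional

/-- a proper subgroup of an elementary abelian 2-group lies in the kernel of a nonzero functional -/
lemma exists_functional {V : Type*} [AddCommGroup V] (two_V : ∀ v : V, v + v = 0)
    (H : AddSubgroup V) (hH : H ≠ ⊤) :
    ∃ lam : V → ZMod 2, (∀ v w, lam (v + w) = lam v + lam w) ∧ (∃ v1, lam v1 ≠ 0) ∧
      ∀ h ∈ H, lam h = 0 := by
  let _ : Module (ZMod 2) V :=
    AddCommGroup.zmodModule (n := 2) (by intro x; rw [two_nsmul]; exact two_V x)
  have hlt : AddSubgroup.toZModSubmodule 2 H < ⊤ := by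
    rw [lt_top_iff_ne_top]
    intro h
    apply hH
    ext x
    constructor
    · intro _; trivial
    · intro _
      have : x ∈ AddSubgroup.toZModSubmodule 2 H := by rw [h]; trivial
      exact this
  obtain ⟨f, hf0, hfk⟩ := Submodule.exists_le_ker_of_lt_top _ hlt
  refine ⟨fun v => f v, fun v w => map_add f v w, ?_, ?_⟩
  · by_contra hc
    apply hf0
    ext v
    by_contra hv
    exact hc ⟨v, hv⟩
  · intro h hh
    have : h ∈ LinearMap.ker f := hfk hh
    exact this

end functional

section count

variable {U V : Type*} [AddCommGroup U] [AddCommGroup V]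

lemma beta_zero_left (β : U → U → V)
    (add_left : ∀ x y z : U, β (x + y) z = β x z + β y z) (z : U) : β 0 z = 0 := by
  have h := add_left 0 0 z
  rw [zero_add] at h
  have h' : β 0 z + 0 = β 0 z + β 0 z := by rw [add_zero]; exact h
  exact (add_left_cancel h').symm

lemma kappa_zero (κ : U → V) (β : U → U → V)
    (hpolar : ∀ x y : U, κ (x + y) = κ x + κ y + β x y)
    (add_left : ∀ x y z : U, β (x + y) z = β x z + β y z) : κ 0 = 0 := by
  have h := hpolar 0 0
  rw [zero_add, beta_zero_left β add_left 0, add_zero] at h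
  have h' : κ 0 + 0 = κ 0 + κ 0 := by rw [add_zero]; exact h
  exact (add_left_cancel h').symm

lemma beta_symm (κ : U → V) (β : U → U → V)
    (hpolar : ∀ x y : U, κ (x + y) = κ x + κ y + β x y) (x y : U) : β x y = β y x := by
  have h1 := hpolar x y
  have h2 := hpolar y x
  rw [add_comm y x, h1, add_comm (κ y) (κ x)] at h2
  exact add_left_cancel h2

open Classical in
/-- the key computation for one nonzero functional `lam` -/
lemma key [Fintype U] [Fintype V] (κ : U → V) (β : U → U → V)
    (two_U : ∀ x : U, x + x = 0)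
    (hpolar : ∀ x y : U, κ (x + y) = κ x + κ y + β x y)
    (add_left : ∀ x y z : U, β (x + y) z = β x z + β y z)
    (anis : ∀ x : U, κ x = 0 → x = 0)
    (N1 : ℕ) (hfib : ∀ v : V, v ≠ 0 → (univ.filter (fun x : U => κ x = v)).card = N1)
    (lam : V → ZMod 2) (hlam : ∀ v w, lam (v + w) = lam v + lam w) (v1 : V) (hv1 : lam v1 ≠ 0)
    (n u : ℕ) (hn : 1 ≤ n) (hVc : Fintype.card V = 2 ^ n) (hUc : Fintype.card U = 2 ^ u) :
    (u = 0 ∨ u = n ∨ u = 2 * n) ∧ (u = 2 * n → ∀ t : U, (∀ x, lam (β x t) = 0) → t = 0) := by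
  have hκ0 : κ 0 = 0 := kappa_zero κ β hpolar add_left
  have hlam0 : lam 0 = 0 := by
    have h := hlam 0 0
    rw [zero_add] at h
    have h' : lam 0 + 0 = lam 0 + lam 0 := by rw [add_zero]; exact h
    exact (add_left_cancel h').symm
  -- the fibre over 0
  have hfib0 : (univ.filter (fun x : U => κ x = 0)).card = 1 := by
    rw [Finset.card_eq_one]
    refine ⟨0, ?_⟩
    ext x
    simp only [Finset.mem_filter, Finset.mem_univ, true_and, Finset.mem_singleton]
    constructor
    · exact anis x
    · intro hx; rw [hx]; exact hκ0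
  -- the count
  have hcount0 : Fintype.card U = 1 + (2 ^ n - 1) * N1 := by
    have h1 : (univ : Finset U).card
        = ∑ v ∈ (univ : Finset V), ((univ : Finset U).filter (fun x => κ x = v)).card :=
      Finset.card_eq_sum_card_fiberwise (fun x _ => Finset.mem_univ (κ x))
    rw [Finset.card_univ] at h1
    rw [h1, ← Finset.add_sum_erase _ _ (Finset.mem_univ (0 : V)), hfib0]
    congr 1
    rw [Finset.sum_congr rfl (fun v hv => hfib v (Finset.ne_of_mem_erase hv)), Finset.sum_const,
      smul_eq_mul, Finset.card_erase_of_mem (Finset.mem_univ _), Finset.card_univ, hVc]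
  have hcount : 2 ^ u + N1 = 1 + 2 ^ n * N1 := by
    have h1 : 1 ≤ 2 ^ n := Nat.one_le_two_pow
    have h2 : (2 ^ n - 1) * N1 + N1 = 2 ^ n * N1 := by
      calc (2 ^ n - 1) * N1 + N1 = (2 ^ n - 1 + 1) * N1 := by ring
        _ = 2 ^ n * N1 := by rw [Nat.sub_add_cancel h1]
    rw [← hUc, hcount0]; omega
  -- the quadratic form f = lam ∘ κ
  set f : U → ZMod 2 := fun x => lam (κ x) with hf
  have hpf : ∀ x y : U, polar f x y = lam (β x y) := by
    intro x y
    unfold polar
    simp only [hf]
    rw [hpolar, hlam, hlam]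
    linear_combination (zmod2_add_self (lam (κ x))) + (zmod2_add_self (lam (κ y)))
  have hB : ∀ x y z : U, polar f (x + y) z = polar f x z + polar f y z := by
    intro x y z
    rw [hpf, hpf, hpf, add_left, hlam]
  -- the sign sum
  have hsumV : ∑ v : V, sgn (lam v) = 0 := sum_sgn_hom_eq_zero lam hlam v1 hv1
  have hsumV' : ∑ v ∈ (univ : Finset V).erase 0, sgn (lam v) = -1 := by
    have h := Finset.add_sum_erase (univ : Finset V) (fun v => sgn (lam v)) (Finset.mem_univ (0 : V))
    rw [hsumV, hlam0, sgn_zero] at h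
    linarith
  have hS : ∑ x : U, sgn (f x) = 1 - (N1 : ℤ) := by
    have h1 : ∑ x : U, sgn (f x)
        = ∑ v : V, ∑ x ∈ (univ : Finset U).filter (fun x => κ x = v), sgn (f x) :=
      (Finset.sum_fiberwise (univ : Finset U) κ (fun x => sgn (f x))).symm
    have h2 : ∀ v : V, ∑ x ∈ (univ : Finset U).filter (fun x => κ x = v), sgn (f x)
        = (((univ : Finset U).filter (fun x => κ x = v)).card : ℤ) * sgn (lam v) := by
      intro v
      rw [Finset.sum_congr rfl (fun x hx => by
        show sgn (lam (κ x)) = sgn (lam v)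
        rw [(Finset.mem_filter.1 hx).2]), Finset.sum_const, nsmul_eq_mul]
    rw [h1, Finset.sum_congr rfl (fun v _ => h2 v),
      ← Finset.add_sum_erase _ _ (Finset.mem_univ (0 : V)), hfib0, hlam0, sgn_zero,
      Finset.sum_congr rfl (fun v hv => by rw [hfib v (Finset.ne_of_mem_erase hv)]),
      ← Finset.mul_sum, hsumV']
    push_cast; ring
  -- the radical
  have hsq := sq_sum_sgn f hB
  have hrad := sum_rad_sgn two_U f hB
  have hcardR : (univ.filter (fun t : U => ∀ x, polar f x t = 0)).card = Nat.card (rad f hB) := by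
    have e : Nat.card (rad f hB) = Nat.card {t : U // ∀ x, polar f x t = 0} := rfl
    rw [e, Nat.card_eq_fintype_card, Fintype.card_subtype]
  have hdvd : Nat.card (rad f hB) ∣ 2 ^ u := by
    have h := AddSubgroup.card_addSubgroup_dvd_card (rad f hB)
    rw [Nat.card_eq_fintype_card (α := U), hUc] at h
    exact h
  obtain ⟨ρ, _, hρ⟩ := (Nat.dvd_prime_pow Nat.prime_two).1 hdvd
  rw [← hcardR] at hρ
  have hsq' : ((N1 : ℤ) - 1) ^ 2 = 0 ∨ ((N1 : ℤ) - 1) ^ 2 = 2 ^ (u + ρ) := by
    rw [hS, hUc] at hsq
    rcases hrad with h0 | h1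
    · left
      rw [h0, mul_zero] at hsq
      have : ((N1 : ℤ) - 1) ^ 2 = (1 - (N1 : ℤ)) ^ 2 := by ring
      rw [this, hsq]
    · right
      rw [h1, hρ] at hsq
      have : ((N1 : ℤ) - 1) ^ 2 = (1 - (N1 : ℤ)) ^ 2 := by ring
      rw [this, hsq]
      push_cast
      rw [pow_add]
  obtain ⟨htri, hrho⟩ := arith n u N1 ρ hn hcount hsq'
  refine ⟨htri, fun hu t ht => ?_⟩
  have hρ0 := hrho hu
  rw [hρ0, pow_zero, Finset.card_eq_one] at hρ
  obtain ⟨a, ha⟩ := hρ
  have ht' : t ∈ univ.filter (fun t : U => ∀ x, polar f x t = 0) := by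
    rw [Finset.mem_filter]
    exact ⟨Finset.mem_univ _, fun x => by rw [hpf]; exact ht x⟩
  have h0' : (0 : U) ∈ univ.filter (fun t : U => ∀ x, polar f x t = 0) := by
    rw [Finset.mem_filter]
    exact ⟨Finset.mem_univ _, fun x => (rad f hB).zero_mem x⟩
  rw [ha, Finset.mem_singleton] at ht' h0'
  rw [ht', ← h0']

end count


section main

/-- a finite additive group of exponent 2 has order a power of 2 -/
lemma card_eq_two_pow {V : Type*} [AddCommGroup V] [Finite V] (two_V : ∀ v : V, v + v = 0) :
    ∃ n : ℕ, Nat.card V = 2 ^ n := by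
  have hp : IsPGroup 2 (Multiplicative V) := by
    intro g
    refine ⟨1, ?_⟩
    rw [pow_one, sq]
    exact congrArg Multiplicative.ofAdd (two_V (Multiplicative.toAdd g))
  obtain ⟨n, hn⟩ := IsPGroup.iff_card.1 hp
  exact ⟨n, hn⟩

open Classical in
/-- (M1), generic additive form -/
theorem m1_generic {U V : Type*} [AddCommGroup U] [AddCommGroup V] [Finite U] [Finite V]
    (κ : U → V) (β : U → U → V)
    (two_U : ∀ x : U, x + x = 0) (two_V : ∀ v : V, v + v = 0)
    (hpolar : ∀ x y : U, κ (x + y) = κ x + κ y + β x y)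
    (add_left : ∀ x y z : U, β (x + y) z = β x z + β y z)
    (anis : ∀ x : U, κ x = 0 → x = 0)
    (hfib : ∀ v w : V, v ≠ 0 → w ≠ 0 →
      Nat.card {x : U // κ x = v} = Nat.card {x : U // κ x = w}) :
    Nat.card U = 1 ∨ Nat.card U = Nat.card V ∨
      (Nat.card U = Nat.card V ^ 2 ∧ ∀ a : U, a ≠ 0 → Function.Surjective (β a)) := by
  have : Fintype U := Fintype.ofFinite U
  have : Fintype V := Fintype.ofFinite V
  obtain ⟨n, hVn⟩ := card_eq_two_pow two_V
  obtain ⟨u, hUu⟩ := card_eq_two_pow two_U
  have hκ0 : κ 0 = 0 := kappa_zero κ β hpolar add_left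
  rcases Nat.eq_zero_or_pos n with hn0 | hnpos
  · -- V trivial, so U trivial
    left
    rw [hn0, pow_zero] at hVn
    have hVsub : Subsingleton V := (Nat.card_eq_one_iff_unique.1 hVn).1
    have hUsub : Subsingleton U := by
      refine ⟨fun x y => ?_⟩
      have hx : x = 0 := anis x (Subsingleton.elim _ _)
      have hy : y = 0 := anis y (Subsingleton.elim _ _)
      rw [hx, hy]
    have : Nonempty U := ⟨0⟩
    exact Nat.card_eq_one_iff_unique.2 ⟨hUsub, inferInstance⟩
  · have hVc : Fintype.card V = 2 ^ n := by rw [← Nat.card_eq_fintype_card]; exact hVn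
    have hUc : Fintype.card U = 2 ^ u := by rw [← Nat.card_eq_fintype_card]; exact hUu
    -- a nonzero vector
    have hnt : Nontrivial V := by
      rw [← Fintype.one_lt_card_iff_nontrivial, hVc]
      calc 1 < 2 ^ 1 := by norm_num
        _ ≤ 2 ^ n := Nat.pow_le_pow_right (by norm_num) hnpos
    obtain ⟨v0, hv0⟩ := exists_ne (0 : V)
    set N1 : ℕ := (univ.filter (fun x : U => κ x = v0)).card with hN1
    have hfibF : ∀ v : V, v ≠ 0 → (univ.filter (fun x : U => κ x = v)).card = N1 := by
      intro v hv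
      have h := hfib v v0 hv hv0
      rw [Nat.card_eq_fintype_card, Nat.card_eq_fintype_card, Fintype.card_subtype,
        Fintype.card_subtype] at h
      exact h
    have hbot : (⊥ : AddSubgroup V) ≠ ⊤ := bot_ne_top
    obtain ⟨lam0, hlam0, ⟨w0, hw0⟩, -⟩ := exists_functional two_V ⊥ hbot
    obtain ⟨htri, -⟩ := key κ β two_U hpolar add_left anis N1 hfibF lam0 hlam0 w0 hw0 n u hnpos hVc hUc
    rcases htri with h0 | hn' | h2n
    · left; rw [hUu, h0, pow_zero]
    · right; left; rw [hUu, hVn, hn']
    · right; right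
      refine ⟨by rw [hUu, hVn, h2n, ← pow_mul, mul_comm], ?_⟩
      intro a ha
      by_contra hns
      -- the range of `β a` is a proper subgroup
      have hsymm := beta_symm κ β hpolar
      let H : AddSubgroup V :=
        { carrier := Set.range (β a)
          zero_mem' := ⟨0, by rw [hsymm]; exact beta_zero_left β add_left a⟩
          add_mem' := by
            rintro _ _ ⟨y, rfl⟩ ⟨z, rfl⟩
            exact ⟨y + z, by rw [hsymm, add_left, hsymm y a, hsymm z a]⟩
          neg_mem' := by
            rintro _ ⟨y, rfl⟩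
            refine ⟨y, ?_⟩
            exact (neg_eq_of_add_eq_zero_left (two_V (β a y))).symm }
      have hH : H ≠ ⊤ := by
        intro hH
        apply hns
        intro v
        have : v ∈ H := by rw [hH]; trivial
        exact this
      obtain ⟨lam, hlam, ⟨w1, hw1⟩, hker⟩ := exists_functional two_V H hH
      obtain ⟨-, hrad⟩ := key κ β two_U hpolar add_left anis N1 hfibF lam hlam w1 hw1 n u hnpos hVc hUc
      exact ha (hrad h2n a (fun x => hker _ ⟨x, hsymm a x⟩))

end main

end Cfsg.Agent.Lib.H9.S3797M1
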