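import Cfsg.Agent.Lib.H5.S3797MLDefs
import Cfsg.Agent.Lib.H9.S3797M1

/-!
# S3797, MAIN LEMMA piece (M1) in the exact shape of `Cfsg.Agent.Lib.H5.S3797ML.M1Stmt`
-/

set_option autoImplicit false

namespace Cfsg.Agent.Lib.H9.S3797M1W

universe u

open Cfsg.Agent.Lib.H5.S3797ML

/-- (M1) the count -/
theorem m1 : M1Stmt.{u} := by
  intro U V _ _ _ _ κ β hQ hfib
  exact Cfsg.Agent.Lib.H9.S3797M1.m1_generic κ β hQ.two_U hQ.two_V hQ.polar hQ.add_left hQ.anis hfib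

example : M1Stmt.{0} := m1

end Cfsg.Agent.Lib.H9.S3797M1W
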