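import Mathlib
import Cfsg.Agent.Lib.H10.S4415Defs

/-!
# S4415, BAD layer (helper9): the line `Im N² = F_3 u` and "no square root of `-1` commutes with `b`"

In the `QData` frame of helper10's cut: `u := e₁ + e₂ + e₃`.
* `u_ne_zero`        : `u ≠ 0`;
* `nsq_mem_span`     : `(1 + b + b²) w ∈ F_3 u` for all `w ∈ W` (in characteristic 3, `1 + b + b² = (b-1)²`);
* `nsq_e₁`           : `(1 + b + b²) e₁ = u`;
* `no_sqrt_neg_one`  : no `y` commuting with `b`, leaving `W` invariant, acts on `W` with `y² = -1`.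
-/

set_option autoImplicit false

namespace Cfsg.Agent.Lib.H9.S4415

open Cfsg.Agent.Lib.H10.S4415

variable {S E : Type*} [Group S] [AddCommGroup E] [Module (ZMod 3) E]
  {ρ : Representation (ZMod 3) S E} {R : Subgroup S} {b : S} {W : Submodule (ZMod 3) E}
  {x₁ x₂ x₃ : S} {e₁ e₂ e₃ : E}

/-- `3 • v = 0` in a `ZMod 3`-module -/
theorem three_smul_eq_zero (v : E) : v + v + v = 0 := by
  have h : ((3 : ℕ) : ZMod 3) = 0 := by decide
  have h2 : v + v + v = ((3 : ℕ) : ZMod 3) • v := by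
    rw [Nat.cast_smul_eq_nsmul]
    simp [succ_nsmul]
  rw [h2, h, zero_smul]

/-- `u = e₁ + e₂ + e₃` is not zero -/
theorem u_ne_zero (hQ : QData ρ R b W x₁ x₂ x₃ e₁ e₂ e₃) : e₁ + e₂ + e₃ ≠ 0 := by
  intro h
  -- apply `x₁` and add
  have h1 : ρ x₁ (e₁ + e₂ + e₃) = e₁ - e₂ - e₃ := by
    rw [map_add, map_add, hQ.x₁e₁, hQ.x₁e₂, hQ.x₁e₃]
    abel
  rw [h, map_zero] at h1
  -- `e₁ + e₁ = 0`, so `e₁ = 0`
  have h2 : e₁ + e₁ = 0 := by
    have : e₁ + e₁ = (e₁ + e₂ + e₃) + (e₁ - e₂ - e₃) := by abel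
    rw [this, h, ← h1, add_zero]
  have h3 : e₁ = 0 := by
    have := three_smul_eq_zero e₁
    rw [h2, zero_add] at this
    exact this
  exact hQ.e₁ne h3

/-- `(1 + b + b²) e₁ = u` -/
theorem nsq_e₁ (hQ : QData ρ R b W x₁ x₂ x₃ e₁ e₂ e₃) :
    ρ b (ρ b e₁) + ρ b e₁ + e₁ = e₁ + e₂ + e₃ := by
  rw [hQ.be₁, hQ.be₂]
  abel

/-- `(1 + b + b²) w` lies on the line `F_3 u` -/
theorem nsq_eq_smul (hQ : QData ρ R b W x₁ x₂ x₃ e₁ e₂ e₃) {w : E} (hw : w ∈ W) :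
    ∃ c : ZMod 3, ρ b (ρ b w) + ρ b w + w = c • (e₁ + e₂ + e₃) := by
  obtain ⟨w₀, _, c₁, c₂, c₃, hdec, _, _, _, hbw₀⟩ := hQ.decomp w hw
  refine ⟨c₁ + c₂ + c₃, ?_⟩
  have hb1 : ρ b w = w₀ + c₁ • e₂ + c₂ • e₃ + c₃ • e₁ := by
    rw [hdec, map_add, map_add, map_add, map_smul, map_smul, map_smul, hbw₀, hQ.be₁, hQ.be₂,
      hQ.be₃]
  have hb2 : ρ b (ρ b w) = w₀ + c₁ • e₃ + c₂ • e₁ + c₃ • e₂ := by
    rw [hb1, map_add, map_add, map_add, map_smul, map_smul, map_smul, hbw₀, hQ.be₁, hQ.be₂,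
      hQ.be₃]
  rw [hb2, hb1]
  conv_lhs => rw [hdec]
  have h3 := three_smul_eq_zero w₀
  have : w₀ + c₁ • e₃ + c₂ • e₁ + c₃ • e₂ + (w₀ + c₁ • e₂ + c₂ • e₃ + c₃ • e₁) +
      (w₀ + c₁ • e₁ + c₂ • e₂ + c₃ • e₃) =
      (w₀ + w₀ + w₀) + (c₁ + c₂ + c₃) • (e₁ + e₂ + e₃) := by
    simp only [add_smul, smul_add]
    abel
  rw [this, h3, zero_add]

/-- **no square root of `-1` commutes with `b`** (engine of (B1) and (B4)). -/
theorem no_sqrt_neg_one (hQ : QData ρ R b W x₁ x₂ x₃ e₁ e₂ e₃) (y : S)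
    (hyW : ∀ w ∈ W, ρ y w ∈ W) (hyb : y * b = b * y)
    (hsq : ∀ w ∈ W, ρ y (ρ y w) = -w) : False := by
  set u := e₁ + e₂ + e₃ with hu
  have hu0 : u ≠ 0 := u_ne_zero hQ
  have huW : u ∈ W := W.add_mem (W.add_mem hQ.e₁W hQ.e₂W) hQ.e₃W
  -- `y` commutes with `b` as operators
  have hcomm : ∀ v : E, ρ y (ρ b v) = ρ b (ρ y v) := by
    intro v
    have h1 : ρ (y * b) v = ρ (b * y) v := by rw [hyb]
    rw [map_mul, map_mul] at h1
    exact h1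
  -- `y u = (1 + b + b²) (y e₁)` lies on the line
  have hyu : ρ y u = ρ b (ρ b (ρ y e₁)) + ρ b (ρ y e₁) + ρ y e₁ := by
    rw [hu, ← nsq_e₁ hQ, map_add, map_add, hcomm, hcomm]
  obtain ⟨c, hc⟩ := nsq_eq_smul hQ (hyW e₁ hQ.e₁W)
  rw [← hyu] at hc
  -- `y (y u) = c² u = -u`
  have h2 : ρ y (ρ y u) = (c * c) • u := by
    rw [hc, map_smul, hc, smul_smul]
  rw [hsq u huW] at h2
  have h3 : (c * c + 1) • u = 0 := by
    rw [add_smul, one_smul, ← h2]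
    abel
  have h4 : c * c + 1 = 0 := by
    by_contra hne
    exact hu0 ((smul_eq_zero.1 h3).resolve_left hne)
  -- `-1` is not a square in `ZMod 3`
  have hkey : ∀ d : ZMod 3, d * d + 1 ≠ 0 := by decide
  exact hkey c h4

end Cfsg.Agent.Lib.H9.S4415
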