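import Mathlib
import Cfsg.Prelude.Def_Blocks
import Cfsg.Agent.Lib.H21.AD.Defs

/-!
S4937 piece (CONJ): the conjugate of a good twist is good on the conjugate subgroup.
Blueprint: tools/blueprints/S4937.md (architect helper21).
-/

set_option autoImplicit false
open Cfsg.Agent.Lib.H21.AD

namespace Cfsg.Agent.Lib.H9.AD

variable {G : Type*} [Group G] [Finite G] {p : ℕ} {M : Ideal Cfsg.AlgInt}

omit [Finite G] in
theorem conj_mem_map_iff (J : Subgroup G) (t g : G) :
    t * g * t⁻¹ ∈ J.map (MulAut.conj t).toMonoidHom ↔ g ∈ J := by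
  constructor
  · rintro ⟨a, ha, hag⟩
    have : a = g := by
      have h1 : t * a * t⁻¹ = t * g * t⁻¹ := by simpa [MulAut.conj_apply] using hag
      have h2 : t⁻¹ * (t * a * t⁻¹) * t = t⁻¹ * (t * g * t⁻¹) * t := by rw [h1]
      simpa [mul_assoc] using h2
    rw [← this]; exact ha
  · intro hg
    exact ⟨g, hg, by simp [MulAut.conj_apply]⟩

omit [Finite G] in
/-- reindexing the `p`-regular sum by conjugation -/
theorem sSum_conj (p : ℕ) (J : Subgroup G) (f : G → ℂ) (t : G) :
    sSum p (J.map (MulAut.conj t).toMonoidHom) f = sSum p J (fun g => f (t * g * t⁻¹)) := by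
  classical
  unfold sSum
  rw [← finsum_comp_equiv (MulAut.conj t).toEquiv]
  apply finsum_congr
  intro g
  have h1 : (MulAut.conj t).toEquiv g = t * g * t⁻¹ := by simp [MulAut.conj_apply]
  rw [h1]
  have h2 : orderOf (t * g * t⁻¹) = orderOf g := by
    have := MulEquiv.orderOf_eq (MulAut.conj t) g
    simpa [MulAut.conj_apply] using this
  by_cases hg : g ∈ J ∧ ¬ p ∣ orderOf g
  · have hg' : t * g * t⁻¹ ∈ J.map (MulAut.conj t).toMonoidHom ∧ ¬ p ∣ orderOf (t * g * t⁻¹) := by
      rw [conj_mem_map_iff, h2]; exact hg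
    rw [if_pos hg, if_pos hg']
  · have hg' : ¬ (t * g * t⁻¹ ∈ J.map (MulAut.conj t).toMonoidHom ∧ ¬ p ∣ orderOf (t * g * t⁻¹)) := by
      rw [conj_mem_map_iff, h2]; exact hg
    rw [if_neg hg, if_neg hg']

set_option linter.unusedSectionVars false in
/-- (CONJ) conjugating a good twist (the unused `[Finite G]` is kept: exact signature of the blueprint) -/
theorem good_conj (p : ℕ) (N : Subgroup G) [N.Normal] (ψ : G → ℂ) (hψ : Cfsg.IsClassFunction G ψ)
    (J : Subgroup G) (ν : G → ℂ) (h : Good p ψ N J ν) (t : G) :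
    Good p ψ N (J.map (MulAut.conj t).toMonoidHom) (fun x => ν (t⁻¹ * x * t)) := by
  obtain ⟨⟨hmul, hN⟩, hsum⟩ := h
  refine ⟨⟨?_, ?_⟩, ?_⟩
  · rintro a ⟨a', ha', rfl⟩ b ⟨b', hb', rfl⟩
    have e1 : t⁻¹ * ((MulAut.conj t).toMonoidHom a' * (MulAut.conj t).toMonoidHom b') * t =
        a' * b' := by
      simp only [MulEquiv.coe_toMonoidHom, MulAut.conj_apply]; group
    have e2 : t⁻¹ * ((MulAut.conj t).toMonoidHom a') * t = a' := by
      simp only [MulEquiv.coe_toMonoidHom, MulAut.conj_apply]; group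
    have e3 : t⁻¹ * ((MulAut.conj t).toMonoidHom b') * t = b' := by
      simp only [MulEquiv.coe_toMonoidHom, MulAut.conj_apply]; group
    show ν _ = ν _ * ν _
    rw [e1, e2, e3]
    exact hmul a' ha' b' hb'
  · intro n hn
    show ν (t⁻¹ * n * t) = 1
    apply hN
    have := ‹N.Normal›.conj_mem n hn t⁻¹
    simpa using this
  · rw [sSum_conj]
    have : (fun g => ψ (t * g * t⁻¹) * ν (t⁻¹ * (t * g * t⁻¹) * t)) = fun g => ψ g * ν g := by
      funext g
      rw [hψ g t]
      congr 2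
      group
    rw [this]
    exact hsum
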