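import Mathlib
import Cfsg.Prelude.Def_Blocks
import Cfsg.Prelude.Def_CharExt
import Cfsg.Agent.Lib.H21.AD.Defs
import Cfsg.Agent.Lib.H28.NT.Defs
import Cfsg.Agent.Lib.H9.ADCONJ
import Cfsg.Agent.Lib.H23.DetChar
import Cfsg.Agent.Lib.L0.CharOps

/-!
S4892 pieces (CONJA) `goodA_conj` and (CONJE) `goodE_conj`: conjugating a principal / canonical
extension.  Blueprint: tools/blueprints/S4892.md (architect helper28).
-/

set_option autoImplicit false
open Cfsg.Agent.Lib.H21.AD Cfsg.Agent.Lib.H28.NT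

namespace Cfsg.Agent.Lib.H9.NT

variable {G : Type*} [Group G] [Finite G] {p : ℕ} {M : Ideal Cfsg.AlgInt} {N Q : Subgroup G} {θ : G → ℂ}

/-- the conjugation isomorphism `J^t ≃* J` -/
noncomputable def conjBack (J : Subgroup G) (t : G) :
    ↥(J.map (MulAut.conj t).toMonoidHom) ≃* ↥J :=
  (MulEquiv.subgroupMap (MulAut.conj t) J).symm

omit [Finite G] in
theorem conjBack_coe (J : Subgroup G) (t : G) (y : ↥(J.map (MulAut.conj t).toMonoidHom)) :
    ((conjBack J t y : ↥J) : G) = t⁻¹ * (y : G) * t := by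
  obtain ⟨x, rfl⟩ := (conjBack J t).symm.surjective y
  rw [MulEquiv.apply_symm_apply]
  have h1 : (((conjBack J t).symm x : ↥(J.map (MulAut.conj t).toMonoidHom)) : G) =
      t * (x : G) * t⁻¹ := rfl
  rw [h1]
  group

omit [Finite G] in
/-- transporting `IsExt` -/
theorem isExt_conj [N.Normal] (hinv : ∀ g : G, ∀ n ∈ N, θ (g * n * g⁻¹) = θ n) (J : Subgroup G)
    (f : G → ℂ) (hf : IsExt N θ J f) (t : G) :
    IsExt N θ (J.map (MulAut.conj t).toMonoidHom) (fun x => f (t⁻¹ * x * t)) := by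
  obtain ⟨hirr, hN⟩ := hf
  refine ⟨?_, ?_⟩
  · have h1 := Cfsg.Agent.Lib.L0.isIrrCharacter_comp_of_surjective (conjBack J t).toMonoidHom
      (conjBack J t).surjective hirr
    have h2 : ((fun y : ↥J => f y) ∘ (conjBack J t).toMonoidHom) =
        (fun y : ↥(J.map (MulAut.conj t).toMonoidHom) => f (t⁻¹ * (y : G) * t)) := by
      funext y
      show f ((conjBack J t y : ↥J) : G) = _
      rw [conjBack_coe]
    rw [h2] at h1
    exact h1
  · intro n hn
    have hmem : t⁻¹ * n * t ∈ N := by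
      have := ‹N.Normal›.conj_mem n hn t⁻¹
      simpa using this
    show f (t⁻¹ * n * t) = θ n
    rw [hN _ hmem]
    have := hinv t⁻¹ n hn
    simpa using this

set_option linter.unusedVariables false in
set_option linter.unusedSectionVars false in
/-- (CONJA) conjugating a principal extension (`H9.AD.sSum_conj`, `h.hinv`) -/
theorem goodA_conj [N.Normal] (h : Hyp p M N Q θ) (J : Subgroup G) (hNJ : N ≤ J) (f : G → ℂ)
    (hf : GoodA p N θ J f) (t : G) :
    GoodA p N θ (J.map (MulAut.conj t).toMonoidHom) (fun x => f (t⁻¹ * x * t)) := by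
  obtain ⟨hext, hsum⟩ := hf
  refine ⟨isExt_conj h.hinv J f hext t, ?_⟩
  rw [Cfsg.Agent.Lib.H9.AD.sSum_conj]
  have : (fun g => f (t⁻¹ * (t * g * t⁻¹) * t)) = f := by
    funext g
    congr 1
    group
  rw [this]
  exact hsum

omit [Finite G] in
theorem map_conj_sup_zpowers [N.Normal] (t c : G) :
    (N ⊔ Subgroup.zpowers c).map (MulAut.conj t).toMonoidHom =
      N ⊔ Subgroup.zpowers (t * c * t⁻¹) := by
  rw [Subgroup.map_sup, MonoidHom.map_zpowers]
  congr 1
  · ext x
    constructor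
    · rintro ⟨n, hn, rfl⟩
      simpa [MulAut.conj_apply] using ‹N.Normal›.conj_mem n hn t
    · intro hx
      refine ⟨t⁻¹ * x * t, ?_, ?_⟩
      · have := ‹N.Normal›.conj_mem x hx t⁻¹
        simpa using this
      · simp [MulAut.conj_apply, mul_assoc]

set_option linter.unusedVariables false in
/-- (CONJE) -/
theorem goodE_conj [N.Normal] (h : Hyp p M N Q θ) (H : Subgroup G) (hNH : N ≤ H) (f : G → ℂ)
    (hf : GoodE p N θ H f) (t : G) :
    GoodE p N θ (H.map (MulAut.conj t).toMonoidHom) (fun x => f (t⁻¹ * x * t)) := by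
  obtain ⟨hext, hsum, hdet⟩ := hf
  refine ⟨isExt_conj h.hinv H f hext t, ?_, ?_⟩
  · rintro c ⟨c₀, hc₀, rfl⟩ hcp
    have hc₀p : ¬ p ∣ orderOf c₀ := by
      have := MulEquiv.orderOf_eq (MulAut.conj t) c₀
      rw [← this]
      exact hcp
    have h1 : (MulAut.conj t).toMonoidHom c₀ = t * c₀ * t⁻¹ := by simp [MulAut.conj_apply]
    rw [h1, ← map_conj_sup_zpowers, Cfsg.Agent.Lib.H9.AD.sSum_conj]
    have : (fun g => f (t⁻¹ * (t * g * t⁻¹) * t)) = f := by
      funext g
      congr 1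
      group
    rw [this]
    exact hsum c₀ hc₀ hc₀p
  · intro x hx
    have hchar : Cfsg.IsCharacter ↥H (fun y : ↥H => f y) := by
      obtain ⟨n, ρ, -, hρ⟩ := hext.1
      exact ⟨n, ρ, hρ⟩
    have h2 : (fun y : ↥(H.map (MulAut.conj t).toMonoidHom) => f (t⁻¹ * (y : G) * t)) =
        ((fun y : ↥H => f y) ∘ (conjBack H t).toMonoidHom) := by
      funext y
      show _ = f ((conjBack H t y : ↥H) : G)
      rw [conjBack_coe]
    rw [h2, Cfsg.Agent.Lib.H23.detChar_comp (conjBack H t).toMonoidHom hchar]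
    show Cfsg.detChar (fun y : ↥H => f y) (conjBack H t x) = 1
    apply hdet
    obtain ⟨k, hk⟩ := hx
    exact ⟨k, by rw [MulEquiv.orderOf_eq]; exact hk⟩

end Cfsg.Agent.Lib.H9.NT
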