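import Mathlib
import Cfsg.Prelude.Def_Local
import Cfsg.Agent.Lib.H22.PPrimeCore
import Cfsg.Agent.Lib.H1.PCore

/-! `O_{p'}(N)` and `O_{p',p}(N)` of a subgroup `N ≤ G`, viewed as subgroups of `G` (helper9). -/

set_option autoImplicit false

namespace Cfsg.Agent.Lib.H9

open Cfsg

variable {G : Type*} [Group G]

/-- `O_{p'}(N)` as a subgroup of `G`. -/
def opAmb (p : ℕ) (N : Subgroup G) : Subgroup G := (pPrimeCore p ↥N).map N.subtype

/-- `O_{p',p}(N)` as a subgroup of `G`. -/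
def oppAmb (p : ℕ) (N : Subgroup G) : Subgroup G := (pPrimePCore p ↥N).map N.subtype

theorem le_normalizer_map_subtype_of_normal {N : Subgroup G} (K : Subgroup ↥N) [hK : K.Normal] :
    N ≤ Subgroup.normalizer ((K.map N.subtype : Subgroup G) : Set G) := by
  have key : ∀ n ∈ N, ∀ y ∈ K.map N.subtype, n * y * n⁻¹ ∈ K.map N.subtype := by
    rintro n hn _ ⟨k, hk, rfl⟩
    exact ⟨⟨n, hn⟩ * k * ⟨n, hn⟩⁻¹, hK.conj_mem k hk ⟨n, hn⟩, rfl⟩
  intro n hn
  rw [Subgroup.mem_normalizer_iff]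
  intro y
  constructor
  · exact key n hn y
  · intro h
    have := key n⁻¹ (N.inv_mem hn) _ h
    have e : n⁻¹ * (n * y * n⁻¹) * n⁻¹⁻¹ = y := by group
    rwa [e] at this

theorem subgroupOf_normal_of_le_normalizer {N K : Subgroup G}
    (hNK : N ≤ Subgroup.normalizer (K : Set G)) : (K.subgroupOf N).Normal :=
  Subgroup.normal_subgroupOf_of_le_normalizer hNK

theorem opAmb_le (p : ℕ) (N : Subgroup G) : opAmb p N ≤ N := Subgroup.map_subtype_le _

theorem oppAmb_le (p : ℕ) (N : Subgroup G) : oppAmb p N ≤ N := Subgroup.map_subtype_le _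

theorem le_normalizer_opAmb (p : ℕ) (N : Subgroup G) :
    N ≤ Subgroup.normalizer ((opAmb p N : Subgroup G) : Set G) := by
  have := Cfsg.Agent.Lib.H22.pPrimeCore_normal (G := ↥N) p
  exact le_normalizer_map_subtype_of_normal _

theorem pPrimePCore_normal (p : ℕ) (Γ : Type*) [Group Γ] : (pPrimePCore p Γ).Normal := by
  have := Cfsg.Agent.Lib.H1.pCore_normal p (Γ ⧸ pPrimeCore p Γ)
  unfold pPrimePCore
  infer_instance

theorem le_normalizer_oppAmb (p : ℕ) (N : Subgroup G) :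
    N ≤ Subgroup.normalizer ((oppAmb p N : Subgroup G) : Set G) := by
  have := pPrimePCore_normal p ↥N
  exact le_normalizer_map_subtype_of_normal _

theorem card_opAmb_coprime [Finite G] (p : ℕ) (N : Subgroup G) :
    (Nat.card (opAmb p N)).Coprime p := by
  have h1 : Nat.card (opAmb p N) = Nat.card (pPrimeCore p ↥N) :=
    Nat.card_congr ((pPrimeCore p ↥N).equivMapOfInjective N.subtype
      (Subgroup.subtype_injective _)).toEquiv.symm
  rw [h1]
  exact Cfsg.Agent.Lib.H22.card_pPrimeCore_coprime p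

theorem le_opAmb {p : ℕ} {N K : Subgroup G} (hKN : K ≤ N)
    (hNK : N ≤ Subgroup.normalizer (K : Set G)) (hK : (Nat.card K).Coprime p) :
    K ≤ opAmb p N := by
  have hn : (K.subgroupOf N).Normal := subgroupOf_normal_of_le_normalizer hNK
  have hc : (Nat.card (K.subgroupOf N)).Coprime p := by
    rw [Nat.card_congr (Subgroup.subgroupOfEquivOfLe hKN).toEquiv]; exact hK
  have := Cfsg.Agent.Lib.H22.le_pPrimeCore p _ hn hc
  intro k hk
  exact ⟨⟨k, hKN hk⟩, this (Subgroup.mem_subgroupOf.mpr hk), rfl⟩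

theorem opAmb_le_oppAmb (p : ℕ) (N : Subgroup G) : opAmb p N ≤ oppAmb p N := by
  apply Subgroup.map_mono
  intro y hy
  unfold pPrimePCore
  rw [Subgroup.mem_comap]
  have : QuotientGroup.mk' (pPrimeCore p ↥N) y = 1 := by
    rw [QuotientGroup.mk'_apply, QuotientGroup.eq_one_iff]; exact hy
  rw [this]
  exact Subgroup.one_mem _

theorem exists_pow_mem_opAmb {p : ℕ} [Fact p.Prime] {N : Subgroup G} {k : G}
    (hk : k ∈ oppAmb p N) : ∃ j : ℕ, k ^ (p ^ j) ∈ opAmb p N := by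
  obtain ⟨k', hk', rfl⟩ := hk
  have hk'' : QuotientGroup.mk' (pPrimeCore p ↥N) k' ∈ pCore p (↥N ⧸ pPrimeCore p ↥N) := hk'
  have := Cfsg.Agent.Lib.H22.pPrimeCore_normal (G := ↥N) p
  obtain ⟨j, hj⟩ := (Cfsg.Agent.Lib.H1.pCore_isPGroup p (↥N ⧸ pPrimeCore p ↥N)) ⟨_, hk''⟩
  refine ⟨j, k' ^ (p ^ j), ?_, by simp⟩
  have h1 := congrArg Subtype.val hj
  simp only [Subgroup.coe_pow, Subgroup.coe_one] at h1
  rw [QuotientGroup.mk'_apply, ← QuotientGroup.mk_pow, QuotientGroup.eq_one_iff] at h1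
  exact h1

theorem le_oppAmb {p : ℕ} [Fact p.Prime] {N K : Subgroup G} (hKN : K ≤ N)
    (hNK : N ≤ Subgroup.normalizer (K : Set G))
    (hK : ∀ k ∈ K, ∃ j : ℕ, k ^ (p ^ j) ∈ opAmb p N) : K ≤ oppAmb p N := by
  have hY := Cfsg.Agent.Lib.H22.pPrimeCore_normal (G := ↥N) p
  have hn : (K.subgroupOf N).Normal := subgroupOf_normal_of_le_normalizer hNK
  -- the image of `K` in the quotient is a normal `p`-subgroup
  have himgN : ((K.subgroupOf N).map (QuotientGroup.mk' (pPrimeCore p ↥N))).Normal :=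
    Subgroup.Normal.map hn _ (QuotientGroup.mk'_surjective _)
  have himgP : IsPGroup p ((K.subgroupOf N).map (QuotientGroup.mk' (pPrimeCore p ↥N))) := by
    rintro ⟨_, k, hk, rfl⟩
    obtain ⟨j, hj⟩ := hK (k : G) (Subgroup.mem_subgroupOf.mp hk)
    refine ⟨j, ?_⟩
    apply Subtype.ext
    simp only [Subgroup.coe_pow, Subgroup.coe_one]
    rw [QuotientGroup.mk'_apply, ← QuotientGroup.mk_pow, QuotientGroup.eq_one_iff]
    obtain ⟨y, hy, hyk⟩ := hj
    have : y = k ^ (p ^ j) := by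
      apply Subtype.ext
      rw [Subgroup.coe_pow]
      exact hyk
    rw [← this]; exact hy
  have hle := Cfsg.Agent.Lib.H1.le_pCore himgN himgP
  intro k hk
  refine ⟨⟨k, hKN hk⟩, ?_, rfl⟩
  show QuotientGroup.mk' (pPrimeCore p ↥N) ⟨k, hKN hk⟩ ∈ pCore p (↥N ⧸ pPrimeCore p ↥N)
  exact hle ⟨⟨k, hKN hk⟩, Subgroup.mem_subgroupOf.mpr hk, rfl⟩

/-- **Burnside**: a central Sylow `p`-subgroup has a normal complement `K`, which is the set of
`p'`-elements. -/
theorem central_sylow_complement {Γ : Type*} [Group Γ] [Finite Γ] {p : ℕ} [hp : Fact p.Prime]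
    (P : Sylow p Γ) (hc : (P : Subgroup Γ) ≤ Subgroup.center Γ) :
    ∃ K : Subgroup Γ, K.Normal ∧ (Nat.card K).Coprime p ∧ (∀ g : Γ, g ^ Nat.card P ∈ K) ∧
      ∀ g : Γ, g ∈ K ↔ (orderOf g).Coprime p := by
  have hP : Subgroup.normalizer ((P : Subgroup Γ) : Set Γ) ≤
      Subgroup.centralizer ((P : Subgroup Γ) : Set Γ) := by
    have : Subgroup.centralizer ((P : Subgroup Γ) : Set Γ) = ⊤ :=
      Subgroup.centralizer_eq_top_iff_subset.mpr hc
    rw [this]; exact le_top
  have hcompl := MonoidHom.ker_transferSylow_isComplement' P hP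
  have hnd := MonoidHom.not_dvd_card_ker_transferSylow P hP
  set K := (MonoidHom.transferSylow P hP).ker with hK
  have hcop : (Nat.card K).Coprime p :=
    ((Nat.Prime.coprime_iff_not_dvd hp.out).mpr hnd).symm
  have hidx : K.index = Nat.card P := hcompl.symm.index_eq_card
  have hpow : ∀ g : Γ, g ^ Nat.card P ∈ K := by
    intro g
    rw [← hidx]
    exact Subgroup.pow_index_mem K g
  refine ⟨K, inferInstance, hcop, hpow, ?_⟩
  intro g
  constructor
  · intro hg
    have h1 : orderOf g ∣ Nat.card K := by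
      have := orderOf_dvd_natCard (⟨g, hg⟩ : K)
      rwa [Subgroup.orderOf_mk] at this
    exact Nat.Coprime.coprime_dvd_left h1 hcop
  · intro hg
    obtain ⟨n, hn⟩ := P.2.exists_card_eq
    have hcop2 : (Nat.card P).Coprime (orderOf g) := by
      rw [hn]; exact (Nat.Coprime.pow_right n hg).symm
    obtain ⟨m, hm⟩ := exists_pow_eq_self_of_coprime hcop2
    rw [← hm]
    exact Subgroup.pow_mem _ (hpow g) m

/-- Ambient version: a subgroup `C` with a central Sylow `p`-subgroup `Z`. -/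
theorem exists_pcomplement_amb [Finite G] {p : ℕ} [hp : Fact p.Prime] {C Z : Subgroup G}
    (hZC : Z ≤ C) (hZp : IsPGroup p Z) (hZi : ¬ p ∣ Z.relIndex C)
    (hcent : ∀ z ∈ Z, ∀ c ∈ C, z * c = c * z) :
    ∃ Y : Subgroup G, Y ≤ C ∧ (Nat.card Y).Coprime p ∧ (∀ c ∈ C, c ^ Nat.card Z ∈ Y) ∧
      ∀ y : G, y ∈ Y ↔ y ∈ C ∧ (orderOf y).Coprime p := by
  have hP' : IsPGroup p (Z.subgroupOf C) := hZp.comap_subtype
  let PS : Sylow p C := hP'.toSylow hZi
  have hPS : (PS : Subgroup C) = Z.subgroupOf C := hP'.toSylow_coe hZi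
  have hc : (PS : Subgroup C) ≤ Subgroup.center C := by
    intro z hz
    rw [hPS, Subgroup.mem_subgroupOf] at hz
    rw [Subgroup.mem_center_iff]
    intro c
    apply Subtype.ext
    exact (hcent z hz c c.2).symm
  obtain ⟨K, hKn, hKc, hKpow, hKiff⟩ := central_sylow_complement PS hc
  have hcardPS : Nat.card PS = Nat.card Z := by
    have : Nat.card PS = Nat.card (Z.subgroupOf C) := by rw [← hPS]
    rw [this]
    exact Nat.card_congr (Subgroup.subgroupOfEquivOfLe hZC).toEquiv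
  refine ⟨K.map C.subtype, Subgroup.map_subtype_le _, ?_, ?_, ?_⟩
  · have h1 : Nat.card (K.map C.subtype) = Nat.card K :=
      Nat.card_congr (K.equivMapOfInjective C.subtype (Subgroup.subtype_injective _)).toEquiv.symm
    rw [h1]; exact hKc
  · intro c hc'
    have := hKpow ⟨c, hc'⟩
    rw [hcardPS] at this
    exact ⟨_, this, by simp⟩
  · intro y
    constructor
    · rintro ⟨k, hk, rfl⟩
      refine ⟨k.2, ?_⟩
      have := (hKiff k).mp hk
      rwa [← Subgroup.orderOf_coe] at this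
    · rintro ⟨hyC, hy⟩
      refine ⟨⟨y, hyC⟩, ?_, rfl⟩
      apply (hKiff ⟨y, hyC⟩).mpr
      rw [← Subgroup.orderOf_coe]
      exact hy

end Cfsg.Agent.Lib.H9
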