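import Mathlib
import Cfsg.Agent.Lib.H22.NormalSeries
import Cfsg.Agent.Lib.H22.CyclicIndexP
import Cfsg.Agent.Lib.H22.AbelianCyclicExt
import Cfsg.Agent.Lib.H22.MaxClass2
import Cfsg.Agent.Lib.H8.PGroup

set_option autoImplicit false

/-!
# Finite `p`-groups with a cyclic normal self-centralizing subgroup `U = ⟨u⟩`

`CSC p G u n`: `G` a finite `p`-group, `o(u) = p^n`, `⟨u⟩` normal, `C_G(⟨u⟩) = ⟨u⟩ ≠ G`.
With `M = C_G(u^p)`: either `M ≠ ⟨u⟩`, and then `|M : U| = p`, or `M = U`, `p = 2` and `G` is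
of maximal class.
-/

namespace Cfsg.Agent.Lib.H9

open Cfsg.Agent.Lib

/-- elements of `⟨a⟩` (order `p^n`) killed by `p^k` are in `⟨a^(p^(n-k))⟩`. -/
theorem mem_zpowers_pow_of_pow_eq_one {G : Type*} [Group G] {p : ℕ} (hp : 0 < p) {a g : G}
    {n k : ℕ} (ha : orderOf a = p ^ n) (hk : k ≤ n) (hg : g ∈ Subgroup.zpowers a)
    (hgk : g ^ (p ^ k) = 1) : g ∈ Subgroup.zpowers (a ^ (p ^ (n - k))) := by
  have hfin : IsOfFinOrder a := by
    rw [← orderOf_pos_iff, ha]; positivity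
  rw [← hfin.mem_powers_iff_mem_zpowers] at hg
  obtain ⟨j, rfl⟩ := hg
  rw [← pow_mul] at hgk
  have hdvd := orderOf_dvd_of_pow_eq_one hgk
  rw [ha] at hdvd
  have e : p ^ n = p ^ (n - k) * p ^ k := by rw [← pow_add]; congr 1; omega
  rw [e] at hdvd
  have hd2 : p ^ (n - k) ∣ j := Nat.dvd_of_mul_dvd_mul_right (by positivity) hdvd
  obtain ⟨m, rfl⟩ := hd2
  show a ^ (p ^ (n - k) * m) ∈ _
  rw [pow_mul]
  exact Subgroup.pow_mem _ (Subgroup.mem_zpowers _) m

/-- `G` a finite `p`-group, `o(u) = p^n`, `⟨u⟩` normal, self-centralizing and proper. -/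
structure CSC (p : ℕ) (G : Type*) [Group G] [Finite G] (u : G) (n : ℕ) : Prop where
  hG : IsPGroup p G
  ord : orderOf u = p ^ n
  normal : (Subgroup.zpowers u).Normal
  cent : Subgroup.centralizer (Subgroup.zpowers u : Set G) = Subgroup.zpowers u
  ne_top : Subgroup.zpowers u ≠ ⊤

namespace CSC

variable {p : ℕ} [hp : Fact p.Prime] {G : Type*} [Group G] [Finite G] {u : G} {n : ℕ}

theorem mem_of_comm (h : CSC p G u n) {x : G} (hx : x * u = u * x) : x ∈ Subgroup.zpowers u := by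
  rw [← h.cent, Subgroup.mem_centralizer_iff]
  intro g hg
  obtain ⟨i, rfl⟩ := Subgroup.mem_zpowers_iff.mp hg
  exact ((Commute.zpow_right (show Commute x u from hx) i).eq).symm

omit hp [Finite G] in
theorem comm_of_mem {g k : G} (hg : g ∈ Subgroup.zpowers u)
    (hk : k ∈ Subgroup.zpowers u) : g * k = k * g := by
  obtain ⟨i, rfl⟩ := Subgroup.mem_zpowers_iff.mp hg
  obtain ⟨j, rfl⟩ := Subgroup.mem_zpowers_iff.mp hk
  rw [← zpow_add, ← zpow_add, add_comm]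

theorem exists_not_mem (h : CSC p G u n) : ∃ y : G, y ∉ Subgroup.zpowers u := by
  by_contra hno
  push Not at hno
  exact h.ne_top (eq_top_iff.mpr fun y _ => hno y)

theorem pow_card_eq_one (h : CSC p G u n) {g : G} (hg : g ∈ Subgroup.zpowers u) :
    g ^ (p ^ n) = 1 := by
  obtain ⟨i, rfl⟩ := Subgroup.mem_zpowers_iff.mp hg
  rw [← zpow_natCast, ← zpow_mul, mul_comm, zpow_mul, zpow_natCast, ← h.ord, pow_orderOf_eq_one,
    one_zpow]

theorem one_le (h : CSC p G u n) : 1 ≤ n := by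
  by_contra hlt
  push Not at hlt
  have hn0 : n = 0 := by omega
  subst hn0
  obtain ⟨y, hy⟩ := h.exists_not_mem
  apply hy
  apply h.mem_of_comm
  have : u = 1 := by
    have := h.ord
    rwa [pow_zero, orderOf_eq_one_iff] at this
  rw [this, mul_one, one_mul]

theorem z_pow (h : CSC p G u n) : (u ^ (p ^ (n - 1))) ^ p = 1 := by
  have := h.one_le
  rw [← pow_mul, ← pow_succ]
  have e : n - 1 + 1 = n := by omega
  rw [e, ← h.ord, pow_orderOf_eq_one]

theorem z_ne_one (h : CSC p G u n) : u ^ (p ^ (n - 1)) ≠ 1 := by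
  have := h.one_le
  apply pow_ne_one_of_lt_orderOf (pow_pos hp.out.pos _).ne'
  rw [h.ord]
  exact Nat.pow_lt_pow_right hp.out.one_lt (by omega)

theorem orderOf_z (h : CSC p G u n) : orderOf (u ^ (p ^ (n - 1))) = p :=
  orderOf_eq_prime h.z_pow h.z_ne_one

omit hp [Finite G] in
theorem z_mem : u ^ (p ^ (n - 1)) ∈ Subgroup.zpowers u :=
  Subgroup.pow_mem _ (Subgroup.mem_zpowers u) _

/-- elements of `U` of order dividing `p` are powers of `z`. -/
theorem mem_zpowers_z (h : CSC p G u n) {g : G} (hg : g ∈ Subgroup.zpowers u) (hgp : g ^ p = 1) :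
    g ∈ Subgroup.zpowers (u ^ (p ^ (n - 1))) :=
  mem_zpowers_pow_of_pow_eq_one hp.out.pos h.ord h.one_le hg (by simpa using hgp)

theorem z_central (h : CSC p G u n) (s : G) :
    s * u ^ (p ^ (n - 1)) = u ^ (p ^ (n - 1)) * s := by
  have hUn := h.normal
  have hUne : Subgroup.zpowers u ≠ ⊥ := by
    intro hb
    have h1 : u ^ (p ^ (n - 1)) ∈ Subgroup.zpowers u := z_mem
    rw [hb, Subgroup.mem_bot] at h1
    exact h.z_ne_one h1
  obtain ⟨y, hyU, hyc, hy1⟩ := H8.exists_central_mem_of_normal h.hG (Subgroup.zpowers u) hUne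
  -- order of y
  have hdvd := orderOf_dvd_of_pow_eq_one (h.pow_card_eq_one hyU)
  obtain ⟨e, -, he⟩ := (Nat.dvd_prime_pow hp.out).mp hdvd
  have he1 : 1 ≤ e := by
    by_contra hlt
    push Not at hlt
    have : e = 0 := by omega
    rw [this, pow_zero, orderOf_eq_one_iff] at he
    exact hy1 he
  -- g = y^(p^(e-1)) has order p, central, in U
  have hgp : (y ^ (p ^ (e - 1))) ^ p = 1 := by
    rw [← pow_mul, ← pow_succ]
    have : e - 1 + 1 = e := by omega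
    rw [this, ← he, pow_orderOf_eq_one]
  have hg1 : y ^ (p ^ (e - 1)) ≠ 1 := by
    apply pow_ne_one_of_lt_orderOf (pow_pos hp.out.pos _).ne'
    rw [he]
    exact Nat.pow_lt_pow_right hp.out.one_lt (by omega)
  have hgU : y ^ (p ^ (e - 1)) ∈ Subgroup.zpowers u := Subgroup.pow_mem _ hyU _
  have hgz := h.mem_zpowers_z hgU hgp
  have hcard : Nat.card (Subgroup.zpowers (u ^ (p ^ (n - 1)))) = p := by
    rw [Nat.card_zpowers, h.orderOf_z]
  have hmem := mem_zpowers_of_prime_card hcard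
    (g := (⟨y ^ (p ^ (e - 1)), hgz⟩ : Subgroup.zpowers (u ^ (p ^ (n - 1)))))
    (g' := ⟨u ^ (p ^ (n - 1)), Subgroup.mem_zpowers _⟩)
    (fun e1 => hg1 (by simpa using congrArg Subtype.val e1))
  obtain ⟨j, hj⟩ := Subgroup.mem_zpowers_iff.mp hmem
  have hj' : (y ^ (p ^ (e - 1))) ^ j = u ^ (p ^ (n - 1)) := by
    simpa using congrArg Subtype.val hj
  rw [← hj']
  rw [Subgroup.mem_center_iff] at hyc
  have hc : Commute s y := hyc s
  exact ((hc.pow_right _).zpow_right j).eq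

theorem two_le (h : CSC p G u n) : 2 ≤ n := by
  by_contra hlt
  push Not at hlt
  have hn1 : n = 1 := by have := h.one_le; omega
  subst hn1
  obtain ⟨y, hy⟩ := h.exists_not_mem
  apply hy
  apply h.mem_of_comm
  have := h.z_central y
  simpa using this

theorem comm_mem (h : CSC p G u n) (x : G) : x * u * x⁻¹ * u⁻¹ ∈ Subgroup.zpowers u :=
  Subgroup.mul_mem _ (h.normal.conj_mem u (Subgroup.mem_zpowers u) x)
    (Subgroup.inv_mem _ (Subgroup.mem_zpowers u))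

theorem conj_pow_eq (h : CSC p G u n) (x : G) (k : ℕ) :
    x * u ^ k * x⁻¹ = (x * u * x⁻¹ * u⁻¹) ^ k * u ^ k := by
  have hc : Commute (x * u * x⁻¹ * u⁻¹) u := comm_of_mem (h.comm_mem x) (Subgroup.mem_zpowers u)
  rw [← hc.mul_pow, ← conj_pow]
  congr 1
  group

/-- `x` centralizes `u^p` iff the commutator `[x,u]` has order dividing `p`. -/
theorem comm_pow_iff (h : CSC p G u n) (x : G) :
    x * u ^ p = u ^ p * x ↔ (x * u * x⁻¹ * u⁻¹) ^ p = 1 := by
  have e := h.conj_pow_eq x p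
  constructor
  · intro hx
    have : x * u ^ p * x⁻¹ = u ^ p := by rw [hx]; group
    rw [this] at e
    exact (mul_eq_right.mp e.symm)
  · intro hx
    rw [hx, one_mul] at e
    calc x * u ^ p = x * u ^ p * x⁻¹ * x := by group
      _ = u ^ p * x := by rw [e]

theorem mem_M_iff (x : G) :
    x ∈ Subgroup.centralizer (Subgroup.zpowers (u ^ p) : Set G) ↔ x * u ^ p = u ^ p * x := by
  rw [Subgroup.mem_centralizer_iff]
  constructor
  · intro hg
    exact (hg _ (Subgroup.mem_zpowers _)).symm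
  · intro hg v hv
    obtain ⟨i, rfl⟩ := Subgroup.mem_zpowers_iff.mp hv
    exact ((Commute.zpow_right (show Commute x _ from hg) i).eq).symm

theorem U_le_M : Subgroup.zpowers u ≤ Subgroup.centralizer (Subgroup.zpowers (u ^ p) : Set G) := by
  intro g hg
  rw [mem_M_iff]
  exact comm_of_mem hg (Subgroup.pow_mem _ (Subgroup.mem_zpowers u) p)

theorem zpowers_pow_normal (h : CSC p G u n) (k : ℕ) : (Subgroup.zpowers (u ^ k)).Normal := by
  constructor
  intro g hg s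
  obtain ⟨i, rfl⟩ := Subgroup.mem_zpowers_iff.mp hg
  rw [← conj_zpow]
  apply Subgroup.zpow_mem
  have h1 := h.normal.conj_mem u (Subgroup.mem_zpowers u) s
  obtain ⟨j, hj⟩ := Subgroup.mem_zpowers_iff.mp h1
  rw [← conj_pow, ← hj, ← zpow_natCast (u ^ j), ← zpow_mul, mul_comm, zpow_mul, zpow_natCast]
  exact Subgroup.zpow_mem _ (Subgroup.mem_zpowers _) j

theorem M_normal (h : CSC p G u n) :
    (Subgroup.centralizer (Subgroup.zpowers (u ^ p) : Set G)).Normal := by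
  have := h.zpowers_pow_normal p
  exact Subgroup.normal_centralizer

/-- `z ∈ ⟨u^p⟩` (as `n ≥ 2`), hence elements of `M` centralize `⟨z⟩`. -/
theorem M_comm_z (h : CSC p G u n) {x : G}
    (hx : x ∈ Subgroup.centralizer (Subgroup.zpowers (u ^ p) : Set G))
    {c : G} (hc : c ∈ Subgroup.zpowers (u ^ (p ^ (n - 1)))) : x * c = c * x := by
  have hle : Subgroup.zpowers (u ^ (p ^ (n - 1))) ≤ Subgroup.zpowers (u ^ p) := by
    rw [Subgroup.zpowers_le]
    have h2 := h.two_le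
    have e : p ^ (n - 1) = p * p ^ (n - 2) := by
      rw [← pow_succ']; congr 1; omega
    rw [e, pow_mul]
    exact Subgroup.pow_mem _ (Subgroup.mem_zpowers _) _
  rw [Subgroup.mem_centralizer_iff] at hx
  exact (hx c (hle hc)).symm

theorem comm_mem_z (h : CSC p G u n) {x : G}
    (hx : x ∈ Subgroup.centralizer (Subgroup.zpowers (u ^ p) : Set G)) :
    x * u * x⁻¹ * u⁻¹ ∈ Subgroup.zpowers (u ^ (p ^ (n - 1))) :=
  h.mem_zpowers_z (h.comm_mem x) ((h.comm_pow_iff x).mp ((mem_M_iff x).mp hx))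

/-- the commutator homomorphism `M → G`, `x ↦ [x,u]`. -/
noncomputable def commHomM (h : CSC p G u n) :
    ↥(Subgroup.centralizer (Subgroup.zpowers (u ^ p) : Set G)) →* G :=
  MonoidHom.mk' (fun x => (x : G) * u * (x : G)⁻¹ * u⁻¹) (by
    intro x y
    have hcy := h.comm_mem_z y.2
    have h1 : (x : G) * ((y : G) * u * (y : G)⁻¹ * u⁻¹) = ((y : G) * u * (y : G)⁻¹ * u⁻¹) * x :=
      h.M_comm_z x.2 hcy
    have h2 := comm_of_mem (h.comm_mem (x : G)) (h.comm_mem (y : G))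
    calc ((x * y : _) : G) * u * ((x * y : _) : G)⁻¹ * u⁻¹
        = ((x : G) * ((y : G) * u * (y : G)⁻¹ * u⁻¹)) * (x : G)⁻¹ * ((x : G) * u * (x : G)⁻¹ * u⁻¹) := by
          simp only [Subgroup.coe_mul]; group
      _ = (((y : G) * u * (y : G)⁻¹ * u⁻¹) * x) * (x : G)⁻¹ * ((x : G) * u * (x : G)⁻¹ * u⁻¹) := by
          rw [h1]
      _ = ((y : G) * u * (y : G)⁻¹ * u⁻¹) * ((x : G) * u * (x : G)⁻¹ * u⁻¹) := by group
      _ = _ := h2.symm)

theorem commHomM_apply (h : CSC p G u n)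
    (x : ↥(Subgroup.centralizer (Subgroup.zpowers (u ^ p) : Set G))) :
    h.commHomM x = (x : G) * u * (x : G)⁻¹ * u⁻¹ := rfl

theorem ker_commHomM (h : CSC p G u n) :
    h.commHomM.ker = (Subgroup.zpowers u).subgroupOf
      (Subgroup.centralizer (Subgroup.zpowers (u ^ p) : Set G)) := by
  ext x
  rw [MonoidHom.mem_ker, commHomM_apply, Subgroup.mem_subgroupOf]
  constructor
  · intro hx
    apply h.mem_of_comm
    calc (x : G) * u = ((x : G) * u * (x : G)⁻¹ * u⁻¹) * u * x := by group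
      _ = u * x := by rw [hx, one_mul]
  · intro hx
    have := comm_of_mem hx (Subgroup.mem_zpowers u)
    rw [this]; group

theorem range_commHomM_le (h : CSC p G u n) :
    h.commHomM.range ≤ Subgroup.zpowers (u ^ (p ^ (n - 1))) := by
  rintro _ ⟨x, rfl⟩
  exact h.comm_mem_z x.2

theorem relIndex_dvd (h : CSC p G u n) :
    (Subgroup.zpowers u).relIndex (Subgroup.centralizer (Subgroup.zpowers (u ^ p) : Set G)) ∣ p := by
  rw [Subgroup.relIndex, ← h.ker_commHomM, Subgroup.index_ker]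
  have h1 := Subgroup.card_dvd_of_le h.range_commHomM_le
  rwa [Nat.card_zpowers, h.orderOf_z] at h1

theorem relIndex_eq (h : CSC p G u n) {x : G} (hxM : x * u ^ p = u ^ p * x)
    (hxU : x ∉ Subgroup.zpowers u) :
    (Subgroup.zpowers u).relIndex (Subgroup.centralizer (Subgroup.zpowers (u ^ p) : Set G)) = p := by
  rcases (Nat.dvd_prime hp.out).mp h.relIndex_dvd with h1 | h1
  · exfalso
    rw [Subgroup.relIndex_eq_one] at h1
    exact hxU (h1 ((mem_M_iff x).mpr hxM))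
  · exact h1

/-- If `W = {g ∈ C_G(u^p) | g^p = 1}` is a subgroup, then it is characteristic in `G`. -/
theorem characteristic_of_omega (h : CSC p G u n) (W : Subgroup G)
    (hW : ∀ g, g ∈ W ↔ (g * u ^ p = u ^ p * g ∧ g ^ p = 1)) : W.Characteristic := by
  have hMn := h.M_normal
  have hWn : ∀ g ∈ W, ∀ s : G, s * g * s⁻¹ ∈ W := by
    intro g hg s
    rw [hW] at hg ⊢
    constructor
    · have := hMn.conj_mem g ((mem_M_iff g).mpr hg.1) s
      exact (mem_M_iff _).mp this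
    · rw [conj_pow, hg.2, mul_one, mul_inv_cancel]
  rw [Subgroup.characteristic_iff_map_le]
  intro φ e he
  obtain ⟨g, hg, rfl⟩ := Subgroup.mem_map.mp he
  have hgp : g ^ p = 1 := ((hW g).mp hg).2
  rw [hW]
  have hep : (φ.toMonoidHom g) ^ p = 1 := by
    rw [← map_pow, hgp, map_one]
  refine ⟨?_, hep⟩
  rw [h.comm_pow_iff]
  -- the commutator lies in φ(W)
  have hw' : g * (φ.symm u * g⁻¹ * (φ.symm u)⁻¹) ∈ W :=
    W.mul_mem hg (hWn _ (W.inv_mem hg) _)
  have hc : φ.toMonoidHom g * u * (φ.toMonoidHom g)⁻¹ * u⁻¹ =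
      φ.toMonoidHom (g * (φ.symm u * g⁻¹ * (φ.symm u)⁻¹)) := by
    simp only [MulEquiv.coe_toMonoidHom, map_mul, map_inv, MulEquiv.apply_symm_apply]
    group
  rw [hc, ← map_pow, ((hW _).mp hw').2, map_one]

/-- `p` odd: some element outside `U` centralizes `u^p`. -/
theorem exists_mem_M_of_odd (hp2 : p ≠ 2) (h : CSC p G u n) :
    ∃ x : G, x * u ^ p = u ^ p * x ∧ x ∉ Subgroup.zpowers u := by
  have hUn := h.normal
  obtain ⟨B, hBn, hAB, -, hcard, -, b, hbB, hbA, -, -⟩ :=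
    H22.exists_normal_step h.hG (Subgroup.zpowers u) ⊤ (lt_top_iff_ne_top.mpr h.ne_top)
  have hBp : IsPGroup p B := h.hG.to_subgroup B
  have hCcyc : IsCyclic ((Subgroup.zpowers u).subgroupOf B) :=
    isCyclic_of_surjective (Subgroup.subgroupOfEquivOfLe hAB).symm (MulEquiv.surjective _)
  have hCi : ((Subgroup.zpowers u).subgroupOf B).index = p := by
    have h1 := Subgroup.card_mul_index ((Subgroup.zpowers u).subgroupOf B)
    rw [Nat.card_congr (Subgroup.subgroupOfEquivOfLe hAB).toEquiv, hcard] at h1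
    have hpos : 0 < Nat.card (Subgroup.zpowers u) := Nat.card_pos
    have : Nat.card (Subgroup.zpowers u) * ((Subgroup.zpowers u).subgroupOf B).index =
        Nat.card (Subgroup.zpowers u) * p := by rw [h1, mul_comm]
    exact Nat.eq_of_mul_eq_mul_left hpos this
  obtain ⟨z, -, hzp, hle⟩ := H22.exists_central_of_cyclic_index_p hp2 hBp _ hCcyc hCi
  refine ⟨b, ?_, hbA⟩
  rw [h.comm_pow_iff]
  have huB : u ∈ B := hAB (Subgroup.mem_zpowers u)
  have hmem : (⟨b, hbB⟩ : B) * ⟨u, huB⟩ * (⟨b, hbB⟩ : B)⁻¹ * (⟨u, huB⟩ : B)⁻¹ ∈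
      Subgroup.zpowers z := by
    apply hle
    rw [commutator_def]
    exact Subgroup.commutator_mem_commutator (Subgroup.mem_top _) (Subgroup.mem_top _)
  obtain ⟨i, hi⟩ := Subgroup.mem_zpowers_iff.mp hmem
  have hpw : ((⟨b, hbB⟩ : B) * ⟨u, huB⟩ * (⟨b, hbB⟩ : B)⁻¹ * (⟨u, huB⟩ : B)⁻¹) ^ p = 1 := by
    rw [← hi, ← zpow_natCast, ← zpow_mul, mul_comm, zpow_mul, zpow_natCast, hzp, one_zpow]
  simpa using congrArg Subtype.val hpw

/-- `p` odd: the elements of order dividing `p` of `M = C_G(u^p)` form a subgroup of order `p²`. -/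
theorem exists_omega_of_odd (hp2 : p ≠ 2) (h : CSC p G u n) :
    ∃ W : Subgroup G, (∀ g, g ∈ W ↔ (g * u ^ p = u ^ p * g ∧ g ^ p = 1)) ∧ Nat.card W = p ^ 2 := by
  obtain ⟨x, hxM, hxU⟩ := h.exists_mem_M_of_odd hp2
  have hrel := h.relIndex_eq hxM hxU
  set M := Subgroup.centralizer (Subgroup.zpowers (u ^ p) : Set G) with hM
  have hUM : Subgroup.zpowers u ≤ M := U_le_M
  have hMp : IsPGroup p M := h.hG.to_subgroup M
  have hCcyc : IsCyclic ((Subgroup.zpowers u).subgroupOf M) :=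
    isCyclic_of_surjective (Subgroup.subgroupOfEquivOfLe hUM).symm (MulEquiv.surjective _)
  have hCi : ((Subgroup.zpowers u).subgroupOf M).index = p := hrel
  have hnc : ¬ IsCyclic M := by
    intro hc
    apply hxU
    apply h.mem_of_comm
    have := (IsCyclic.commGroup (α := M)).mul_comm ⟨x, (mem_M_iff x).mpr hxM⟩
      ⟨u, hUM (Subgroup.mem_zpowers u)⟩
    exact congrArg Subtype.val this
  have hK := H22.card_ker_powHomOfCyclicIndexP hp2 hMp hnc _ hCcyc hCi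
  set K := (H22.powHomOfCyclicIndexP hp2 hMp _ hCcyc hCi).ker with hKdef
  have hKmem : ∀ y : M, y ∈ K ↔ y ^ p = 1 := by
    intro y
    rw [hKdef, MonoidHom.mem_ker, H22.powHomOfCyclicIndexP_apply]
  refine ⟨K.map M.subtype, ?_, ?_⟩
  · intro g
    rw [Subgroup.mem_map, ← mem_M_iff]
    constructor
    · rintro ⟨y, hy, rfl⟩
      refine ⟨y.2, ?_⟩
      have := (hKmem y).mp hy
      simpa using congrArg Subtype.val this
    · rintro ⟨hgM, hgp⟩
      refine ⟨⟨g, hgM⟩, (hKmem _).mpr (Subtype.ext (by simpa using hgp)), rfl⟩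
  · rw [Subgroup.card_map_of_injective M.subtype_injective, hK]

end CSC

/-- a 2-element whose square is nontrivial has a power of order exactly 4 -/
theorem exists_pow_order_four {G : Type*} [Group G] {g : G} {m : ℕ} (hg : g ^ (2 ^ m) = 1)
    (hg2 : g ^ 2 ≠ 1) : ∃ i : ℕ, (g ^ i) ^ 4 = 1 ∧ (g ^ i) ^ 2 ≠ 1 := by
  have hdvd := orderOf_dvd_of_pow_eq_one hg
  obtain ⟨e, -, he⟩ := (Nat.dvd_prime_pow Nat.prime_two).mp hdvd
  have he2 : 2 ≤ e := by
    by_contra hlt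
    push Not at hlt
    apply hg2
    have : orderOf g ∣ 2 := by
      rw [he]
      interval_cases e
      · norm_num
      · norm_num
    exact orderOf_dvd_iff_pow_eq_one.mp this
  refine ⟨2 ^ (e - 2), ?_, ?_⟩
  · rw [← pow_mul]
    have : 2 ^ (e - 2) * 4 = 2 ^ e := by
      have : (4 : ℕ) = 2 ^ 2 := by norm_num
      rw [this, ← pow_add]; congr 1; omega
    rw [this, ← he, pow_orderOf_eq_one]
  · rw [← pow_mul]
    have : 2 ^ (e - 2) * 2 = 2 ^ (e - 1) := by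
      rw [← pow_succ]; congr 1; omega
    rw [this]
    apply pow_ne_one_of_lt_orderOf (by positivity)
    rw [he]
    exact Nat.pow_lt_pow_right (by norm_num) (by omega)

namespace CSC

section two

variable {G : Type*} [Group G] [Finite G] {u : G} {n : ℕ}

local instance : Fact (Nat.Prime 2) := ⟨Nat.prime_two⟩

theorem w_sq (h : CSC 2 G u n) : (u ^ (2 ^ (n - 2))) ^ 2 = u ^ (2 ^ (n - 1)) := by
  have := h.two_le
  rw [← pow_mul, ← pow_succ]
  congr 2; omega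

theorem w_pow_four (h : CSC 2 G u n) : (u ^ (2 ^ (n - 2))) ^ 4 = 1 := by
  have e : (4 : ℕ) = 2 * 2 := by norm_num
  rw [e, pow_mul, h.w_sq, h.z_pow]

omit [Finite G] in
theorem w_mem : u ^ (2 ^ (n - 2)) ∈ Subgroup.zpowers u :=
  Subgroup.pow_mem _ (Subgroup.mem_zpowers u) _

theorem exists_odd (h : CSC 2 G u n) (s : G) :
    ∃ k : ℕ, Odd k ∧ ∀ x ∈ Subgroup.zpowers u, s * x * s⁻¹ = x ^ k := by
  have hmem : s * u * s⁻¹ ∈ Subgroup.zpowers u :=
    h.normal.conj_mem u (Subgroup.mem_zpowers u) s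
  have hfin : IsOfFinOrder u := by
    rw [← orderOf_pos_iff, h.ord]; positivity
  rw [← hfin.mem_powers_iff_mem_zpowers] at hmem
  obtain ⟨k, hk⟩ := hmem
  have hk : u ^ k = s * u * s⁻¹ := hk
  refine ⟨k, ?_, ?_⟩
  · by_contra hodd
    rw [Nat.not_odd_iff_even] at hodd
    obtain ⟨t, rfl⟩ := hodd
    have hn1 := h.one_le
    obtain ⟨m', rfl⟩ : ∃ m', n = m' + 1 := ⟨n - 1, by omega⟩
    have h1 : (s * u * s⁻¹) ^ (2 ^ m') = 1 := by
      rw [← hk, ← pow_mul, ← two_mul, mul_assoc, mul_comm t, ← mul_assoc, ← pow_succ', pow_mul,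
        ← h.ord, pow_orderOf_eq_one, one_pow]
    rw [conj_pow, mul_inv_eq_iff_eq_mul, one_mul, mul_eq_left] at h1
    have := orderOf_dvd_of_pow_eq_one h1
    rw [h.ord, pow_succ] at this
    have h2 : 0 < 2 ^ m' := by positivity
    have := Nat.le_of_dvd h2 this
    omega
  · intro x hx
    obtain ⟨i, rfl⟩ := Subgroup.mem_zpowers_iff.mp hx
    rw [← conj_zpow, ← hk, ← zpow_natCast, ← zpow_natCast, ← zpow_mul, ← zpow_mul, mul_comm]

theorem conj_w (h : CSC 2 G u n) (s : G) :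
    s * u ^ (2 ^ (n - 2)) * s⁻¹ = u ^ (2 ^ (n - 2)) ∨
    s * u ^ (2 ^ (n - 2)) * s⁻¹ = (u ^ (2 ^ (n - 2)))⁻¹ := by
  obtain ⟨k, hk, hc⟩ := h.exists_odd s
  have h1 := hc _ (w_mem (u := u) (n := n))
  rw [h1]
  obtain ⟨t, rfl⟩ := hk
  rcases Nat.even_or_odd' t with ⟨v, rfl | rfl⟩
  · left
    have : 2 * (2 * v) + 1 = 4 * v + 1 := by ring
    rw [this, pow_succ, pow_mul, h.w_pow_four, one_pow, one_mul]
  · right
    have : 2 * (2 * v + 1) + 1 = 4 * v + 3 := by ring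
    rw [this, pow_add, pow_mul, h.w_pow_four, one_pow, one_mul]
    apply eq_inv_of_mul_eq_one_left
    rw [← pow_succ]
    exact h.w_pow_four

theorem mem_zpowers_w (h : CSC 2 G u n) {g : G} (hg : g ∈ Subgroup.zpowers u) (hg4 : g ^ 4 = 1) :
    g ∈ Subgroup.zpowers (u ^ (2 ^ (n - 2))) :=
  mem_zpowers_pow_of_pow_eq_one (by norm_num) h.ord h.two_le hg (by simpa using hg4)

theorem eq_one_or_z (h : CSC 2 G u n) {g : G} (hg : g ∈ Subgroup.zpowers u) (hg2 : g ^ 2 = 1) :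
    g = 1 ∨ g = u ^ (2 ^ (n - 1)) := by
  have h1 := h.mem_zpowers_z hg hg2
  obtain ⟨i, rfl⟩ := Subgroup.mem_zpowers_iff.mp h1
  rcases Int.even_or_odd' i with ⟨v, rfl | rfl⟩
  · left
    rw [zpow_mul, zpow_two, ← pow_two, h.z_pow, one_zpow]
  · right
    rw [zpow_add, zpow_mul, zpow_two, ← pow_two, h.z_pow, one_zpow, one_mul, zpow_one]

theorem sq_eq_one_of_cent_inv (h : CSC 2 G u n) {g s : G} (hg : g ∈ Subgroup.zpowers u)
    (hc : (s * g * s⁻¹ = g ∧ s * u ^ (2 ^ (n - 2)) * s⁻¹ = (u ^ (2 ^ (n - 2)))⁻¹) ∨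
      (s * g * s⁻¹ = g⁻¹ ∧ s * u ^ (2 ^ (n - 2)) * s⁻¹ = u ^ (2 ^ (n - 2)))) : g ^ 2 = 1 := by
  by_contra hg2
  obtain ⟨i, hi4, hi2⟩ := exists_pow_order_four (h.pow_card_eq_one hg) hg2
  have hmem : g ^ i ∈ Subgroup.zpowers (u ^ (2 ^ (n - 2))) :=
    h.mem_zpowers_w (Subgroup.pow_mem _ hg i) hi4
  obtain ⟨j, hj⟩ := Subgroup.mem_zpowers_iff.mp hmem
  apply hi2
  rcases hc with ⟨h1, h2⟩ | ⟨h1, h2⟩
  · have e1 : s * g ^ i * s⁻¹ = g ^ i := by rw [← conj_pow, h1]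
    have e2 : s * g ^ i * s⁻¹ = (g ^ i)⁻¹ := by
      rw [← hj, ← conj_zpow, h2, inv_zpow]
    rw [e1] at e2
    rw [pow_two]
    nth_rewrite 1 [e2]
    exact inv_mul_cancel _
  · have e1 : s * g ^ i * s⁻¹ = (g ^ i)⁻¹ := by rw [← conj_pow, h1, inv_pow]
    have e2 : s * g ^ i * s⁻¹ = g ^ i := by
      rw [← hj, ← conj_zpow, h2]
    rw [e1] at e2
    rw [pow_two]
    nth_rewrite 1 [← e2]
    exact inv_mul_cancel _

/-- If `C_G(u²) = U` then `C_G(w) = U` for `w = u^(2^(n-2))`. -/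
theorem key_of_M_eq (h : CSC 2 G u n)
    (hM : ∀ x : G, x * u ^ 2 = u ^ 2 * x → x ∈ Subgroup.zpowers u) :
    ∀ x : G, x * u ^ (2 ^ (n - 2)) = u ^ (2 ^ (n - 2)) * x → x ∈ Subgroup.zpowers u := by
  intro x hx
  by_contra hxA
  have hAn := h.normal
  have hWn : (Subgroup.zpowers (u ^ (2 ^ (n - 2)))).Normal := h.zpowers_pow_normal _
  have hCn : (Subgroup.centralizer (Subgroup.zpowers (u ^ (2 ^ (n - 2))) : Set G)).Normal :=
    Subgroup.normal_centralizer
  have hmemC : ∀ g : G, g ∈ Subgroup.centralizer (Subgroup.zpowers (u ^ (2 ^ (n - 2))) : Set G) ↔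
      g * u ^ (2 ^ (n - 2)) = u ^ (2 ^ (n - 2)) * g := by
    intro g
    rw [Subgroup.mem_centralizer_iff]
    constructor
    · intro hg
      exact (hg _ (Subgroup.mem_zpowers _)).symm
    · intro hg v hv
      obtain ⟨i, rfl⟩ := Subgroup.mem_zpowers_iff.mp hv
      exact ((Commute.zpow_right (show Commute g _ from hg) i).eq).symm
  have hAC : Subgroup.zpowers u ≤
      Subgroup.centralizer (Subgroup.zpowers (u ^ (2 ^ (n - 2))) : Set G) := by
    intro g hg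
    rw [hmemC]
    exact comm_of_mem hg w_mem
  have hlt : Subgroup.zpowers u <
      Subgroup.centralizer (Subgroup.zpowers (u ^ (2 ^ (n - 2))) : Set G) :=
    lt_of_le_of_ne hAC (fun e => hxA (e ▸ (hmemC x).mpr hx))
  obtain ⟨B, hBn, hAB, hBC, hcard, hcomm, b, hbB, hbA, hb2, hBeq⟩ :=
    H22.exists_normal_step h.hG _ _ hlt
  have hbw : b * u ^ (2 ^ (n - 2)) = u ^ (2 ^ (n - 2)) * b := (hmemC b).mp (hBC hbB)
  have hbw' : b * u ^ (2 ^ (n - 2)) * b⁻¹ = u ^ (2 ^ (n - 2)) := by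
    rw [hbw]; group
  have hcA := h.comm_mem b
  have hb2c : b * b * u = u * (b * b) := by
    have : b * b ∈ Subgroup.zpowers u := by rw [← pow_two]; exact hb2
    exact comm_of_mem this (Subgroup.mem_zpowers u)
  have hinv : b * (b * u * b⁻¹ * u⁻¹) * b⁻¹ = (b * u * b⁻¹ * u⁻¹)⁻¹ := by
    calc b * (b * u * b⁻¹ * u⁻¹) * b⁻¹ = (b * b * u) * b⁻¹ * b⁻¹ * (b * u⁻¹ * b⁻¹) := by group
      _ = (u * (b * b)) * b⁻¹ * b⁻¹ * (b * u⁻¹ * b⁻¹) := by rw [hb2c]
      _ = _ := by group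
  have hc2 : (b * u * b⁻¹ * u⁻¹) ^ 2 = 1 := h.sq_eq_one_of_cent_inv hcA (Or.inr ⟨hinv, hbw'⟩)
  exact hbA (hM b ((h.comm_pow_iff b).mpr hc2))

/-! ### the maximal class case: `C_G(w) = U` -/

theorem inverts_w (h : CSC 2 G u n)
    (key : ∀ x : G, x * u ^ (2 ^ (n - 2)) = u ^ (2 ^ (n - 2)) * x → x ∈ Subgroup.zpowers u)
    {y : G} (hy : y ∉ Subgroup.zpowers u) :
    y * u ^ (2 ^ (n - 2)) * y⁻¹ = (u ^ (2 ^ (n - 2)))⁻¹ := by
  rcases h.conj_w y with e | e
  · exfalso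
    apply hy
    apply key
    calc y * u ^ (2 ^ (n - 2)) = y * u ^ (2 ^ (n - 2)) * y⁻¹ * y := by group
      _ = _ := by rw [e]
  · exact e

theorem mul_inv_mem (h : CSC 2 G u n)
    (key : ∀ x : G, x * u ^ (2 ^ (n - 2)) = u ^ (2 ^ (n - 2)) * x → x ∈ Subgroup.zpowers u)
    {y g : G} (hy : y ∉ Subgroup.zpowers u)
    (hg : g ∉ Subgroup.zpowers u) : g * y⁻¹ ∈ Subgroup.zpowers u := by
  apply key
  have h1 := h.inverts_w key hy
  have h2 := h.inverts_w key hg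
  have h3 : y⁻¹ * u ^ (2 ^ (n - 2)) * y = (u ^ (2 ^ (n - 2)))⁻¹ := by
    have : u ^ (2 ^ (n - 2)) = y⁻¹ * (y * u ^ (2 ^ (n - 2)) * y⁻¹) * y := by group
    rw [h1] at this
    calc y⁻¹ * u ^ (2 ^ (n - 2)) * y = (y⁻¹ * (u ^ (2 ^ (n - 2)))⁻¹ * y)⁻¹ := by group
      _ = _ := by rw [← this]
  calc g * y⁻¹ * u ^ (2 ^ (n - 2)) = g * (y⁻¹ * u ^ (2 ^ (n - 2)) * y) * g⁻¹ * (g * y⁻¹) := by group
    _ = (g * u ^ (2 ^ (n - 2)) * g⁻¹)⁻¹ * (g * y⁻¹) := by rw [h3]; group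
    _ = _ := by rw [h2, inv_inv]

theorem index_two (h : CSC 2 G u n)
    (key : ∀ x : G, x * u ^ (2 ^ (n - 2)) = u ^ (2 ^ (n - 2)) * x → x ∈ Subgroup.zpowers u) :
    (Subgroup.zpowers u).index = 2 := by
  obtain ⟨y, hy⟩ := h.exists_not_mem
  rw [Subgroup.index_eq_two_iff]
  refine ⟨y⁻¹, fun g => ?_⟩
  by_cases hg : g ∈ Subgroup.zpowers u
  · right
    refine ⟨hg, fun hmem => hy ?_⟩
    have : y⁻¹ = g⁻¹ * (g * y⁻¹) := by group
    rw [← inv_mem_iff, this]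
    exact Subgroup.mul_mem _ (Subgroup.inv_mem _ hg) hmem
  · left
    exact ⟨h.mul_inv_mem key hy hg, hg⟩

theorem card_eq (h : CSC 2 G u n)
    (key : ∀ x : G, x * u ^ (2 ^ (n - 2)) = u ^ (2 ^ (n - 2)) * x → x ∈ Subgroup.zpowers u) :
    Nat.card G = 2 ^ (n + 1) := by
  have := Subgroup.card_mul_index (Subgroup.zpowers u)
  rw [h.index_two key, Nat.card_zpowers, h.ord] at this
  rw [← this, pow_succ]

theorem sup_eq_top (h : CSC 2 G u n)
    (key : ∀ x : G, x * u ^ (2 ^ (n - 2)) = u ^ (2 ^ (n - 2)) * x → x ∈ Subgroup.zpowers u)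
    {y : G} (hy : y ∉ Subgroup.zpowers u) :
    Subgroup.zpowers u ⊔ Subgroup.zpowers y = ⊤ := by
  rw [eq_top_iff]
  intro g _
  by_cases hg : g ∈ Subgroup.zpowers u
  · exact (le_sup_left : Subgroup.zpowers u ≤ _) hg
  · have : g = (g * y⁻¹) * y := by group
    rw [this]
    exact Subgroup.mul_mem _ ((le_sup_left : Subgroup.zpowers u ≤ _) (h.mul_inv_mem key hy hg))
      ((le_sup_right : Subgroup.zpowers y ≤ _) (Subgroup.mem_zpowers y))

theorem commutator_index (h : CSC 2 G u n)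
    (key : ∀ x : G, x * u ^ (2 ^ (n - 2)) = u ^ (2 ^ (n - 2)) * x → x ∈ Subgroup.zpowers u) :
    (commutator G).index = 4 := by
  obtain ⟨y, hy⟩ := h.exists_not_mem
  have hAn := h.normal
  have h1 := H22.card_commutator_mul_card_centralizer (Subgroup.zpowers u)
    (fun b hb c hc => comm_of_mem hb hc) y (h.sup_eq_top key hy)
  have h2 : Subgroup.zpowers u ⊓ Subgroup.centralizer {y} =
      Subgroup.zpowers (u ^ (2 ^ (n - 1))) := by
    apply le_antisymm
    · intro g hg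
      rw [Subgroup.mem_inf, Subgroup.mem_centralizer_iff] at hg
      have hgy : y * g * y⁻¹ = g := by
        have := hg.2 y rfl
        rw [this]; group
      have hg2 := h.sq_eq_one_of_cent_inv hg.1 (Or.inl ⟨hgy, h.inverts_w key hy⟩)
      rcases h.eq_one_or_z hg.1 hg2 with e | e
      · rw [e]; exact Subgroup.one_mem _
      · rw [e]; exact Subgroup.mem_zpowers _
    · rw [Subgroup.zpowers_le, Subgroup.mem_inf, Subgroup.mem_centralizer_iff]
      refine ⟨z_mem, ?_⟩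
      intro v hv
      rw [Set.mem_singleton_iff] at hv
      subst hv
      exact h.z_central v
  have h3 : Nat.card (Subgroup.zpowers (u ^ (2 ^ (n - 1)))) = 2 := by
    rw [Nat.card_zpowers]
    exact h.orderOf_z
  rw [h2, h3, Nat.card_zpowers, h.ord] at h1
  have h4 := Subgroup.card_mul_index (commutator G)
  rw [h.card_eq key] at h4
  have hn2 := h.two_le
  have e1 : 2 ^ n = 2 ^ (n - 1) * 2 := by rw [← pow_succ]; congr 1; omega
  have e2 : 2 ^ (n + 1) = 2 ^ (n - 1) * 4 := by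
    have : (4 : ℕ) = 2 ^ 2 := by norm_num
    rw [this, ← pow_add]; congr 1; omega
  rw [e1] at h1
  have h5 : Nat.card (commutator G) = 2 ^ (n - 1) := Nat.eq_of_mul_eq_mul_right (by norm_num) h1
  rw [h5, e2] at h4
  exact Nat.eq_of_mul_eq_mul_left (by positivity) h4

/-- maximal class data in the case `C_G(w) = U`. -/
theorem exists_maxClassData (h : CSC 2 G u n)
    (key : ∀ x : G, x * u ^ (2 ^ (n - 2)) = u ^ (2 ^ (n - 2)) * x → x ∈ Subgroup.zpowers u) :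
    ∃ (m : ℕ) (a y : G), n = m + 2 ∧ H22.MaxClassData G m a y := by
  have hn2 := h.two_le
  obtain ⟨m, rfl⟩ : ∃ m, n = m + 2 := ⟨n - 2, by omega⟩
  have hcard : Nat.card G = 2 ^ (m + 3) := h.card_eq key
  obtain ⟨a', y', hD, -⟩ := H22.exists_maxClassData m G hcard (h.commutator_index key)
  exact ⟨m, a', y', rfl, hD⟩

/-! ### the modular case: `p = 2`, `n ≥ 3`, `C_G(u²) ≠ U` -/

theorem M_comm_w (h : CSC 2 G u n) (hn3 : 3 ≤ n) {g : G} (hg : g * u ^ 2 = u ^ 2 * g)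
    {v : G} (hv : v ∈ Subgroup.zpowers (u ^ (2 ^ (n - 2)))) : g * v = v * g := by
  have hle : Subgroup.zpowers (u ^ (2 ^ (n - 2))) ≤ Subgroup.zpowers (u ^ 2) := by
    rw [Subgroup.zpowers_le]
    have e : 2 ^ (n - 2) = 2 * 2 ^ (n - 3) := by
      rw [← pow_succ']; congr 1; omega
    rw [e, pow_mul]
    exact Subgroup.pow_mem _ (Subgroup.mem_zpowers _) _
  have := (mem_M_iff (p := 2) g).mpr hg
  rw [Subgroup.mem_centralizer_iff] at this
  exact (this v (hle hv)).symm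

theorem mul_mem_iff_of_M (h : CSC 2 G u n) {x : G} (hxM : x * u ^ 2 = u ^ 2 * x)
    (hxU : x ∉ Subgroup.zpowers u) {g k : G} (hg : g * u ^ 2 = u ^ 2 * g)
    (hk : k * u ^ 2 = u ^ 2 * k) :
    g * k ∈ Subgroup.zpowers u ↔ (g ∈ Subgroup.zpowers u ↔ k ∈ Subgroup.zpowers u) := by
  have hrel := h.relIndex_eq hxM hxU
  have := Subgroup.mul_mem_iff_of_index_two hrel
    (a := ⟨g, (mem_M_iff (p := 2) g).mpr hg⟩) (b := ⟨k, (mem_M_iff (p := 2) k).mpr hk⟩)
  simpa [Subgroup.mem_subgroupOf] using this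

/-- conjugating `y ∈ U` by `k ∈ M` multiplies it by an element of `⟨z⟩`. -/
theorem conj_mem_M (h : CSC 2 G u n) {k : G} (hk : k * u ^ 2 = u ^ 2 * k) {y : G}
    (hy : y ∈ Subgroup.zpowers u) :
    ∃ ζ ∈ Subgroup.zpowers (u ^ (2 ^ (n - 1))), k * y * k⁻¹ = ζ * y := by
  have hfin : IsOfFinOrder u := by
    rw [← orderOf_pos_iff, h.ord]; positivity
  rw [← hfin.mem_powers_iff_mem_zpowers] at hy
  obtain ⟨i, rfl⟩ := hy
  refine ⟨(k * u * k⁻¹ * u⁻¹) ^ i, Subgroup.pow_mem _ (h.comm_mem_z ((mem_M_iff k).mpr hk)) i, ?_⟩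
  exact h.conj_pow_eq k i

theorem zeta_sq (h : CSC 2 G u n) {ζ : G} (hζ : ζ ∈ Subgroup.zpowers (u ^ (2 ^ (n - 1)))) :
    ζ ^ 2 = 1 := by
  obtain ⟨i, rfl⟩ := Subgroup.mem_zpowers_iff.mp hζ
  rw [← zpow_natCast, ← zpow_mul, mul_comm, zpow_mul, zpow_natCast, h.z_pow, one_zpow]

theorem zeta_central (h : CSC 2 G u n) {ζ : G} (hζ : ζ ∈ Subgroup.zpowers (u ^ (2 ^ (n - 1))))
    (s : G) : s * ζ = ζ * s := by
  obtain ⟨i, rfl⟩ := Subgroup.mem_zpowers_iff.mp hζ
  exact (Commute.zpow_right (show Commute s _ from h.z_central s) i).eq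

/-- two involutions of `M` outside `U` differ by an element of `{1, z}`. -/
theorem invol_diff (h : CSC 2 G u n) (hn3 : 3 ≤ n) {g k : G} (hg : g * u ^ 2 = u ^ 2 * g)
    (hk : k * u ^ 2 = u ^ 2 * k) (hgU : g ∉ Subgroup.zpowers u) (hkU : k ∉ Subgroup.zpowers u)
    (hg2 : g ^ 2 = 1) (hk2 : k ^ 2 = 1) :
    g * k⁻¹ = 1 ∨ g * k⁻¹ = u ^ (2 ^ (n - 1)) := by
  have hkinv : k⁻¹ * u ^ 2 = u ^ 2 * k⁻¹ := by
    have : Commute k (u ^ 2) := hk
    exact this.inv_left.eq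
  have hyU : g * k⁻¹ ∈ Subgroup.zpowers u := by
    rw [h.mul_mem_iff_of_M hg hgU hg hkinv, inv_mem_iff]
    exact ⟨fun e => absurd e hgU, fun e => absurd e hkU⟩
  obtain ⟨ζ, hζ, hconj⟩ := h.conj_mem_M hk hyU
  have hkk : k * k = 1 := by rw [← pow_two]; exact hk2
  have hkinv' : k⁻¹ = k := inv_eq_of_mul_eq_one_left hkk
  -- g² = y (k y k⁻¹)
  have e1 : g ^ 2 = (g * k⁻¹) * (k * (g * k⁻¹) * k⁻¹) := by
    rw [pow_two]
    calc g * g = (g * k⁻¹) * (k * (g * k⁻¹) * k⁻¹) * (k * k) := by group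
      _ = _ := by rw [hkk, mul_one]
  rw [hg2, hconj] at e1
  have hζc := h.zeta_central hζ (g * k⁻¹)
  -- y² = ζ⁻¹
  have e2 : (g * k⁻¹) ^ 2 = ζ⁻¹ := by
    rw [pow_two]
    have : ζ * ((g * k⁻¹) * (g * k⁻¹)) = 1 := by
      rw [← mul_assoc, ← hζc, mul_assoc, ← e1]
    exact eq_inv_of_mul_eq_one_right this
  have e4 : (g * k⁻¹) ^ 4 = 1 := by
    have e : (4 : ℕ) = 2 * 2 := by norm_num
    rw [e, pow_mul, e2, inv_pow, h.zeta_sq hζ, inv_one]
  have hyw := h.mem_zpowers_w hyU e4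
  have hcomm := h.M_comm_w hn3 hk hyw
  have hconj' : k * (g * k⁻¹) * k⁻¹ = g * k⁻¹ := by rw [hcomm]; group
  rw [hconj'] at hconj
  have hζ1 : ζ = 1 := by
    have := hconj.symm
    rwa [mul_eq_right] at this
  rw [hζ1, inv_one] at e2
  exact h.eq_one_or_z hyU e2

/-- there is an involution in `M` outside `U`. -/
theorem exists_invol (h : CSC 2 G u n) (hn3 : 3 ≤ n) {x : G} (hxM : x * u ^ 2 = u ^ 2 * x)
    (hxU : x ∉ Subgroup.zpowers u) :
    ∃ v : G, v * u ^ 2 = u ^ 2 * v ∧ v ∉ Subgroup.zpowers u ∧ v ^ 2 = 1 := by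
  have hx2 : x ^ 2 ∈ Subgroup.zpowers u := by
    rw [pow_two, h.mul_mem_iff_of_M hxM hxU hxM hxM]
  have hfin : IsOfFinOrder u := by
    rw [← orderOf_pos_iff, h.ord]; positivity
  have hx2' := hx2
  rw [← hfin.mem_powers_iff_mem_zpowers] at hx2'
  obtain ⟨j, hj⟩ := hx2'
  have hj : u ^ j = x ^ 2 := hj
  -- the commutator of x and u is z
  have hcz := h.comm_mem_z ((mem_M_iff x).mpr hxM)
  have hc1 : x * u * x⁻¹ * u⁻¹ ≠ 1 := by
    intro e
    apply hxU
    apply h.mem_of_comm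
    calc x * u = (x * u * x⁻¹ * u⁻¹) * u * x := by group
      _ = u * x := by rw [e, one_mul]
  have hba : x * u * x⁻¹ * u⁻¹ = u ^ (2 ^ (n - 1)) := by
    rcases h.eq_one_or_z (h.comm_mem x) (h.zeta_sq hcz) with e | e
    · exact absurd e hc1
    · exact e
  have hconjpow : ∀ i : ℕ, x * u ^ i * x⁻¹ = (u ^ (2 ^ (n - 1))) ^ i * u ^ i := by
    intro i
    rw [h.conj_pow_eq x i, hba]
  have hzj : (u ^ (2 ^ (n - 1))) ^ j = 1 := by
    have h1 := hconjpow j
    have h2 : x * u ^ j * x⁻¹ = u ^ j := by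
      rw [hj, pow_two]; group
    rw [h2] at h1
    exact (mul_eq_right.mp h1.symm)
  have hjeven : Even j := by
    by_contra hodd
    rw [Nat.not_even_iff_odd] at hodd
    obtain ⟨i, rfl⟩ := hodd
    rw [pow_succ, pow_mul, h.z_pow, one_pow, one_mul] at hzj
    exact h.z_ne_one hzj
  obtain ⟨i, rfl⟩ := hjeven
  have hbb : x * x = u ^ i * u ^ i := by
    rw [← pow_two, ← hj, pow_add]
  have hζ : (u ^ (2 ^ (n - 1))) ^ i ∈ Subgroup.zpowers (u ^ (2 ^ (n - 1))) :=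
    Subgroup.pow_mem _ (Subgroup.mem_zpowers _) i
  have hζc := h.zeta_central (Subgroup.inv_mem _ hζ)
  have huiM : u ^ i * u ^ 2 = u ^ 2 * u ^ i := by
    rw [← pow_add, ← pow_add, add_comm]
  have htM : ((u ^ i)⁻¹ * x) * u ^ 2 = u ^ 2 * ((u ^ i)⁻¹ * x) := by
    have h1 : Commute (u ^ i) (u ^ 2) := huiM
    have h2 : Commute x (u ^ 2) := hxM
    exact (h1.inv_left.mul_left h2).eq
  have ht2 : ((u ^ i)⁻¹ * x) ^ 2 = ((u ^ (2 ^ (n - 1))) ^ i)⁻¹ := by
    calc ((u ^ i)⁻¹ * x) ^ 2 = (u ^ i)⁻¹ * (x * u ^ i * x⁻¹)⁻¹ * (x * x) := by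
          simp only [pow_two]; group
      _ = (u ^ i)⁻¹ * ((u ^ (2 ^ (n - 1))) ^ i * u ^ i)⁻¹ * (u ^ i * u ^ i) := by
          rw [hconjpow, hbb]
      _ = ((u ^ i)⁻¹ * (u ^ i)⁻¹) * ((u ^ (2 ^ (n - 1))) ^ i)⁻¹ * (u ^ i * u ^ i) := by group
      _ = ((u ^ (2 ^ (n - 1))) ^ i)⁻¹ * ((u ^ i)⁻¹ * (u ^ i)⁻¹) * (u ^ i * u ^ i) := by
          rw [hζc]
      _ = _ := by group
  have htA : (u ^ i)⁻¹ * x ∉ Subgroup.zpowers u := by
    intro hmem
    apply hxU
    have : x = u ^ i * ((u ^ i)⁻¹ * x) := by group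
    rw [this]
    exact Subgroup.mul_mem _ (Subgroup.pow_mem _ (Subgroup.mem_zpowers u) i) hmem
  have h1 : ((u ^ i)⁻¹ * x) ^ 2 ∈ Subgroup.zpowers (u ^ (2 ^ (n - 1))) := by
    rw [ht2]; exact Subgroup.inv_mem _ hζ
  have hNA : Subgroup.zpowers (u ^ (2 ^ (n - 1))) ≤ Subgroup.zpowers u := by
    rw [Subgroup.zpowers_le]; exact z_mem
  rcases h.eq_one_or_z (hNA h1) (h.zeta_sq h1) with e | e
  · exact ⟨_, htM, htA, e⟩
  · have hwM : u ^ (2 ^ (n - 2)) * u ^ 2 = u ^ 2 * u ^ (2 ^ (n - 2)) := by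
      rw [← pow_add, ← pow_add, add_comm]
    refine ⟨(u ^ i)⁻¹ * x * (u ^ (2 ^ (n - 2)))⁻¹, ?_, ?_, ?_⟩
    · have h1 : Commute ((u ^ i)⁻¹ * x) (u ^ 2) := htM
      have h2 : Commute (u ^ (2 ^ (n - 2))) (u ^ 2) := hwM
      exact (h1.mul_left h2.inv_left).eq
    · intro hmem
      apply htA
      have : (u ^ i)⁻¹ * x = ((u ^ i)⁻¹ * x * (u ^ (2 ^ (n - 2)))⁻¹) * u ^ (2 ^ (n - 2)) := by
        group
      rw [this]
      exact Subgroup.mul_mem _ hmem w_mem
    · have hc := h.M_comm_w hn3 htM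
        (Subgroup.inv_mem _ (Subgroup.mem_zpowers (u ^ (2 ^ (n - 2)))))
      calc ((u ^ i)⁻¹ * x * (u ^ (2 ^ (n - 2)))⁻¹) ^ 2
          = (u ^ i)⁻¹ * x * ((u ^ (2 ^ (n - 2)))⁻¹ * ((u ^ i)⁻¹ * x)) * (u ^ (2 ^ (n - 2)))⁻¹ := by
            simp only [pow_two]; group
        _ = (u ^ i)⁻¹ * x * (((u ^ i)⁻¹ * x) * (u ^ (2 ^ (n - 2)))⁻¹) * (u ^ (2 ^ (n - 2)))⁻¹ := by
            rw [hc]
        _ = ((u ^ i)⁻¹ * x) ^ 2 * ((u ^ (2 ^ (n - 2))) ^ 2)⁻¹ := by
            simp only [pow_two]; group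
        _ = 1 := by rw [e, h.w_sq, mul_inv_cancel]

/-- `p = 2`, `n ≥ 3`, `C_G(u²) ≠ U`: the involutions of `M = C_G(u²)` with `1` form a four-group. -/
theorem exists_omega_of_two (h : CSC 2 G u n) (hn3 : 3 ≤ n) {x : G} (hxM : x * u ^ 2 = u ^ 2 * x)
    (hxU : x ∉ Subgroup.zpowers u) :
    ∃ W : Subgroup G, (∀ g, g ∈ W ↔ (g * u ^ 2 = u ^ 2 * g ∧ g ^ 2 = 1)) ∧ Nat.card W = 2 ^ 2 := by
  have hcentral : ∀ g ∈ Subgroup.zpowers u, g ^ 2 = 1 → ∀ s : G, s * g = g * s := by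
    intro g hgU hg2 s
    rcases h.eq_one_or_z hgU hg2 with e | e
    · rw [e, mul_one, one_mul]
    · rw [e]; exact h.z_central s
  let W : Subgroup G :=
    { carrier := {g | g * u ^ 2 = u ^ 2 * g ∧ g ^ 2 = 1}
      one_mem' := ⟨by rw [one_mul, mul_one], one_pow _⟩
      inv_mem' := by
        intro g hg
        refine ⟨?_, by rw [inv_pow, hg.2, inv_one]⟩
        have : Commute g (u ^ 2) := hg.1
        exact this.inv_left.eq
      mul_mem' := by
        intro g k hg hk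
        refine ⟨?_, ?_⟩
        · have h1 : Commute g (u ^ 2) := hg.1
          have h2 : Commute k (u ^ 2) := hk.1
          exact (h1.mul_left h2).eq
        · by_cases hgU : g ∈ Subgroup.zpowers u
          · have hc : Commute g k := (hcentral g hgU hg.2 k).symm
            rw [hc.mul_pow, hg.2, hk.2, one_mul]
          · by_cases hkU : k ∈ Subgroup.zpowers u
            · have hc : Commute g k := hcentral k hkU hk.2 g
              rw [hc.mul_pow, hg.2, hk.2, one_mul]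
            · have hkk : k * k = 1 := by rw [← pow_two]; exact hk.2
              have e : g * k = g * k⁻¹ := by
                calc g * k = (g * k⁻¹) * (k * k) := by group
                  _ = _ := by rw [hkk, mul_one]
              rw [e]
              rcases h.invol_diff hn3 hg.1 hk.1 hgU hkU hg.2 hk.2 with e1 | e1
              · rw [e1, one_pow]
              · rw [e1, h.z_pow] }
  have hWmem : ∀ g, g ∈ W ↔ (g * u ^ 2 = u ^ 2 * g ∧ g ^ 2 = 1) := fun g => Iff.rfl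
  refine ⟨W, hWmem, ?_⟩
  obtain ⟨v, hvM, hvU, hv2⟩ := h.exists_invol hn3 hxM hxU
  have hvW : v ∈ W := (hWmem v).mpr ⟨hvM, hv2⟩
  have hidx : ((Subgroup.zpowers u).subgroupOf W).index = 2 := by
    rw [Subgroup.index_eq_two_iff]
    refine ⟨(⟨v, hvW⟩ : W)⁻¹, fun g => ?_⟩
    simp only [Subgroup.mem_subgroupOf, Subgroup.coe_mul, Subgroup.coe_inv]
    by_cases hg : (g : G) ∈ Subgroup.zpowers u
    · right
      refine ⟨hg, fun hmem => hvU ?_⟩
      have : v⁻¹ = (g : G)⁻¹ * ((g : G) * v⁻¹) := by group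
      rw [← inv_mem_iff, this]
      exact Subgroup.mul_mem _ (Subgroup.inv_mem _ hg) hmem
    · left
      refine ⟨?_, hg⟩
      have hgW := (hWmem g).mp g.2
      rcases h.invol_diff hn3 hgW.1 hvM hg hvU hgW.2 hv2 with e | e
      · rw [e]; exact Subgroup.one_mem _
      · rw [e]; exact z_mem
  have hcardH : Nat.card ((Subgroup.zpowers u).subgroupOf W) = 2 := by
    rw [← Subgroup.inf_subgroupOf_right (Subgroup.zpowers u) W,
      Nat.card_congr (Subgroup.subgroupOfEquivOfLe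
        (inf_le_right : Subgroup.zpowers u ⊓ W ≤ W)).toEquiv]
    have : Subgroup.zpowers u ⊓ W = Subgroup.zpowers (u ^ (2 ^ (n - 1))) := by
      apply le_antisymm
      · intro g hg
        rw [Subgroup.mem_inf] at hg
        exact h.mem_zpowers_z hg.1 ((hWmem g).mp hg.2).2
      · rw [Subgroup.zpowers_le, Subgroup.mem_inf]
        exact ⟨z_mem, (hWmem _).mpr ⟨(h.z_central (u ^ 2)).symm, h.z_pow⟩⟩
    rw [this, Nat.card_zpowers, h.orderOf_z]
  have := Subgroup.card_mul_index ((Subgroup.zpowers u).subgroupOf W)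
  rw [hidx, hcardH] at this
  rw [← this]; norm_num

end two

end CSC

end Cfsg.Agent.Lib.H9
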