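import Mathlib
import Cfsg.Agent.Lib.H8.PGroup
import Cfsg.Agent.Lib.H9.CyclicSelfCent
import Cfsg.Agent.Lib.H27.Extraspecial
import Cfsg.Agent.S0095
import Cfsg.Agent.S0093
import Cfsg.Prelude.Def_Transfer

set_option autoImplicit false

/-!
# Tools for `p`-groups of symplectic type (P. Hall)

* `mul_pow_of_comm`: `(u v)^n = u^n v^n c^(n(n-1)/2)` for `c = [v,u]` commuting with `u, v`.
* `central_of_normal_card_prime`: a normal subgroup of order `p` of a finite `p`-group is central.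
* `mem_zpowers_of_pow_eq_one_of_isCyclic`: in a finite cyclic group the elements with `e^p = 1`
  lie in the subgroup generated by any element of order `p`.
* `exists_mul_centralizer`: `P = E C_P(E)` when `Z(E) = ⟨z⟩` has prime order, is central in `P`
  and `[P, E] ≤ ⟨z⟩`.
-/

namespace Cfsg.Agent.Lib.H9

open Cfsg.Agent.Lib

section basic

variable {G : Type*} [Group G]

/-- `v^n u = c^n u v^n` when `c = v u v⁻¹ u⁻¹` commutes with `u` and `v`. -/
theorem pow_mul_comm_of_comm {u v : G} (hu : Commute (v * u * v⁻¹ * u⁻¹) u)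
    (hv : Commute (v * u * v⁻¹ * u⁻¹) v) (n : ℕ) :
    v ^ n * u = (v * u * v⁻¹ * u⁻¹) ^ n * u * v ^ n := by
  induction n with
  | zero => simp
  | succ n ih =>
    set c := v * u * v⁻¹ * u⁻¹ with hcdef
    have hvu : v * u = c * u * v := by rw [hcdef]; group
    have hcnv : Commute (c ^ n) v := hv.pow_left n
    have hcnu : Commute (c ^ n) u := hu.pow_left n
    calc v ^ (n + 1) * u = v ^ n * (v * u) := by rw [pow_succ, mul_assoc]
      _ = v ^ n * (c * u * v) := by rw [hvu]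
      _ = (v ^ n * c) * u * v := by group
      _ = (c * v ^ n) * u * v := by rw [(hv.pow_right n).eq]
      _ = c * (v ^ n * u) * v := by group
      _ = c * (c ^ n * u * v ^ n) * v := by rw [ih]
      _ = c ^ (n + 1) * u * v ^ (n + 1) := by rw [pow_succ' c n, pow_succ v n]; group

/-- `(u v)^n = u^n v^n c^(n(n-1)/2)` when `c = v u v⁻¹ u⁻¹` commutes with `u` and `v`. -/
theorem mul_pow_of_comm {u v : G} (hu : Commute (v * u * v⁻¹ * u⁻¹) u)
    (hv : Commute (v * u * v⁻¹ * u⁻¹) v) (n : ℕ) :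
    (u * v) ^ n = u ^ n * v ^ n * (v * u * v⁻¹ * u⁻¹) ^ (n * (n - 1) / 2) := by
  induction n with
  | zero => simp
  | succ n ih =>
    set c := v * u * v⁻¹ * u⁻¹ with hcdef
    have h1 := pow_mul_comm_of_comm hu hv n
    rw [← hcdef] at h1
    have hck : ∀ k : ℕ, Commute (c ^ k) u := fun k => hu.pow_left k
    have hckv : ∀ k : ℕ, Commute (c ^ k) v := fun k => hv.pow_left k
    have e : (n + 1) * (n + 1 - 1) / 2 = n * (n - 1) / 2 + n := by
      have h2 : (n + 1) * (n + 1 - 1) = n * (n - 1) + 2 * n := by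
        cases n with
        | zero => rfl
        | succ m => simp only [Nat.add_sub_cancel]; ring
      rw [h2, Nat.add_mul_div_left _ _ (by norm_num : 0 < 2)]
    rw [e, pow_succ (u * v), ih]
    calc u ^ n * v ^ n * c ^ (n * (n - 1) / 2) * (u * v)
        = u ^ n * v ^ n * (c ^ (n * (n - 1) / 2) * u) * v := by group
      _ = u ^ n * v ^ n * (u * c ^ (n * (n - 1) / 2)) * v := by rw [(hck _).eq]
      _ = u ^ n * (v ^ n * u) * (c ^ (n * (n - 1) / 2) * v) := by group
      _ = u ^ n * (c ^ n * u * v ^ n) * (v * c ^ (n * (n - 1) / 2)) := by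
          rw [h1, (hckv _).eq]
      _ = u ^ n * (c ^ n * u) * v ^ (n + 1) * c ^ (n * (n - 1) / 2) := by
          rw [pow_succ v n]; group
      _ = u ^ n * (u * c ^ n) * v ^ (n + 1) * c ^ (n * (n - 1) / 2) := by rw [(hck n).eq]
      _ = u ^ (n + 1) * (c ^ n * v ^ (n + 1)) * c ^ (n * (n - 1) / 2) := by
          rw [pow_succ u n]; group
      _ = u ^ (n + 1) * (v ^ (n + 1) * c ^ n) * c ^ (n * (n - 1) / 2) := by
          rw [((hckv n).pow_right (n + 1)).eq]
      _ = u ^ (n + 1) * v ^ (n + 1) * (c ^ n * c ^ (n * (n - 1) / 2)) := by group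
      _ = _ := by
          have : Commute (c ^ n) (c ^ (n * (n - 1) / 2)) := (Commute.refl c).pow_pow _ _
          rw [this.eq, ← pow_add]

theorem card_lt_card_of_lt' [Finite G] {H K : Subgroup G} (h : H < K) : Nat.card H < Nat.card K := by
  have hle : Nat.card H ≤ Nat.card K := Subgroup.card_le_of_le h.le
  rcases hle.lt_or_eq with h1 | h1
  · exact h1
  · exfalso
    have : H = K := by
      have hsub : (H : Set G) ⊆ K := h.le
      have hfin : (K : Set G).Finite := Set.toFinite _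
      have := Set.eq_of_subset_of_ncard_le hsub (by
        rw [← Nat.card_coe_set_eq, ← Nat.card_coe_set_eq]; exact h1.ge) hfin
      exact SetLike.coe_injective this
    exact h.ne this

end basic

section pgroup

variable {p : ℕ} [hp : Fact p.Prime] {G : Type*} [Group G] [Finite G]

/-- A normal subgroup of order `p` in a finite `p`-group is central. -/
theorem central_of_normal_card_prime (hG : IsPGroup p G) (N : Subgroup G) [N.Normal]
    (hN : Nat.card N = p) : ∀ g ∈ N, ∀ s : G, s * g = g * s := by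
  have hNne : N ≠ ⊥ := by
    intro h
    rw [h, Subgroup.card_bot] at hN
    exact hp.out.one_lt.ne hN
  obtain ⟨y, hyN, hyc, hy1⟩ := H8.exists_central_mem_of_normal hG N hNne
  intro g hg s
  have hmem := mem_zpowers_of_prime_card hN (g := (⟨y, hyN⟩ : N)) (g' := ⟨g, hg⟩)
    (fun e1 => hy1 (by simpa using congrArg Subtype.val e1))
  obtain ⟨j, hj⟩ := Subgroup.mem_zpowers_iff.mp hmem
  have hj' : y ^ j = g := by simpa using congrArg Subtype.val hj
  rw [← hj']
  rw [Subgroup.mem_center_iff] at hyc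
  exact ((show Commute s y from hyc s).zpow_right j).eq

omit hp in
/-- In a finite cyclic group, an element killed by the prime `p` lies in the subgroup generated
by any element of order `p`. -/
theorem mem_zpowers_of_pow_eq_one_of_isCyclic [IsCyclic G] (hpp : p.Prime) {z e : G}
    (hz : orderOf z = p) (he : e ^ p = 1) : e ∈ Subgroup.zpowers z := by
  classical
  have := Fintype.ofFinite G
  by_contra hne
  have hle := IsCyclic.card_pow_eq_one_le (α := G) (n := p) hpp.pos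
  have hsub : insert e ((Subgroup.zpowers z : Set G).toFinset) ⊆
      Finset.univ.filter (fun a : G => a ^ p = 1) := by
    intro g hg
    simp only [Finset.mem_filter, Finset.mem_univ, true_and]
    rcases Finset.mem_insert.mp hg with rfl | hg
    · exact he
    · rw [Set.mem_toFinset, SetLike.mem_coe] at hg
      obtain ⟨i, rfl⟩ := Subgroup.mem_zpowers_iff.mp hg
      rw [← zpow_natCast, ← zpow_mul, mul_comm, zpow_mul, zpow_natCast, ← hz, pow_orderOf_eq_one,
        one_zpow]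
  have hcard : (insert e ((Subgroup.zpowers z : Set G).toFinset)).card = p + 1 := by
    rw [Finset.card_insert_of_notMem]
    · congr 1
      rw [Set.toFinset_card, ← Nat.card_eq_fintype_card]
      show Nat.card (Subgroup.zpowers z) = p
      rw [Nat.card_zpowers, hz]
    · rw [Set.mem_toFinset]; exact hne
  have := Finset.card_le_card hsub
  omega

end pgroup

section lemmaZ

variable {P : Type*} [Group P]

/-- the map `g ↦ g s g⁻¹ s⁻¹` as a homomorphism, when all its values are central. -/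
noncomputable def kappa (s : P) (hs : ∀ g h : P, h * (g * s * g⁻¹ * s⁻¹) = (g * s * g⁻¹ * s⁻¹) * h) :
    P →* P :=
  MonoidHom.mk' (fun g => g * s * g⁻¹ * s⁻¹) (by
    intro g h
    have h1 := hs h g
    calc g * h * s * (g * h)⁻¹ * s⁻¹ = (g * (h * s * h⁻¹ * s⁻¹)) * s * g⁻¹ * s⁻¹ := by group
      _ = ((h * s * h⁻¹ * s⁻¹) * g) * s * g⁻¹ * s⁻¹ := by rw [h1]
      _ = (h * s * h⁻¹ * s⁻¹) * (g * s * g⁻¹ * s⁻¹) := by group
      _ = _ := (hs h (g * s * g⁻¹ * s⁻¹)).symm)

theorem kappa_apply (s : P) (hs : ∀ g h : P, h * (g * s * g⁻¹ * s⁻¹) = (g * s * g⁻¹ * s⁻¹) * h)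
    (g : P) : kappa s hs g = g * s * g⁻¹ * s⁻¹ := rfl

theorem kappa_eq_one_iff (s : P)
    (hs : ∀ g h : P, h * (g * s * g⁻¹ * s⁻¹) = (g * s * g⁻¹ * s⁻¹) * h) (g : P) :
    kappa s hs g = 1 ↔ g * s = s * g := by
  rw [kappa_apply]
  constructor
  · intro h
    calc g * s = (g * s * g⁻¹ * s⁻¹) * s * g := by group
      _ = s * g := by rw [h, one_mul]
  · intro h
    rw [h]; group

variable [Finite P]

/-- `P = E · C_P(E)` when `Z(E) = ⟨z⟩` has prime order, `z` is central in `P` and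
`[P, E] ≤ ⟨z⟩`. -/
theorem exists_mul_centralizer {p : ℕ} (hp : p.Prime) {z : P}
    (hz : orderOf z = p) (hzc : ∀ s : P, s * z = z * s) :
    ∀ (N : ℕ) (E : Subgroup P), Nat.card E = N →
      E ⊓ Subgroup.centralizer (E : Set P) = Subgroup.zpowers z →
      (∀ g : P, ∀ e ∈ E, g * e * g⁻¹ * e⁻¹ ∈ Subgroup.zpowers z) →
      ∀ g : P, ∃ e ∈ E, ∃ r ∈ Subgroup.centralizer (E : Set P), g = e * r := by
  have : Fact p.Prime := ⟨hp⟩
  have hZc : ∀ ζ ∈ Subgroup.zpowers z, ∀ s : P, s * ζ = ζ * s := by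
    intro ζ hζ s
    obtain ⟨i, rfl⟩ := Subgroup.mem_zpowers_iff.mp hζ
    exact ((show Commute s z from hzc s).zpow_right i).eq
  have hcardZ : Nat.card (Subgroup.zpowers z) = p := by rw [Nat.card_zpowers, hz]
  -- any nontrivial element of ⟨z⟩ generates it
  have hgen : ∀ w ∈ Subgroup.zpowers z, w ≠ 1 → ∀ ζ ∈ Subgroup.zpowers z, ∃ k : ℤ, w ^ k = ζ := by
    intro w hw hw1 ζ hζ
    have hmem := mem_zpowers_of_prime_card hcardZ (g := (⟨w, hw⟩ : Subgroup.zpowers z))
      (g' := ⟨ζ, hζ⟩) (fun e1 => hw1 (by simpa using congrArg Subtype.val e1))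
    obtain ⟨k, hk⟩ := Subgroup.mem_zpowers_iff.mp hmem
    exact ⟨k, by simpa using congrArg Subtype.val hk⟩
  intro N
  induction N using Nat.strong_induction_on with
  | _ N ih =>
  intro E hN hcen hcomm g
  by_cases hab : E ≤ Subgroup.centralizer (E : Set P)
  · -- E = ⟨z⟩ central
    have hE : E = Subgroup.zpowers z := by rw [← hcen]; exact (inf_eq_left.mpr hab).symm
    refine ⟨1, E.one_mem, g, ?_, (one_mul g).symm⟩
    rw [Subgroup.mem_centralizer_iff]
    intro h hh
    rw [SetLike.mem_coe, hE] at hh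
    exact (hZc h hh g).symm
  · -- choose non-commuting x, y ∈ E
    rw [SetLike.not_le_iff_exists] at hab
    obtain ⟨x, hxE, hxc⟩ := hab
    rw [Subgroup.mem_centralizer_iff] at hxc
    push Not at hxc
    obtain ⟨y, hyE, hyx⟩ := hxc
    have hsx : ∀ g h : P, h * (g * x * g⁻¹ * x⁻¹) = (g * x * g⁻¹ * x⁻¹) * h :=
      fun g h => hZc _ (hcomm g x hxE) h
    have hsy : ∀ g h : P, h * (g * y * g⁻¹ * y⁻¹) = (g * y * g⁻¹ * y⁻¹) * h :=
      fun g h => hZc _ (hcomm g y hyE) h
    set κx := kappa x hsx with hκx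
    set κy := kappa y hsy with hκy
    have hκxy : κx y ≠ 1 := by
      rw [hκx, Ne, kappa_eq_one_iff]
      exact hyx
    have hκyx : κy x ≠ 1 := by
      rw [hκy, Ne, kappa_eq_one_iff]
      exact fun h => hyx h.symm
    have hκxx : κx x = 1 := by rw [hκx, kappa_eq_one_iff]
    have hκyy : κy y = 1 := by rw [hκy, kappa_eq_one_iff]
    have hκxmem : ∀ g : P, κx g ∈ Subgroup.zpowers z := fun g => hcomm g x hxE
    have hκymem : ∀ g : P, κy g ∈ Subgroup.zpowers z := fun g => hcomm g y hyE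
    -- adjusting
    have hadj : ∀ g : P, ∃ a b : ℤ, κx (g * (y ^ a * x ^ b)) = 1 ∧ κy (g * (y ^ a * x ^ b)) = 1 := by
      intro g
      obtain ⟨a, ha⟩ := hgen _ (hκxmem y) hκxy _ (Subgroup.inv_mem _ (hκxmem g))
      obtain ⟨b, hb⟩ := hgen _ (hκymem x) hκyx _ (Subgroup.inv_mem _ (hκymem g))
      refine ⟨a, b, ?_, ?_⟩
      · rw [map_mul, map_mul, map_zpow, map_zpow, hκxx, one_zpow, mul_one, ha, mul_inv_cancel]
      · rw [map_mul, map_mul, map_zpow, map_zpow, hκyy, one_zpow, one_mul, hb, mul_inv_cancel]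
    -- E₁
    set E₁ : Subgroup P := E ⊓ κx.ker ⊓ κy.ker with hE₁
    have hE₁mem : ∀ u : P, u ∈ E₁ ↔ u ∈ E ∧ u * x = x * u ∧ u * y = y * u := by
      intro u
      rw [hE₁, Subgroup.mem_inf, Subgroup.mem_inf, MonoidHom.mem_ker, MonoidHom.mem_ker, hκx, hκy,
        kappa_eq_one_iff, kappa_eq_one_iff, and_assoc]
    have hE₁E : E₁ ≤ E := fun u hu => ((hE₁mem u).mp hu).1
    have hxE₁ : x ∉ E₁ := fun h => hyx ((hE₁mem x).mp h).2.2.symm
    have hlt : Nat.card E₁ < N := by
      rw [← hN]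
      apply Cfsg.Agent.Lib.H9.card_lt_card_of_lt'
      exact lt_of_le_of_ne hE₁E (fun e => hxE₁ (e ▸ hxE))
    -- decomposition of E
    have hdec : ∀ e ∈ E, ∃ e₁ ∈ E₁, ∃ a b : ℤ, e = e₁ * (y ^ a * x ^ b)⁻¹ := by
      intro e he
      obtain ⟨a, b, h1, h2⟩ := hadj e
      refine ⟨e * (y ^ a * x ^ b), ?_, a, b, by group⟩
      rw [hE₁mem]
      refine ⟨E.mul_mem he (E.mul_mem (E.zpow_mem hyE a) (E.zpow_mem hxE b)), ?_, ?_⟩
      · rwa [hκx, kappa_eq_one_iff] at h1
      · rwa [hκy, kappa_eq_one_iff] at h2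
    have hcentE : ∀ r : P, r * x = x * r → r * y = y * r →
        r ∈ Subgroup.centralizer (E₁ : Set P) → r ∈ Subgroup.centralizer (E : Set P) := by
      intro r hrx hry hr
      rw [Subgroup.mem_centralizer_iff] at hr ⊢
      intro e he
      obtain ⟨e₁, he₁, a, b, rfl⟩ := hdec e he
      have c1 : Commute r e₁ := (hr e₁ he₁).symm
      have c2 : Commute r (y ^ a * x ^ b) :=
        ((show Commute r y from hry).zpow_right a).mul_right
          ((show Commute r x from hrx).zpow_right b)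
      exact ((c1.mul_right c2.inv_right).eq).symm
    have hzE : Subgroup.zpowers z ≤ E := by rw [← hcen]; exact inf_le_left
    have hcen₁ : E₁ ⊓ Subgroup.centralizer (E₁ : Set P) = Subgroup.zpowers z := by
      apply le_antisymm
      · intro u hu
        rw [Subgroup.mem_inf] at hu
        have h1 := (hE₁mem u).mp hu.1
        rw [← hcen, Subgroup.mem_inf]
        exact ⟨h1.1, hcentE u h1.2.1 h1.2.2 hu.2⟩
      · intro ζ hζ
        rw [Subgroup.mem_inf, hE₁mem, Subgroup.mem_centralizer_iff]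
        exact ⟨⟨hzE hζ, (hZc ζ hζ x).symm, (hZc ζ hζ y).symm⟩, fun h _ => hZc ζ hζ h⟩
    have hcomm₁ : ∀ g : P, ∀ e ∈ E₁, g * e * g⁻¹ * e⁻¹ ∈ Subgroup.zpowers z :=
      fun g e he => hcomm g e (hE₁E he)
    obtain ⟨a, b, h1, h2⟩ := hadj g
    rw [hκx, kappa_eq_one_iff] at h1
    rw [hκy, kappa_eq_one_iff] at h2
    obtain ⟨e₁, he₁, r, hr, hg''⟩ := ih _ hlt E₁ rfl hcen₁ hcomm₁ (g * (y ^ a * x ^ b))
    have he₁' := (hE₁mem e₁).mp he₁
    have hr_eq : r = e₁⁻¹ * (g * (y ^ a * x ^ b)) := by rw [hg'']; group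
    have hrx : r * x = x * r := by
      rw [hr_eq]
      have c1 : Commute e₁ x := he₁'.2.1
      have c2 : Commute (g * (y ^ a * x ^ b)) x := h1
      exact (c1.inv_left.mul_left c2).eq
    have hry : r * y = y * r := by
      rw [hr_eq]
      have c1 : Commute e₁ y := he₁'.2.2
      have c2 : Commute (g * (y ^ a * x ^ b)) y := h2
      exact (c1.inv_left.mul_left c2).eq
    have hrE := hcentE r hrx hry hr
    have heE : y ^ a * x ^ b ∈ E := E.mul_mem (E.zpow_mem hyE a) (E.zpow_mem hxE b)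
    refine ⟨e₁ * (y ^ a * x ^ b)⁻¹, E.mul_mem he₁'.1 (E.inv_mem heE), r, hrE, ?_⟩
    rw [Subgroup.mem_centralizer_iff] at hrE
    have c3 : (y ^ a * x ^ b)⁻¹ * r = r * (y ^ a * x ^ b)⁻¹ := hrE _ (E.inv_mem heE)
    calc g = (g * (y ^ a * x ^ b)) * (y ^ a * x ^ b)⁻¹ := by group
      _ = e₁ * r * (y ^ a * x ^ b)⁻¹ := by rw [hg'']
      _ = e₁ * (r * (y ^ a * x ^ b)⁻¹) := by group
      _ = e₁ * ((y ^ a * x ^ b)⁻¹ * r) := by rw [c3]
      _ = _ := by group

end lemmaZ

/-- The situation of a non-abelian critical subgroup `C` with cyclic centre `Z = ⟨c⟩` in a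
`p`-group `P` of symplectic type. -/
structure CritCtx (p : ℕ) (P : Type*) [Group P] [Finite P] (C : Subgroup P) (c : P) (n : ℕ) :
    Prop where
  hP : IsPGroup p P
  hsymp : ∀ A : Subgroup P, A.Characteristic → IsMulCommutative A → IsCyclic A
  char : C.Characteristic
  center : C ⊓ Subgroup.centralizer (C : Set P) = Subgroup.zpowers c
  cent_le : Subgroup.centralizer (C : Set P) ≤ C
  ord : orderOf c = p ^ n
  comm : ∀ x ∈ C, ∀ g : P, g * x * g⁻¹ * x⁻¹ ∈ Subgroup.zpowers c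
  pow : ∀ x ∈ C, x ^ p ∈ Subgroup.zpowers c
  nonab : ¬ C ≤ Subgroup.centralizer (C : Set P)

namespace CritCtx

variable {p : ℕ} [hp : Fact p.Prime] {P : Type*} [Group P] [Finite P] {C : Subgroup P} {c : P}
  {n : ℕ}

theorem Z_le (h : CritCtx p P C c n) : Subgroup.zpowers c ≤ C := by
  rw [← h.center]; exact inf_le_left

theorem Z_comm (h : CritCtx p P C c n) {ζ x : P} (hζ : ζ ∈ Subgroup.zpowers c) (hx : x ∈ C) :
    x * ζ = ζ * x := by
  rw [← h.center, Subgroup.mem_inf, Subgroup.mem_centralizer_iff] at hζ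
  exact hζ.2 x hx

theorem c_mem (h : CritCtx p P C c n) : c ∈ C := h.Z_le (Subgroup.mem_zpowers c)

theorem Z_char (h : CritCtx p P C c n) : (Subgroup.zpowers c).Characteristic := by
  have := h.char
  rw [← h.center]
  infer_instance

theorem exists_noncomm (h : CritCtx p P C c n) : ∃ x ∈ C, ∃ y ∈ C, x * y ≠ y * x := by
  have := h.nonab
  rw [SetLike.not_le_iff_exists] at this
  obtain ⟨x, hxC, hx⟩ := this
  rw [Subgroup.mem_centralizer_iff] at hx
  push Not at hx
  obtain ⟨y, hyC, hyx⟩ := hx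
  exact ⟨x, hxC, y, hyC, fun e => hyx e.symm⟩

theorem one_le (h : CritCtx p P C c n) : 1 ≤ n := by
  by_contra hlt
  push Not at hlt
  have hn0 : n = 0 := by omega
  subst hn0
  have hc1 : c = 1 := by
    have := h.ord
    rwa [pow_zero, orderOf_eq_one_iff] at this
  obtain ⟨x, hxC, y, hyC, hxy⟩ := h.exists_noncomm
  apply hxy
  have h1 := h.comm y hyC x
  rw [hc1, Subgroup.zpowers_one_eq_bot, Subgroup.mem_bot] at h1
  calc x * y = (x * y * x⁻¹ * y⁻¹) * y * x := by group
    _ = y * x := by rw [h1, one_mul]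

theorem z_pow (h : CritCtx p P C c n) : (c ^ (p ^ (n - 1))) ^ p = 1 := by
  have := h.one_le
  rw [← pow_mul, ← pow_succ]
  have e : n - 1 + 1 = n := by omega
  rw [e, ← h.ord, pow_orderOf_eq_one]

theorem z_ne_one (h : CritCtx p P C c n) : c ^ (p ^ (n - 1)) ≠ 1 := by
  have := h.one_le
  apply pow_ne_one_of_lt_orderOf (pow_pos hp.out.pos _).ne'
  rw [h.ord]
  exact Nat.pow_lt_pow_right hp.out.one_lt (by omega)

theorem orderOf_z (h : CritCtx p P C c n) : orderOf (c ^ (p ^ (n - 1))) = p :=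
  orderOf_eq_prime h.z_pow h.z_ne_one

theorem zz_le (h : CritCtx p P C c n) :
    Subgroup.zpowers (c ^ (p ^ (n - 1))) ≤ Subgroup.zpowers c := by
  rw [Subgroup.zpowers_le]
  exact Subgroup.pow_mem _ (Subgroup.mem_zpowers c) _

/-- elements of `Z` of order dividing `p` are in `⟨z⟩`. -/
theorem mem_zz (h : CritCtx p P C c n) {g : P} (hg : g ∈ Subgroup.zpowers c) (hgp : g ^ p = 1) :
    g ∈ Subgroup.zpowers (c ^ (p ^ (n - 1))) :=
  mem_zpowers_pow_of_pow_eq_one hp.out.pos h.ord h.one_le hg (by simpa using hgp)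

theorem zz_pow (h : CritCtx p P C c n) {ζ : P} (hζ : ζ ∈ Subgroup.zpowers (c ^ (p ^ (n - 1)))) :
    ζ ^ p = 1 := by
  obtain ⟨i, rfl⟩ := Subgroup.mem_zpowers_iff.mp hζ
  rw [← zpow_natCast, ← zpow_mul, mul_comm, zpow_mul, zpow_natCast, h.z_pow, one_zpow]

theorem zz_normal (h : CritCtx p P C c n) : (Subgroup.zpowers (c ^ (p ^ (n - 1)))).Normal := by
  have hZc := h.Z_char
  have hZn : (Subgroup.zpowers c).Normal := inferInstance
  constructor
  intro g hg s
  apply h.mem_zz (hZn.conj_mem g (h.zz_le hg) s)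
  rw [conj_pow, h.zz_pow hg, mul_one, mul_inv_cancel]

theorem zz_central (h : CritCtx p P C c n) {ζ : P}
    (hζ : ζ ∈ Subgroup.zpowers (c ^ (p ^ (n - 1)))) (s : P) : s * ζ = ζ * s := by
  have := h.zz_normal
  have hcard : Nat.card (Subgroup.zpowers (c ^ (p ^ (n - 1)))) = p := by
    rw [Nat.card_zpowers, h.orderOf_z]
  exact central_of_normal_card_prime h.hP _ hcard ζ hζ s

/-- commutators of elements of `C` lie in `⟨z⟩`. -/
theorem commC (h : CritCtx p P C c n) {x y : P} (hx : x ∈ C) (hy : y ∈ C) :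
    x * y * x⁻¹ * y⁻¹ ∈ Subgroup.zpowers (c ^ (p ^ (n - 1))) := by
  have hw : x * y * x⁻¹ * y⁻¹ ∈ Subgroup.zpowers c := h.comm y hy x
  apply h.mem_zz hw
  have hu : Commute (x * y * x⁻¹ * y⁻¹) y := (h.Z_comm hw hy).symm
  have hv : Commute (x * y * x⁻¹ * y⁻¹) x := (h.Z_comm hw hx).symm
  have h1 := pow_mul_comm_of_comm hu hv p
  have h2 : x ^ p * y = y * x ^ p := (h.Z_comm (h.pow x hx) hy).symm
  rw [h2] at h1
  -- y * x^p = w^p * y * x^p
  have h3 : (x * y * x⁻¹ * y⁻¹) ^ p * (y * x ^ p) = y * x ^ p := by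
    rw [← mul_assoc]; exact h1.symm
  exact mul_eq_right.mp h3

/-- `[g, e] ∈ ⟨z⟩` for `g ∈ P` and `e ∈ C` with `e^p ∈ ⟨z⟩`. -/
theorem commP (h : CritCtx p P C c n) {e : P} (he : e ∈ C)
    (hep : e ^ p ∈ Subgroup.zpowers (c ^ (p ^ (n - 1)))) (g : P) :
    g * e * g⁻¹ * e⁻¹ ∈ Subgroup.zpowers (c ^ (p ^ (n - 1))) := by
  have hw : g * e * g⁻¹ * e⁻¹ ∈ Subgroup.zpowers c := h.comm e he g
  apply h.mem_zz hw
  have hc : Commute (g * e * g⁻¹ * e⁻¹) e := (h.Z_comm hw he).symm
  have h1 : g * e ^ p * g⁻¹ = (g * e * g⁻¹ * e⁻¹) ^ p * e ^ p := by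
    rw [← hc.mul_pow, ← conj_pow]
    congr 1
    group
  have h2 : g * e ^ p * g⁻¹ = e ^ p := by
    rw [h.zz_central hep g]; group
  rw [h2] at h1
  exact mul_eq_right.mp h1.symm

end CritCtx

theorem prime_dvd_choose_two {p n : ℕ} (hp : p.Prime) (hn2 : 2 ≤ n) :
    p ∣ p ^ n * (p ^ n - 1) / 2 := by
  have h2 : 2 ∣ p ^ (n - 1) * (p ^ n - 1) := by
    rcases hp.eq_two_or_odd' with rfl | hodd
    · apply Dvd.dvd.mul_right
      exact dvd_pow_self 2 (by omega)
    · apply Dvd.dvd.mul_left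
      have : Odd (p ^ n) := hodd.pow
      obtain ⟨k, hk⟩ := this
      exact ⟨k, by omega⟩
  obtain ⟨m, hm⟩ := h2
  have e : p ^ n * (p ^ n - 1) = 2 * (p * m) := by
    have : p ^ n = p * p ^ (n - 1) := by rw [← pow_succ']; congr 1; omega
    calc p ^ n * (p ^ n - 1) = p * p ^ (n - 1) * (p ^ n - 1) := by rw [← this]
      _ = p * (p ^ (n - 1) * (p ^ n - 1)) := by rw [mul_assoc]
      _ = 2 * (p * m) := by rw [hm]; ring
  rw [e, Nat.mul_div_cancel_left _ (by norm_num : 0 < 2)]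
  exact dvd_mul_right p m

namespace CritCtx

variable {p : ℕ} [hp : Fact p.Prime] {P : Type*} [Group P] [Finite P] {C : Subgroup P} {c : P}
  {n : ℕ}

/-- the `p^n`-th power homomorphism on `C` (for `n ≥ 2`). -/
noncomputable def powHom (h : CritCtx p P C c n) (hn2 : 2 ≤ n) : ↥C →* P :=
  MonoidHom.mk' (fun x => (x : P) ^ (p ^ n)) (by
    intro x y
    have hw := h.commC y.2 x.2
    have hu : Commute ((y : P) * x * (y : P)⁻¹ * (x : P)⁻¹) x := (h.zz_central hw x).symm
    have hv : Commute ((y : P) * x * (y : P)⁻¹ * (x : P)⁻¹) y := (h.zz_central hw y).symm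
    have h1 := mul_pow_of_comm hu hv (p ^ n)
    obtain ⟨m, hm⟩ := prime_dvd_choose_two hp.out hn2
    rw [hm, pow_mul, h.zz_pow hw, one_pow, mul_one] at h1
    simpa using h1)

theorem powHom_apply (h : CritCtx p P C c n) (hn2 : 2 ≤ n) (x : C) :
    h.powHom hn2 x = (x : P) ^ (p ^ n) := rfl

theorem pow_pn_mem (h : CritCtx p P C c n) {x : P} (hx : x ∈ C) :
    x ^ (p ^ n) ∈ Subgroup.zpowers (c ^ (p ^ (n - 1))) := by
  have hn1 := h.one_le
  have e : p ^ n = p * p ^ (n - 1) := by rw [← pow_succ']; congr 1; omega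
  rw [e, pow_mul]
  obtain ⟨i, hi⟩ := Subgroup.mem_zpowers_iff.mp (h.pow x hx)
  rw [← hi, ← zpow_natCast (c ^ i), ← zpow_mul, mul_comm, zpow_mul, zpow_natCast]
  exact Subgroup.zpow_mem _ (Subgroup.mem_zpowers _) i

theorem index_ker_powHom_dvd (h : CritCtx p P C c n) (hn2 : 2 ≤ n) :
    (h.powHom hn2).ker.index ∣ p := by
  rw [Subgroup.index_ker]
  have hle : (h.powHom hn2).range ≤ Subgroup.zpowers (c ^ (p ^ (n - 1))) := by
    rintro _ ⟨x, rfl⟩
    exact h.pow_pn_mem x.2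
  have h1 := Subgroup.card_dvd_of_le hle
  rwa [Nat.card_zpowers, h.orderOf_z] at h1

/-- an element of `C` killed by `p^n` can be multiplied by an element of `Z` to have order
dividing `p`. -/
theorem exists_mul_pow_eq_one (h : CritCtx p P C c n) {x : P} (hx : x ∈ C)
    (hxp : x ^ (p ^ n) = 1) : ∃ ζ ∈ Subgroup.zpowers c, (x * ζ) ^ p = 1 := by
  have hn1 := h.one_le
  have hfin : IsOfFinOrder c := by
    rw [← orderOf_pos_iff, h.ord]; exact pow_pos hp.out.pos _
  have hmem := h.pow x hx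
  rw [← hfin.mem_powers_iff_mem_zpowers] at hmem
  obtain ⟨i, hi⟩ := hmem
  have hi : c ^ i = x ^ p := hi
  have e : p ^ n = p * p ^ (n - 1) := by rw [← pow_succ']; congr 1; omega
  rw [e, pow_mul, ← hi, ← pow_mul] at hxp
  have hdvd := orderOf_dvd_of_pow_eq_one hxp
  rw [h.ord, e] at hdvd
  have hpi : p ∣ i := Nat.dvd_of_mul_dvd_mul_right (pow_pos hp.out.pos _) hdvd
  obtain ⟨j, rfl⟩ := hpi
  refine ⟨(c ^ j)⁻¹, Subgroup.inv_mem _ (Subgroup.pow_mem _ (Subgroup.mem_zpowers c) j), ?_⟩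
  have hc : Commute x (c ^ j)⁻¹ :=
    (h.Z_comm (Subgroup.inv_mem _ (Subgroup.pow_mem _ (Subgroup.mem_zpowers c) j)) hx)
  rw [hc.mul_pow, ← hi, inv_pow, ← pow_mul, mul_comm j p, mul_inv_cancel]

end CritCtx

/-- a nontrivial subgroup of a group of prime order is everything -/
theorem eq_zpowers_of_le_of_ne_bot {G : Type*} [Group G] {p : ℕ} (hp : p.Prime) {z : G}
    (hz : orderOf z = p) {H : Subgroup G} (hle : H ≤ Subgroup.zpowers z) (hne : H ≠ ⊥) :
    H = Subgroup.zpowers z := by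
  have : Fact p.Prime := ⟨hp⟩
  apply le_antisymm hle
  obtain ⟨w, hw1⟩ := (Subgroup.ne_bot_iff_exists_ne_one).mp hne
  have hcard : Nat.card (Subgroup.zpowers z) = p := by rw [Nat.card_zpowers, hz]
  have hmem := mem_zpowers_of_prime_card hcard (g := (⟨w.1, hle w.2⟩ : Subgroup.zpowers z))
    (g' := ⟨z, Subgroup.mem_zpowers z⟩)
    (fun e1 => hw1 (Subtype.ext (by simpa using congrArg Subtype.val e1)))
  obtain ⟨k, hk⟩ := Subgroup.mem_zpowers_iff.mp hmem
  have hk' : (w : G) ^ k = z := by simpa using congrArg Subtype.val hk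
  rw [Subgroup.zpowers_le, ← hk']
  exact H.zpow_mem w.2 k

namespace CritCtx

variable {p : ℕ} [hp : Fact p.Prime] {P : Type*} [Group P] [Finite P] {C : Subgroup P} {c : P}
  {n : ℕ}

open scoped commutatorElement in
theorem commutator_le_zz (h : CritCtx p P C c n) {K : Subgroup P} (hKC : K ≤ C) :
    ⁅K, K⁆ ≤ Subgroup.zpowers (c ^ (p ^ (n - 1))) := by
  rw [Subgroup.commutator_le]
  intro g₁ h₁ g₂ h₂
  rw [commutatorElement_def]
  exact h.commC (hKC h₁) (hKC h₂)

open scoped commutatorElement in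
theorem commutator_eq_zz (h : CritCtx p P C c n) {K : Subgroup P} (hKC : K ≤ C)
    (hnab : ¬ K ≤ Subgroup.centralizer (K : Set P)) :
    ⁅K, K⁆ = Subgroup.zpowers (c ^ (p ^ (n - 1))) := by
  apply eq_zpowers_of_le_of_ne_bot hp.out h.orderOf_z (h.commutator_le_zz hKC)
  intro hbot
  apply hnab
  intro x hx
  rw [Subgroup.mem_centralizer_iff]
  intro y hy
  have : ⁅y, x⁆ ∈ ⁅K, K⁆ := Subgroup.commutator_mem_commutator hy hx
  rw [hbot, Subgroup.mem_bot, commutatorElement_eq_one_iff_mul_comm] at this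
  exact this

open scoped commutatorElement in
/-- parity: for `Z ≤ K ≤ C`, the index of `Z(K)` in `K` is an even power of `p`. -/
theorem exists_relIndex_center (h : CritCtx p P C c n) {K : Subgroup P} (hKC : K ≤ C) :
    ∃ b : ℕ, (K ⊓ Subgroup.centralizer (K : Set P)).relIndex K = p ^ (2 * b) := by
  by_cases hab : K ≤ Subgroup.centralizer (K : Set P)
  · refine ⟨0, ?_⟩
    rw [inf_eq_left.mpr hab, Subgroup.relIndex_self, mul_zero, pow_zero]
  · have hcomm := h.commutator_eq_zz hKC hab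
    have hcard : Nat.card (⁅K, K⁆ : Subgroup P) = p := by
      rw [hcomm, Nat.card_zpowers, h.orderOf_z]
    have hcc : ⁅K, K⁆ ≤ Subgroup.centralizer (K : Set P) := by
      rw [hcomm]
      intro ζ hζ
      rw [Subgroup.mem_centralizer_iff]
      intro y _
      exact h.zz_central hζ y
    obtain ⟨b, -, hb⟩ := Cfsg.Agent.S0095.even_index_center hp.out _ K rfl hcard hcc
    exact ⟨b, hb⟩

/-- **Key step**: for `|Z| ≥ p²`, every element of `C` is killed by `p^n = |Z|`. -/
theorem pow_pn_eq_one (h : CritCtx p P C c n) (hn2 : 2 ≤ n) : ∀ x ∈ C, x ^ (p ^ n) = 1 := by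
  by_contra hex
  push Not at hex
  obtain ⟨x₀, hx₀C, hx₀⟩ := hex
  have hCchar := h.char
  set K' := (h.powHom hn2).ker with hK'
  set K := K'.map C.subtype with hKdef
  have hKmem : ∀ g : P, g ∈ K ↔ g ∈ C ∧ g ^ (p ^ n) = 1 := by
    intro g
    rw [hKdef, Subgroup.mem_map]
    constructor
    · rintro ⟨y, hy, rfl⟩
      rw [hK', MonoidHom.mem_ker, powHom_apply] at hy
      exact ⟨y.2, hy⟩
    · rintro ⟨hgC, hg⟩
      exact ⟨⟨g, hgC⟩, by rw [hK', MonoidHom.mem_ker, powHom_apply]; exact hg, rfl⟩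
  have hKC : K ≤ C := fun g hg => ((hKmem g).mp hg).1
  have hK'idx : K'.index = p := by
    rcases (Nat.dvd_prime hp.out).mp (h.index_ker_powHom_dvd hn2) with h1 | h1
    · exfalso
      rw [Subgroup.index_eq_one] at h1
      have : (⟨x₀, hx₀C⟩ : C) ∈ (h.powHom hn2).ker := by rw [h1]; exact Subgroup.mem_top _
      rw [MonoidHom.mem_ker, powHom_apply] at this
      exact hx₀ this
    · exact h1
  have hKrel : K.relIndex C = p := by
    rw [Subgroup.relIndex, hKdef]
    have : (K'.map C.subtype).subgroupOf C = K' :=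
      Subgroup.comap_map_eq_self_of_injective C.subtype_injective K'
    rw [this, hK'idx]
  have hKchar : K.Characteristic := by
    rw [Subgroup.characteristic_iff_map_le]
    intro φ e he
    obtain ⟨g, hg, rfl⟩ := Subgroup.mem_map.mp he
    rw [hKmem] at hg ⊢
    refine ⟨?_, by rw [← map_pow, hg.2, map_one]⟩
    have := (Subgroup.characteristic_iff_map_le.mp hCchar) φ
    exact this (Subgroup.mem_map_of_mem _ hg.1)
  have hZKchar : (K ⊓ Subgroup.centralizer (K : Set P)).Characteristic := inferInstance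
  have hZKcomm : IsMulCommutative ↥(K ⊓ Subgroup.centralizer (K : Set P)) := by
    refine ⟨⟨fun a b => Subtype.ext ?_⟩⟩
    have ha := (Subgroup.mem_inf.mp a.2).1
    have hb := (Subgroup.mem_inf.mp b.2).2
    rw [Subgroup.mem_centralizer_iff] at hb
    exact hb a ha
  have hZKcyc := h.hsymp _ hZKchar hZKcomm
  have hZK : Subgroup.zpowers c ≤ K ⊓ Subgroup.centralizer (K : Set P) := by
    intro ζ hζ
    rw [Subgroup.mem_inf, hKmem, Subgroup.mem_centralizer_iff]
    refine ⟨⟨h.Z_le hζ, ?_⟩, fun y hy => (h.Z_comm hζ (hKC hy))⟩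
    obtain ⟨i, rfl⟩ := Subgroup.mem_zpowers_iff.mp hζ
    rw [← zpow_natCast, ← zpow_mul, mul_comm, zpow_mul, zpow_natCast, ← h.ord, pow_orderOf_eq_one,
      one_zpow]
  -- parity
  obtain ⟨a, ha⟩ := h.exists_relIndex_center (le_refl C)
  rw [h.center] at ha
  obtain ⟨b, hb⟩ := h.exists_relIndex_center hKC
  have hnot : ¬ K ⊓ Subgroup.centralizer (K : Set P) ≤ Subgroup.zpowers c := by
    intro hle
    have e1 : (Subgroup.zpowers c).relIndex (K ⊓ Subgroup.centralizer (K : Set P)) = 1 :=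
      Subgroup.relIndex_eq_one.mpr hle
    have e2 := Subgroup.relIndex_mul_relIndex (H := Subgroup.zpowers c)
      (K := K ⊓ Subgroup.centralizer (K : Set P)) (L := K) hZK inf_le_left
    have e3 := Subgroup.relIndex_mul_relIndex (H := Subgroup.zpowers c) (K := K) (L := C)
      (hZK.trans inf_le_left) hKC
    rw [e1, one_mul, hb] at e2
    rw [← e2, hKrel, ha, ← pow_succ] at e3
    have := Nat.pow_right_injective hp.out.two_le e3
    omega
  rw [SetLike.not_le_iff_exists] at hnot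
  obtain ⟨v, hvZK, hvZ⟩ := hnot
  have hvK := (hKmem v).mp (Subgroup.mem_inf.mp hvZK).1
  obtain ⟨ζ, hζ, hvζ⟩ := h.exists_mul_pow_eq_one hvK.1 hvK.2
  have heZK : v * ζ ∈ K ⊓ Subgroup.centralizer (K : Set P) := Subgroup.mul_mem _ hvZK (hZK hζ)
  have heZ : v * ζ ∉ Subgroup.zpowers c := by
    intro hmem
    apply hvZ
    have : v = (v * ζ) * ζ⁻¹ := by group
    rw [this]
    exact Subgroup.mul_mem _ hmem (Subgroup.inv_mem _ hζ)
  have hzZK : c ^ (p ^ (n - 1)) ∈ K ⊓ Subgroup.centralizer (K : Set P) :=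
    hZK (h.zz_le (Subgroup.mem_zpowers _))
  have hord : orderOf (⟨_, hzZK⟩ : ↥(K ⊓ Subgroup.centralizer (K : Set P))) = p := by
    rw [Subgroup.orderOf_mk _ hzZK]
    exact h.orderOf_z
  have hmem := @mem_zpowers_of_pow_eq_one_of_isCyclic p _ _ _ hZKcyc hp.out
    (⟨_, hzZK⟩ : ↥(K ⊓ Subgroup.centralizer (K : Set P))) ⟨v * ζ, heZK⟩ hord
    (Subtype.ext (by simpa using hvζ))
  obtain ⟨k, hk⟩ := Subgroup.mem_zpowers_iff.mp hmem
  have hk' : (c ^ (p ^ (n - 1))) ^ k = v * ζ := by simpa using congrArg Subtype.val hk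
  apply heZ
  rw [← hk']
  exact Subgroup.zpow_mem _ (h.zz_le (Subgroup.mem_zpowers _)) k

end CritCtx

namespace CritCtx

variable {p : ℕ} [hp : Fact p.Prime] {P : Type*} [Group P] [Finite P] {C : Subgroup P} {c : P}
  {n : ℕ}

/-- every coset of `Z` in `C` contains an element of order dividing `p` (when `|Z| ≥ p²`). -/
theorem exists_mul_pow_eq_one' (h : CritCtx p P C c n) (hn2 : 2 ≤ n) {x : P} (hx : x ∈ C) :
    ∃ ζ ∈ Subgroup.zpowers c, (x * ζ) ^ p = 1 :=
  h.exists_mul_pow_eq_one hx (h.pow_pn_eq_one hn2 x hx)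

/-- a supplement `E` to `Z` in `C` meeting `Z` in `⟨z⟩`. -/
theorem exists_supplement (h : CritCtx p P C c n) :
    ∃ E : Subgroup P, E ≤ C ∧ Subgroup.zpowers (c ^ (p ^ (n - 1))) ≤ E ∧
      E ⊓ Subgroup.zpowers c ≤ Subgroup.zpowers (c ^ (p ^ (n - 1))) ∧
      ∀ y ∈ C, ∃ e ∈ E, ∃ ζ ∈ Subgroup.zpowers c, y = e * ζ := by
  by_cases hn2 : 2 ≤ n
  · let S : Set (Subgroup P) := {D | Subgroup.zpowers (c ^ (p ^ (n - 1))) ≤ D ∧ D ≤ C ∧
      D ⊓ Subgroup.zpowers c ≤ Subgroup.zpowers (c ^ (p ^ (n - 1)))}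
    have hSfin : S.Finite := Set.toFinite S
    have hzS : Subgroup.zpowers (c ^ (p ^ (n - 1))) ∈ S :=
      ⟨le_rfl, h.zz_le.trans h.Z_le, inf_le_left⟩
    obtain ⟨D, -, hDmax⟩ := hSfin.exists_le_maximal hzS
    obtain ⟨hzD, hDC, hDZ⟩ := hDmax.prop
    refine ⟨D, hDC, hzD, hDZ, ?_⟩
    by_contra hno
    push Not at hno
    obtain ⟨y, hyC, hy⟩ := hno
    obtain ⟨ζ₀, hζ₀, hxp⟩ := h.exists_mul_pow_eq_one' hn2 hyC
    have hxC : y * ζ₀ ∈ C := C.mul_mem hyC (h.Z_le hζ₀)
    -- x = y ζ₀ is not of the form e ζ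
    have hx : ∀ e ∈ D, ∀ ζ ∈ Subgroup.zpowers c, y * ζ₀ ≠ e * ζ := by
      intro e he ζ hζ heq
      apply hy e he (ζ * ζ₀⁻¹) (Subgroup.mul_mem _ hζ (Subgroup.inv_mem _ hζ₀))
      calc y = (y * ζ₀) * ζ₀⁻¹ := by group
        _ = e * ζ * ζ₀⁻¹ := by rw [heq]
        _ = e * (ζ * ζ₀⁻¹) := by group
    set x := y * ζ₀ with hxdef
    have hxD : x ∉ D := fun hmem => hx x hmem 1 (Subgroup.one_mem _) (mul_one x).symm
    have hx1 : x ≠ 1 := fun e => hxD (e ▸ D.one_mem)
    have hxord : orderOf x = p := orderOf_eq_prime hxp hx1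
    -- ⟨x⟩ normalizes D
    have hnorm : Subgroup.zpowers x ≤ Subgroup.normalizer (D : Set P) := by
      rw [Subgroup.zpowers_le, Subgroup.mem_normalizer_iff]
      have key : ∀ d ∈ D, ∀ s ∈ C, s * d * s⁻¹ ∈ D := by
        intro d hd s hs
        have : s * d * s⁻¹ = (s * d * s⁻¹ * d⁻¹) * d := by group
        rw [this]
        exact D.mul_mem (hzD (h.commC hs (hDC hd))) hd
      intro d
      constructor
      · intro hd
        exact key d hd x hxC
      · intro hd
        have := key _ hd x⁻¹ (C.inv_mem hxC)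
        have e : x⁻¹ * (x * d * x⁻¹) * x⁻¹⁻¹ = d := by group
        rwa [e] at this
    have hDplus : D ⊔ Subgroup.zpowers x ∈ S := by
      refine ⟨hzD.trans le_sup_left, sup_le hDC (by rw [Subgroup.zpowers_le]; exact hxC), ?_⟩
      intro g hg
      rw [Subgroup.mem_inf] at hg
      have hset := Subgroup.coe_mul_of_left_le_normalizer_right (Subgroup.zpowers x) D hnorm
      have hg1 : g ∈ ((Subgroup.zpowers x ⊔ D : Subgroup P) : Set P) := by
        rw [sup_comm]; exact hg.1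
      rw [hset] at hg1
      obtain ⟨a, ha, d, hd, hadg⟩ := Set.mem_mul.mp hg1
      by_cases ha1 : a = 1
      · rw [ha1, one_mul] at hadg
        apply hDZ
        rw [Subgroup.mem_inf]
        exact ⟨hadg ▸ hd, hg.2⟩
      · exfalso
        have hcard : Nat.card (Subgroup.zpowers x) = p := by rw [Nat.card_zpowers, hxord]
        have hmem := mem_zpowers_of_prime_card hcard (g := (⟨a, ha⟩ : Subgroup.zpowers x))
          (g' := ⟨x, Subgroup.mem_zpowers x⟩)
          (fun e1 => ha1 (by simpa using congrArg Subtype.val e1))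
        obtain ⟨k, hk⟩ := Subgroup.mem_zpowers_iff.mp hmem
        have hk' : a ^ k = x := by simpa using congrArg Subtype.val hk
        have ha_eq : a = g * d⁻¹ := by rw [← hadg]; group
        have hgd : Commute g d⁻¹ := (h.Z_comm hg.2 (C.inv_mem (hDC hd))).symm
        rw [ha_eq, hgd.mul_zpow] at hk'
        have hgk : Commute (g ^ k) (d⁻¹ ^ k) := (hgd.zpow_left k).zpow_right k
        apply hx (d⁻¹ ^ k) (D.zpow_mem (D.inv_mem hd) k) (g ^ k)
          (Subgroup.zpow_mem _ hg.2 k)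
        rw [← hk', hgk.eq]
    have hle : D ≤ D ⊔ Subgroup.zpowers x := le_sup_left
    have := hDmax.le_of_ge hDplus hle
    exact hxD (this (le_sup_right (a := D) (Subgroup.mem_zpowers x)))
  · have hn1 : n = 1 := by have := h.one_le; omega
    refine ⟨C, le_rfl, h.zz_le.trans h.Z_le, ?_, ?_⟩
    · intro g hg
      have : p ^ (n - 1) = 1 := by rw [hn1]; simp
      rw [this, pow_one]
      exact hg.2
    · intro y hy
      exact ⟨y, hy, 1, Subgroup.one_mem _, (mul_one y).symm⟩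

/-- the supplement is extraspecial, with centre `⟨z⟩`. -/
theorem supplement_props (h : CritCtx p P C c n) {E : Subgroup P} (hEC : E ≤ C)
    (hzE : Subgroup.zpowers (c ^ (p ^ (n - 1))) ≤ E)
    (hEZ : E ⊓ Subgroup.zpowers c ≤ Subgroup.zpowers (c ^ (p ^ (n - 1))))
    (hdec : ∀ y ∈ C, ∃ e ∈ E, ∃ ζ ∈ Subgroup.zpowers c, y = e * ζ) :
    E ⊓ Subgroup.centralizer (E : Set P) = Subgroup.zpowers (c ^ (p ^ (n - 1))) ∧
    (∀ x ∈ E, x ^ p ∈ Subgroup.zpowers (c ^ (p ^ (n - 1)))) ∧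
    ¬ E ≤ Subgroup.centralizer (E : Set P) := by
  have hcentC : ∀ g : P, g ∈ Subgroup.centralizer (E : Set P) →
      (∀ ζ ∈ Subgroup.zpowers c, g * ζ = ζ * g) → g ∈ Subgroup.centralizer (C : Set P) := by
    intro g hg hgZ
    rw [Subgroup.mem_centralizer_iff] at hg ⊢
    intro y hy
    obtain ⟨e, he, ζ, hζ, rfl⟩ := hdec y hy
    have c1 : Commute g e := (hg e he).symm
    have c2 : Commute g ζ := hgZ ζ hζ
    exact ((c1.mul_right c2).eq).symm
  refine ⟨?_, ?_, ?_⟩
  · apply le_antisymm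
    · intro g hg
      rw [Subgroup.mem_inf] at hg
      apply hEZ
      rw [Subgroup.mem_inf]
      refine ⟨hg.1, ?_⟩
      rw [← h.center, Subgroup.mem_inf]
      exact ⟨hEC hg.1, hcentC g hg.2 (fun ζ hζ => h.Z_comm hζ (hEC hg.1))⟩
    · intro ζ hζ
      rw [Subgroup.mem_inf, Subgroup.mem_centralizer_iff]
      exact ⟨hzE hζ, fun y _ => h.zz_central hζ y⟩
  · intro x hx
    apply hEZ
    rw [Subgroup.mem_inf]
    exact ⟨E.pow_mem hx p, h.pow x (hEC hx)⟩
  · intro hab
    apply h.nonab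
    intro y hy
    obtain ⟨e, he, ζ, hζ, rfl⟩ := hdec y hy
    apply hcentC
    · rw [Subgroup.mem_centralizer_iff]
      intro e' he'
      have c1 : Commute e' e := by
        have := hab he
        rw [Subgroup.mem_centralizer_iff] at this
        exact this e' he'
      have c2 : Commute e' ζ := h.Z_comm hζ (hEC he')
      exact (c1.mul_right c2).eq
    · intro ζ' hζ'
      have c1 : Commute e ζ' := h.Z_comm hζ' (hEC he)
      have c2 : Commute ζ ζ' := h.Z_comm hζ' (h.Z_le hζ)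
      exact (c1.mul_left c2).eq

end CritCtx

/-- `CritCtx` together with an extraspecial supplement `E` of `Z` in `C`. -/
structure ECtx (p : ℕ) (P : Type*) [Group P] [Finite P] (C : Subgroup P) (c : P) (n : ℕ)
    (E : Subgroup P) : Prop where
  crit : CritCtx p P C c n
  EC : E ≤ C
  zE : Subgroup.zpowers (c ^ (p ^ (n - 1))) ≤ E
  cenE : E ⊓ Subgroup.centralizer (E : Set P) = Subgroup.zpowers (c ^ (p ^ (n - 1)))
  powE : ∀ x ∈ E, x ^ p ∈ Subgroup.zpowers (c ^ (p ^ (n - 1)))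
  nabE : ¬ E ≤ Subgroup.centralizer (E : Set P)
  dec : ∀ y ∈ C, ∃ e ∈ E, ∃ ζ ∈ Subgroup.zpowers c, y = e * ζ

theorem CritCtx.exists_ECtx {p : ℕ} [hp : Fact p.Prime] {P : Type*} [Group P] [Finite P]
    {C : Subgroup P} {c : P} {n : ℕ} (h : CritCtx p P C c n) : ∃ E : Subgroup P, ECtx p P C c n E := by
  obtain ⟨E, hEC, hzE, hEZ, hdec⟩ := h.exists_supplement
  obtain ⟨h1, h2, h3⟩ := h.supplement_props hEC hzE hEZ hdec
  exact ⟨E, ⟨h, hEC, hzE, h1, h2, h3, hdec⟩⟩

namespace ECtx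

variable {p : ℕ} [hp : Fact p.Prime] {P : Type*} [Group P] [Finite P] {C : Subgroup P} {c : P}
  {n : ℕ} {E : Subgroup P}

theorem commPE (h : ECtx p P C c n E) (g : P) {e : P} (he : e ∈ E) :
    g * e * g⁻¹ * e⁻¹ ∈ Subgroup.zpowers (c ^ (p ^ (n - 1))) :=
  h.crit.commP (h.EC he) (h.powE e he) g

/-- `P = E · C_P(E)` -/
theorem decP (h : ECtx p P C c n E) (g : P) :
    ∃ e ∈ E, ∃ r ∈ Subgroup.centralizer (E : Set P), g = e * r :=
  exists_mul_centralizer hp.out h.crit.orderOf_z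
    (fun s => h.crit.zz_central (Subgroup.mem_zpowers _) s) _ E rfl h.cenE
    (fun g e he => h.commPE g he) g

theorem isExtraspecial (h : ECtx p P C c n E) : Cfsg.IsExtraspecial p ↥E := by
  have hcard : Nat.card (Subgroup.zpowers (c ^ (p ^ (n - 1)))) = p := by
    rw [Nat.card_zpowers, h.crit.orderOf_z]
  exact H27.isExtraspecial_subgroup p E _ (h.crit.hP.to_subgroup E) h.zE hcard h.cenE
    (h.crit.commutator_eq_zz h.EC h.nabE) h.powE

theorem sup_eq_top (h : ECtx p P C c n E) : E ⊔ Subgroup.centralizer (E : Set P) = ⊤ := by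
  rw [eq_top_iff]
  intro g _
  obtain ⟨e, he, r, hr, rfl⟩ := h.decP g
  exact Subgroup.mul_mem _ (le_sup_left (a := E) he)
    (le_sup_right (b := Subgroup.centralizer (E : Set P)) hr)

theorem Z_le_R (h : ECtx p P C c n E) :
    Subgroup.zpowers c ≤ Subgroup.centralizer (E : Set P) := by
  intro ζ hζ
  rw [Subgroup.mem_centralizer_iff]
  intro e he
  exact h.crit.Z_comm hζ (h.EC he)

/-- an element of `R = C_P(E)` commuting with `c` lies in `Z`. -/
theorem mem_Z_of_comm (h : ECtx p P C c n E) {r : P}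
    (hr : r ∈ Subgroup.centralizer (E : Set P)) (hrc : r * c = c * r) :
    r ∈ Subgroup.zpowers c := by
  have hcent : r ∈ Subgroup.centralizer (C : Set P) := by
    rw [Subgroup.mem_centralizer_iff] at hr ⊢
    intro y hy
    obtain ⟨e, he, ζ, hζ, rfl⟩ := h.dec y hy
    obtain ⟨i, rfl⟩ := Subgroup.mem_zpowers_iff.mp hζ
    have c1 : Commute r e := (hr e he).symm
    have c2 : Commute r (c ^ i) := (show Commute r c from hrc).zpow_right i
    exact ((c1.mul_right c2).eq).symm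
  rw [← h.crit.center, Subgroup.mem_inf]
  exact ⟨h.crit.cent_le hcent, hcent⟩

theorem mem_zpowers_mk_iff (h : ECtx p P C c n E)
    (x : ↥(Subgroup.centralizer (E : Set P))) :
    x ∈ Subgroup.zpowers (⟨c, h.Z_le_R (Subgroup.mem_zpowers c)⟩ :
      ↥(Subgroup.centralizer (E : Set P))) ↔ (x : P) ∈ Subgroup.zpowers c := by
  constructor
  · intro hx
    obtain ⟨i, rfl⟩ := Subgroup.mem_zpowers_iff.mp hx
    rw [Subgroup.coe_zpow]
    exact Subgroup.zpow_mem _ (Subgroup.mem_zpowers c) i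
  · intro hx
    obtain ⟨i, hi⟩ := Subgroup.mem_zpowers_iff.mp hx
    rw [Subgroup.mem_zpowers_iff]
    exact ⟨i, Subtype.ext (by rw [Subgroup.coe_zpow]; exact hi)⟩

/-- if `R ≠ Z` then `(R, c)` is a `CSC` configuration. -/
theorem csc (h : ECtx p P C c n E)
    (hRZ : ¬ Subgroup.centralizer (E : Set P) ≤ Subgroup.zpowers c) :
    CSC p ↥(Subgroup.centralizer (E : Set P))
      (⟨c, h.Z_le_R (Subgroup.mem_zpowers c)⟩ : ↥(Subgroup.centralizer (E : Set P))) n := by
  have hZchar := h.crit.Z_char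
  have hZn : (Subgroup.zpowers c).Normal := inferInstance
  refine ⟨h.crit.hP.to_subgroup _, ?_, ?_, ?_, ?_⟩
  · rw [Subgroup.orderOf_mk]; exact h.crit.ord
  · constructor
    intro g hg s
    rw [h.mem_zpowers_mk_iff] at hg ⊢
    simpa using hZn.conj_mem _ hg (s : P)
  · apply le_antisymm
    · intro s hs
      rw [h.mem_zpowers_mk_iff]
      apply h.mem_Z_of_comm s.2
      rw [Subgroup.mem_centralizer_iff] at hs
      have := hs _ (Subgroup.mem_zpowers _)
      exact (congrArg Subtype.val this).symm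
    · intro s hs
      rw [Subgroup.mem_centralizer_iff]
      intro g hg
      exact CSC.comm_of_mem hg hs
  · intro htop
    apply hRZ
    intro r hr
    have : (⟨r, hr⟩ : ↥(Subgroup.centralizer (E : Set P))) ∈ Subgroup.zpowers
        (⟨c, h.Z_le_R (Subgroup.mem_zpowers c)⟩ : ↥(Subgroup.centralizer (E : Set P))) := by
      rw [htop]; exact Subgroup.mem_top _
    exact (h.mem_zpowers_mk_iff _).mp this

end ECtx

namespace CritCtx

variable {p : ℕ} [hp : Fact p.Prime] {P : Type*} [Group P] [Finite P] {C : Subgroup P} {c : P}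
  {n : ℕ}

theorem comm_c_mem (h : CritCtx p P C c n) (m : P) : m * c * m⁻¹ * c⁻¹ ∈ Subgroup.zpowers c :=
  h.comm c h.c_mem m

theorem conj_pow_Z (h : CritCtx p P C c n) (m : P) (k : ℕ) :
    m * c ^ k * m⁻¹ = (m * c * m⁻¹ * c⁻¹) ^ k * c ^ k := by
  have hc : Commute (m * c * m⁻¹ * c⁻¹) c :=
    CSC.comm_of_mem (h.comm_c_mem m) (Subgroup.mem_zpowers c)
  rw [← hc.mul_pow, ← conj_pow]
  congr 1
  group

theorem comm_c_mem_zz_iff (h : CritCtx p P C c n) (m : P) :
    m * c * m⁻¹ * c⁻¹ ∈ Subgroup.zpowers (c ^ (p ^ (n - 1))) ↔ m * c ^ p = c ^ p * m := by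
  have e := h.conj_pow_Z m p
  constructor
  · intro hm
    rw [h.zz_pow hm, one_mul] at e
    calc m * c ^ p = m * c ^ p * m⁻¹ * m := by group
      _ = c ^ p * m := by rw [e]
  · intro hm
    apply h.mem_zz (h.comm_c_mem m)
    have : m * c ^ p * m⁻¹ = c ^ p := by rw [hm]; group
    rw [this] at e
    exact mul_eq_right.mp e.symm

/-- if `[m, c] ∈ ⟨z⟩` then `[m, ζ] ∈ ⟨z⟩` for all `ζ ∈ Z`. -/
theorem comm_Z_mem_zz (h : CritCtx p P C c n) {m : P}
    (hm : m * c * m⁻¹ * c⁻¹ ∈ Subgroup.zpowers (c ^ (p ^ (n - 1)))) {ζ : P}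
    (hζ : ζ ∈ Subgroup.zpowers c) :
    m * ζ * m⁻¹ * ζ⁻¹ ∈ Subgroup.zpowers (c ^ (p ^ (n - 1))) := by
  have hfin : IsOfFinOrder c := by
    rw [← orderOf_pos_iff, h.ord]; exact pow_pos hp.out.pos _
  rw [← hfin.mem_powers_iff_mem_zpowers] at hζ
  obtain ⟨i, rfl⟩ := hζ
  show m * c ^ i * m⁻¹ * (c ^ i)⁻¹ ∈ _
  rw [h.conj_pow_Z m i, mul_inv_cancel_right]
  exact Subgroup.pow_mem _ hm i

/-- `[t^j, c] = [t, c]^j` when `[t, c]` is central. -/
theorem comm_pow_c (h : CritCtx p P C c n) {t : P}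
    (ht : t * c * t⁻¹ * c⁻¹ ∈ Subgroup.zpowers (c ^ (p ^ (n - 1)))) (j : ℕ) :
    t ^ j * c * (t ^ j)⁻¹ * c⁻¹ = (t * c * t⁻¹ * c⁻¹) ^ j := by
  induction j with
  | zero => simp
  | succ j ih =>
    have hcen := h.zz_central (Subgroup.pow_mem _ ht j) t
    calc t ^ (j + 1) * c * (t ^ (j + 1))⁻¹ * c⁻¹
        = t * (t ^ j * c * (t ^ j)⁻¹ * c⁻¹) * c * t⁻¹ * c⁻¹ := by rw [pow_succ']; group
      _ = t * (t * c * t⁻¹ * c⁻¹) ^ j * c * t⁻¹ * c⁻¹ := by rw [ih]
      _ = (t * c * t⁻¹ * c⁻¹) ^ j * t * c * t⁻¹ * c⁻¹ := by rw [hcen]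
      _ = _ := by rw [pow_succ]; group

end CritCtx

section commhelpers

variable {P : Type*} [Group P]

/-- `[ab, c] = [b,c][a,c]` when `[b,c]` commutes with `a`. -/
theorem comm_mul_of_comm {a b c : P} (hb : Commute a (b * c * b⁻¹ * c⁻¹)) :
    (a * b) * c * (a * b)⁻¹ * c⁻¹ = (b * c * b⁻¹ * c⁻¹) * (a * c * a⁻¹ * c⁻¹) := by
  calc (a * b) * c * (a * b)⁻¹ * c⁻¹ = (a * (b * c * b⁻¹ * c⁻¹)) * c * a⁻¹ * c⁻¹ := by group
    _ = ((b * c * b⁻¹ * c⁻¹) * a) * c * a⁻¹ * c⁻¹ := by rw [hb.eq]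
    _ = _ := by group

/-- `[b⁻¹, c] = [b,c]⁻¹` when `[b,c]` commutes with `b`. -/
theorem comm_inv_of_comm {b c : P} (hb : Commute b (b * c * b⁻¹ * c⁻¹)) :
    b⁻¹ * c * b⁻¹⁻¹ * c⁻¹ = (b * c * b⁻¹ * c⁻¹)⁻¹ := by
  have h1 : b⁻¹ * (b * c * b⁻¹ * c⁻¹)⁻¹ * b = (b * c * b⁻¹ * c⁻¹)⁻¹ := by
    have := hb.inv_right.eq
    calc b⁻¹ * (b * c * b⁻¹ * c⁻¹)⁻¹ * b = b⁻¹ * ((b * c * b⁻¹ * c⁻¹)⁻¹ * b) := by group
      _ = b⁻¹ * (b * (b * c * b⁻¹ * c⁻¹)⁻¹) := by rw [← this]
      _ = _ := by group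
  rw [← h1]
  group

end commhelpers

namespace ECtx

variable {p : ℕ} [hp : Fact p.Prime] {P : Type*} [Group P] [Finite P] {C : Subgroup P} {c : P}
  {n : ℕ} {E : Subgroup P}

/-- for `|Z| ≥ p³` no element of order `p` of `R ∖ Z` centralizes `c^p`. -/
theorem no_modular (h : ECtx p P C c n E) (hn3 : 3 ≤ n) {t : P}
    (htR : t ∈ Subgroup.centralizer (E : Set P)) (htp : t ^ p = 1)
    (htc : t * c ^ p = c ^ p * t) (htZ : t ∉ Subgroup.zpowers c) : False := by
  have hc := h.crit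
  have hCchar := hc.char
  have hZchar := hc.Z_char
  have hw0 : t * c * t⁻¹ * c⁻¹ ∈ Subgroup.zpowers (c ^ (p ^ (n - 1))) :=
    (hc.comm_c_mem_zz_iff t).mpr htc
  have hw0ne : t * c * t⁻¹ * c⁻¹ ≠ 1 := by
    intro e
    apply htZ
    apply h.mem_Z_of_comm htR
    calc t * c = (t * c * t⁻¹ * c⁻¹) * c * t := by group
      _ = c * t := by rw [e, one_mul]
  have hzchar : ∀ φ : P ≃* P, ∀ ζ ∈ Subgroup.zpowers (c ^ (p ^ (n - 1))),
      φ ζ ∈ Subgroup.zpowers (c ^ (p ^ (n - 1))) := by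
    intro φ ζ hζ
    apply hc.mem_zz
    · have := (Subgroup.characteristic_iff_map_le.mp hZchar) φ
      exact this (Subgroup.mem_map_of_mem _ (hc.zz_le hζ))
    · rw [← map_pow, hc.zz_pow hζ, map_one]
  let S : Set P := {x | (∀ y ∈ C, x * y * x⁻¹ * y⁻¹ ∈ Subgroup.zpowers (c ^ (p ^ (n - 1)))) ∧
    x ^ p = 1}
  have hBchar : (Subgroup.closure S).Characteristic := by
    rw [Subgroup.characteristic_iff_map_le]
    intro φ
    rw [MonoidHom.map_closure, Subgroup.closure_le]
    rintro _ ⟨x, hx, rfl⟩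
    apply Subgroup.subset_closure
    refine ⟨?_, ?_⟩
    · intro y hy
      have hy' : φ.symm y ∈ C := by
        have := (Subgroup.characteristic_iff_map_le.mp hCchar) φ.symm
        exact this (Subgroup.mem_map_of_mem _ hy)
      have h1 := hzchar φ _ (hx.1 _ hy')
      have e : φ.toMonoidHom x * y * (φ.toMonoidHom x)⁻¹ * y⁻¹ =
          φ (x * φ.symm y * x⁻¹ * (φ.symm y)⁻¹) := by simp
      rw [e]; exact h1
    · show (φ x) ^ p = 1
      rw [← map_pow, hx.2, map_one]
  have hAchar : (Subgroup.closure S ⊓ Subgroup.centralizer (Subgroup.closure S : Set P)).Characteristic :=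
    inferInstance
  have hAcomm : IsMulCommutative
      ↥(Subgroup.closure S ⊓ Subgroup.centralizer (Subgroup.closure S : Set P)) := by
    refine ⟨⟨fun a b => Subtype.ext ?_⟩⟩
    have ha := (Subgroup.mem_inf.mp a.2).1
    have hb := (Subgroup.mem_inf.mp b.2).2
    rw [Subgroup.mem_centralizer_iff] at hb
    exact hb a ha
  have hAcyc := hc.hsymp _ hAchar hAcomm
  -- z ∈ A
  have hzS : c ^ (p ^ (n - 1)) ∈ S := by
    refine ⟨fun y _ => ?_, hc.z_pow⟩
    rw [← hc.zz_central (Subgroup.mem_zpowers _) y]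
    have : y * c ^ (p ^ (n - 1)) * (c ^ (p ^ (n - 1)))⁻¹ * y⁻¹ = 1 := by group
    rw [this]; exact Subgroup.one_mem _
  have hzA : c ^ (p ^ (n - 1)) ∈
      Subgroup.closure S ⊓ Subgroup.centralizer (Subgroup.closure S : Set P) := by
    rw [Subgroup.mem_inf, Subgroup.mem_centralizer_iff]
    exact ⟨Subgroup.subset_closure hzS, fun y _ => hc.zz_central (Subgroup.mem_zpowers _) y⟩
  -- t ∈ S
  have htE : ∀ e ∈ E, e * t = t * e := by
    rw [Subgroup.mem_centralizer_iff] at htR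
    exact htR
  have htS : t ∈ S := by
    refine ⟨fun y hy => ?_, htp⟩
    obtain ⟨e, he, ζ, hζ, rfl⟩ := h.dec y hy
    have h1 := hc.comm_Z_mem_zz hw0 hζ
    have h2 := hc.zz_central h1 e
    have h3 := htE e he
    have : t * (e * ζ) * t⁻¹ * (e * ζ)⁻¹ = t * ζ * t⁻¹ * ζ⁻¹ := by
      calc t * (e * ζ) * t⁻¹ * (e * ζ)⁻¹ = (t * e) * (ζ * t⁻¹ * ζ⁻¹) * e⁻¹ := by group
        _ = (e * t) * (ζ * t⁻¹ * ζ⁻¹) * e⁻¹ := by rw [h3]
        _ = (e * (t * ζ * t⁻¹ * ζ⁻¹)) * e⁻¹ := by group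
        _ = ((t * ζ * t⁻¹ * ζ⁻¹) * e) * e⁻¹ := by rw [h2]
        _ = _ := by group
    rw [this]; exact h1
  -- t centralizes S
  have htcent : ∀ x ∈ S, x * t = t * x := by
    intro x hx
    obtain ⟨e, he, r, hr, rfl⟩ := h.decP x
    have hre : ∀ e' ∈ E, e' * r = r * e' := by
      rw [Subgroup.mem_centralizer_iff] at hr
      exact hr
    -- [r, c] ∈ ⟨z⟩
    have hwr : r * c * r⁻¹ * c⁻¹ ∈ Subgroup.zpowers (c ^ (p ^ (n - 1))) := by
      have h1 := hx.1 c hc.c_mem
      have hwZ := hc.comm_c_mem r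
      have h2 : e * (r * c * r⁻¹ * c⁻¹) = (r * c * r⁻¹ * c⁻¹) * e := hc.Z_comm hwZ (h.EC he)
      have h3 : e * c = c * e := hc.Z_comm (Subgroup.mem_zpowers c) (h.EC he)
      have : e * r * c * (e * r)⁻¹ * c⁻¹ = r * c * r⁻¹ * c⁻¹ := by
        calc e * r * c * (e * r)⁻¹ * c⁻¹ = (e * (r * c * r⁻¹ * c⁻¹)) * c * e⁻¹ * c⁻¹ := by group
          _ = ((r * c * r⁻¹ * c⁻¹) * e) * c * e⁻¹ * c⁻¹ := by rw [h2]
          _ = (r * c * r⁻¹ * c⁻¹) * (e * c) * e⁻¹ * c⁻¹ := by group
          _ = (r * c * r⁻¹ * c⁻¹) * (c * e) * e⁻¹ * c⁻¹ := by rw [h3]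
          _ = _ := by group
      rwa [this] at h1
    -- r^p ∈ ⟨z⟩
    have hrp : r ^ p ∈ Subgroup.zpowers (c ^ (p ^ (n - 1))) := by
      have hcomm : Commute e r := hre e he
      have h1 := hx.2
      rw [hcomm.mul_pow] at h1
      have : r ^ p = (e ^ p)⁻¹ := eq_inv_of_mul_eq_one_right h1
      rw [this]
      exact Subgroup.inv_mem _ (h.powE e he)
    -- [r,c] = [t,c]^j
    have hcard : Nat.card (Subgroup.zpowers (c ^ (p ^ (n - 1)))) = p := by
      rw [Nat.card_zpowers, hc.orderOf_z]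
    have hmem := mem_powers_of_prime_card hcard
      (g := (⟨_, hw0⟩ : Subgroup.zpowers (c ^ (p ^ (n - 1))))) (g' := ⟨_, hwr⟩)
      (fun e1 => hw0ne (by simpa using congrArg Subtype.val e1))
    obtain ⟨j, hj⟩ := hmem
    have hj' : (t * c * t⁻¹ * c⁻¹) ^ j = r * c * r⁻¹ * c⁻¹ := by
      simpa using congrArg Subtype.val hj
    have hTc := hc.comm_pow_c hw0 j
    rw [hj'] at hTc
    -- ζ = r T⁻¹ commutes with c
    have hTcen : Commute (t ^ j) (t ^ j * c * (t ^ j)⁻¹ * c⁻¹) := by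
      rw [hTc]; exact hc.zz_central hwr _
    have hTinv := comm_inv_of_comm hTcen
    rw [hTc] at hTinv
    have hζc : (r * (t ^ j)⁻¹) * c = c * (r * (t ^ j)⁻¹) := by
      have h1 : Commute r ((t ^ j)⁻¹ * c * (t ^ j)⁻¹⁻¹ * c⁻¹) := by
        rw [hTinv]; exact hc.zz_central (Subgroup.inv_mem _ hwr) r
      have h2 := comm_mul_of_comm h1
      rw [hTinv, inv_mul_cancel] at h2
      calc (r * (t ^ j)⁻¹) * c = ((r * (t ^ j)⁻¹) * c * (r * (t ^ j)⁻¹)⁻¹ * c⁻¹) * c *
            (r * (t ^ j)⁻¹) := by group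
        _ = c * (r * (t ^ j)⁻¹) := by rw [h2, one_mul]
    have htjR : (t ^ j)⁻¹ ∈ Subgroup.centralizer (E : Set P) :=
      Subgroup.inv_mem _ (Subgroup.pow_mem _ htR j)
    have hζZ : r * (t ^ j)⁻¹ ∈ Subgroup.zpowers c :=
      h.mem_Z_of_comm (Subgroup.mul_mem _ hr htjR) hζc
    -- r = ζ T, compute r^p
    have hTw : t ^ j * c * (t ^ j)⁻¹ * c⁻¹ ∈ Subgroup.zpowers (c ^ (p ^ (n - 1))) := by
      rw [hTc]; exact hwr
    have hw' := hc.comm_Z_mem_zz hTw hζZ
    have hu : Commute (t ^ j * (r * (t ^ j)⁻¹) * (t ^ j)⁻¹ * (r * (t ^ j)⁻¹)⁻¹) (r * (t ^ j)⁻¹) :=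
      (hc.zz_central hw' _).symm
    have hv : Commute (t ^ j * (r * (t ^ j)⁻¹) * (t ^ j)⁻¹ * (r * (t ^ j)⁻¹)⁻¹) (t ^ j) :=
      (hc.zz_central hw' _).symm
    have hpow := mul_pow_of_comm hu hv p
    have hreq : r * (t ^ j)⁻¹ * t ^ j = r := by group
    rw [hreq] at hpow
    have hTp : (t ^ j) ^ p = 1 := by rw [← pow_mul, mul_comm, pow_mul, htp, one_pow]
    rw [hTp, mul_one] at hpow
    have hζp : (r * (t ^ j)⁻¹) ^ p ∈ Subgroup.zpowers (c ^ (p ^ (n - 1))) := by
      have : (r * (t ^ j)⁻¹) ^ p = r ^ p *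
          ((t ^ j * (r * (t ^ j)⁻¹) * (t ^ j)⁻¹ * (r * (t ^ j)⁻¹)⁻¹) ^ (p * (p - 1) / 2))⁻¹ := by
        rw [hpow]; group
      rw [this]
      exact Subgroup.mul_mem _ hrp (Subgroup.inv_mem _ (Subgroup.pow_mem _ hw' _))
    have hζpp : (r * (t ^ j)⁻¹) ^ (p ^ 2) = 1 := by
      rw [pow_two, pow_mul, hc.zz_pow hζp]
    have hζmem := mem_zpowers_pow_of_pow_eq_one hp.out.pos hc.ord (by omega : 2 ≤ n) hζZ hζpp
    have hle : Subgroup.zpowers (c ^ (p ^ (n - 2))) ≤ Subgroup.zpowers (c ^ p) := by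
      rw [Subgroup.zpowers_le]
      have e : p ^ (n - 2) = p * p ^ (n - 3) := by
        rw [← pow_succ']; congr 1; omega
      rw [e, pow_mul]
      exact Subgroup.pow_mem _ (Subgroup.mem_zpowers _) _
    obtain ⟨i, hi⟩ := Subgroup.mem_zpowers_iff.mp (hle hζmem)
    have htζ : Commute t (r * (t ^ j)⁻¹) := by
      rw [← hi]
      exact (show Commute t (c ^ p) from htc).zpow_right i
    have htr : Commute t r := by
      have h1 : Commute t (t ^ j) := (Commute.refl t).pow_right j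
      have := htζ.mul_right h1
      rwa [hreq] at this
    have hte : Commute t e := (htE e he).symm
    exact ((hte.mul_right htr).eq).symm
  have htA : t ∈ Subgroup.closure S ⊓ Subgroup.centralizer (Subgroup.closure S : Set P) := by
    rw [Subgroup.mem_inf]
    refine ⟨Subgroup.subset_closure htS, ?_⟩
    have hle : Subgroup.closure S ≤ Subgroup.centralizer ({t} : Set P) := by
      rw [Subgroup.closure_le]
      intro x hx
      rw [SetLike.mem_coe, Subgroup.mem_centralizer_iff]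
      intro u hu
      rw [Set.mem_singleton_iff] at hu
      subst hu
      exact (htcent x hx).symm
    rw [Subgroup.mem_centralizer_iff]
    intro b hb
    have := hle hb
    rw [Subgroup.mem_centralizer_iff] at this
    exact (this t rfl).symm
  -- conclusion
  have hord : orderOf (⟨_, hzA⟩ : ↥(Subgroup.closure S ⊓
      Subgroup.centralizer (Subgroup.closure S : Set P))) = p := by
    rw [Subgroup.orderOf_mk _ hzA]
    exact hc.orderOf_z
  have hmem := @mem_zpowers_of_pow_eq_one_of_isCyclic p _ _ _ hAcyc hp.out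
    (⟨_, hzA⟩ : ↥(Subgroup.closure S ⊓ Subgroup.centralizer (Subgroup.closure S : Set P)))
    ⟨t, htA⟩ hord (Subtype.ext (by simpa using htp))
  obtain ⟨k, hk⟩ := Subgroup.mem_zpowers_iff.mp hmem
  have hk' : (c ^ (p ^ (n - 1))) ^ k = t := by simpa using congrArg Subtype.val hk
  apply htZ
  rw [← hk']
  exact Subgroup.zpow_mem _ (hc.zz_le (Subgroup.mem_zpowers _)) k

end ECtx

namespace ECtx

variable {p : ℕ} [hp : Fact p.Prime] {P : Type*} [Group P] [Finite P] {C : Subgroup P} {c : P}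
  {n : ℕ} {E : Subgroup P}

/-- reduction of an element of `R` modulo `Z` to a power of a fixed `t ∈ R ∖ Z`. -/
theorem exists_pow_mul_mem_Z (h : ECtx p P C c n E) {t r : P}
    (htR : t ∈ Subgroup.centralizer (E : Set P)) (hrR : r ∈ Subgroup.centralizer (E : Set P))
    (hw0 : t * c * t⁻¹ * c⁻¹ ∈ Subgroup.zpowers (c ^ (p ^ (n - 1))))
    (hw0ne : t * c * t⁻¹ * c⁻¹ ≠ 1)
    (hwr : r * c * r⁻¹ * c⁻¹ ∈ Subgroup.zpowers (c ^ (p ^ (n - 1)))) :
    ∃ j : ℕ, r * (t ^ j)⁻¹ ∈ Subgroup.zpowers c := by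
  have hc := h.crit
  have hcard : Nat.card (Subgroup.zpowers (c ^ (p ^ (n - 1)))) = p := by
    rw [Nat.card_zpowers, hc.orderOf_z]
  have hmem := mem_powers_of_prime_card hcard
    (g := (⟨_, hw0⟩ : Subgroup.zpowers (c ^ (p ^ (n - 1))))) (g' := ⟨_, hwr⟩)
    (fun e1 => hw0ne (by simpa using congrArg Subtype.val e1))
  obtain ⟨j, hj⟩ := hmem
  have hj' : (t * c * t⁻¹ * c⁻¹) ^ j = r * c * r⁻¹ * c⁻¹ := by
    simpa using congrArg Subtype.val hj
  have hTc := hc.comm_pow_c hw0 j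
  rw [hj'] at hTc
  have hTcen : Commute (t ^ j) (t ^ j * c * (t ^ j)⁻¹ * c⁻¹) := by
    rw [hTc]; exact hc.zz_central hwr _
  have hTinv := comm_inv_of_comm hTcen
  rw [hTc] at hTinv
  have hζc : (r * (t ^ j)⁻¹) * c = c * (r * (t ^ j)⁻¹) := by
    have h1 : Commute r ((t ^ j)⁻¹ * c * (t ^ j)⁻¹⁻¹ * c⁻¹) := by
      rw [hTinv]; exact hc.zz_central (Subgroup.inv_mem _ hwr) r
    have h2 := comm_mul_of_comm h1
    rw [hTinv, inv_mul_cancel] at h2
    calc (r * (t ^ j)⁻¹) * c = ((r * (t ^ j)⁻¹) * c * (r * (t ^ j)⁻¹)⁻¹ * c⁻¹) * c *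
          (r * (t ^ j)⁻¹) := by group
      _ = c * (r * (t ^ j)⁻¹) := by rw [h2, one_mul]
  have htjR : (t ^ j)⁻¹ ∈ Subgroup.centralizer (E : Set P) :=
    Subgroup.inv_mem _ (Subgroup.pow_mem _ htR j)
  exact ⟨j, h.mem_Z_of_comm (Subgroup.mul_mem _ hrR htjR) hζc⟩

open scoped commutatorElement in
/-- the case `|Z| = p²`, `R ≠ Z`: then `P` itself is extraspecial. -/
theorem isExtraspecial_top (h : ECtx p P C c n E) (hn : n = 2)
    (hRZ : ¬ Subgroup.centralizer (E : Set P) ≤ Subgroup.zpowers c) :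
    Cfsg.IsExtraspecial p ↥(⊤ : Subgroup P) := by
  have hc := h.crit
  have hzp : c ^ (p ^ (n - 1)) = c ^ p := by subst hn; norm_num
  have hgc : ∀ g : P, g * c * g⁻¹ * c⁻¹ ∈ Subgroup.zpowers (c ^ (p ^ (n - 1))) := by
    intro g
    rw [hc.comm_c_mem_zz_iff, ← hzp]
    exact hc.zz_central (Subgroup.mem_zpowers _) g
  obtain ⟨t, htR, htZ⟩ := SetLike.not_le_iff_exists.mp hRZ
  have hne : ∀ r ∈ Subgroup.centralizer (E : Set P), r ∉ Subgroup.zpowers c →
      r * c * r⁻¹ * c⁻¹ ≠ 1 := by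
    intro r hr hrZ e
    apply hrZ
    apply h.mem_Z_of_comm hr
    calc r * c = (r * c * r⁻¹ * c⁻¹) * c * r := by group
      _ = c * r := by rw [e, one_mul]
  have hZt : ∀ r ∈ Subgroup.centralizer (E : Set P), r ∉ Subgroup.zpowers c →
      ∀ ζ ∈ Subgroup.zpowers c, r * ζ = ζ * r → ζ ∈ Subgroup.zpowers (c ^ (p ^ (n - 1))) := by
    intro r hr hrZ ζ hζ hcomm
    have hfin : IsOfFinOrder c := by
      rw [← orderOf_pos_iff, hc.ord]; exact pow_pos hp.out.pos _
    rw [← hfin.mem_powers_iff_mem_zpowers] at hζ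
    obtain ⟨i, rfl⟩ := hζ
    have e := hc.conj_pow_Z r i
    have e2 : r * c ^ i * r⁻¹ = c ^ i := by rw [hcomm]; group
    rw [e2] at e
    have hwi : (r * c * r⁻¹ * c⁻¹) ^ i = 1 := mul_eq_right.mp e.symm
    have hord : orderOf (r * c * r⁻¹ * c⁻¹) = p :=
      orderOf_eq_prime (hc.zz_pow (hgc r)) (hne r hr hrZ)
    have hdvd : p ∣ i := by rw [← hord]; exact orderOf_dvd_of_pow_eq_one hwi
    obtain ⟨k, rfl⟩ := hdvd
    rw [hzp]
    show c ^ (p * k) ∈ _
    rw [pow_mul]
    exact Subgroup.pow_mem _ (Subgroup.mem_zpowers _) k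
  have hRpow : ∀ r ∈ Subgroup.centralizer (E : Set P),
      r ^ p ∈ Subgroup.zpowers (c ^ (p ^ (n - 1))) := by
    intro r hr
    by_cases hrZ : r ∈ Subgroup.zpowers c
    · obtain ⟨i, rfl⟩ := Subgroup.mem_zpowers_iff.mp hrZ
      have e : (c ^ i) ^ p = (c ^ p) ^ i := by
        rw [← zpow_natCast (c ^ i) p, ← zpow_mul, mul_comm, zpow_mul, zpow_natCast]
      rw [hzp, e]
      exact Subgroup.zpow_mem _ (Subgroup.mem_zpowers _) i
    · have h1 := hc.comm_pow_c (hgc r) p
      rw [hc.zz_pow (hgc r)] at h1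
      have h2 : r ^ p * c = c * r ^ p := by
        calc r ^ p * c = (r ^ p * c * (r ^ p)⁻¹ * c⁻¹) * c * r ^ p := by group
          _ = c * r ^ p := by rw [h1, one_mul]
      have h3 := h.mem_Z_of_comm (Subgroup.pow_mem _ hr p) h2
      exact hZt r hr hrZ _ h3 ((Commute.refl r).pow_right p).eq
  have hNn : (Subgroup.zpowers (c ^ (p ^ (n - 1)))).Normal := hc.zz_normal
  have hπ : ∀ a b : P, a * b * a⁻¹ * b⁻¹ ∈ Subgroup.zpowers (c ^ (p ^ (n - 1))) →
      Commute (QuotientGroup.mk' (Subgroup.zpowers (c ^ (p ^ (n - 1)))) a)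
        (QuotientGroup.mk' (Subgroup.zpowers (c ^ (p ^ (n - 1)))) b) := by
    intro a b hab
    have h1 : QuotientGroup.mk' (Subgroup.zpowers (c ^ (p ^ (n - 1)))) (a * b * a⁻¹ * b⁻¹) = 1 :=
      (QuotientGroup.eq_one_iff _).mpr hab
    rw [map_mul, map_mul, map_mul, map_inv, map_inv] at h1
    apply commutatorElement_eq_one_iff_commute.mp
    rw [commutatorElement_def]; exact h1
  have hπ' : ∀ a b : P, Commute (QuotientGroup.mk' (Subgroup.zpowers (c ^ (p ^ (n - 1)))) a)
        (QuotientGroup.mk' (Subgroup.zpowers (c ^ (p ^ (n - 1)))) b) →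
        a * b * a⁻¹ * b⁻¹ ∈ Subgroup.zpowers (c ^ (p ^ (n - 1))) := by
    intro a b hab
    have h1 : QuotientGroup.mk' (Subgroup.zpowers (c ^ (p ^ (n - 1)))) (a * b * a⁻¹ * b⁻¹) = 1 := by
      rw [map_mul, map_mul, map_mul, map_inv, map_inv, ← commutatorElement_def]
      exact commutatorElement_eq_one_iff_commute.mpr hab
    exact (QuotientGroup.eq_one_iff _).mp h1
  have hZcen : ∀ ζ ∈ Subgroup.zpowers c, ∀ m : P,
      Commute (QuotientGroup.mk' (Subgroup.zpowers (c ^ (p ^ (n - 1)))) m)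
        (QuotientGroup.mk' (Subgroup.zpowers (c ^ (p ^ (n - 1)))) ζ) :=
    fun ζ hζ m => hπ m ζ (hc.comm_Z_mem_zz (hgc m) hζ)
  have hRR : ∀ r ∈ Subgroup.centralizer (E : Set P), ∀ r' ∈ Subgroup.centralizer (E : Set P),
      Commute (QuotientGroup.mk' (Subgroup.zpowers (c ^ (p ^ (n - 1)))) r)
        (QuotientGroup.mk' (Subgroup.zpowers (c ^ (p ^ (n - 1)))) r') := by
    intro r hr r' hr'
    obtain ⟨j, hj⟩ := h.exists_pow_mul_mem_Z htR hr (hgc t) (hne t htR htZ) (hgc r)
    obtain ⟨j', hj'⟩ := h.exists_pow_mul_mem_Z htR hr' (hgc t) (hne t htR htZ) (hgc r')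
    have e1 : QuotientGroup.mk' (Subgroup.zpowers (c ^ (p ^ (n - 1)))) r =
        QuotientGroup.mk' (Subgroup.zpowers (c ^ (p ^ (n - 1)))) (r * (t ^ j)⁻¹) *
        QuotientGroup.mk' (Subgroup.zpowers (c ^ (p ^ (n - 1)))) (t ^ j) := by
      rw [← map_mul]; congr 1; group
    have e2 : QuotientGroup.mk' (Subgroup.zpowers (c ^ (p ^ (n - 1)))) r' =
        QuotientGroup.mk' (Subgroup.zpowers (c ^ (p ^ (n - 1)))) (r' * (t ^ j')⁻¹) *
        QuotientGroup.mk' (Subgroup.zpowers (c ^ (p ^ (n - 1)))) (t ^ j') := by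
      rw [← map_mul]; congr 1; group
    rw [e1, e2]
    have cA := fun m => (hZcen _ hj m).symm
    have cA' := fun m => hZcen _ hj' m
    have cT := ((Commute.refl t).pow_pow j j').map
      (QuotientGroup.mk' (Subgroup.zpowers (c ^ (p ^ (n - 1)))))
    exact Commute.mul_left (Commute.mul_right (cA _) (cA _)) (Commute.mul_right (cA' _) cT)
  have hall : ∀ x y : P, Commute (QuotientGroup.mk' (Subgroup.zpowers (c ^ (p ^ (n - 1)))) x)
        (QuotientGroup.mk' (Subgroup.zpowers (c ^ (p ^ (n - 1)))) y) := by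
    intro x y
    obtain ⟨e, he, r, hr, rfl⟩ := h.decP x
    obtain ⟨e', he', r', hr', rfl⟩ := h.decP y
    rw [map_mul, map_mul]
    have c1 := hπ e e' (h.commPE e he')
    have c2 := (show Commute e r' from (Subgroup.mem_centralizer_iff.mp hr') e he).map
      (QuotientGroup.mk' (Subgroup.zpowers (c ^ (p ^ (n - 1)))))
    have c3 := (show Commute r e' from ((Subgroup.mem_centralizer_iff.mp hr) e' he').symm).map
      (QuotientGroup.mk' (Subgroup.zpowers (c ^ (p ^ (n - 1)))))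
    have c4 := hRR r hr r' hr'
    exact Commute.mul_left (Commute.mul_right c1 c2) (Commute.mul_right c3 c4)
  have hpow : ∀ x ∈ (⊤ : Subgroup P), x ^ p ∈ Subgroup.zpowers (c ^ (p ^ (n - 1))) := by
    intro x _
    obtain ⟨e, he, r, hr, rfl⟩ := h.decP x
    have : Commute e r := (Subgroup.mem_centralizer_iff.mp hr) e he
    rw [this.mul_pow]
    exact Subgroup.mul_mem _ (h.powE e he) (hRpow r hr)
  have hcen : ∀ x : P, (∀ y, y * x = x * y) → x ∈ Subgroup.zpowers (c ^ (p ^ (n - 1))) := by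
    intro x hx
    have hxC : x ∈ Subgroup.centralizer (C : Set P) := by
      rw [Subgroup.mem_centralizer_iff]; intro y _; exact hx y
    have hxZ : x ∈ Subgroup.zpowers c := by
      rw [← hc.center]; exact ⟨hc.cent_le hxC, hxC⟩
    exact hZt t htR htZ x hxZ (hx t)
  have hcard : Nat.card (Subgroup.zpowers (c ^ (p ^ (n - 1)))) = p := by
    rw [Nat.card_zpowers, hc.orderOf_z]
  apply H27.isExtraspecial_subgroup p ⊤ _ (hc.hP.to_subgroup ⊤) le_top hcard ?_ ?_ hpow
  · rw [Subgroup.coe_top, Subgroup.centralizer_univ, top_inf_eq]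
    apply le_antisymm
    · intro x hx
      exact hcen x (Subgroup.mem_center_iff.mp hx)
    · intro ζ hζ
      rw [Subgroup.mem_center_iff]
      intro y
      exact hc.zz_central hζ y
  · apply le_antisymm
    · rw [Subgroup.commutator_le]
      intro x _ y _
      rw [commutatorElement_def]
      exact hπ' x y (hall x y)
    · rw [← hc.commutator_eq_zz h.EC h.nabE]
      exact Subgroup.commutator_mono le_top le_top

end ECtx

namespace ECtx

variable {p : ℕ} [hp : Fact p.Prime] {P : Type*} [Group P] [Finite P] {C : Subgroup P} {c : P}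
  {n : ℕ} {E : Subgroup P}

/-- the conclusion of P. Hall's theorem in the non-abelian critical subgroup case. -/
theorem conclusion (h : ECtx p P C c n E) :
    ∃ E' R' : Subgroup P, (∀ e ∈ E', ∀ r ∈ R', e * r = r * e) ∧ E' ⊔ R' = ⊤ ∧
      (E' = ⊥ ∨ Cfsg.IsExtraspecial p ↥E') ∧
      (IsCyclic R' ∨ (p = 2 ∧ ∃ (m : ℕ) (a y : ↥R'), 1 ≤ m ∧ H22.MaxClassData ↥R' m a y)) := by
  have hc := h.crit
  have hER : ∀ e ∈ E, ∀ r ∈ Subgroup.centralizer (E : Set P), e * r = r * e := by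
    intro e he r hr
    exact (Subgroup.mem_centralizer_iff.mp hr) e he
  by_cases hRZ : Subgroup.centralizer (E : Set P) ≤ Subgroup.zpowers c
  · have hReq : Subgroup.centralizer (E : Set P) = Subgroup.zpowers c :=
      le_antisymm hRZ h.Z_le_R
    refine ⟨E, Subgroup.centralizer (E : Set P), hER, h.sup_eq_top, Or.inr h.isExtraspecial,
      Or.inl ?_⟩
    rw [hReq]; infer_instance
  · have hR := h.csc hRZ
    have hn2 := hR.two_le
    by_cases hn3 : 3 ≤ n
    · by_cases hM : ∃ x : ↥(Subgroup.centralizer (E : Set P)),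
          x * (⟨c, h.Z_le_R (Subgroup.mem_zpowers c)⟩ : ↥(Subgroup.centralizer (E : Set P))) ^ p =
            (⟨c, h.Z_le_R (Subgroup.mem_zpowers c)⟩ : ↥(Subgroup.centralizer (E : Set P))) ^ p * x ∧
          x ∉ Subgroup.zpowers
            (⟨c, h.Z_le_R (Subgroup.mem_zpowers c)⟩ : ↥(Subgroup.centralizer (E : Set P)))
      · exfalso
        obtain ⟨x, hxM, hxU⟩ := hM
        obtain ⟨W, hW, hWcard⟩ : ∃ W : Subgroup ↥(Subgroup.centralizer (E : Set P)),
            (∀ g, g ∈ W ↔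
              (g * (⟨c, h.Z_le_R (Subgroup.mem_zpowers c)⟩ :
                ↥(Subgroup.centralizer (E : Set P))) ^ p =
              (⟨c, h.Z_le_R (Subgroup.mem_zpowers c)⟩ :
                ↥(Subgroup.centralizer (E : Set P))) ^ p * g ∧ g ^ p = 1)) ∧
            Nat.card W = p ^ 2 := by
          by_cases hp2 : p = 2
          · subst hp2; exact hR.exists_omega_of_two hn3 hxM hxU
          · exact hR.exists_omega_of_odd hp2
        have hex : ∃ t ∈ W, t ∉ Subgroup.zpowers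
            (⟨c, h.Z_le_R (Subgroup.mem_zpowers c)⟩ : ↥(Subgroup.centralizer (E : Set P))) := by
          by_contra hno
          push Not at hno
          have hle : W ≤ Subgroup.zpowers
              ((⟨c, h.Z_le_R (Subgroup.mem_zpowers c)⟩ :
                ↥(Subgroup.centralizer (E : Set P))) ^ (p ^ (n - 1))) :=
            fun g hg => hR.mem_zpowers_z (hno g hg) ((hW g).mp hg).2
          have hcle := Subgroup.card_le_of_le hle
          rw [hWcard, Nat.card_zpowers, hR.orderOf_z] at hcle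
          have := hp.out.one_lt
          nlinarith
        obtain ⟨t, htW, htU⟩ := hex
        obtain ⟨htM, htp⟩ := (hW t).mp htW
        exact h.no_modular hn3 t.2 (by simpa using congrArg Subtype.val htp)
          (by simpa using congrArg Subtype.val htM)
          (fun hh => htU ((h.mem_zpowers_mk_iff t).mpr hh))
      · push Not at hM
        have hp2 : p = 2 := by
          by_contra hp2
          obtain ⟨x, hxM, hxU⟩ := hR.exists_mem_M_of_odd hp2
          exact hxU (hM x hxM)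
        subst hp2
        have key := hR.key_of_M_eq hM
        obtain ⟨m, a, y, hnm, hD⟩ := hR.exists_maxClassData key
        exact ⟨E, Subgroup.centralizer (E : Set P), hER, h.sup_eq_top, Or.inr h.isExtraspecial,
          Or.inr ⟨rfl, m, a, y, by omega, hD⟩⟩
    · have hn : n = 2 := by omega
      refine ⟨⊤, ⊥, ?_, ?_, Or.inr (h.isExtraspecial_top hn hRZ), Or.inl ?_⟩
      · intro e _ r hr
        rw [Subgroup.mem_bot] at hr
        subst hr
        simp
      · simp
      · infer_instance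

end ECtx

open scoped commutatorElement in
/-- a non-abelian group of order `p³` is extraspecial. -/
theorem isExtraspecial_of_card_cube {R : Type*} [Group R] [Finite R] {p : ℕ} [hp : Fact p.Prime]
    (hcard : Nat.card R = p ^ 3) (hna : ∃ a b : R, a * b ≠ b * a) : Cfsg.IsExtraspecial p R := by
  have hR : IsPGroup p R := IsPGroup.of_card hcard
  have hnt : Nontrivial R := by
    rw [← Finite.one_lt_card_iff_nontrivial, hcard]
    exact Nat.one_lt_pow (by norm_num) hp.out.one_lt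
  obtain ⟨k, hk3, hk⟩ := (Nat.dvd_prime_pow hp.out).mp
    (hcard ▸ Subgroup.card_subgroup_dvd_card (Subgroup.center R))
  have hk0 : k ≠ 0 := by
    rintro rfl
    have := hR.center_nontrivial
    rw [pow_zero] at hk
    exact (Finite.one_lt_card_iff_nontrivial.mpr this).ne' hk
  have hk3' : k ≠ 3 := by
    rintro rfl
    have htop : Subgroup.center R = ⊤ := (Subgroup.card_eq_iff_eq_top _).mp (hk.trans hcard.symm)
    obtain ⟨a, b, hab⟩ := hna
    apply hab
    have : b ∈ Subgroup.center R := by rw [htop]; trivial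
    exact Subgroup.mem_center_iff.mp this a
  have hquot : Nat.card (R ⧸ Subgroup.center R) = p ^ (3 - k) := by
    have h1 := Subgroup.card_eq_card_quotient_mul_card_subgroup (Subgroup.center R)
    rw [hcard, hk] at h1
    have h2 : p ^ 3 = p ^ (3 - k) * p ^ k := by rw [← pow_add]; congr 1; omega
    rw [h2] at h1
    exact (Nat.eq_of_mul_eq_mul_right (pow_pos hp.out.pos k) h1).symm
  have hk2 : k ≠ 2 := by
    rintro rfl
    have hq : Nat.card (R ⧸ Subgroup.center R) = p := by simpa using hquot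
    have : IsCyclic (R ⧸ Subgroup.center R) := isCyclic_of_prime_card hq
    obtain ⟨a, b, hab⟩ := hna
    exact hab ((MonoidHom.isMulCommutative_of_isCyclic_of_ker_le_center
      (QuotientGroup.mk' (Subgroup.center R)) (by rw [QuotientGroup.ker_mk'])).is_comm.comm a b)
  have hk1 : k = 1 := by omega
  subst hk1
  rw [pow_one] at hk
  have hq : Nat.card (R ⧸ Subgroup.center R) = p ^ 2 := by simpa using hquot
  have hqc : IsMulCommutative (R ⧸ Subgroup.center R) :=
    IsPGroup.isMulCommutative_of_card_eq_prime_sq hq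
  have hcomm_le : commutator R ≤ Subgroup.center R := by
    rw [commutator_def, Subgroup.commutator_le]
    intro a _ b _
    rw [← QuotientGroup.eq_one_iff]
    have : ((⁅a, b⁆ : R) : R ⧸ Subgroup.center R) = ⁅(a : R ⧸ Subgroup.center R), (b : R ⧸ Subgroup.center R)⁆ := by
      rw [commutatorElement_def, commutatorElement_def]; rfl
    rw [this, commutatorElement_eq_one_iff_mul_comm]
    exact hqc.is_comm.comm _ _
  have hcomm_ne : commutator R ≠ ⊥ := by
    intro hbot
    obtain ⟨a, b, hab⟩ := hna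
    apply hab
    have : ⁅a, b⁆ ∈ commutator R := by
      rw [commutator_def]
      exact Subgroup.commutator_mem_commutator (Subgroup.mem_top a) (Subgroup.mem_top b)
    rw [hbot, Subgroup.mem_bot, commutatorElement_eq_one_iff_mul_comm] at this
    exact this
  have hcomm : commutator R = Subgroup.center R := by
    have hprime : Fact (Nat.card (Subgroup.center R)).Prime := ⟨hk ▸ hp.out⟩
    have h1 := (commutator R).subgroupOf (Subgroup.center R) |>.eq_bot_or_eq_top_of_prime_card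
    rcases h1 with h1 | h1
    · exfalso
      apply hcomm_ne
      rw [Subgroup.subgroupOf_eq_bot] at h1
      rw [disjoint_iff, inf_eq_left.mpr hcomm_le] at h1
      exact h1
    · rw [Subgroup.subgroupOf_eq_top] at h1
      exact le_antisymm hcomm_le h1
  have hpow : ∀ x : R, x ^ p ∈ Subgroup.center R := by
    intro x
    rw [← QuotientGroup.eq_one_iff, QuotientGroup.mk_pow]
    by_contra hne
    have hord : orderOf (x : R ⧸ Subgroup.center R) ∣ p ^ 2 := hq ▸ orderOf_dvd_natCard _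
    obtain ⟨j, hj2, hj⟩ := (Nat.dvd_prime_pow hp.out).mp hord
    have hj2' : j = 2 := by
      by_contra hj2'
      apply hne
      have : orderOf (x : R ⧸ Subgroup.center R) ∣ p := by
        rw [hj]
        have : j ≤ 1 := by omega
        exact (pow_dvd_pow p this).trans (by rw [pow_one])
      exact orderOf_dvd_iff_pow_eq_one.mp this
    subst hj2'
    have : IsCyclic (R ⧸ Subgroup.center R) := isCyclic_of_orderOf_eq_card _ (hj.trans hq.symm)
    obtain ⟨a, b, hab⟩ := hna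
    exact hab ((MonoidHom.isMulCommutative_of_isCyclic_of_ker_le_center
      (QuotientGroup.mk' (Subgroup.center R)) (by rw [QuotientGroup.ker_mk'])).is_comm.comm a b)
  exact H27.isExtraspecial_of_center p hR hk hcomm hpow

theorem MaxClassData_of_mulEquiv {G H : Type*} [Group G] [Group H] (e : G ≃* H) {m : ℕ} {a y : G}
    (hD : H22.MaxClassData G m a y) : H22.MaxClassData H m (e a) (e y) := by
  refine ⟨?_, ?_, ?_, ?_, ?_⟩
  · rw [← Nat.card_congr e.toEquiv]; exact hD.card_eq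
  · rw [MulEquiv.orderOf_eq]; exact hD.orderOf_a
  · intro hy
    obtain ⟨i, hi⟩ := Subgroup.mem_zpowers_iff.mp hy
    apply hD.not_mem
    rw [← map_zpow] at hi
    rw [← e.injective hi]
    exact Subgroup.zpow_mem _ (Subgroup.mem_zpowers a) i
  · rcases hD.conj with hc | ⟨hm, hc⟩
    · left
      rw [← map_inv, ← map_mul, ← map_mul, ← map_inv, hc]
    · right
      refine ⟨hm, ?_⟩
      rw [← map_inv, ← map_mul, ← map_mul, ← map_inv, ← map_pow, ← map_mul, hc]
  · rcases hD.sq with hs | hs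
    · left
      rw [← map_mul, hs, map_one]
    · right
      rw [← map_mul, hs, map_pow]

section main

variable {p : ℕ} [hp : Fact p.Prime] {P : Type*} [Group P] [Finite P]

theorem not_isCyclic_of_exponent_p {W : Type*} [Group W] [Finite W] (hcard : Nat.card W = p ^ 2)
    (hexp : ∀ g : W, g ^ p = 1) : ¬ IsCyclic W := by
  intro hcyc
  obtain ⟨g, hg⟩ := IsCyclic.exists_ofOrder_eq_natCard (α := W)
  have h1 := orderOf_dvd_of_pow_eq_one (hexp g)
  rw [hg, hcard] at h1
  have h2 := Nat.le_of_dvd hp.out.pos h1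
  have := hp.out.one_lt
  nlinarith

theorem abelian_case (hP : IsPGroup p P)
    (hsymp : ∀ A : Subgroup P, A.Characteristic → IsMulCommutative A → IsCyclic A)
    (C : Subgroup P) (hCchar : C.Characteristic) (hab : C ≤ Subgroup.centralizer (C : Set P))
    (hcent : Subgroup.centralizer (C : Set P) ≤ C) :
    ∃ E R : Subgroup P, (∀ e ∈ E, ∀ r ∈ R, e * r = r * e) ∧ E ⊔ R = ⊤ ∧
      (E = ⊥ ∨ Cfsg.IsExtraspecial p ↥E) ∧
      (IsCyclic R ∨ (p = 2 ∧ ∃ (m : ℕ) (a y : ↥R), 1 ≤ m ∧ H22.MaxClassData ↥R m a y)) := by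
  have hCcomm : IsMulCommutative ↥C := by
    refine ⟨⟨fun a b => Subtype.ext ?_⟩⟩
    have hb := hab b.2
    rw [Subgroup.mem_centralizer_iff] at hb
    exact hb a a.2
  have hCcyc := hsymp C hCchar hCcomm
  by_cases htop : C = ⊤
  · refine ⟨⊥, ⊤, ?_, by simp, Or.inl rfl, Or.inl ?_⟩
    · intro e he r _
      rw [Subgroup.mem_bot] at he
      subst he
      simp
    · rw [← htop]; exact hCcyc
  · obtain ⟨c, hc⟩ := (Subgroup.isCyclic_iff_exists_zpowers_eq_top C).mp hCcyc
    obtain ⟨n, hn⟩ := (IsPGroup.iff_orderOf.mp hP) c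
    subst hc
    have hnorm : (Subgroup.zpowers c).Normal := inferInstance
    have h : CSC p P c n := ⟨hP, hn, hnorm, le_antisymm hcent hab, htop⟩
    have hW : ∀ W : Subgroup P, (∀ g, g ∈ W ↔ (g * c ^ p = c ^ p * g ∧ g ^ p = 1)) →
        Nat.card W = p ^ 2 → False := by
      intro W hW hcard
      have hWchar := h.characteristic_of_omega W hW
      have hWcomm : IsMulCommutative ↥W := IsPGroup.isMulCommutative_of_card_eq_prime_sq hcard
      have hWcyc := hsymp W hWchar hWcomm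
      exact not_isCyclic_of_exponent_p hcard
        (fun g => Subtype.ext (by simpa using ((hW g).mp g.2).2)) hWcyc
    by_cases hp2 : p = 2
    · subst hp2
      have hcases : (∀ x : P, x * c ^ (2 ^ (n - 2)) = c ^ (2 ^ (n - 2)) * x →
            x ∈ Subgroup.zpowers c) ∨
          (3 ≤ n ∧ ∃ x : P, x * c ^ 2 = c ^ 2 * x ∧ x ∉ Subgroup.zpowers c) := by
        by_cases hM : ∀ x : P, x * c ^ 2 = c ^ 2 * x → x ∈ Subgroup.zpowers c
        · exact Or.inl (h.key_of_M_eq hM)
        · push Not at hM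
          by_cases hn3 : 3 ≤ n
          · exact Or.inr ⟨hn3, hM⟩
          · left
            have hn2 : n = 2 := by have := h.two_le; omega
            subst hn2
            intro x hx
            apply h.mem_of_comm
            simpa using hx
      rcases hcases with key | ⟨hn3, x, hxM, hxU⟩
      · obtain ⟨m, a, y, rfl, hD⟩ := h.exists_maxClassData key
        by_cases hm : 1 ≤ m
        · refine ⟨⊥, ⊤, ?_, by simp, Or.inl rfl, Or.inr ⟨rfl, m, _, _, hm,
            MaxClassData_of_mulEquiv Subgroup.topEquiv.symm hD⟩⟩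
          intro e he r _
          rw [Subgroup.mem_bot] at he
          subst he
          simp
        · have hm0 : m = 0 := by omega
          subst hm0
          obtain ⟨x, hx⟩ := h.exists_not_mem
          have hxc : x * c ≠ c * x := fun e => hx (h.mem_of_comm e)
          refine ⟨⊤, ⊥, ?_, by simp, Or.inr ?_, Or.inl inferInstance⟩
          · intro e _ r hr
            rw [Subgroup.mem_bot] at hr
            subst hr
            simp
          · apply isExtraspecial_of_card_cube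
            · rw [Subgroup.card_top, hD.card_eq]
            · exact ⟨⟨x, Subgroup.mem_top x⟩, ⟨c, Subgroup.mem_top c⟩,
                fun e => hxc (congrArg Subtype.val e)⟩
      · exfalso
        obtain ⟨W, hW', hcard⟩ := h.exists_omega_of_two hn3 hxM hxU
        exact hW W hW' hcard
    · exfalso
      obtain ⟨W, hW', hcard⟩ := h.exists_omega_of_odd hp2
      exact hW W hW' hcard

open scoped commutatorElement in
/-- **P. Hall**: the structure of `p`-groups of symplectic type. -/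
theorem symplectic_main (hP : IsPGroup p P)
    (hsymp : ∀ A : Subgroup P, A.Characteristic → IsMulCommutative A → IsCyclic A) :
    ∃ E R : Subgroup P, (∀ e ∈ E, ∀ r ∈ R, e * r = r * e) ∧ E ⊔ R = ⊤ ∧
      (E = ⊥ ∨ Cfsg.IsExtraspecial p ↥E) ∧
      (IsCyclic R ∨ (p = 2 ∧ ∃ (m : ℕ) (a y : ↥R), 1 ≤ m ∧ H22.MaxClassData ↥R m a y)) := by
  obtain ⟨C, hCchar, hfr, hcomm, hcent⟩ := Cfsg.Agent.S0093.result hP
  by_cases hab : C ≤ Subgroup.centralizer (C : Set P)
  · exact abelian_case hP hsymp C hCchar hab hcent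
  · have hZchar : (C ⊓ Subgroup.centralizer (C : Set P)).Characteristic := inferInstance
    have hZcomm : IsMulCommutative ↥(C ⊓ Subgroup.centralizer (C : Set P)) := by
      refine ⟨⟨fun a b => Subtype.ext ?_⟩⟩
      have ha := (Subgroup.mem_inf.mp a.2).1
      have hb := (Subgroup.mem_inf.mp b.2).2
      rw [Subgroup.mem_centralizer_iff] at hb
      exact hb a ha
    have hZcyc := hsymp _ hZchar hZcomm
    obtain ⟨c, hc⟩ := (Subgroup.isCyclic_iff_exists_zpowers_eq_top _).mp hZcyc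
    obtain ⟨n, hn⟩ := (IsPGroup.iff_orderOf.mp hP) c
    have hcrit : CritCtx p P C c n := by
      refine ⟨hP, hsymp, hCchar, hc.symm, hcent, hn, ?_, ?_, hab⟩
      · intro x hx g
        rw [hc]
        have h1 : ⁅x, g⁆ ∈ ⁅C, (⊤ : Subgroup P)⁆ :=
          Subgroup.commutator_mem_commutator hx (Subgroup.mem_top g)
        have h2 := Subgroup.inv_mem _ (hcomm h1)
        rw [commutatorElement_inv, commutatorElement_def] at h2
        exact h2
      · intro x hx
        rw [hc, Subgroup.mem_inf]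
        refine ⟨Subgroup.pow_mem _ hx p, ?_⟩
        apply hfr
        have h1 := H1.isPGroup_pow_mem_frattini (hP.to_subgroup C) (⟨x, hx⟩ : ↥C)
        have h2 := Subgroup.mem_map_of_mem C.subtype h1
        simpa using h2
    obtain ⟨E, hE⟩ := hcrit.exists_ECtx
    exact hE.conclusion

end main

end Cfsg.Agent.Lib.H9
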