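import Mathlib
import Cfsg.Agent.Lib.H9.S4415B1

/-!
# S4415, BAD layer (helper9): pieces of (B8)

In the `QData` frame of helper10's cut, with `dim C_W(Q) ≤ 1` (i.e. `dim W ≤ 4`):
* `lin_indep_e`   : `e₁, e₂, e₃` are linearly independent;
* `flag_trivial`  : an element `m` commuting with `b`, leaving `W` invariant, of odd order prime to `3`,
                    acts trivially on `W` (the flag `0 < Im N² < Im N < Ker N² < W`);
* `count_r`       : the arithmetic `r ∣ 16 - 2^i`, `r ∣ 81 - 3^j`, `r ≥ 5` prime `⇒ r = 5, i = j = 0`.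
-/

set_option autoImplicit false

namespace Cfsg.Agent.Lib.H9.S4415

open Cfsg.Agent.Lib.H10.S4415

variable {S E : Type*} [Group S] [AddCommGroup E] [Module (ZMod 3) E]
  {ρ : Representation (ZMod 3) S E} {R : Subgroup S} {b : S} {W : Submodule (ZMod 3) E}
  {x₁ x₂ x₃ : S} {e₁ e₂ e₃ : E}

/-- `v + v = 0` forces `v = 0` -/
theorem eq_zero_of_add_self (v : E) (h : v + v = 0) : v = 0 := by
  have := three_smul_eq_zero v
  rw [h, zero_add] at this
  exact this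

theorem e₃_ne_zero (hQ : QData ρ R b W x₁ x₂ x₃ e₁ e₂ e₃) : e₃ ≠ 0 := by
  intro h
  have h1 := hQ.be₃
  rw [h, map_zero] at h1
  exact hQ.e₁ne h1.symm

theorem e₂_ne_zero (hQ : QData ρ R b W x₁ x₂ x₃ e₁ e₂ e₃) : e₂ ≠ 0 := by
  intro h
  have h1 := hQ.be₂
  rw [h, map_zero] at h1
  exact e₃_ne_zero hQ h1.symm

/-- `e₁, e₂, e₃` are linearly independent (they afford the three nontrivial characters of `Q`). -/
theorem lin_indep_e (hQ : QData ρ R b W x₁ x₂ x₃ e₁ e₂ e₃) (a₁ a₂ a₃ : ZMod 3)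
    (h : a₁ • e₁ + a₂ • e₂ + a₃ • e₃ = 0) : a₁ = 0 ∧ a₂ = 0 ∧ a₃ = 0 := by
  have h1 : ρ x₁ (a₁ • e₁ + a₂ • e₂ + a₃ • e₃) = a₁ • e₁ - a₂ • e₂ - a₃ • e₃ := by
    rw [map_add, map_add, map_smul, map_smul, map_smul, hQ.x₁e₁, hQ.x₁e₂, hQ.x₁e₃]
    simp only [smul_neg]
    abel
  have h2 : ρ x₂ (a₁ • e₁ + a₂ • e₂ + a₃ • e₃) = - a₁ • e₁ + a₂ • e₂ - a₃ • e₃ := by
    rw [map_add, map_add, map_smul, map_smul, map_smul, hQ.x₂e₁, hQ.x₂e₂, hQ.x₂e₃]
    simp only [smul_neg, neg_smul]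
    abel
  have h3 : ρ x₃ (a₁ • e₁ + a₂ • e₂ + a₃ • e₃) = - a₁ • e₁ - a₂ • e₂ + a₃ • e₃ := by
    rw [map_add, map_add, map_smul, map_smul, map_smul, hQ.x₃e₁, hQ.x₃e₂, hQ.x₃e₃]
    simp only [smul_neg, neg_smul]
    abel
  rw [h, map_zero] at h1 h2 h3
  have k1 : a₁ • e₁ + a₁ • e₁ = 0 := by
    linear_combination (norm := module) h - h1
  have k2 : a₂ • e₂ + a₂ • e₂ = 0 := by
    linear_combination (norm := module) h - h2
  have k3 : a₃ • e₃ + a₃ • e₃ = 0 := by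
    linear_combination (norm := module) h - h3
  refine ⟨?_, ?_, ?_⟩
  · exact (smul_eq_zero.1 (eq_zero_of_add_self _ k1)).resolve_right hQ.e₁ne
  · exact (smul_eq_zero.1 (eq_zero_of_add_self _ k2)).resolve_right (e₂_ne_zero hQ)
  · exact (smul_eq_zero.1 (eq_zero_of_add_self _ k3)).resolve_right (e₃_ne_zero hQ)

/-- powers of an operator on an eigenvector -/
theorem pow_apply_smul (ρ : Representation (ZMod 3) S E) (m : S) (v : E) (c : ZMod 3)
    (h : ρ m v = c • v) (n : ℕ) : ρ (m ^ n) v = c ^ n • v := by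
  induction n with
  | zero => simp
  | succ n ih =>
    rw [pow_succ, map_mul, Module.End.mul_apply, h, map_smul, ih, smul_smul, pow_succ, mul_comm]

/-- an involution-on-`v` operator: odd powers act like the operator itself -/
theorem odd_pow_apply (ρ : Representation (ZMod 3) S E) (m : S) (v : E)
    (h : ρ m (ρ m v) = v) (j : ℕ) : ρ (m ^ (2 * j + 1)) v = ρ m v := by
  induction j with
  | zero => simp
  | succ j ih =>
    have : m ^ (2 * (j + 1) + 1) = m ^ (2 * j + 1) * m * m := by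
      rw [show 2 * (j + 1) + 1 = (2 * j + 1) + 1 + 1 by ring, pow_succ, pow_succ]
    rw [this, map_mul, map_mul, Module.End.mul_apply, Module.End.mul_apply, h, ih]

/-- a scalar of odd multiplicative order in `ZMod 3` is `1` -/
theorem zmod3_eq_one_of_odd_pow (c : ZMod 3) (k : ℕ) (hk : Odd k) (h : c ^ k = 1) : c = 1 := by
  have h3' : ∀ d : ZMod 3, d = 0 ∨ d = 1 ∨ d = -1 := by decide
  rcases h3' c with rfl | rfl | rfl
  · exfalso
    obtain ⟨j, rfl⟩ := hk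
    rw [pow_succ, mul_zero] at h
    exact zero_ne_one h
  · rfl
  · exfalso
    rw [hk.neg_one_pow] at h
    revert h
    decide

/-- **(B8)-FLAG**: in the `QData` frame with `dim C_W(Q) ≤ 1`, an element `m` commuting with `b`,
leaving `W` invariant, of odd order prime to `3` is trivial on `W`. -/
theorem flag_trivial (hQ : QData ρ R b W x₁ x₂ x₃ e₁ e₂ e₃)
    (w₁ : E) (hw₁W : w₁ ∈ W) (hw₁b : ρ b w₁ = w₁)
    (hone : ∀ w₀ ∈ W, ρ x₁ w₀ = w₀ → ρ x₂ w₀ = w₀ → ρ x₃ w₀ = w₀ → ρ b w₀ = w₀ →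
      ∃ c : ZMod 3, w₀ = c • w₁)
    (m : S) (hmW : ∀ w ∈ W, ρ m w ∈ W) (hmb : m * b = b * m)
    (k : ℕ) (hk : m ^ k = 1) (hkodd : Odd k) (hk3 : Nat.Coprime k 3) :
    ∀ w ∈ W, ρ m w = w := by
  set u := e₁ + e₂ + e₃ with hu
  have hu0 : u ≠ 0 := u_ne_zero hQ
  have huW : u ∈ W := W.add_mem (W.add_mem hQ.e₁W hQ.e₂W) hQ.e₃W
  -- `m` commutes with `b` as operators
  have hcomm : ∀ v : E, ρ m (ρ b v) = ρ b (ρ m v) := by
    intro v
    have h1 : ρ (m * b) v = ρ (b * m) v := by rw [hmb]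
    rw [map_mul, map_mul] at h1
    exact h1
  have hmk : ∀ v : E, ρ (m ^ k) v = v := by
    intro v
    rw [hk, map_one, Module.End.one_apply]
  -- `m` commutes with `N² = 1 + b + b²`
  have hN2 : ∀ v : E, ρ m (ρ b (ρ b v) + ρ b v + v) =
      ρ b (ρ b (ρ m v)) + ρ b (ρ m v) + ρ m v := by
    intro v
    rw [map_add, map_add, hcomm, hcomm]
  -- Step D: `m u = u`
  have hmu : ρ m u = u := by
    obtain ⟨c, hc⟩ := nsq_eq_smul hQ (hmW e₁ hQ.e₁W)
    rw [← hN2, nsq_e₁ hQ] at hc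
    have h1 := pow_apply_smul ρ m u c hc k
    rw [hmk] at h1
    have h2 : (c ^ k - 1) • u = 0 := by
      rw [sub_smul, one_smul, ← h1, sub_self]
    have h3 : c ^ k = 1 := by
      by_contra hne
      exact hu0 ((smul_eq_zero.1 h2).resolve_left (sub_ne_zero.2 hne))
    rw [hc, zmod3_eq_one_of_odd_pow c k hkodd h3, one_smul]
  -- Step C: `m (e₂ - e₁) = (e₂ - e₁) + β u`
  have hd₁ : ∃ β : ZMod 3, ρ m (e₂ - e₁) = (e₂ - e₁) + β • u := by
    obtain ⟨w₀, _, c₁, c₂, c₃, hdec, _, _, _, hbw₀⟩ := hQ.decomp (ρ m e₁) (hmW e₁ hQ.e₁W)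
    -- `N² (m e₁) = m u = u`, so `c₁ + c₂ + c₃ = 1`
    have hsum : c₁ + c₂ + c₃ = 1 := by
      have h1 : ρ b (ρ b (ρ m e₁)) + ρ b (ρ m e₁) + ρ m e₁ = u := by
        rw [← hN2, nsq_e₁ hQ, hmu]
      have hb1 : ρ b (ρ m e₁) = w₀ + c₁ • e₂ + c₂ • e₃ + c₃ • e₁ := by
        rw [hdec, map_add, map_add, map_add, map_smul, map_smul, map_smul, hbw₀, hQ.be₁,
          hQ.be₂, hQ.be₃]
      have hb2 : ρ b (ρ b (ρ m e₁)) = w₀ + c₁ • e₃ + c₂ • e₁ + c₃ • e₂ := by
        rw [hb1, map_add, map_add, map_add, map_smul, map_smul, map_smul, hbw₀, hQ.be₁,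
          hQ.be₂, hQ.be₃]
      have h3 := three_smul_eq_zero w₀
      have h4 : (c₁ + c₂ + c₃ - 1) • u = 0 := by
        rw [hb2, hb1] at h1
        conv at h1 => lhs; rw [hdec]
        rw [hu] at h1 ⊢
        linear_combination (norm := module) h1 - h3
      by_contra hne
      exact hu0 ((smul_eq_zero.1 h4).resolve_left (sub_ne_zero.2 hne))
    refine ⟨c₂ - c₃, ?_⟩
    have hb1 : ρ b (ρ m e₁) = w₀ + c₁ • e₂ + c₂ • e₃ + c₃ • e₁ := by
      rw [hdec, map_add, map_add, map_add, map_smul, map_smul, map_smul, hbw₀, hQ.be₁,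
        hQ.be₂, hQ.be₃]
    have h5 : ρ m (e₂ - e₁) = ρ b (ρ m e₁) - ρ m e₁ := by
      rw [← hcomm, hQ.be₁, map_sub]
    rw [h5, hb1]
    conv_lhs => rw [hdec]
    have hc₁ : c₁ = 1 - c₂ - c₃ := by linear_combination hsum
    have h3 := three_smul_eq_zero (c₃ • e₁)
    have h3' := three_smul_eq_zero (c₂ • e₂)
    rw [hc₁, hu]
    linear_combination (norm := module) h3 - h3'
  obtain ⟨β, hβ⟩ := hd₁
  -- Step on `w₁`: `m w₁ = w₁ + t u`
  have hw₁ : ∃ t : ZMod 3, ρ m w₁ = w₁ + t • u := by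
    obtain ⟨w₀, hw₀W, c₁, c₂, c₃, hdec, hx1, hx2, hx3, hbw₀⟩ := hQ.decomp (ρ m w₁) (hmW w₁ hw₁W)
    obtain ⟨γ, hγ⟩ := hone w₀ hw₀W hx1 hx2 hx3 hbw₀
    -- `b`-invariance of `m w₁`
    have hbm : ρ b (ρ m w₁) = ρ m w₁ := by rw [← hcomm, hw₁b]
    have hb1 : ρ b (ρ m w₁) = w₀ + c₁ • e₂ + c₂ • e₃ + c₃ • e₁ := by
      rw [hdec, map_add, map_add, map_add, map_smul, map_smul, map_smul, hbw₀, hQ.be₁,
        hQ.be₂, hQ.be₃]
    have hrel : (c₁ - c₃) • e₁ + (c₂ - c₁) • e₂ + (c₃ - c₂) • e₃ = 0 := by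
      rw [hb1] at hbm
      conv at hbm => rhs; rw [hdec]
      linear_combination (norm := module) -hbm
    obtain ⟨r1, r2, _⟩ := lin_indep_e hQ _ _ _ hrel
    have hc₃ : c₃ = c₁ := (sub_eq_zero.1 r1).symm
    have hc₂ : c₂ = c₁ := sub_eq_zero.1 r2
    have hform : ρ m w₁ = γ • w₁ + c₁ • u := by
      rw [hdec, hγ, hc₃, hc₂, hu]
      module
    have h3γ' : ∀ d : ZMod 3, d = 0 ∨ d = 1 ∨ d = -1 := by decide
    rcases h3γ' γ with rfl | rfl | rfl
    · -- `γ = 0`: `m (w₁ - c₁ u) = 0`, so `w₁ = c₁ u`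
      refine ⟨0, ?_⟩
      have h1 : ρ m (w₁ - c₁ • u) = 0 := by
        rw [map_sub, map_smul, hmu, hform]
        module
      have h2 : ρ (m ^ k) (w₁ - c₁ • u) = 0 := by
        cases k with
        | zero => exact absurd hkodd (by decide)
        | succ n =>
          rw [pow_succ, map_mul, Module.End.mul_apply, h1, map_zero]
      rw [hmk] at h2
      have h4 : w₁ = c₁ • u := sub_eq_zero.1 h2
      rw [zero_smul, add_zero]
      conv_lhs => rw [h4, map_smul, hmu]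
      exact h4.symm
    · exact ⟨c₁, by rw [hform, one_smul]⟩
    · -- `γ = -1`: `m² w₁ = w₁`, so `m w₁ = m^k w₁ = w₁`
      refine ⟨0, ?_⟩
      have h1 : ρ m (ρ m w₁) = w₁ := by
        rw [hform, map_add, map_smul, map_smul, hmu, hform]
        module
      obtain ⟨j, hj⟩ := hkodd
      have h2 := odd_pow_apply ρ m w₁ h1 j
      rw [← hj, hmk] at h2
      rw [zero_smul, add_zero, ← h2]
  obtain ⟨t, ht⟩ := hw₁
  -- Step A: for `w ∈ W`, `m w - w ∈ Ker N²`, written in the frame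
  -- Step B: for `k₁ ∈ W` with `N² k₁ = 0`, `m k₁ - k₁ ∈ F₃ u`
  have hB : ∀ k₁ ∈ W, ρ b (ρ b k₁) + ρ b k₁ + k₁ = 0 → ∃ s : ZMod 3, ρ m k₁ = k₁ + s • u := by
    intro k₁ hk₁W hk₁
    obtain ⟨w₀, hw₀W, c₁, c₂, c₃, hdec, hx1, hx2, hx3, hbw₀⟩ := hQ.decomp k₁ hk₁W
    obtain ⟨γ₀, hγ₀⟩ := hone w₀ hw₀W hx1 hx2 hx3 hbw₀
    have hsum : c₁ + c₂ + c₃ = 0 := by
      have hb1 : ρ b k₁ = w₀ + c₁ • e₂ + c₂ • e₃ + c₃ • e₁ := by
        rw [hdec, map_add, map_add, map_add, map_smul, map_smul, map_smul, hbw₀, hQ.be₁,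
          hQ.be₂, hQ.be₃]
      have hb2 : ρ b (ρ b k₁) = w₀ + c₁ • e₃ + c₂ • e₁ + c₃ • e₂ := by
        rw [hb1, map_add, map_add, map_add, map_smul, map_smul, map_smul, hbw₀, hQ.be₁,
          hQ.be₂, hQ.be₃]
      have h3 := three_smul_eq_zero w₀
      have h4 : (c₁ + c₂ + c₃) • u = 0 := by
        rw [hb2, hb1] at hk₁
        conv at hk₁ => lhs; rw [hdec]
        rw [hu]
        linear_combination (norm := module) hk₁ - h3
      by_contra hne
      exact hu0 ((smul_eq_zero.1 h4).resolve_left hne)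
    -- `k₁ = γ₀ w₁ + (c₂ + 2 c₃) (e₂ - e₁) + c₃ u`
    have hform : k₁ = γ₀ • w₁ + (c₂ + 2 * c₃) • (e₂ - e₁) + c₃ • u := by
      have hc₁ : c₁ = - c₂ - c₃ := by linear_combination hsum
      have h3 := three_smul_eq_zero (c₃ • e₂)
      rw [hdec, hγ₀, hc₁, hu]
      linear_combination (norm := module) (-1 : ZMod 3) • h3
    refine ⟨γ₀ * t + (c₂ + 2 * c₃) * β, ?_⟩
    have h1 : ρ m k₁ = γ₀ • (w₁ + t • u) + (c₂ + 2 * c₃) • ((e₂ - e₁) + β • u) + c₃ • u := by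
      conv_lhs => rw [hform]
      rw [map_add, map_add, map_smul, map_smul, map_smul, ht, hβ, hmu]
    rw [h1]
    conv_rhs => rw [hform]
    module
  -- `m³ = 1` on `W`
  have hM3 : ∀ w ∈ W, ρ m (ρ m (ρ m w)) = w := by
    intro w hw
    -- `k₁ := m w - w`
    have hk₁W : ρ m w - w ∈ W := W.sub_mem (hmW w hw) hw
    have hk₁N : ρ b (ρ b (ρ m w - w)) + ρ b (ρ m w - w) + (ρ m w - w) = 0 := by
      obtain ⟨c, hc⟩ := nsq_eq_smul hQ hw
      have h1 : ρ b (ρ b (ρ m w)) + ρ b (ρ m w) + ρ m w = c • u := by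
        rw [← hN2, hc, map_smul, hmu]
      simp only [map_sub]
      linear_combination (norm := module) h1 - hc
    obtain ⟨s, hs⟩ := hB _ hk₁W hk₁N
    -- `m w = w + k₁`, `m k₁ = k₁ + s u`, `m u = u`
    have e1 : ρ m (ρ m w) = ρ m w + (ρ m w - w) + s • u := by
      rw [map_sub] at hs
      linear_combination (norm := module) hs
    have e2 : ρ m (ρ m (ρ m w)) = ρ m (ρ m w) + (ρ m (ρ m w) - ρ m w) + s • u := by
      rw [e1, map_add, map_add, map_smul, hmu, map_sub, e1]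
    have h3 := three_smul_eq_zero (ρ m w - w)
    have h3' := three_smul_eq_zero (s • u)
    rw [e2, e1]
    linear_combination (norm := module) h3 + h3'
  have hpow3 : ∀ q : ℕ, ∀ w ∈ W, ρ (m ^ (3 * q)) w = w := by
    intro q
    induction q with
    | zero => intro w _; simp
    | succ q ih =>
      intro w hw
      have : m ^ (3 * (q + 1)) = m ^ (3 * q) * m * m * m := by
        rw [show 3 * (q + 1) = 3 * q + 1 + 1 + 1 by ring, pow_succ, pow_succ, pow_succ]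
      rw [this, map_mul, map_mul, map_mul, Module.End.mul_apply, Module.End.mul_apply,
        Module.End.mul_apply, hM3 w hw, ih w hw]
  intro w hw
  have hkdiv : 3 * (k / 3) + k % 3 = k := Nat.div_add_mod k 3
  have hmod : k % 3 = 1 ∨ k % 3 = 2 := by
    have h0 : k % 3 ≠ 0 := by
      intro h0
      have hdvd : 3 ∣ k := Nat.dvd_of_mod_eq_zero h0
      have : (3 : ℕ) ∣ Nat.gcd k 3 := Nat.dvd_gcd hdvd (dvd_refl 3)
      rw [hk3] at this
      exact absurd this (by decide)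
    have := Nat.mod_lt k (by decide : 3 > 0)
    omega
  rcases hmod with h1 | h2
  · -- `k = 3q + 1`
    have h3 : ρ (m ^ k) w = ρ m w := by
      rw [← hkdiv, h1, pow_succ, map_mul, Module.End.mul_apply]
      exact hpow3 _ _ (hmW w hw)
    rw [← h3, hmk]
  · -- `k = 3q + 2`
    have h3 : ρ (m ^ k) w = ρ m (ρ m w) := by
      rw [← hkdiv, h2, pow_succ, pow_succ, map_mul, map_mul, Module.End.mul_apply,
        Module.End.mul_apply]
      exact hpow3 _ _ (hmW _ (hmW w hw))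
    rw [hmk] at h3
    have h4 := hM3 w hw
    rw [← h3] at h4
    exact h4

/-- **(B8)-COUNT**: the arithmetic of the orbit count. -/
theorem count_r (r i j : ℕ) (hr : r.Prime) (hr5 : 5 ≤ r) (hi : i < 4) (hj : j < 4)
    (h16 : r ∣ 16 - 2 ^ i) (h81 : r ∣ 81 - 3 ^ j) : r = 5 ∧ i = 0 ∧ j = 0 := by
  have hr80 : r ≤ 80 := by
    have : 81 - 3 ^ j ≤ 80 := by
      have : 1 ≤ 3 ^ j := Nat.one_le_pow _ _ (by decide)
      omega
    have hpos : 0 < 81 - 3 ^ j := by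
      interval_cases j <;> decide
    exact le_trans (Nat.le_of_dvd hpos h81) this
  have hr15 : r ≤ 15 := by
    have : 16 - 2 ^ i ≤ 15 := by
      have : 1 ≤ 2 ^ i := Nat.one_le_pow _ _ (by decide)
      omega
    have hpos : 0 < 16 - 2 ^ i := by
      interval_cases i <;> decide
    exact le_trans (Nat.le_of_dvd hpos h16) this
  interval_cases i <;> interval_cases j <;> interval_cases r <;> simp_all (config := {decide := true})

end Cfsg.Agent.Lib.H9.S4415
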