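import Mathlib
import Cfsg.Agent.Lib.H10.S4415BadDefs
import Cfsg.Agent.Lib.H9.S4415B8

/-!
# S4415, BAD layer (helper9): `fl : FLStmt` (the flag lemma in the exact shape of the sub-cut)
-/

set_option autoImplicit false

namespace Cfsg.Agent.Lib.H9.S4415

open Cfsg.Agent.Lib.H10.S4415

/-- In the `Dim4` frame the `Q`-fixed vectors of `W` are the multiples of `e₀`. -/
theorem fixed_eq_smul_e₀ {S E : Type*} [Group S] [AddCommGroup E] [Module (ZMod 3) E]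
    {ρ : Representation (ZMod 3) S E} {R : Subgroup S} {b : S} {W : Submodule (ZMod 3) E}
    {x₁ x₂ x₃ : S} {e₀ e₁ e₂ e₃ : E}
    (hQ : QData ρ R b W x₁ x₂ x₃ e₁ e₂ e₃) (hD : Dim4 ρ b W x₁ x₂ x₃ e₀ e₁ e₂ e₃)
    (w₀ : E) (hw₀ : w₀ ∈ W) (h1 : ρ x₁ w₀ = w₀) (h2 : ρ x₂ w₀ = w₀) :
    ∃ c : ZMod 3, w₀ = c • e₀ := by
  obtain ⟨c₀, c₁, c₂, c₃, hw⟩ := hD.span w₀ hw₀
  have hz : ∀ d : ZMod 3, d + d = 0 → d = 0 := by decide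
  have hx1 : ρ x₁ w₀ = c₀ • e₀ + c₁ • e₁ - c₂ • e₂ - c₃ • e₃ := by
    rw [hw, map_add, map_add, map_add, map_smul, map_smul, map_smul, map_smul, hD.x₁e₀,
      hQ.x₁e₁, hQ.x₁e₂, hQ.x₁e₃]
    simp only [smul_neg]
    abel
  have hx2 : ρ x₂ w₀ = c₀ • e₀ - c₁ • e₁ + c₂ • e₂ - c₃ • e₃ := by
    rw [hw, map_add, map_add, map_add, map_smul, map_smul, map_smul, map_smul, hD.x₂e₀,
      hQ.x₂e₁, hQ.x₂e₂, hQ.x₂e₃]
    simp only [smul_neg]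
    abel
  rw [h1] at hx1
  rw [h2] at hx2
  have r1 : (0 : ZMod 3) • e₀ + (0 : ZMod 3) • e₁ + (c₂ + c₂) • e₂ + (c₃ + c₃) • e₃ = 0 := by
    linear_combination (norm := module) hx1 - hw
  have r2 : (0 : ZMod 3) • e₀ + (c₁ + c₁) • e₁ + (0 : ZMod 3) • e₂ + (c₃ + c₃) • e₃ = 0 := by
    linear_combination (norm := module) hx2 - hw
  obtain ⟨_, _, k2, k3⟩ := hD.indep _ _ _ _ r1
  obtain ⟨_, k1, _, _⟩ := hD.indep _ _ _ _ r2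
  refine ⟨c₀, ?_⟩
  rw [hw, hz c₁ k1, hz c₂ k2, hz c₃ k3]
  module

/-- **FLStmt** in the exact shape of helper10's BAD sub-cut. -/
theorem fl : FLStmt := by
  intro S _ _ E _ _ _ ρ R b W x₁ x₂ x₃ e₀ e₁ e₂ e₃ hL hQ hD y hy hby hodd hcop
  apply hL.faithful y hy
  exact flag_trivial hQ e₀ hD.e₀W hD.be₀
    (fun w₀ hw₀ h1 h2 _ _ => fixed_eq_smul_e₀ hQ hD w₀ hw₀ h1 h2)
    y (hL.W_inv y hy) hby.symm (orderOf y) (pow_orderOf_eq_one y) hodd hcop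

end Cfsg.Agent.Lib.H9.S4415
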