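import Mathlib
import Cfsg.Agent.Lib.H4.SLKDefs

/-!
# S2479 pieces P16 (`scl_props`, `scl_one_mul`) and P17 (`Dt_scl`, `Dt_eq_chi`) (helper9)
-/

set_option autoImplicit false
open Polynomial

namespace Cfsg.Agent.Lib.H9.SLK

open Cfsg.Agent.Lib.H12.Cls Cfsg.Agent.Lib.H4.SLK

universe u v
variable {F : Type u} [Field F]

theorem scl_of_eq {J : ℕ} (a : Fin J → Fˣ) (g : Fin J → F[X]) (j : Fin J) (h : g j = 1) :
    scl a g j = 1 := by
  classical
  rw [scl_apply, if_pos h]

theorem scl_of_ne {J : ℕ} (a : Fin J → Fˣ) (g : Fin J → F[X]) (j : Fin J) (h : g j ≠ 1) :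
    scl a g j = g j + C (((a j : F) - 1) * (g j).coeff 0) := by
  classical
  rw [scl_apply, if_neg h]

theorem natDegree_pos_of_monic_ne_one (p : F[X]) (hp : p.Monic) (h : p ≠ 1) : 0 < p.natDegree := by
  rcases Nat.eq_zero_or_pos p.natDegree with h0 | h0
  · exact absurd (hp.natDegree_eq_zero.mp h0) h
  · exact h0

theorem monic_add_C (p : F[X]) (hp : p.Monic) (h : p ≠ 1) (c : F) : (p + C c).Monic := by
  apply hp.add_of_left
  have h1 : 0 < p.natDegree := natDegree_pos_of_monic_ne_one p hp h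
  calc (C c).degree ≤ 0 := degree_C_le
    _ < p.degree := by
      rw [degree_eq_natDegree hp.ne_zero]
      exact_mod_cast h1

theorem coeff_zero_scl_of_ne {J : ℕ} (a : Fin J → Fˣ) (g : Fin J → F[X]) (j : Fin J)
    (h : g j ≠ 1) : (scl a g j).coeff 0 = (a j : F) * (g j).coeff 0 := by
  rw [scl_of_ne a g j h, coeff_add, coeff_C_zero]
  ring

theorem natDegree_scl {J : ℕ} (a : Fin J → Fˣ) (g : Fin J → F[X]) (j : Fin J) :
    (scl a g j).natDegree = (g j).natDegree := by
  by_cases h : g j = 1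
  · rw [scl_of_eq a g j h, h]
  · rw [scl_of_ne a g j h, natDegree_add_C]

theorem scl_ne_one {J : ℕ} (a : Fin J → Fˣ) (g : Fin J → F[X]) (j : Fin J) (hm : (g j).Monic)
    (h : g j ≠ 1) : scl a g j ≠ 1 := by
  intro h1
  have h2 := natDegree_scl a g j
  rw [h1, natDegree_one] at h2
  have := natDegree_pos_of_monic_ne_one (g j) hm h
  omega

theorem monic_scl {J : ℕ} (a : Fin J → Fˣ) (g : Fin J → F[X]) (j : Fin J) (hm : (g j).Monic) :
    (scl a g j).Monic := by
  by_cases h : g j = 1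
  · rw [scl_of_eq a g j h]
    exact monic_one
  · rw [scl_of_ne a g j h]
    exact monic_add_C _ hm h _

/-- SCL1 : rescaling preserves monicity, non-vanishing of constant terms, degrees and supports -/
theorem scl_props {J : ℕ} (a : Fin J → Fˣ) (g : Fin J → F[X])
    (hg : ∀ j, (g j).Monic ∧ (g j).coeff 0 ≠ 0) :
    (∀ j, (scl a g j).Monic ∧ (scl a g j).coeff 0 ≠ 0) ∧
      (∀ j, (scl a g j).natDegree = (g j).natDegree) ∧ supp (scl a g) = supp g := by
  refine ⟨fun j => ⟨monic_scl a g j (hg j).1, ?_⟩, fun j => natDegree_scl a g j, ?_⟩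
  · by_cases h : g j = 1
    · rw [scl_of_eq a g j h, coeff_one_zero]
      exact one_ne_zero
    · rw [coeff_zero_scl_of_ne a g j h]
      exact mul_ne_zero (a j).ne_zero (hg j).2
  · ext j
    rw [mem_supp, mem_supp]
    constructor
    · intro h1 h2
      exact h1 (scl_of_eq a g j h2)
    · intro h1
      exact scl_ne_one a g j (hg j).1 h1

/-- SCL2 : rescaling is a group action on tuples of monic polynomials -/
theorem scl_one_mul {J : ℕ} (g : Fin J → F[X]) (hg : ∀ j, (g j).Monic) :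
    scl 1 g = g ∧ ∀ a b : Fin J → Fˣ, scl a (scl b g) = scl (a * b) g := by
  constructor
  · funext j
    by_cases h : g j = 1
    · rw [scl_of_eq 1 g j h, h]
    · rw [scl_of_ne 1 g j h]
      simp
  · intro a b
    funext j
    by_cases h : g j = 1
    · rw [scl_of_eq (a * b) g j h, scl_of_eq a (scl b g) j (scl_of_eq b g j h)]
    · rw [scl_of_ne (a * b) g j h, scl_of_ne a (scl b g) j (scl_ne_one b g j (hg j) h),
        coeff_zero_scl_of_ne b g j h, scl_of_ne b g j h, add_assoc, ← C_add]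
      congr 2
      rw [Pi.mul_apply, Units.val_mul]
      ring

theorem sc_one : sc (1 : F[X]) = 1 := by
  unfold sc
  simp

theorem sc_scl {J : ℕ} (a : Fin J → Fˣ) (g : Fin J → F[X]) (j : Fin J) (h : g j ≠ 1) :
    sc (scl a g j) = sc (g j) * (a j : F) := by
  unfold sc
  rw [natDegree_scl, coeff_zero_scl_of_ne a g j h]
  ring

/-- SCL3 -/
theorem Dt_scl {J : ℕ} (a : Fin J → Fˣ) (g : Fin J → F[X]) (hg : ∀ j, (g j).Monic) :
    Dt (scl a g) = Dt g * (chi g a : F) := by
  classical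
  unfold Dt chi
  rw [Units.coe_prod, ← Finset.prod_filter_mul_prod_filter_not Finset.univ (fun j => g j ≠ 1)]
  rw [← Finset.prod_filter_mul_prod_filter_not Finset.univ (fun j => g j ≠ 1)
    (f := fun j => sc (g j) ^ ((j : ℕ) + 1))]
  have h1 : ∏ j ∈ Finset.univ.filter (fun j => ¬ g j ≠ 1), sc (scl a g j) ^ ((j : ℕ) + 1) = 1 := by
    apply Finset.prod_eq_one
    intro j hj
    rw [Finset.mem_filter] at hj
    rw [scl_of_eq a g j (not_not.mp hj.2), sc_one, one_pow]
  have h2 : ∏ j ∈ Finset.univ.filter (fun j => ¬ g j ≠ 1), sc (g j) ^ ((j : ℕ) + 1) = 1 := by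
    apply Finset.prod_eq_one
    intro j hj
    rw [Finset.mem_filter] at hj
    rw [not_not.mp hj.2, sc_one, one_pow]
  rw [h1, h2, mul_one, mul_one]
  have h3 : supp g = Finset.univ.filter (fun j => g j ≠ 1) := by
    ext j
    rw [mem_supp]
    simp
  rw [h3, ← Finset.prod_mul_distrib]
  apply Finset.prod_congr rfl
  intro j hj
  rw [Finset.mem_filter] at hj
  rw [sc_scl a g j hj.2, mul_pow, Units.val_pow_eq_pow_val]

/-- SCL4 -/
theorem Dt_eq_chi {J : ℕ} (g : Fin J → F[X]) (hg : ∀ j, (g j).Monic ∧ (g j).coeff 0 ≠ 0) :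
    ∃ c : Fin J → Fˣ, Dt g = (chi g c : F) := by
  classical
  have hne : ∀ j, sc (g j) ≠ 0 := by
    intro j
    unfold sc
    exact mul_ne_zero (pow_ne_zero _ (neg_ne_zero.mpr one_ne_zero)) (hg j).2
  refine ⟨fun j => Units.mk0 (sc (g j)) (hne j), ?_⟩
  unfold Dt chi
  rw [Units.coe_prod]
  have h3 : supp g = Finset.univ.filter (fun j => g j ≠ 1) := by
    ext j
    rw [mem_supp]
    simp
  rw [h3, Finset.prod_filter]
  apply Finset.prod_congr rfl
  intro j _
  by_cases h : g j = 1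
  · rw [if_neg (not_not.mpr h), h, sc_one, one_pow]
  · rw [if_pos h, Units.val_pow_eq_pow_val, Units.val_mk0]

end Cfsg.Agent.Lib.H9.SLK
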