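import Cfsg.Agent.Lib.H10.SuB
import Cfsg.Agent.Lib.H10.SfH

/-!
# S5658 farm-out, task A (helper9): all short root elements for the standard pairs generate `SU`.
-/

set_option autoImplicit false
set_option linter.unusedSectionVars false
set_option linter.unusedVariables false
set_option linter.unusedSimpArgs false

namespace Cfsg.Agent.Lib.H9.SuSub

open Matrix
open Cfsg.Agent.S0837 (Bs Bs_apply Bs_symm Bs_nondeg)
open Cfsg.Agent.S0781 (Em Em_mulVec exists_skew)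
open Cfsg.Agent.S0782 (exists_trace)
open Cfsg.Agent.Lib.H11.UGen (Um Um_mulVec)
open Cfsg.Agent.Lib.H10.Sf (IsRat)
open Cfsg.Agent.Lib.H10.Su

variable {F : Type*} [Field F] [Fintype F] {n q : ℕ} (φ : F →+* F)

/-- vectors `w ⊥ y` all of whose Siegel elements with centre `y` lie in `H` -/
def Wset (H : Subgroup (GL (Fin n) F)) (y : Fin n → F) : Set (Fin n → F) :=
  {w | Bs φ n y w = 0 ∧ ∀ s, s + φ s + Bs φ n w w = 0 → InH H (Em φ y w s)}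

section W
variable {φ} {H : Subgroup (GL (Fin n) F)} {y : Fin n → F}

theorem Wset_zero (hφ2 : ∀ x, φ (φ x) = x) (hyy : Bs φ n y y = 0)
    (hU : ∀ c, c + φ c = 0 → InH H (Um φ y c)) : (0 : Fin n → F) ∈ Wset φ H y := by
  refine ⟨map_zero _, fun s hs => ?_⟩
  rw [← Um_eq_Em φ hφ2 y s hyy]
  apply hU
  simpa using hs

theorem Wset_add (hφ2 : ∀ x, φ (φ x) = x) (hyy : Bs φ n y y = 0) (hφne : φ ≠ RingHom.id F)
    {w w' : Fin n → F} (hw : w ∈ Wset φ H y) (hw' : w' ∈ Wset φ H y) :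
    w + w' ∈ Wset φ H y := by
  obtain ⟨h1, h2⟩ := hw
  obtain ⟨h1', h2'⟩ := hw'
  refine ⟨by rw [map_add, h1, h1', add_zero], fun s hs => ?_⟩
  have hκ : φ (Bs φ n w w) = Bs φ n w w := B_symm' φ hφ2 w w
  obtain ⟨s₁, hs₁⟩ := exists_trace hφne hφ2 (Bs φ n w w) hκ
  have hwy : Bs φ n w y = 0 := B_zero_symm φ hφ2 h1
  have e := Em_mul φ hφ2 y w w' s₁ (s - s₁ + Bs φ n w w') hyy h1' hwy
  have hs₂ : (s - s₁ + Bs φ n w w') + φ (s - s₁ + Bs φ n w w') + Bs φ n w' w' = 0 := by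
    have h3 : φ (Bs φ n w w') = Bs φ n w' w := B_symm' φ hφ2 w w'
    simp only [map_add, map_sub, h3]
    simp only [map_add, LinearMap.add_apply] at hs
    linear_combination hs - hs₁
  have h4 := (h2 s₁ hs₁).mul (h2' _ hs₂)
  rw [e] at h4
  have h5 : s₁ + (s - s₁ + Bs φ n w w') - Bs φ n w w' = s := by ring
  rwa [h5] at h4

theorem Wset_sum (hφ2 : ∀ x, φ (φ x) = x) (hyy : Bs φ n y y = 0) (hφne : φ ≠ RingHom.id F)
    (hU : ∀ c, c + φ c = 0 → InH H (Um φ y c)) {κ : Type*} (S : Finset κ)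
    (f : κ → Fin n → F) (h : ∀ k ∈ S, f k ∈ Wset φ H y) : ∑ k ∈ S, f k ∈ Wset φ H y := by
  classical
  induction S using Finset.induction_on with
  | empty => simpa using Wset_zero hφ2 hyy hU
  | insert a S ha ih =>
    rw [Finset.sum_insert ha]
    exact Wset_add hφ2 hyy hφne (h a (Finset.mem_insert_self a S))
      (ih fun k hk => h k (Finset.mem_insert_of_mem hk))

theorem Wset_smul_self (hφ2 : ∀ x, φ (φ x) = x) (hyy : Bs φ n y y = 0)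
    (hU : ∀ c, c + φ c = 0 → InH H (Um φ y c)) (a : F) : a • y ∈ Wset φ H y := by
  refine ⟨by rw [map_smul, hyy, smul_zero], fun s hs => ?_⟩
  have e : Em φ y (a • y) s = Um φ y (s + a - φ a) := by
    rw [Matrix.ext_iff_mulVec]
    intro x
    rw [Em_mulVec φ hφ2 _ _ _ hyy, Um_mulVec]
    simp only [map_smulₛₗ, LinearMap.smul_apply, smul_eq_mul]
    module
  rw [e]
  apply hU
  have h0 : Bs φ n (a • y) (a • y) = 0 := by
    simp only [map_smulₛₗ, map_smul, LinearMap.smul_apply, smul_eq_mul, hyy, mul_zero]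
  rw [h0, add_zero] at hs
  simp only [map_add, map_sub, hφ2]
  linear_combination hs

theorem Wset_short (hφ2 : ∀ x, φ (φ x) = x) (hyy : Bs φ n y y = 0)
    (hU : ∀ c, c + φ c = 0 → InH H (Um φ y c)) {z : Fin n → F} (hzz : Bs φ n z z = 0)
    (hyz : Bs φ n y z = 0) (hS : ∀ β : F, InH H (Em φ y (β • z) 0)) (β : F) :
    β • z ∈ Wset φ H y := by
  refine ⟨by rw [map_smul, hyz, smul_zero], fun s hs => ?_⟩
  have h0 : Bs φ n (β • z) (β • z) = 0 := by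
    simp only [map_smulₛₗ, map_smul, LinearMap.smul_apply, smul_eq_mul, hzz, mul_zero]
  rw [h0, add_zero] at hs
  have hzy : Bs φ n (β • z) y = 0 := by
    rw [map_smulₛₗ, LinearMap.smul_apply, B_zero_symm φ hφ2 hyz, smul_zero]
  have e := Em_mul φ hφ2 y (β • z) 0 0 s hyy (map_zero _) hzy
  have h1 : InH H (Em φ y 0 s) := by
    rw [← Um_eq_Em φ hφ2 y s hyy]; exact hU s hs
  have h2 := (hS β).mul h1
  rw [e] at h2
  simpa using h2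

end W

/-! ### the standard vectors -/

/-- the hypotheses of task A -/
structure Ctx (φ : F →+* F) (q : ℕ) (F₀ : Subfield F) (H : Subgroup (GL (Fin n) F))
    (ζ₁ ζ₂ : F) : Prop where
  hφ : ∀ x, φ x = x ^ q
  hφ2 : ∀ x, φ (φ x) = x
  hφne : φ ≠ RingHom.id F
  h₁ : ζ₁ ∈ F₀
  h₁' : ζ₁ * φ ζ₁ = -1
  h₂ : ζ₂ ∈ F₀
  h₂' : ζ₂ * φ ζ₂ = -1
  h₁₂ : ζ₁ ≠ ζ₂
  hH : H ≤ Cfsg.GU n F q ⊓ Cfsg.Geo.specialLinear (Fin n) F
  hall : ∀ (i j k l : Fin n) (ζ ζ' : F), i ≠ j → i ≠ k → i ≠ l → j ≠ k → j ≠ l → k ≠ l →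
      ζ ∈ F₀ → ζ * φ ζ = -1 → ζ' ∈ F₀ → ζ' * φ ζ' = -1 →
      ∀ β : F, InH H (Sm φ (yv i j ζ) (yv k l ζ') β)

theorem exists_notMem' (S : Finset (Fin n)) (h : S.card < n) : ∃ k, k ∉ S := by
  by_contra hcon
  push Not at hcon
  have : S = Finset.univ := Finset.eq_univ_iff_forall.2 hcon
  rw [this, Finset.card_univ, Fintype.card_fin] at h
  exact lt_irrefl _ h

theorem exists_two (hn : 4 ≤ n) (i j : Fin n) :
    ∃ k l : Fin n, k ≠ i ∧ k ≠ j ∧ l ≠ i ∧ l ≠ j ∧ k ≠ l := by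
  classical
  obtain ⟨k, hk⟩ := exists_notMem' ({i, j} : Finset (Fin n))
    (lt_of_le_of_lt (Finset.card_le_two) (by omega))
  obtain ⟨l, hl⟩ := exists_notMem' ({i, j, k} : Finset (Fin n))
    (lt_of_le_of_lt (Finset.card_le_three) (by omega))
  simp only [Finset.mem_insert, Finset.mem_singleton, not_or] at hk hl
  exact ⟨k, l, hk.1, hk.2, hl.1, hl.2.1, fun h => hl.2.2 h.symm⟩

variable {φ}

theorem one_add_ne_zero {ζ ζ' : F} (hζ : ζ * φ ζ = -1) (hne : ζ ≠ ζ') : 1 + φ ζ * ζ' ≠ 0 := by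
  intro h
  apply hne
  have h1 : φ ζ ≠ 0 := by
    intro h0
    rw [h0, mul_zero] at hζ
    exact one_ne_zero (neg_eq_zero.1 hζ.symm)
  have h2 : φ ζ * (ζ - ζ') = 0 := by linear_combination hζ - h
  rcases mul_eq_zero.1 h2 with h3 | h3
  · exact absurd h3 h1
  · exact sub_eq_zero.1 h3

variable {F₀ : Subfield F} {H : Subgroup (GL (Fin n) F)} {ζ₁ ζ₂ : F}

/-- step (a): all transvections with a standard centre -/
theorem Um_std (C : Ctx φ q F₀ H ζ₁ ζ₂) (hn : 4 ≤ n) {i j : Fin n} (hij : i ≠ j) {ζ : F}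
    (hζ : ζ ∈ F₀) (hζ' : ζ * φ ζ = -1) (c : F) (hc : c + φ c = 0) :
    InH H (Um φ (yv i j ζ) c) := by
  obtain ⟨k, l, hki, hkj, hli, hlj, hkl⟩ := exists_two hn i j
  have hφ2 := C.hφ2
  have hyy : Bs φ n (yv i j ζ) (yv i j ζ) = 0 := yv_iso φ hij hζ'
  have hyz : Bs φ n (yv i j ζ) (yv k l ζ₁) = 0 := B_yv_disj φ hki.symm hli.symm hkj.symm hlj.symm ζ ζ₁
  have hyz' : Bs φ n (yv i j ζ) (yv k l ζ₂) = 0 := B_yv_disj φ hki.symm hli.symm hkj.symm hlj.symm ζ ζ₂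
  have hbv : Bs φ n (yv k l ζ₁) (yv k l ζ₂) = 1 + φ ζ₁ * ζ₂ := B_yv_yv φ hkl ζ₁ ζ₂
  have hb0 : Bs φ n (yv k l ζ₁) (yv k l ζ₂) ≠ 0 := by
    rw [hbv]; exact one_add_ne_zero C.h₁' C.h₁₂
  obtain ⟨μ, hμ⟩ := exists_skew C.hφne hφ2 c hc
  have hA : InH H (Em φ (yv i j ζ) ((μ / φ (Bs φ n (yv k l ζ₁) (yv k l ζ₂))) • yv k l ζ₁) 0) :=
    C.hall k l i j ζ₁ ζ hkl hki hkj hli hlj hij C.h₁ C.h₁' hζ hζ' _
  have hB : InH H (Em φ (yv i j ζ) ((1 : F) • yv k l ζ₂) 0) :=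
    C.hall k l i j ζ₂ ζ hkl hki hkj hli hlj hij C.h₂ C.h₂' hζ hζ' _
  have e := Em_comm_mat φ hφ2 (yv i j ζ)
    ((μ / φ (Bs φ n (yv k l ζ₁) (yv k l ζ₂))) • yv k l ζ₁) ((1 : F) • yv k l ζ₂) 0 0 hyy
    (by rw [map_smul, hyz, smul_zero]) (by rw [map_smul, hyz', smul_zero])
  have hD := InH.of_comm hA hB e
  have hφb0 : φ (Bs φ n (yv k l ζ₁) (yv k l ζ₂)) ≠ 0 := (map_ne_zero φ).2 hb0
  have h3 : Bs φ n (yv k l ζ₂) (yv k l ζ₁) = φ (Bs φ n (yv k l ζ₁) (yv k l ζ₂)) :=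
    (B_symm' φ hφ2 _ _).symm
  have h4 : Bs φ n ((1 : F) • yv k l ζ₂) ((μ / φ (Bs φ n (yv k l ζ₁) (yv k l ζ₂))) • yv k l ζ₁) -
      Bs φ n ((μ / φ (Bs φ n (yv k l ζ₁) (yv k l ζ₂))) • yv k l ζ₁) ((1 : F) • yv k l ζ₂) = c := by
    simp only [map_smulₛₗ, map_smul, LinearMap.smul_apply, smul_eq_mul, map_one, one_mul, h3,
      map_div₀, hφ2, RingHom.id_apply]
    rw [← hμ, div_mul_cancel₀ _ hφb0, div_mul_cancel₀ _ hb0]
  rwa [h4] at hD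

/-- step (b1): multiples of basis vectors off the support -/
theorem single_mem_Wset (C : Ctx φ q F₀ H ζ₁ ζ₂) (hn : 4 ≤ n) {i j : Fin n} (hij : i ≠ j) {ζ : F}
    (hζ : ζ ∈ F₀) (hζ' : ζ * φ ζ = -1) {k : Fin n} (hki : k ≠ i) (hkj : k ≠ j) (a : F) :
    a • (Pi.single k 1 : Fin n → F) ∈ Wset φ H (yv i j ζ) := by
  classical
  have hφ2 := C.hφ2
  have hyy : Bs φ n (yv i j ζ) (yv i j ζ) = 0 := yv_iso φ hij hζ'
  have hU : ∀ c, c + φ c = 0 → InH H (Um φ (yv i j ζ) c) :=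
    fun c hc => Um_std C hn hij hζ hζ' c hc
  obtain ⟨l, hl⟩ := exists_notMem' ({i, j, k} : Finset (Fin n))
    (lt_of_le_of_lt (Finset.card_le_three) (by omega))
  simp only [Finset.mem_insert, Finset.mem_singleton, not_or] at hl
  have hli : l ≠ i := hl.1
  have hlj : l ≠ j := hl.2.1
  have hkl : k ≠ l := fun h => hl.2.2 h.symm
  have hd : ζ₂ - ζ₁ ≠ 0 := sub_ne_zero.2 (Ne.symm C.h₁₂)
  have e : a • (Pi.single k 1 : Fin n → F) =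
      (a * ζ₂ / (ζ₂ - ζ₁)) • yv k l ζ₁ + (-(a * ζ₁ / (ζ₂ - ζ₁))) • yv k l ζ₂ := by
    have e1 : a * ζ₂ / (ζ₂ - ζ₁) + -(a * ζ₁ / (ζ₂ - ζ₁)) = a := by field_simp; ring
    have e2 : a * ζ₂ / (ζ₂ - ζ₁) * ζ₁ + -(a * ζ₁ / (ζ₂ - ζ₁)) * ζ₂ = 0 := by field_simp; ring
    have e3 : (a * ζ₂ / (ζ₂ - ζ₁)) • yv k l ζ₁ + (-(a * ζ₁ / (ζ₂ - ζ₁))) • yv k l ζ₂ =
        (a * ζ₂ / (ζ₂ - ζ₁) + -(a * ζ₁ / (ζ₂ - ζ₁))) • (Pi.single k 1 : Fin n → F) +
        (a * ζ₂ / (ζ₂ - ζ₁) * ζ₁ + -(a * ζ₁ / (ζ₂ - ζ₁)) * ζ₂) • (Pi.single l 1 : Fin n → F) := by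
      unfold yv
      module
    rw [e3, e1, e2, zero_smul, add_zero]
  rw [e]
  apply Wset_add hφ2 hyy C.hφne
  · refine Wset_short hφ2 hyy hU (yv_iso φ hkl C.h₁')
      (B_yv_disj φ hki.symm hli.symm hkj.symm hlj.symm ζ ζ₁) (fun β => ?_) _
    exact C.hall k l i j ζ₁ ζ hkl hki hkj hli hlj hij C.h₁ C.h₁' hζ hζ' β
  · refine Wset_short hφ2 hyy hU (yv_iso φ hkl C.h₂')
      (B_yv_disj φ hki.symm hli.symm hkj.symm hlj.symm ζ ζ₂) (fun β => ?_) _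
    exact C.hall k l i j ζ₂ ζ hkl hki hkj hli hlj hij C.h₂ C.h₂' hζ hζ' β

theorem vec_eq_sum' (u : Fin n → F) : u = ∑ k, u k • (Pi.single k 1 : Fin n → F) := by
  funext i
  rw [Finset.sum_apply]
  simp [Pi.single_apply]

/-- step (b2): everything orthogonal to a standard vector -/
theorem perp_mem_Wset (C : Ctx φ q F₀ H ζ₁ ζ₂) (hn : 4 ≤ n) {i j : Fin n} (hij : i ≠ j) {ζ : F}
    (hζ : ζ ∈ F₀) (hζ' : ζ * φ ζ = -1) {w : Fin n → F} (hw : Bs φ n (yv i j ζ) w = 0) :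
    w ∈ Wset φ H (yv i j ζ) := by
  have hφ2 := C.hφ2
  have hyy : Bs φ n (yv i j ζ) (yv i j ζ) = 0 := yv_iso φ hij hζ'
  have hU : ∀ c, c + φ c = 0 → InH H (Um φ (yv i j ζ) c) :=
    fun c hc => Um_std C hn hij hζ hζ' c hc
  rw [B_yv_left] at hw
  have e : w = (-(φ ζ * w j)) • yv i j ζ + (w - (-(φ ζ * w j)) • yv i j ζ) := by
    rw [add_sub_cancel]
  rw [e]
  apply Wset_add hφ2 hyy C.hφne (Wset_smul_self hφ2 hyy hU _)
  have hui : (w - (-(φ ζ * w j)) • yv i j ζ) i = 0 := by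
    simp only [Pi.sub_apply, Pi.smul_apply, smul_eq_mul, yv_apply_left hij]
    linear_combination hw
  have huj : (w - (-(φ ζ * w j)) • yv i j ζ) j = 0 := by
    simp only [Pi.sub_apply, Pi.smul_apply, smul_eq_mul, yv_apply_right hij]
    linear_combination (w j) * hζ'
  rw [vec_eq_sum' (w - (-(φ ζ * w j)) • yv i j ζ)]
  apply Wset_sum hφ2 hyy C.hφne hU
  intro k _
  by_cases hki : k = i
  · rw [hki, hui, zero_smul]; exact Wset_zero hφ2 hyy hU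
  by_cases hkj : k = j
  · rw [hkj, huj, zero_smul]; exact Wset_zero hφ2 hyy hU
  exact single_mem_Wset C hn hij hζ hζ' hki hkj _

/-- step (b): all Siegel elements with a standard centre -/
theorem Em_std (C : Ctx φ q F₀ H ζ₁ ζ₂) (hn : 4 ≤ n) {i j : Fin n} (hij : i ≠ j) {ζ : F}
    (hζ : ζ ∈ F₀) (hζ' : ζ * φ ζ = -1) {w : Fin n → F} (hw : Bs φ n (yv i j ζ) w = 0) {s : F}
    (hs : s + φ s + Bs φ n w w = 0) : InH H (Em φ (yv i j ζ) w s) :=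
  (perp_mem_Wset C hn hij hζ hζ' hw).2 s hs

open Cfsg.Agent.Lib.H11.SuPar (Cen Cen_smul Cen_act Cen_of_smul eq_of_Cen_all)
open Cfsg.Agent.Lib.H11.SuSp (tv tv_val)

theorem std_mem_Cen (C : Ctx φ q F₀ H ζ₁ ζ₂) (hn : 4 ≤ n) {i j : Fin n} (hij : i ≠ j) {ζ : F}
    (hζ : ζ ∈ F₀) (hζ' : ζ * φ ζ = -1) : yv i j ζ ∈ Cen C.hφ C.hφ2 H := by
  intro c hv hc
  apply InH.mem
  rw [tv_val]
  exact Um_std C hn hij hζ hζ' c hc

/-- step (c): every isotropic vector is a centre -/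
theorem mem_Cen (C : Ctx φ q F₀ H ζ₁ ζ₂) (hn : 4 ≤ n) (v : Fin n → F)
    (hv : Bs φ n v v = 0) : v ∈ Cen C.hφ C.hφ2 H := by
  classical
  have hφ2 := C.hφ2
  by_cases hv0 : v = 0
  · have h01 : (⟨0, by omega⟩ : Fin n) ≠ ⟨1, by omega⟩ := by
      intro h
      have := congrArg Fin.val h
      simp at this
    have h1 := Cen_smul C.hφ C.hφ2 (std_mem_Cen C hn h01 C.h₁ C.h₁') (0 : F)
    rwa [zero_smul, ← hv0] at h1
  · obtain ⟨k, hk⟩ : ∃ k, v k ≠ 0 := by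
      by_contra h
      push Not at h
      exact hv0 (funext h)
    obtain ⟨j, hj⟩ := exists_notMem' ({k} : Finset (Fin n)) (by
      rw [Finset.card_singleton]; omega)
    have hkj : k ≠ j := fun h => hj (by rw [Finset.mem_singleton]; exact h.symm)
    obtain ⟨ζ, ζ', hζ, hζn, hζ', hζ'n, hne, hBv⟩ : ∃ ζ ζ' : F, ζ ∈ F₀ ∧ ζ * φ ζ = -1 ∧
        ζ' ∈ F₀ ∧ ζ' * φ ζ' = -1 ∧ ζ ≠ ζ' ∧ Bs φ n (yv k j ζ) v ≠ 0 := by
      by_cases h1 : Bs φ n (yv k j ζ₁) v = 0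
      · refine ⟨ζ₂, ζ₁, C.h₂, C.h₂', C.h₁, C.h₁', C.h₁₂.symm, ?_⟩
        intro h2
        rw [B_yv_left] at h1 h2
        have h3 : (φ ζ₁ - φ ζ₂) * v j = 0 := by linear_combination h1 - h2
        have h4 : φ ζ₁ - φ ζ₂ ≠ 0 := by
          rw [← map_sub]; exact (map_ne_zero φ).2 (sub_ne_zero.2 C.h₁₂)
        have h5 : v j = 0 := (mul_eq_zero.1 h3).resolve_left h4
        rw [h5, mul_zero, add_zero] at h1
        exact hk h1
      · exact ⟨ζ₁, ζ₂, C.h₁, C.h₁', C.h₂, C.h₂', C.h₁₂, h1⟩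
    have hyy : Bs φ n (yv k j ζ) (yv k j ζ) = 0 := yv_iso φ hkj hζn
    have hzz : Bs φ n (yv k j ζ') (yv k j ζ') = 0 := yv_iso φ hkj hζ'n
    obtain ⟨b, hb⟩ : ∃ b, Bs φ n (yv k j ζ) (yv k j ζ') = b := ⟨_, rfl⟩
    have hb0 : b ≠ 0 := by
      rw [← hb, B_yv_yv φ hkj ζ ζ']; exact one_add_ne_zero hζn hne
    have hφb0 : φ b ≠ 0 := (map_ne_zero φ).2 hb0
    obtain ⟨a, ha⟩ : ∃ a, Bs φ n (yv k j ζ) v = a := ⟨_, rfl⟩
    rw [ha] at hBv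
    obtain ⟨v', hv'⟩ : ∃ v', v' = (b / a) • v := ⟨_, rfl⟩
    have hyv' : Bs φ n (yv k j ζ) v' = b := by
      rw [hv', map_smul, smul_eq_mul, ha, div_mul_cancel₀ _ hBv]
    have hv'v' : Bs φ n v' v' = 0 := by
      rw [hv']
      simp only [map_smulₛₗ, map_smul, LinearMap.smul_apply, smul_eq_mul, hv, mul_zero]
    obtain ⟨t, ht⟩ : ∃ t, Bs φ n v' (yv k j ζ') = t := ⟨_, rfl⟩
    have htz : Bs φ n (yv k j ζ') v' = φ t := by rw [← ht]; exact (B_symm' φ hφ2 _ _).symm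
    obtain ⟨w, hw⟩ : ∃ w, w = b⁻¹ • (v' - yv k j ζ') := ⟨_, rfl⟩
    have hyw : Bs φ n (yv k j ζ) w = 0 := by
      rw [hw, map_smul, map_sub, hyv', hb, sub_self, smul_zero]
    have hwz : Bs φ n w (yv k j ζ') = t / φ b := by
      rw [hw, map_smulₛₗ, LinearMap.smul_apply, map_sub, LinearMap.sub_apply, hzz, sub_zero, ht,
        smul_eq_mul, map_inv₀]
      field_simp
    have hww : Bs φ n w w = -(t + φ t) / (φ b * b) := by
      rw [hw]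
      simp only [map_smulₛₗ, map_smul, map_sub, LinearMap.smul_apply, LinearMap.sub_apply,
        smul_eq_mul, hv'v', hzz, ht, htz, map_inv₀, RingHom.id_apply]
      field_simp
      ring
    have hs : t / (φ b * b) + φ (t / (φ b * b)) + Bs φ n w w = 0 := by
      rw [hww, map_div₀, map_mul, hφ2]
      field_simp
      ring
    obtain ⟨g, hg, hgM⟩ := Em_std C hn hkj hζ hζn hyw hs
    have hgz : g.1 *ᵥ yv k j ζ' = v' := by
      have h1 : g.1 = Em φ (yv k j ζ) w (t / (φ b * b)) := hgM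
      rw [h1, Em_mulVec φ hφ2 _ _ _ hyy, hb, hwz]
      have h2 : t / (φ b * b) * b - t / φ b = 0 := by
        field_simp
        ring
      rw [h2, zero_smul, add_zero, hw, smul_smul, mul_inv_cancel₀ hb0, one_smul]
      abel
    have h1 := Cen_act C.hφ C.hφ2 (le_trans C.hH inf_le_left)
      (std_mem_Cen C hn hkj hζ' hζ'n) hg
    rw [hgz, hv'] at h1
    exact Cen_of_smul C.hφ C.hφ2 (div_ne_zero hb0 hBv) h1

variable (φ)

/-- **A**: all short root elements for the standard pairs => everything. -/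
theorem eq_top_of_short (hF : Fintype.card F = q ^ 2) (hφ : ∀ x, φ x = x ^ q)
    (hφ2 : ∀ x, φ (φ x) = x) (hn : 13 ≤ n) {F₀ : Subfield F}
    {ζ₁ ζ₂ : F} (h₁ : ζ₁ ∈ F₀) (h₁' : ζ₁ * φ ζ₁ = -1) (h₂ : ζ₂ ∈ F₀) (h₂' : ζ₂ * φ ζ₂ = -1)
    (h₁₂ : ζ₁ ≠ ζ₂) {H : Subgroup (GL (Fin n) F)}
    (hH : H ≤ Cfsg.GU n F q ⊓ Cfsg.Geo.specialLinear (Fin n) F)
    (hall : ∀ (i j k l : Fin n) (ζ ζ' : F), i ≠ j → i ≠ k → i ≠ l → j ≠ k → j ≠ l → k ≠ l →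
      ζ ∈ F₀ → ζ * φ ζ = -1 → ζ' ∈ F₀ → ζ' * φ ζ' = -1 →
      ∀ β : F, InH H (Sm φ (yv i j ζ) (yv k l ζ') β)) :
    H = Cfsg.GU n F q ⊓ Cfsg.Geo.specialLinear (Fin n) F := by
  have C : Ctx φ q F₀ H ζ₁ ζ₂ :=
    { hφ := hφ
      hφ2 := hφ2
      hφne := Cfsg.Agent.S0837.phi_ne_id φ hF hφ
      h₁ := h₁
      h₁' := h₁'
      h₂ := h₂
      h₂' := h₂'
      h₁₂ := h₁₂
      hH := hH
      hall := hall }
  exact eq_of_Cen_all hφ hφ2 hF (by omega) (by omega) hH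
    (fun y hy => mem_Cen C (by omega) y hy)

end Cfsg.Agent.Lib.H9.SuSub
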