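import Mathlib

/-!
# Concrete facts about `A5 = alternatingGroup (Fin 5)` and `S5` (part A: tools)

Requested by helper25 for the S0690 cluster.  Everything is proved by kernel `decide`
on small decidable reformulations.
-/

namespace Cfsg.Agent.Lib.H9.A5Facts

open Equiv

/-- order two, decidable form -/
theorem orderOf_eq_two_iff' {G : Type*} [Group G] (x : G) :
    orderOf x = 2 ↔ x * x = 1 ∧ x ≠ 1 := by
  constructor
  · intro h
    refine ⟨?_, ?_⟩
    · have := pow_orderOf_eq_one x
      rw [h, pow_two] at this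
      exact this
    · intro h1
      rw [h1, orderOf_one] at h
      omega
  · rintro ⟨h1, h2⟩
    have : Fact (Nat.Prime 2) := ⟨Nat.prime_two⟩
    exact orderOf_eq_prime (by rw [pow_two]; exact h1) h2

/-- order three, decidable form -/
theorem orderOf_eq_three_iff' {G : Type*} [Group G] (x : G) :
    orderOf x = 3 ↔ x * x * x = 1 ∧ x ≠ 1 := by
  constructor
  · intro h
    refine ⟨?_, ?_⟩
    · have := pow_orderOf_eq_one x
      rw [h, pow_succ, pow_two] at this
      exact this
    · intro h1
      rw [h1, orderOf_one] at h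
      omega
  · rintro ⟨h1, h2⟩
    have : Fact (Nat.Prime 3) := ⟨Nat.prime_three⟩
    exact orderOf_eq_prime (by rw [pow_succ, pow_two]; exact h1) h2

/-- order five, one direction -/
theorem orderOf_eq_five_of {G : Type*} [Group G] (x : G) (h1 : x ^ 5 = 1) (h2 : x ≠ 1) :
    orderOf x = 5 := by
  have : Fact (Nat.Prime 5) := ⟨by norm_num⟩
  exact orderOf_eq_prime h1 h2

/-- `x, y` have a common invariant proper nonempty subset of `Fin 5`. -/
def Inv (x y : Perm (Fin 5)) : Prop :=
  ∃ T : Finset (Fin 5), T.Nonempty ∧ T ≠ Finset.univ ∧ (∀ i ∈ T, x i ∈ T) ∧ (∀ i ∈ T, y i ∈ T)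

instance (x y : Perm (Fin 5)) : Decidable (Inv x y) := by
  unfold Inv; infer_instance

set_option maxRecDepth 100000 in
theorem exists_moves_A5 : ∀ T : Finset (Fin 5), T.Nonempty → T ≠ Finset.univ →
    ∃ g : alternatingGroup (Fin 5), ∃ i ∈ T, g.1 i ∉ T := by
  decide

/-- a subgroup of `A5` with elements of order 2, 3 and 5 is everything -/
theorem eq_top_of_orders (K : Subgroup (alternatingGroup (Fin 5)))
    (x y z : alternatingGroup (Fin 5)) (hx : x ∈ K) (hy : y ∈ K) (hz : z ∈ K)
    (ox : orderOf x = 2) (oy : orderOf y = 3) (oz : orderOf z = 5) : K = ⊤ := by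
  have h60 : Nat.card (alternatingGroup (Fin 5)) = 60 := by
    have := two_mul_nat_card_alternatingGroup (α := Fin 5)
    rw [Nat.card_eq_fintype_card (α := Perm (Fin 5)), Fintype.card_perm, Fintype.card_fin] at this
    have h5 : Nat.factorial 5 = 120 := by decide
    omega
  have d2 : 2 ∣ Nat.card K := by
    have := orderOf_dvd_natCard (⟨x, hx⟩ : K)
    rwa [Subgroup.orderOf_mk, ox] at this
  have d3 : 3 ∣ Nat.card K := by
    have := orderOf_dvd_natCard (⟨y, hy⟩ : K)
    rwa [Subgroup.orderOf_mk, oy] at this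
  have d5 : 5 ∣ Nat.card K := by
    have := orderOf_dvd_natCard (⟨z, hz⟩ : K)
    rwa [Subgroup.orderOf_mk, oz] at this
  have d30 : 30 ∣ Nat.card K := by omega
  have hidx : K.index * Nat.card K = 60 := by
    rw [mul_comm, Subgroup.card_mul_index, h60]
  have hpos : 0 < Nat.card K := Nat.card_pos
  obtain ⟨m, hm⟩ := d30
  have hidx2 : K.index = 1 ∨ K.index = 2 := by
    rw [hm] at hidx
    have hm0 : 0 < m := by omega
    have : K.index * m = 2 := by nlinarith
    have h1 : K.index ∣ 2 := ⟨m, this.symm⟩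
    have h2 : K.index ≤ 2 := Nat.le_of_dvd (by norm_num) h1
    have h3 : K.index ≠ 0 := by
      intro h0; rw [h0] at this; omega
    omega
  rcases hidx2 with h | h
  · exact Subgroup.index_eq_one.mp h
  · have hn : K.Normal := Subgroup.normal_of_index_eq_two h
    have hs : IsSimpleGroup (alternatingGroup (Fin 5)) := alternatingGroup.isSimpleGroup (by simp)
    rcases hn.eq_bot_or_eq_top with hb | ht
    · exfalso
      rw [hb, Subgroup.mem_bot] at hx
      rw [hx, orderOf_one] at ox
      omega
    · exact ht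

/-- invariant proper subset ⇒ closure is proper (in `A5`) -/
theorem closure_ne_top_of_inv (x y : alternatingGroup (Fin 5))
    (hx : ∃ n : ℕ, 0 < n ∧ x ^ n = 1) (hy : ∃ n : ℕ, 0 < n ∧ y ^ n = 1)
    (h : Inv x.1 y.1) : Subgroup.closure {x, y} ≠ ⊤ := by
  obtain ⟨T, hT1, hT2, hTx, hTy⟩ := h
  intro htop
  have key : ∀ g ∈ Subgroup.closure ({x, y} : Set (alternatingGroup (Fin 5))),
      ∀ i, (g.1 i ∈ T ↔ i ∈ T) := by
    intro g hg
    have gen : ∀ (w : alternatingGroup (Fin 5)), (∃ n : ℕ, 0 < n ∧ w ^ n = 1) →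
        (∀ i ∈ T, w.1 i ∈ T) → ∀ i, (w.1 i ∈ T ↔ i ∈ T) := by
      intro w ⟨n, hn0, hn⟩ hw i
      refine ⟨fun hi => ?_, fun hi => hw i hi⟩
      -- i = w^(n-1) (w i)
      have hpow : ∀ k : ℕ, ∀ j ∈ T, ((w ^ k).1 j) ∈ T := by
        intro k
        induction k with
        | zero => intro j hj; simpa using hj
        | succ k ih =>
          intro j hj
          have : (w ^ (k + 1)).1 j = (w ^ k).1 (w.1 j) := by
            rw [pow_succ]; rfl
          rw [this]
          exact ih _ (hw j hj)
      have h1 := hpow (n - 1) (w.1 i) hi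
      have h2 : (w ^ (n - 1)).1 (w.1 i) = (w ^ n).1 i := by
        have : w ^ n = w ^ (n - 1) * w := by
          rw [← pow_succ]; congr 1; omega
        rw [this]; rfl
      rw [h2, hn] at h1
      simpa using h1
    induction hg using Subgroup.closure_induction with
    | mem w hw =>
      rcases hw with rfl | hw
      · exact gen _ hx hTx
      · rw [Set.mem_singleton_iff] at hw
        subst hw
        exact gen _ hy hTy
    | one => intro i; simp
    | mul a b _ _ ha hb =>
      intro i
      have : (a * b).1 i = a.1 (b.1 i) := rfl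
      rw [this, ha, hb]
    | inv a _ ha =>
      intro i
      have := ha ((a⁻¹).1 i)
      have h2 : a.1 ((a⁻¹).1 i) = i := by
        have : (a * a⁻¹).1 i = a.1 ((a⁻¹).1 i) := rfl
        rw [← this, mul_inv_cancel]; rfl
      rw [h2] at this
      exact this.symm
  obtain ⟨g, i, hi, hgi⟩ := exists_moves_A5 T hT1 hT2
  have := key g (by rw [htop]; trivial) i
  exact hgi (this.mpr hi)

end Cfsg.Agent.Lib.H9.A5Facts
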