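import Mathlib
import Cfsg.Agent.Lib.H9.A5FactsA

/-!
# Concrete facts about `A5 = alternatingGroup (Fin 5)` (part C: F4, F7, F8)
-/

namespace Cfsg.Agent.Lib.H9.A5Facts

open Equiv

local notation "A5" => alternatingGroup (Fin 5)

set_option maxRecDepth 100000 in
theorem cent_dec : ∀ t : A5, t * t = 1 → t ≠ 1 →
    (Fintype.card {x : A5 // x * t = t * x} = 4 ∧ ∀ x : A5, x * t = t * x → x * x = 1) := by
  decide

/-- (F4) -/
theorem a5_centralizer_inv (t : A5) (ht : orderOf t = 2) :
    Nat.card (Subgroup.centralizer ({t} : Set A5)) = 4 ∧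
      ∀ x ∈ Subgroup.centralizer ({t} : Set A5), x * x = 1 := by
  have ht' := (orderOf_eq_two_iff' t).mp ht
  obtain ⟨h1, h2⟩ := cent_dec t ht'.1 ht'.2
  refine ⟨?_, ?_⟩
  · have e : (Subgroup.centralizer ({t} : Set A5)) ≃ {x : A5 // x * t = t * x} :=
      Equiv.subtypeEquivRight (fun x => Subgroup.mem_centralizer_singleton_iff)
    rw [Nat.card_congr e, Nat.card_eq_fintype_card]
    exact h1
  · intro x hx
    exact h2 x (Subgroup.mem_centralizer_singleton_iff.mp hx)

set_option maxRecDepth 100000 in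
theorem norm3_dec : ∀ a : A5, a * a * a = 1 → a ≠ 1 →
    (Fintype.card {j : A5 // (j * j = 1 ∧ j ≠ 1) ∧ j * a * j⁻¹ = a⁻¹} = 3 ∧
      ∀ j : A5, j * j = 1 → j ≠ 1 → j * a ≠ a * j) := by
  decide

/-- (F7) -/
theorem a5_normalizer_three (a : A5) (ha : orderOf a = 3) :
    Nat.card {j : A5 // orderOf j = 2 ∧ j * a * j⁻¹ = a⁻¹} = 3 ∧
      ∀ j : A5, orderOf j = 2 → j * a ≠ a * j := by
  have ha' := (orderOf_eq_three_iff' a).mp ha
  obtain ⟨h1, h2⟩ := norm3_dec a ha'.1 ha'.2
  refine ⟨?_, ?_⟩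
  · have e : {j : A5 // orderOf j = 2 ∧ j * a * j⁻¹ = a⁻¹} ≃
        {j : A5 // (j * j = 1 ∧ j ≠ 1) ∧ j * a * j⁻¹ = a⁻¹} :=
      Equiv.subtypeEquivRight (fun j => by rw [orderOf_eq_two_iff'])
    rw [Nat.card_congr e, Nat.card_eq_fintype_card]
    exact h1
  · intro j hj
    have hj' := (orderOf_eq_two_iff' j).mp hj
    exact h2 j hj'.1 hj'.2

/-- the twelve elements `v * a^i` -/
abbrev kleinList (a j : A5) : List A5 :=
  [1, a, a * a, j, j * a, j * a * a, a * j * a⁻¹, a * j * a⁻¹ * a, a * j * a⁻¹ * a * a,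
    j * (a * j * a⁻¹), j * (a * j * a⁻¹) * a, j * (a * j * a⁻¹) * a * a]

/-- the twelve elements are distinct and there is a common fixed point -/
def KleinOK (a j : A5) : Prop :=
  (kleinList a j).Nodup ∧ ∃ f : Fin 5, a.1 f = f ∧ j.1 f = f

instance (a j : A5) : Decidable (KleinOK a j) := by
  unfold KleinOK; infer_instance

set_option maxRecDepth 100000 in
theorem klein_dec : ∀ a j : A5, a * a * a = 1 → a ≠ 1 → j * j = 1 → j ≠ 1 →
    j * (a * j * a⁻¹) = (a * j * a⁻¹) * j → KleinOK a j := by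
  decide

set_option maxRecDepth 100000 in
theorem klein_count_dec : ∀ a : A5, a * a * a = 1 → a ≠ 1 →
    Fintype.card {j : A5 // (j * j = 1 ∧ j ≠ 1) ∧ j * (a * j * a⁻¹) = (a * j * a⁻¹) * j} = 6 := by
  decide

/-- point stabilizer in `A5` -/
def stab (f : Fin 5) : Subgroup A5 where
  carrier := {g | g.1 f = f}
  mul_mem' := by
    intro x y hx hy
    show (x * y).1 f = f
    have : (x * y).1 f = x.1 (y.1 f) := rfl
    rw [this, hy, hx]
  one_mem' := rfl
  inv_mem' := by
    intro x hx
    show (x⁻¹).1 f = f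
    have h1 : (x⁻¹).1 (x.1 f) = f := by
      have : (x⁻¹ * x).1 f = (x⁻¹).1 (x.1 f) := rfl
      rw [← this, inv_mul_cancel]; rfl
    rw [hx] at h1
    exact h1

set_option maxRecDepth 100000 in
theorem stab_card_dec : ∀ f : Fin 5, Fintype.card {g : A5 // g.1 f = f} = 12 := by
  decide

theorem card_stab (f : Fin 5) : Nat.card (stab f) = 12 := by
  have e : (stab f) ≃ {g : A5 // g.1 f = f} :=
    Equiv.subtypeEquivRight (fun g => Iff.rfl)
  rw [Nat.card_congr e, Nat.card_eq_fintype_card]
  exact stab_card_dec f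

theorem card_closure_klein (a j : A5) (ha : orderOf a = 3) (hj : orderOf j = 2)
    (hc : j * (a * j * a⁻¹) = (a * j * a⁻¹) * j) :
    Nat.card (Subgroup.closure ({a, j} : Set A5)) = 12 := by
  classical
  have ha' := (orderOf_eq_three_iff' a).mp ha
  have hj' := (orderOf_eq_two_iff' j).mp hj
  obtain ⟨hnd, f, haf, hjf⟩ := klein_dec a j ha'.1 ha'.2 hj'.1 hj'.2 hc
  have hamem : a ∈ Subgroup.closure ({a, j} : Set A5) := Subgroup.subset_closure (by simp)
  have hjmem : j ∈ Subgroup.closure ({a, j} : Set A5) := Subgroup.subset_closure (by simp)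
  apply le_antisymm
  · rw [← card_stab f]
    apply Subgroup.card_le_of_le
    rw [Subgroup.closure_le]
    intro x hx
    rcases hx with rfl | hx
    · exact haf
    · rw [Set.mem_singleton_iff] at hx
      subst hx
      exact hjf
  · have hsub : ((kleinList a j).toFinset : Set A5) ⊆
        (Subgroup.closure ({a, j} : Set A5) : Set A5) := by
      intro x hx
      simp only [kleinList, List.coe_toFinset, List.mem_cons, List.not_mem_nil, or_false,
        Set.mem_ofPred_eq] at hx
      have h1 := Subgroup.one_mem (Subgroup.closure ({a, j} : Set A5))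
      have hai := Subgroup.inv_mem _ hamem
      rcases hx with rfl | rfl | rfl | rfl | rfl | rfl | rfl | rfl | rfl | rfl | rfl | rfl
      all_goals
        first
        | exact h1
        | exact hamem
        | exact hjmem
        | exact Subgroup.mul_mem _ hamem hamem
        | exact Subgroup.mul_mem _ hjmem hamem
        | exact Subgroup.mul_mem _ (Subgroup.mul_mem _ hjmem hamem) hamem
        | exact Subgroup.mul_mem _ (Subgroup.mul_mem _ hamem hjmem) hai
        | exact Subgroup.mul_mem _ (Subgroup.mul_mem _ (Subgroup.mul_mem _ hamem hjmem) hai) hamem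
        | exact Subgroup.mul_mem _ (Subgroup.mul_mem _ (Subgroup.mul_mem _
            (Subgroup.mul_mem _ hamem hjmem) hai) hamem) hamem
        | exact Subgroup.mul_mem _ hjmem (Subgroup.mul_mem _ (Subgroup.mul_mem _ hamem hjmem) hai)
        | exact Subgroup.mul_mem _ (Subgroup.mul_mem _ hjmem
            (Subgroup.mul_mem _ (Subgroup.mul_mem _ hamem hjmem) hai)) hamem
        | exact Subgroup.mul_mem _ (Subgroup.mul_mem _ (Subgroup.mul_mem _ hjmem
            (Subgroup.mul_mem _ (Subgroup.mul_mem _ hamem hjmem) hai)) hamem) hamem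
    have h2 := Set.ncard_le_ncard hsub (Set.toFinite _)
    rw [Set.ncard_coe_finset, List.toFinset_card_of_nodup hnd] at h2
    have h3 : Nat.card (Subgroup.closure ({a, j} : Set A5)) =
        ((Subgroup.closure ({a, j} : Set A5) : Set A5)).ncard := Nat.card_coe_set_eq _
    rw [h3]
    simpa [kleinList] using h2

/-- (F8) -/
theorem a5_klein (a : A5) (ha : orderOf a = 3) :
    Nat.card {j : A5 // orderOf j = 2 ∧ j * (a * j * a⁻¹) = (a * j * a⁻¹) * j ∧
      Nat.card (Subgroup.closure {a, j}) = 12} = 6 := by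
  have ha' := (orderOf_eq_three_iff' a).mp ha
  have e : {j : A5 // orderOf j = 2 ∧ j * (a * j * a⁻¹) = (a * j * a⁻¹) * j ∧
      Nat.card (Subgroup.closure {a, j}) = 12} ≃
      {j : A5 // (j * j = 1 ∧ j ≠ 1) ∧ j * (a * j * a⁻¹) = (a * j * a⁻¹) * j} :=
    Equiv.subtypeEquivRight (fun j => by
      constructor
      · rintro ⟨h1, h2, _⟩
        exact ⟨(orderOf_eq_two_iff' j).mp h1, h2⟩
      · rintro ⟨h1, h2⟩
        have hj := (orderOf_eq_two_iff' j).mpr h1
        exact ⟨hj, h2, card_closure_klein a j ha hj h2⟩)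
  rw [Nat.card_congr e, Nat.card_eq_fintype_card]
  exact klein_count_dec a ha'.1 ha'.2

end Cfsg.Agent.Lib.H9.A5Facts
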