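import Mathlib

/-!
# S4539 piece LAT: integer coordinates for a rank-2 family with integral Gram matrix

`L = span_ℤ (range f)` is finitely generated and torsion-free, hence free; `N * ip` is integer valued and
symmetric on `L`; the Gram matrix of a `ℤ`-basis is positive definite on `ℤ^r`, so nonsingular, so the
basis is `ℂ`-independent and `r = 2`.
-/

set_option autoImplicit false
set_option linter.dupNamespace false

namespace Cfsg.Agent.Lib.H9.KB

open scoped ComplexConjugate

section

variable {E : Type*} [AddCommGroup E] [Module ℂ E] (ip : E → E → ℂ)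

/-- the hypotheses on the form, packaged -/
structure IsHermForm : Prop where
  add : ∀ u v w : E, ip (u + v) w = ip u w + ip v w
  smul : ∀ (r : ℂ) (u w : E), ip (r • u) w = r * ip u w
  csymm : ∀ u w : E, conj (ip u w) = ip w u
  pos : ∀ u : E, u ≠ 0 → 0 < (ip u u).re

variable {ip}

namespace IsHermForm

variable (h : IsHermForm ip)
include h

theorem zero_left (w : E) : ip 0 w = 0 := by
  have := h.smul 0 0 w
  rwa [zero_smul, zero_mul] at this

theorem add_right (u v w : E) : ip u (v + w) = ip u v + ip u w := by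
  rw [← h.csymm (v + w) u, h.add, map_add, h.csymm, h.csymm]

theorem smul_right (r : ℂ) (u w : E) : ip u (r • w) = conj r * ip u w := by
  rw [← h.csymm (r • w) u, h.smul, map_mul, h.csymm]

theorem zero_right (u : E) : ip u 0 = 0 := by
  have := h.smul_right 0 u 0
  rwa [zero_smul, map_zero, zero_mul] at this

theorem zsmul_left (n : ℤ) (u w : E) : ip (n • u) w = (n : ℂ) * ip u w := by
  rw [← Int.cast_smul_eq_zsmul ℂ n u, h.smul]

theorem zsmul_right (n : ℤ) (u w : E) : ip u (n • w) = (n : ℂ) * ip u w := by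
  rw [← Int.cast_smul_eq_zsmul ℂ n w, h.smul_right, map_intCast (starRingEnd ℂ) n]

theorem sum_left {ι : Type*} (s : Finset ι) (v : ι → E) (w : E) :
    ip (∑ k ∈ s, v k) w = ∑ k ∈ s, ip (v k) w := by
  classical
  induction s using Finset.induction_on with
  | empty => simp [h.zero_left]
  | insert a s ha ih => rw [Finset.sum_insert ha, Finset.sum_insert ha, h.add, ih]

theorem sum_right {ι : Type*} (s : Finset ι) (u : E) (v : ι → E) :
    ip u (∑ k ∈ s, v k) = ∑ k ∈ s, ip u (v k) := by
  classical
  induction s using Finset.induction_on with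
  | empty => simp [h.zero_right]
  | insert a s ha ih => rw [Finset.sum_insert ha, Finset.sum_insert ha, h.add_right, ih]

/-- `N * ip` is integer valued on the `ℤ`-span of a family on which it is integer valued -/
theorem int_on_span {I : Type*} (f : I → E) (N : ℕ)
    (hint : ∀ i j : I, ∃ n : ℤ, (N : ℂ) * ip (f i) (f j) = n) :
    ∀ u ∈ Submodule.span ℤ (Set.range f), ∀ w ∈ Submodule.span ℤ (Set.range f),
      ∃ n : ℤ, (N : ℂ) * ip u w = n := by
  have step1 : ∀ j : I, ∀ u ∈ Submodule.span ℤ (Set.range f), ∃ n : ℤ, (N : ℂ) * ip u (f j) = n := by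
    intro j u hu
    induction hu using Submodule.span_induction with
    | mem x hx =>
      obtain ⟨i, rfl⟩ := hx
      exact hint i j
    | zero => exact ⟨0, by rw [h.zero_left]; simp⟩
    | add x y _ _ hx hy =>
      obtain ⟨a, ha⟩ := hx
      obtain ⟨b, hb⟩ := hy
      exact ⟨a + b, by rw [h.add, mul_add, ha, hb]; push_cast; ring⟩
    | smul a x _ hx =>
      obtain ⟨b, hb⟩ := hx
      exact ⟨a * b, by rw [h.zsmul_left, mul_left_comm, hb]; push_cast; ring⟩
  intro u hu w hw
  induction hw using Submodule.span_induction with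
  | mem x hx =>
    obtain ⟨j, rfl⟩ := hx
    exact step1 j u hu
  | zero => exact ⟨0, by rw [h.zero_right]; simp⟩
  | add x y _ _ hx hy =>
    obtain ⟨a, ha⟩ := hx
    obtain ⟨b, hb⟩ := hy
    exact ⟨a + b, by rw [h.add_right, mul_add, ha, hb]; push_cast; ring⟩
  | smul a x _ hx =>
    obtain ⟨b, hb⟩ := hx
    exact ⟨a * b, by rw [h.zsmul_right, mul_left_comm, hb]; push_cast; ring⟩

/-- symmetry of `ip` on pairs where `N * ip` is an integer -/
theorem symm_of_int {N : ℕ} (hN : 0 < N) {u w : E} (hn : ∃ n : ℤ, (N : ℂ) * ip u w = n) :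
    ip w u = ip u w := by
  obtain ⟨n, hn⟩ := hn
  have hN0 : (N : ℂ) ≠ 0 := by exact_mod_cast hN.ne'
  have h1 : ip u w = (n : ℂ) / (N : ℂ) := by
    rw [← hn]; field_simp
  rw [← h.csymm u w, h1, map_div₀, map_intCast, map_natCast]

end IsHermForm

/-- a `ℤ`-submodule of a complex vector space is torsion-free -/
theorem isTorsionFree_int_submodule (L : Submodule ℤ E) : Module.IsTorsionFree ℤ L := by
  constructor
  intro r hr u w huw
  have hr0 : r ≠ 0 := hr.ne_zero
  have h1 : (r • u : L) = r • w := huw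
  have h2 : ((r • u : L) : E) = ((r • w : L) : E) := by rw [h1]
  rw [Submodule.coe_smul, Submodule.coe_smul, ← Int.cast_smul_eq_zsmul ℂ r (u : E),
    ← Int.cast_smul_eq_zsmul ℂ r (w : E)] at h2
  have hrc : (r : ℂ) ≠ 0 := by exact_mod_cast hr0
  exact Subtype.ext (smul_right_injective E hrc h2)


/-- the Gram sum formula for integer combinations of a family `e` on which `N * ip` has integer values `G` -/
theorem IsHermForm.gram_sum (h : IsHermForm ip) {ι : Type*} [Fintype ι] (e : ι → E) (N : ℕ)
    (G : ι → ι → ℤ) (hG : ∀ k l, (N : ℂ) * ip (e k) (e l) = G k l) (v w : ι → ℤ) :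
    (N : ℂ) * ip (∑ k, v k • e k) (∑ l, w l • e l) =
      ((∑ k, ∑ l, v k * w l * G k l : ℤ) : ℂ) := by
  rw [h.sum_left, Finset.mul_sum]
  push_cast
  apply Finset.sum_congr rfl
  intro k _
  rw [h.zsmul_left, h.sum_right, Finset.mul_sum, Finset.mul_sum]
  apply Finset.sum_congr rfl
  intro l _
  rw [h.zsmul_right, ← hG k l]
  ring

end

/-- (LAT) integer coordinates for a rank-2 family with integral Gram matrix. -/
theorem exists_int_coords {E : Type*} [AddCommGroup E] [Module ℂ E] {I : Type*} [Finite I]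
    (ip : E → E → ℂ)
    (hadd : ∀ u v w : E, ip (u + v) w = ip u w + ip v w)
    (hsmul : ∀ (r : ℂ) (u w : E), ip (r • u) w = r * ip u w)
    (hconj : ∀ u w : E, conj (ip u w) = ip w u)
    (hpos : ∀ u : E, u ≠ 0 → 0 < (ip u u).re)
    (f : I → E) (N : ℕ) (hN : 0 < N)
    (hint : ∀ i j : I, ∃ n : ℤ, (N : ℂ) * ip (f i) (f j) = n)
    (hrank : Module.finrank ℂ (Submodule.span ℂ (Set.range f)) = 2) :
    ∃ (D₁ D₂ : I → ℤ) (a b c : ℤ),
      (∀ x y : ℤ, (x ≠ 0 ∨ y ≠ 0) → 0 < a * x * x + 2 * b * x * y + c * y * y) ∧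
      ∀ i j : I, (N : ℂ) * ip (f i) (f j) =
        ((a * D₁ i * D₁ j + b * (D₁ i * D₂ j + D₂ i * D₁ j) + c * D₂ i * D₂ j : ℤ) : ℂ) := by
  classical
  have h : IsHermForm ip := ⟨hadd, hsmul, hconj, hpos⟩
  have hN0 : (N : ℂ) ≠ 0 := by exact_mod_cast hN.ne'
  set L : Submodule ℤ E := Submodule.span ℤ (Set.range f) with hL
  have hfL : ∀ i, f i ∈ L := fun i => Submodule.subset_span ⟨i, rfl⟩
  have : Module.Finite ℤ L := Module.Finite.span_of_finite ℤ (Set.finite_range f)
  have : Module.IsTorsionFree ℤ L := isTorsionFree_int_submodule L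
  have : Module.Free ℤ L := Module.free_of_finite_type_torsion_free'
  let ι := Module.Free.ChooseBasisIndex ℤ L
  let b : Module.Basis ι ℤ L := Module.Free.chooseBasis ℤ L
  let e : ι → E := fun k => ((b k : L) : E)
  have heL : ∀ k, e k ∈ L := fun k => (b k).2
  have hintL := h.int_on_span f N hint
  -- the Gram matrix
  choose G hG using fun k l => hintL (e k) (heL k) (e l) (heL l)
  have hGsymm : ∀ k l, G k l = G l k := by
    intro k l
    have h1 := h.symm_of_int hN (hintL (e k) (heL k) (e l) (heL l))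
    have h2 : ((G k l : ℤ) : ℂ) = G l k := by rw [← hG k l, ← hG l k, h1]
    exact_mod_cast h2
  -- integer combinations of the basis vanish only trivially
  have hcomb : ∀ v : ι → ℤ, (∑ k, v k • e k) = 0 → v = 0 := by
    intro v hv
    have h1 : ((∑ k, v k • b k : L) : E) = 0 := by
      rw [Submodule.coe_sum]
      simpa [e] using hv
    have h2 : (∑ k, v k • b k : L) = 0 := Subtype.ext h1
    funext k
    exact Fintype.linearIndependent_iff.1 b.linearIndependent v h2 k
  -- positive definiteness over ℤ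
  have hPD : ∀ v : ι → ℤ, v ≠ 0 → 0 < ∑ k, ∑ l, v k * v l * G k l := by
    intro v hv
    have hu : (∑ k, v k • e k) ≠ 0 := fun h0 => hv (hcomb v h0)
    have h1 := hpos _ hu
    have h2 := h.gram_sum e N G hG v v
    have h3 : ((N : ℂ) * ip (∑ k, v k • e k) (∑ l, v l • e l)).re =
        (N : ℝ) * (ip (∑ k, v k • e k) (∑ l, v l • e l)).re := by
      rw [Complex.mul_re]; simp
    rw [h2] at h3
    have h4 : ((∑ k, ∑ l, v k * v l * G k l : ℤ) : ℝ) =
        (N : ℝ) * (ip (∑ k, v k • e k) (∑ l, v l • e l)).re := by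
      rw [← h3]; simp
    have h5 : (0 : ℝ) < ((∑ k, ∑ l, v k * v l * G k l : ℤ) : ℝ) := by
      rw [h4]; positivity
    exact_mod_cast h5
  -- the Gram matrix is nonsingular
  let M : Matrix ι ι ℤ := Matrix.of G
  have hdet : M.det ≠ 0 := by
    intro h0
    obtain ⟨v, hv0, hv⟩ := Matrix.exists_mulVec_eq_zero_iff.2 h0
    have h1 := hPD v hv0
    have h2 : ∑ k, ∑ l, v k * v l * G k l = 0 := by
      apply Finset.sum_eq_zero
      intro k _
      have h3 : (M.mulVec v) k = 0 := by rw [hv]; rfl
      have h4 : ∑ l, v k * v l * G k l = v k * (M.mulVec v) k := by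
        rw [Matrix.mulVec, dotProduct, Finset.mul_sum]
        apply Finset.sum_congr rfl
        intro l _
        simp only [M, Matrix.of_apply]
        ring
      rw [h4, h3, mul_zero]
    omega
  have hdetC : ((Int.castRingHom ℂ).mapMatrix M).det ≠ 0 := by
    rw [← RingHom.map_det]
    simpa using hdet
  -- the basis is `ℂ`-independent
  have hli : LinearIndependent ℂ e := by
    rw [Fintype.linearIndependent_iff]
    intro z hz
    have h1 : Matrix.vecMul z ((Int.castRingHom ℂ).mapMatrix M) = 0 := by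
      funext l
      have h2 : (N : ℂ) * ip (∑ k, z k • e k) (e l) = 0 := by rw [hz, h.zero_left, mul_zero]
      rw [h.sum_left, Finset.mul_sum] at h2
      rw [Matrix.vecMul, dotProduct, Pi.zero_apply, ← h2]
      apply Finset.sum_congr rfl
      intro k _
      rw [h.smul, mul_left_comm, hG k l]
      simp [M]
    have h3 := Matrix.eq_zero_of_vecMul_eq_zero hdetC h1
    intro k
    rw [h3]; rfl
  -- the two spans agree
  have hspan : Submodule.span ℂ (Set.range f) = Submodule.span ℂ (Set.range e) := by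
    apply le_antisymm
    · rw [Submodule.span_le]
      rintro _ ⟨i, rfl⟩
      have h1 : f i = ∑ k, (b.repr ⟨f i, hfL i⟩ k) • e k := by
        have h2 := b.sum_repr ⟨f i, hfL i⟩
        have h3 := congrArg (fun x : L => (x : E)) h2
        simp only [Submodule.coe_sum, Submodule.coe_smul] at h3
        exact h3.symm
      rw [SetLike.mem_coe, h1]
      apply Submodule.sum_mem
      intro k _
      rw [← Int.cast_smul_eq_zsmul ℂ]
      exact Submodule.smul_mem _ _ (Submodule.subset_span ⟨k, rfl⟩)
    · rw [Submodule.span_le]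
      rintro _ ⟨k, rfl⟩
      exact Submodule.span_le_restrictScalars ℤ ℂ (Set.range f) (heL k)
  have hcard : Fintype.card ι = 2 := by
    rw [← finrank_span_eq_card hli, ← hspan, hrank]
  -- the two basis vectors
  let σ : ι ≃ Fin 2 := Fintype.equivFinOfCardEq hcard
  let k0 : ι := σ.symm 0
  let k1 : ι := σ.symm 1
  have hk01 : k0 ≠ k1 := by
    intro h0
    have := σ.symm.injective h0
    exact absurd this (by decide)
  have hsum : ∀ g : ι → ℤ, ∑ k, g k = g k0 + g k1 := by
    intro g
    rw [← σ.symm.sum_comp g, Fin.sum_univ_two]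
  have hsum2 : ∀ v w : ι → ℤ, ∑ k, ∑ l, v k * w l * G k l =
      G k0 k0 * v k0 * w k0 + G k0 k1 * (v k0 * w k1 + v k1 * w k0) + G k1 k1 * v k1 * w k1 := by
    intro v w
    rw [hsum]
    rw [hsum (fun l => v k0 * w l * G k0 l), hsum (fun l => v k1 * w l * G k1 l), hGsymm k1 k0]
    ring
  refine ⟨fun i => b.repr ⟨f i, hfL i⟩ k0, fun i => b.repr ⟨f i, hfL i⟩ k1,
    G k0 k0, G k0 k1, G k1 k1, ?_, ?_⟩
  · intro x y hxy
    let v : ι → ℤ := fun k => if k = k0 then x else y
    have hv0 : v k0 = x := by simp [v]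
    have hv1 : v k1 = y := by simp [v, hk01.symm]
    have hv : v ≠ 0 := by
      intro h0
      rcases hxy with hx | hy
      · apply hx; rw [← hv0, h0]; rfl
      · apply hy; rw [← hv1, h0]; rfl
    have h1 := hPD v hv
    rw [hsum2 v v, hv0, hv1] at h1
    linarith
  · intro i j
    have hfi : ∀ i, f i = ∑ k, (b.repr ⟨f i, hfL i⟩ k) • e k := by
      intro i
      have h2 := b.sum_repr ⟨f i, hfL i⟩
      have h3 := congrArg (fun x : L => (x : E)) h2
      simp only [Submodule.coe_sum, Submodule.coe_smul] at h3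
      exact h3.symm
    conv_lhs => rw [hfi i, hfi j]
    rw [h.gram_sum e N G hG, hsum2]

end Cfsg.Agent.Lib.H9.KB
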