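import Mathlib
import Cfsg.Prelude.Def_OddOrderLocal
import Cfsg.Prelude.Def_CaseTheorems
import Cfsg.Agent.Lib.H19.R2Defs
import Cfsg.Agent.Lib.H22.SuzukiMaxClass
import Cfsg.Agent.Lib.H9.R2C1E

/-!
# S3888, piece C1 (helper9): Case 1, the `N_G(E)` trick and Suzuki's lemma.
-/

set_option autoImplicit false
set_option linter.unusedSectionVars false

namespace Cfsg.Agent.Lib.H9.R2

open Cfsg Cfsg.Agent.Lib.H19.R2
open scoped commutatorElement Pointwise

universe u

/-- in a finite group, `g E g⁻¹ ≤ E` implies `g ∈ N_G(E)` -/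
theorem mem_normalizer_of_conj_mem {G : Type*} [Group G] [Finite G] (E : Subgroup G) (g : G)
    (h : ∀ e ∈ E, g * e * g⁻¹ ∈ E) : g ∈ Subgroup.normalizer (E : Set G) := by
  rw [Subgroup.mem_normalizer_iff]
  intro e
  refine ⟨h e, fun he => ?_⟩
  have hj : ∀ j : ℕ, ∀ e ∈ E, g ^ j * e * (g ^ j)⁻¹ ∈ E := by
    intro j
    induction j with
    | zero => intro e he; simpa using he
    | succ j ih =>
      intro e he
      have := h _ (ih e he)
      have e1 : g ^ (j + 1) * e * (g ^ (j + 1))⁻¹ = g * (g ^ j * e * (g ^ j)⁻¹) * g⁻¹ := by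
        rw [pow_succ']; group
      rw [e1]; exact this
  have hk : 0 < orderOf g := orderOf_pos g
  have := hj (orderOf g - 1) _ he
  have e2 : g ^ (orderOf g - 1) * (g * e * g⁻¹) * (g ^ (orderOf g - 1))⁻¹ = e := by
    have h1 : g ^ (orderOf g - 1) * g = 1 := by
      rw [← pow_succ, Nat.sub_add_cancel hk, pow_orderOf_eq_one]
    have h2 : g⁻¹ * (g ^ (orderOf g - 1))⁻¹ = 1 := by
      rw [← mul_inv_rev, h1, inv_one]
    calc g ^ (orderOf g - 1) * (g * e * g⁻¹) * (g ^ (orderOf g - 1))⁻¹
        = (g ^ (orderOf g - 1) * g) * e * (g⁻¹ * (g ^ (orderOf g - 1))⁻¹) := by group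
      _ = e := by rw [h1, h2, one_mul, mul_one]
  rwa [e2] at this

variable {p : ℕ} [Fact p.Prime] {G : Type u} [Group G] [Finite G]

/-- Case 1 data restricts to a subgroup containing `N` and `x` -/
theorem c1_subgroup {N : Subgroup G} {x : G} (h : C1 p G N x) (H : Subgroup G) (hNH : N ≤ H)
    (hxH : x ∈ H) : C1 p ↥H (N.subgroupOf H) ⟨x, hxH⟩ := by
  obtain ⟨⟨hNn, hNc, hNe, hNcard⟩, hx, hxC, hrk⟩ := h
  haveI := hNn
  refine ⟨⟨inferInstance, ?_, ?_, ?_⟩, ?_, ?_, ?_⟩
  · intro a ha b hb
    exact Subtype.ext (hNc a.1 (Subgroup.mem_subgroupOf.1 ha) b.1 (Subgroup.mem_subgroupOf.1 hb))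
  · intro a ha
    exact Subtype.ext (by simpa using hNe a.1 (Subgroup.mem_subgroupOf.1 ha))
  · rw [Nat.card_congr (Subgroup.subgroupOfEquivOfLe hNH).toEquiv, hNcard]
  · exact Subtype.ext (by simpa using hx)
  · intro hcon
    apply hxC
    rw [Subgroup.mem_centralizer_iff] at hcon ⊢
    intro a ha
    have := hcon ⟨a, hNH ha⟩ (Subgroup.mem_subgroupOf.2 ha)
    exact congrArg Subtype.val this
  · intro A hA hexp
    have hA' : IsMulCommutative (A.map H.subtype) := by
      refine ⟨⟨?_⟩⟩
      rintro ⟨_, ⟨a, ha, rfl⟩⟩ ⟨_, ⟨b, hb, rfl⟩⟩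
      apply Subtype.ext
      have := hA.is_comm.comm (⟨a, ha⟩ : A) ⟨b, hb⟩
      have h2 := congrArg (fun t : A => ((t : ↥H) : G)) this
      simpa using h2
    have hexp' : ∀ a ∈ A.map H.subtype, a ^ p = 1 := by
      rintro _ ⟨a, ha, rfl⟩
      have := hexp a ha
      have h2 := congrArg (fun t : ↥H => (t : G)) this
      simpa using h2
    have := hrk (A.map H.subtype) hA' hexp'
    rwa [Subgroup.card_map_of_injective H.subtype_injective] at this

/-- C1 (the `N_G(E)` trick + Suzuki). -/
theorem case_one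
    (pd : ∀ (H : Type u) [Group H] [Finite H] (m : ℕ), Nat.card H = p ^ m → ∀ (N' : Subgroup H) (x' : H),
      C1 p H N' x' → (N' ⊔ Subgroup.zpowers x').Normal →
      (T2 p m H ∨ T3 p m H) ∧ ((∀ g : H, g ^ p = 1 → g ∈ N' ⊔ Subgroup.zpowers x') ∨
        (p = 3 ∧ Nat.card ↥(Subgroup.centralizer ({x'} : Set H)) = p ^ 2)))
    (hp2 : p ≠ 2) {n : ℕ} (hcard : Nat.card G = p ^ n) {N : Subgroup G} {x : G} (h : C1 p G N x) :
    T2 p n G ∨ T3 p n G ∨ MC p n G := by
  have hp := (Fact.out : p.Prime)
  set E := N ⊔ Subgroup.zpowers x with hE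
  by_cases hEn : E.Normal
  · rcases (pd G n hcard N x h hEn).1 with h1 | h1
    · exact Or.inl h1
    · exact Or.inr (Or.inl h1)
  · right; right
    obtain ⟨hcE, hexpE, -, -, -⟩ := c1_E hp2 h
    have hNn : N.Normal := h.nd.normal
    haveI := hNn
    have hPG : IsPGroup p G := IsPGroup.of_card hcard
    haveI : Group.IsNilpotent G := hPG.isNilpotent
    set H := Subgroup.normalizer (E : Set G) with hH
    have hEH : E ≤ H := Subgroup.le_normalizer
    have hNH : N ≤ H := le_sup_left.trans hEH
    have hxE : x ∈ E := (le_sup_right : Subgroup.zpowers x ≤ E) (Subgroup.mem_zpowers x)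
    have hxH : x ∈ H := hEH hxE
    have hHtop : H ≠ ⊤ := fun h1 => hEn (Subgroup.normalizer_eq_top_iff.1 h1)
    have hlt : H < Subgroup.normalizer (H : Set G) :=
      Group.normalizerCondition_of_isNilpotent H (lt_top_iff_ne_top.2 hHtop)
    obtain ⟨g, hgN, hgH⟩ := SetLike.exists_of_lt hlt
    -- the order of `H`
    obtain ⟨m, hm⟩ := (IsPGroup.iff_card).1 (hPG.to_subgroup H)
    have hC1' := c1_subgroup h H hNH hxH
    have hsup : N.subgroupOf H ⊔ Subgroup.zpowers (⟨x, hxH⟩ : ↥H) = E.subgroupOf H := by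
      have hz : Subgroup.zpowers (⟨x, hxH⟩ : ↥H) = (Subgroup.zpowers x).subgroupOf H := by
        have h1 : (Subgroup.zpowers (⟨x, hxH⟩ : ↥H)).map H.subtype = Subgroup.zpowers x := by
          rw [MonoidHom.map_zpowers]; rfl
        unfold Subgroup.subgroupOf
        rw [← h1, Subgroup.comap_map_eq_self_of_injective H.subtype_injective]
      rw [hz, hE, Subgroup.subgroupOf_sup hNH ((Subgroup.zpowers_le).2 hxH)]
    have hnorm' : (N.subgroupOf H ⊔ Subgroup.zpowers (⟨x, hxH⟩ : ↥H)).Normal := by
      rw [hsup]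
      exact Subgroup.normal_in_normalizer
    rcases (pd ↥H m hm (N.subgroupOf H) ⟨x, hxH⟩ hC1' hnorm').2 with hall | ⟨hp3, hcx⟩
    · -- all elements of order `p` of `H` lie in `E`: then `g` normalizes `E`
      exfalso
      apply hgH
      apply mem_normalizer_of_conj_mem
      intro e he
      have h1 : g * e * g⁻¹ ∈ H := ((Subgroup.mem_normalizer_iff.1 hgN) e).1 (hEH he)
      have h2 : (g * e * g⁻¹) ^ p = 1 := by
        rw [conj_pow, hexpE e he]; group
      have h3 := hall ⟨g * e * g⁻¹, h1⟩ (Subtype.ext (by simpa using h2))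
      rw [hsup] at h3
      exact Subgroup.mem_subgroupOf.1 h3
    · -- `p = 3` and `|C_H(x)| = 9`: Suzuki
      have hCH : Subgroup.centralizer ({x} : Set G) ≤ H := by
        intro c hc
        have hcx' : c * x = x * c := (Subgroup.mem_centralizer_iff.1 hc x (Set.mem_singleton x)).symm
        apply mem_normalizer_of_conj_mem
        intro e he
        have hmem : e ∈ (N : Set G) * (Subgroup.zpowers x : Set G) := by
          have : ((N ⊔ Subgroup.zpowers x : Subgroup G) : Set G) =
              (N : Set G) * (Subgroup.zpowers x : Set G) := Subgroup.normal_mul N (Subgroup.zpowers x)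
          rw [← this]
          exact he
        obtain ⟨a, ha, b, hb, rfl⟩ := hmem
        have hb' : c * b * c⁻¹ = b := by
          obtain ⟨i, rfl⟩ := Subgroup.mem_zpowers_iff.1 hb
          have : Commute c x := hcx'
          rw [(this.zpow_right i).eq, mul_inv_cancel_right]
        have e1 : c * (a * b) * c⁻¹ = (c * a * c⁻¹) * (c * b * c⁻¹) := by group
        rw [e1, hb']
        exact E.mul_mem ((le_sup_left : N ≤ E) (hNn.conj_mem a ha c))
          ((le_sup_right : Subgroup.zpowers x ≤ E) hb)
      set A := Subgroup.centralizer ({x} : Set G) with hA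
      have hcardA : Nat.card A = p ^ 2 := by
        have h1 : Subgroup.centralizer ({(⟨x, hxH⟩ : ↥H)} : Set ↥H) = A.subgroupOf H := by
          ext c
          rw [Subgroup.mem_subgroupOf, Subgroup.mem_centralizer_iff, Subgroup.mem_centralizer_iff]
          constructor
          · intro hc y hy
            rw [Set.mem_singleton_iff] at hy; subst hy
            have := hc ⟨y, hxH⟩ (Set.mem_singleton _)
            exact congrArg Subtype.val this
          · intro hc y hy
            rw [Set.mem_singleton_iff] at hy; subst hy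
            exact Subtype.ext (hc x (Set.mem_singleton x))
        rw [h1, Nat.card_congr (Subgroup.subgroupOfEquivOfLe hCH).toEquiv] at hcx
        exact hcx
      have hxA : x ∈ A := by
        rw [hA, Subgroup.mem_centralizer_iff]
        intro y hy
        rw [Set.mem_singleton_iff] at hy; subst hy; rfl
      have hAcomm : IsMulCommutative A := IsPGroup.isMulCommutative_of_card_eq_prime_sq hcardA
      have hCA : Subgroup.centralizer (A : Set G) = A := by
        apply le_antisymm
        · intro c hc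
          rw [hA, Subgroup.mem_centralizer_iff]
          intro y hy
          rw [Set.mem_singleton_iff] at hy; subst hy
          exact Subgroup.mem_centralizer_iff.1 hc y hxA
        · intro a ha
          rw [Subgroup.mem_centralizer_iff]
          intro b hb
          have := hAcomm.is_comm.comm (⟨b, hb⟩ : A) ⟨a, ha⟩
          exact congrArg Subtype.val this
      have hcl := Cfsg.Agent.Lib.H22.nilpotencyClass_of_selfCentralizing_sq n G hcard ⟨A, hcardA, hCA⟩
      have hn3 : 3 ≤ n := by
        have := Subgroup.card_subgroup_dvd_card E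
        rw [hcE, hcard] at this
        exact (Nat.pow_dvd_pow_iff_le_right hp.one_lt).1 this
      refine ⟨hp3, by omega, ?_⟩
      intro hbot
      have := (Subgroup.lowerCentralSeries_eq_bot_iff_nilpotencyClass_le (G := G)).1 hbot
      omega

end Cfsg.Agent.Lib.H9.R2
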