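import Mathlib

/-!
# S3571 (BGW, alternating socle: a derangement of largest prime order) — the GROUP block, cut by helper9

Definitions and exact shapes of the pieces (helper10's method: each piece is a `def <Name>Stmt : Prop`;
prove `theorem <name> : <Name>Stmt` in your own namespace).  `S3571Asm.lean` assembles them.

Permutation level: `Γ ≤ Sym(m)` contains `A_m`, `H ≤ Γ` is a maximal subgroup of `Γ` not containing `A_m`,
`|Γ| = n |H|`, `r` the largest prime divisor of `n`.  Wanted: `t ∈ A_m` of order `r` with no `Γ`-conjugate in `H`.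
-/

set_option autoImplicit false

namespace Cfsg.Agent.Lib.H9.S3571

open Equiv

/-- Sylvester–Schur (block NT, helper8). -/
def SSProp : Prop :=
  ∀ n k : ℕ, 1 ≤ k → 2 * k ≤ n → ∃ p : ℕ, p.Prime ∧ k < p ∧ p ∣ n.choose k

/-- hypotheses at the permutation level -/
structure PHyp (m : ℕ) (Γ H : Subgroup (Perm (Fin m))) (n r : ℕ) : Prop where
  hm : 5 ≤ m
  hA : alternatingGroup (Fin m) ≤ Γ
  hHΓ : H ≤ Γ
  hmax : ∀ L : Subgroup (Perm (Fin m)), H ≤ L → L ≤ Γ → L = H ∨ L = Γ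
  hHA : ¬ alternatingGroup (Fin m) ≤ H
  hn : Nat.card ↥Γ = n * Nat.card ↥H
  hr : r.Prime
  hrd : r ∣ n
  hrmax : ∀ s : ℕ, s.Prime → s ∣ n → s ≤ r

/-- conclusion at the permutation level -/
def PConcl (m : ℕ) (Γ H : Subgroup (Perm (Fin m))) (r : ℕ) : Prop :=
  ∃ t : Perm (Fin m), t ∈ alternatingGroup (Fin m) ∧ orderOf t = r ∧ ∀ g ∈ Γ, g⁻¹ * t * g ∉ H

/-! ## (C1) the intransitive case -/

/-- (C1a1) an intransitive group leaves a nonempty set of size `≤ m/2` invariant -/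
def C1a1Stmt : Prop :=
  ∀ (m : ℕ) (H : Subgroup (Perm (Fin m))), ¬ MulAction.IsPretransitive ↥H (Fin m) →
    ∃ Δ : Finset (Fin m), 1 ≤ Δ.card ∧ 2 * Δ.card ≤ m ∧ ∀ h ∈ H, Δ.image h = Δ

/-- (C1a2) by maximality `H` is the full stabiliser of `Δ` in `Γ` -/
def C1a2Stmt : Prop :=
  ∀ (m : ℕ) (Γ H : Subgroup (Perm (Fin m))) (n r : ℕ), PHyp m Γ H n r →
    ∀ Δ : Finset (Fin m), 1 ≤ Δ.card → Δ.card < m → (∀ h ∈ H, Δ.image h = Δ) →
      ∀ g ∈ Γ, Δ.image g = Δ → g ∈ H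

/-- (C1a3) the index of the stabiliser of a `k`-set is `C(m,k)` -/
def C1a3Stmt : Prop :=
  ∀ (m : ℕ) (Γ H : Subgroup (Perm (Fin m))) (n r : ℕ), PHyp m Γ H n r →
    ∀ Δ : Finset (Fin m), (∀ g ∈ Γ, g ∈ H ↔ Δ.image g = Δ) → n = m.choose Δ.card

/-- (C1b) an even permutation of order `r` fixing no `k`-subset -/
def C1bStmt : Prop :=
  ∀ (m k r : ℕ), 5 ≤ m → 1 ≤ k → 2 * k ≤ m → r.Prime → r ∣ m.choose k →
    (∀ s : ℕ, s.Prime → s ∣ m.choose k → s ≤ r) → SSProp →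
    ∃ σ : Perm (Fin m), σ ∈ alternatingGroup (Fin m) ∧ orderOf σ = r ∧
      ∀ s : Finset (Fin m), s.card = k → s.image σ ≠ s

/-- (C1) the intransitive case -/
def C1Stmt : Prop :=
  ∀ (m : ℕ) (Γ H : Subgroup (Perm (Fin m))) (n r : ℕ), PHyp m Γ H n r → SSProp →
    ¬ MulAction.IsPretransitive ↥H (Fin m) → PConcl m Γ H r

/-! ## (C2)-(C4) the transitive cases -/

/-- (C2) a prime `p' ∈ (m/2, m]` not dividing `|H|` suffices -/
def C2Stmt : Prop :=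
  ∀ (m : ℕ) (Γ H : Subgroup (Perm (Fin m))) (n r : ℕ), PHyp m Γ H n r →
    ∀ p' : ℕ, p'.Prime → m < 2 * p' → p' ≤ m → ¬ p' ∣ Nat.card ↥H → PConcl m Γ H r

/-- (C3) a transitive imprimitive group has no element of prime order `> m/2` -/
def C3Stmt : Prop :=
  ∀ (m : ℕ) (H : Subgroup (Perm (Fin m))), MulAction.IsPretransitive ↥H (Fin m) →
    ¬ MulAction.IsPreprimitive ↥H (Fin m) →
    ∀ p' : ℕ, p'.Prime → m < 2 * p' → ¬ p' ∣ Nat.card ↥H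

/-- (C4a) primitive, `m ≥ 8`: Jordan -/
def C4aStmt : Prop :=
  ∀ (m : ℕ) (H : Subgroup (Perm (Fin m))), 8 ≤ m → MulAction.IsPreprimitive ↥H (Fin m) →
    ¬ alternatingGroup (Fin m) ≤ H →
    ∃ p' : ℕ, p'.Prime ∧ m < 2 * p' ∧ p' ≤ m ∧ ¬ p' ∣ Nat.card ↥H

/-- (C4b) primitive of degree `5` without `A_5`: no element of order `3` -/
def C4bStmt : Prop :=
  ∀ (H : Subgroup (Perm (Fin 5))), MulAction.IsPreprimitive ↥H (Fin 5) →
    ¬ alternatingGroup (Fin 5) ≤ H → ¬ 3 ∣ Nat.card ↥H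

/-- (C4c) primitive of degree `7` without `A_7`: no element of order `5` -/
def C4cStmt : Prop :=
  ∀ (H : Subgroup (Perm (Fin 7))), MulAction.IsPreprimitive ↥H (Fin 7) →
    ¬ alternatingGroup (Fin 7) ≤ H → ¬ 5 ∣ Nat.card ↥H

/-- (C4) primitive, `m ≠ 6` -/
def C4Stmt : Prop :=
  ∀ (m : ℕ) (H : Subgroup (Perm (Fin m))), 5 ≤ m → m ≠ 6 → MulAction.IsPreprimitive ↥H (Fin m) →
    ¬ alternatingGroup (Fin m) ≤ H →
    ∃ p' : ℕ, p'.Prime ∧ m < 2 * p' ∧ p' ≤ m ∧ ¬ p' ∣ Nat.card ↥H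

/-- the permutation-level core, `m ≠ 6` -/
def PCoreStmt : Prop :=
  ∀ (m : ℕ) (Γ H : Subgroup (Perm (Fin m))) (n r : ℕ), PHyp m Γ H n r → m ≠ 6 → SSProp →
    PConcl m Γ H r

/-! ## transfer between `(G, Ω, T)` and the permutation level -/

/-- (P0) the socle is transitive -/
def P0Stmt : Prop :=
  ∀ {G Ω : Type*} [Group G] [Finite G] [MulAction G Ω] [FaithfulSMul G Ω] [Finite Ω]
    (T : Subgroup G) (_hT : T.Normal) (m : ℕ) (_hm : 5 ≤ m)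
    (_eT : ↥T ≃* ↥(alternatingGroup (Fin m))) (_hprim : MulAction.IsPreprimitive G Ω)
    (_hΩ : 2 ≤ Nat.card Ω), MulAction.IsPretransitive ↥T Ω

/-- (EMB) for `m ≠ 6` the group `G` embeds in `Sym(m)` extending `eT` (landed S2119) -/
def EmbStmt : Prop :=
  ∀ {G : Type*} [Group G] [Finite G] (T : Subgroup G) (_hT : T.Normal)
    (_hTc : Subgroup.centralizer (T : Set G) = ⊥) (m : ℕ) (_hm : 5 ≤ m) (_h6 : m ≠ 6)
    (eT : ↥T ≃* ↥(alternatingGroup (Fin m))),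
    ∃ ψ : G →* Perm (Fin m), Function.Injective ψ ∧
      ∀ t : ↥T, ψ (t : G) = ((eT t : ↥(alternatingGroup (Fin m))) : Perm (Fin m))

/-- (TR1) the permutation-level hypotheses hold for `Γ = ψ(G)`, `H = ψ(G_ω)`, `n = |Ω|` -/
def TR1Stmt : Prop :=
  ∀ {G Ω : Type*} [Group G] [Finite G] [MulAction G Ω] [FaithfulSMul G Ω] [Finite Ω]
    (T : Subgroup G) (_hT : T.Normal) (m : ℕ) (_hm : 5 ≤ m)
    (eT : ↥T ≃* ↥(alternatingGroup (Fin m))) (_hprim : MulAction.IsPreprimitive G Ω)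
    (_hΩ : 2 ≤ Nat.card Ω) (r : ℕ) (_hr : r.Prime) (_hrd : r ∣ Nat.card Ω)
    (_hmax : ∀ s : ℕ, s.Prime → s ∣ Nat.card Ω → s ≤ r)
    (ψ : G →* Perm (Fin m)) (_hψ : Function.Injective ψ)
    (_hψT : ∀ t : ↥T, ψ (t : G) = ((eT t : ↥(alternatingGroup (Fin m))) : Perm (Fin m))) (ω : Ω),
    PHyp m ψ.range ((MulAction.stabilizer G ω).map ψ) (Nat.card Ω) r

/-- (TR2) pulling the permutation-level conclusion back to `G` -/
def TR2Stmt : Prop :=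
  ∀ {G Ω : Type*} [Group G] [Finite G] [MulAction G Ω] [Finite Ω]
    (T : Subgroup G) (m : ℕ)
    (eT : ↥T ≃* ↥(alternatingGroup (Fin m))) (_htr : MulAction.IsPretransitive G Ω) (r : ℕ)
    (ψ : G →* Perm (Fin m)) (_hψ : Function.Injective ψ)
    (_hψT : ∀ t : ↥T, ψ (t : G) = ((eT t : ↥(alternatingGroup (Fin m))) : Perm (Fin m))) (ω : Ω),
    PConcl m ψ.range ((MulAction.stabilizer G ω).map ψ) r →
    ∃ g : G, orderOf g = r ∧ ∀ ω' : Ω, g • ω' ≠ ω'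

/-! ## `m = 6` -/

/-- (M6C) inside `A_6`: a proper subgroup `K`, `r` the largest prime divisor of its index -/
def M6CoreStmt : Prop :=
  ∀ (K : Subgroup ↥(alternatingGroup (Fin 6))) (r : ℕ), K ≠ ⊤ → r.Prime → r ∣ K.index →
    (∀ s : ℕ, s.Prime → s ∣ K.index → s ≤ r) →
    ∃ t : ↥(alternatingGroup (Fin 6)), orderOf t = r ∧ ∀ g, g⁻¹ * t * g ∉ K

/-- (M6) the case `m = 6` of the theorem (from (P0) and (M6C)) -/
def M6Stmt : Prop :=
  ∀ {G Ω : Type*} [Group G] [Finite G] [MulAction G Ω] [FaithfulSMul G Ω] [Finite Ω]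
    (T : Subgroup G) (_hT : T.Normal)
    (_eT : ↥T ≃* ↥(alternatingGroup (Fin 6))) (_hprim : MulAction.IsPreprimitive G Ω)
    (_hΩ : 2 ≤ Nat.card Ω) (r : ℕ) (_hr : r.Prime) (_hrd : r ∣ Nat.card Ω)
    (_hmax : ∀ s : ℕ, s.Prime → s ∣ Nat.card Ω → s ≤ r),
    ∃ g : G, orderOf g = r ∧ ∀ ω : Ω, g • ω ≠ ω

/-- the frozen statement S3571 as a Prop -/
def MainStmt : Prop :=
  ∀ {G Ω : Type*} [Group G] [Finite G] [MulAction G Ω] [FaithfulSMul G Ω] [Finite Ω]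
    (T : Subgroup G) (_hT : T.Normal) (_hTc : Subgroup.centralizer (T : Set G) = ⊥) (m : ℕ)
    (_hm : 5 ≤ m) (_eT : ↥T ≃* ↥(alternatingGroup (Fin m)))
    (_hprim : MulAction.IsPreprimitive G Ω) (_hΩ : 2 ≤ Nat.card Ω)
    (r : ℕ) (_hr : r.Prime) (_hrd : r ∣ Nat.card Ω)
    (_hmax : ∀ s : ℕ, s.Prime → s ∣ Nat.card Ω → s ≤ r),
    ∃ g : G, orderOf g = r ∧ ∀ ω : Ω, g • ω ≠ ω

end Cfsg.Agent.Lib.H9.S3571
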