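import Mathlib
import Cfsg.Agent.Lib.H20.PowDecomp

/-!
# S3016 (Shult, odd `p`), piece LOC, part a (helper9): the coset lemma for a general prime

`T` a finite group, `K ⊴ T` of order prime to `p`, `H` a `p`-subgroup with `H ⊔ K = ⊤`.
* every `p`-subgroup of `T` is `K`-conjugate into `H`;
* for `h ∈ H`, `u ∈ K`: `h * u` is `K`-conjugate to `h * w` with `w ∈ K` commuting with `h`.
(General-`p` copy of `Lib/H9/SHLOCa.lean`.)
-/

set_option autoImplicit false

namespace Cfsg.Agent.Lib.H9.SHp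

variable {T : Type*} [Group T] [Finite T] {p : ℕ} [hp : Fact p.Prime]

/-- an element of `K` (of `p'`-order) of `p`-power order is trivial -/
theorem eq_one_of_coprime_of_pow {K : Subgroup T} (hK : (Nat.card K).Coprime p) {y : T}
    (hy : y ∈ K) {e : ℕ} (hye : y ^ p ^ e = 1) : y = 1 := by
  have h1 : (⟨y, hy⟩ : K) ^ Nat.card K = 1 := pow_card_eq_one'
  have h2 : y ^ Nat.card K = 1 := by
    have := congrArg Subtype.val h1
    simp only [SubgroupClass.coe_pow, OneMemClass.coe_one] at this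
    exact this
  have h3 : orderOf y ∣ Nat.card K := orderOf_dvd_of_pow_eq_one h2
  have h4 : orderOf y ∣ p ^ e := orderOf_dvd_of_pow_eq_one hye
  have hcop : Nat.Coprime (Nat.card K) (p ^ e) := Nat.Coprime.pow_right e hK
  have h5 : orderOf y ∣ 1 := by
    have := Nat.dvd_gcd h3 h4
    rwa [hcop] at this
  exact orderOf_eq_one_iff.1 (Nat.dvd_one.1 h5)

/-- an element of a `p`-group has `p`-power order -/
theorem exists_pow_eq_one {H : Subgroup T} (hH : IsPGroup p H) {y : T} (hy : y ∈ H) :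
    ∃ e : ℕ, y ^ p ^ e = 1 := by
  obtain ⟨e, he⟩ := hH ⟨y, hy⟩
  refine ⟨e, ?_⟩
  have := congrArg Subtype.val he
  simpa using this

/-- `H ∩ K = 1` elementwise -/
theorem eq_one_of_mem_of_mem {H K : Subgroup T} (hH : IsPGroup p H)
    (hK : (Nat.card K).Coprime p) {y : T} (hyH : y ∈ H) (hyK : y ∈ K) : y = 1 := by
  obtain ⟨e, he⟩ := exists_pow_eq_one hH hyH
  exact eq_one_of_coprime_of_pow hK hyK he

/-- every `p`-subgroup of `T = H K` is `K`-conjugate into `H` -/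
theorem exists_conj_le (H K : Subgroup T) [hKn : K.Normal] (hH : IsPGroup p H)
    (hK : (Nat.card K).Coprime p) (hsup : H ⊔ K = ⊤) (Q : Subgroup T) (hQ : IsPGroup p Q) :
    ∃ k ∈ K, ∀ q ∈ Q, k * q * k⁻¹ ∈ H := by
  have hmem : ∀ t : T, ∃ y ∈ H, ∃ z ∈ K, y * z = t := by
    intro t
    have ht : t ∈ H ⊔ K := by rw [hsup]; exact Subgroup.mem_top t
    exact (Subgroup.mem_sup_of_normal_right).1 ht
  obtain ⟨PH, hPH⟩ := hH.exists_le_sylow
  obtain ⟨PQ, hPQ⟩ := hQ.exists_le_sylow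
  -- `PH = H`
  have hPHH : ∀ y ∈ (PH : Subgroup T), y ∈ H := by
    intro y hy
    obtain ⟨y1, hy1, z, hz, rfl⟩ := hmem y
    have hzP : z ∈ (PH : Subgroup T) := by
      have : z = y1⁻¹ * (y1 * z) := by group
      rw [this]
      exact Subgroup.mul_mem _ (Subgroup.inv_mem _ (hPH hy1)) hy
    have hz1 : z = 1 := eq_one_of_mem_of_mem PH.isPGroup' hK hzP hz
    rw [hz1, mul_one]; exact hy1
  obtain ⟨t, ht⟩ := MulAction.exists_smul_eq T PQ PH
  obtain ⟨y, hy, k, hk, rfl⟩ := hmem t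
  refine ⟨k, hk, fun q hq => ?_⟩
  have h1 : (y * k) * q * (y * k)⁻¹ ∈ (PH : Subgroup T) := by
    rw [← ht]
    exact ⟨q, hPQ hq, rfl⟩
  have h2 := hPHH _ h1
  have h3 : k * q * k⁻¹ = y⁻¹ * ((y * k) * q * (y * k)⁻¹) * y := by group
  rw [h3]
  exact H.mul_mem (H.mul_mem (H.inv_mem hy) h2) hy

/-- powers of `h * u` modulo `K` -/
theorem pow_mul_mem (K : Subgroup T) [hKn : K.Normal] (h u : T) (hu : u ∈ K) (n : ℕ) :
    ∃ z ∈ K, (h * u) ^ n = h ^ n * z := by
  induction n with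
  | zero => exact ⟨1, K.one_mem, by simp⟩
  | succ n ih =>
    obtain ⟨z, hz, hzn⟩ := ih
    refine ⟨h⁻¹ * z * h * u, K.mul_mem ?_ hu, ?_⟩
    · have := hKn.conj_mem z hz h⁻¹
      simpa using this
    · rw [pow_succ, hzn, pow_succ]; group

/-- the coset lemma -/
theorem coset_conj (H K : Subgroup T) [hKn : K.Normal] (hH : IsPGroup p H)
    (hK : (Nat.card K).Coprime p) (hsup : H ⊔ K = ⊤) {h u : T} (hh : h ∈ H) (hu : u ∈ K) :
    ∃ k ∈ K, ∃ w ∈ K, w * h = h * w ∧ k * (h * u) * k⁻¹ = h * w := by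
  obtain ⟨a, b, hab, ⟨e, hae⟩, hbodd⟩ :=
    Cfsg.Agent.Lib.H20.exists_pPart_pPrimePart (h * u) (isOfFinOrder_of_finite _) p hp.out
  obtain ⟨za, hza, hxa⟩ := pow_mul_mem K h u hu a
  obtain ⟨zb, hzb, hxb⟩ := pow_mul_mem K h u hu b
  obtain ⟨j, hj⟩ := exists_pow_eq_one hH hh
  -- `h ^ b = 1`
  have hhb : h ^ b = 1 := by
    set m := orderOf ((h * u) ^ b) with hm
    have hmodd : m.Coprime p := hbodd
    obtain ⟨z, hz, hzm⟩ := pow_mul_mem K h u hu (b * m)
    have h1 : (h * u) ^ (b * m) = 1 := by rw [pow_mul, hm, pow_orderOf_eq_one]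
    have h2 : h ^ (b * m) = z⁻¹ := by
      rw [h1] at hzm
      exact eq_inv_of_mul_eq_one_left hzm.symm
    have h3 : h ^ (b * m) = 1 :=
      eq_one_of_mem_of_mem hH hK (H.pow_mem hh _) (h2 ▸ K.inv_mem hz)
    have h4 : orderOf h ∣ b * m := orderOf_dvd_of_pow_eq_one h3
    have h5 : orderOf h ∣ p ^ j := orderOf_dvd_of_pow_eq_one hj
    have h6 : (orderOf h).Coprime m := by
      obtain ⟨i, _, hi⟩ := (Nat.dvd_prime_pow hp.out).1 h5
      rw [hi]
      exact Nat.Coprime.pow_left i hmodd.symm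
    exact orderOf_dvd_iff_pow_eq_one.1 (h6.dvd_of_dvd_mul_right h4)
  -- `h ^ a = h`
  have hha : h ^ a = h := by
    obtain ⟨z, hz, hzab⟩ := pow_mul_mem K h u hu (a + b)
    have h1 : (h * u) ^ (a + b) = h * u := by rw [pow_add]; exact hab
    have h2 : h ^ (a + b) = h ^ a := by rw [pow_add, hhb, mul_one]
    rw [h1, h2] at hzab
    have h3 : h⁻¹ * h ^ a = u * z⁻¹ := by
      have : h ^ a = h * u * z⁻¹ := by rw [hzab]; group
      rw [this]; group
    have h4 : h⁻¹ * h ^ a = 1 :=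
      eq_one_of_mem_of_mem hH hK (H.mul_mem (H.inv_mem hh) (H.pow_mem hh _))
        (h3 ▸ K.mul_mem hu (K.inv_mem hz))
    calc h ^ a = h * (h⁻¹ * h ^ a) := by group
      _ = h := by rw [h4, mul_one]
  -- the `p'`-part lies in `K`
  have hxbK : (h * u) ^ b ∈ K := by rw [hxb, hhb, one_mul]; exact hzb
  -- conjugate the `p`-part into `H`
  have hQ : IsPGroup p (Subgroup.zpowers ((h * u) ^ a)) := by
    apply IsPGroup.of_card (n := e)
    rw [Nat.card_zpowers, hae]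
  obtain ⟨k, hk, hkQ⟩ := exists_conj_le H K hH hK hsup _ hQ
  have hkH : k * (h * u) ^ a * k⁻¹ ∈ H := hkQ _ (Subgroup.mem_zpowers _)
  have hkh : k * (h * u) ^ a * k⁻¹ = h := by
    have h1 : h⁻¹ * (k * (h * u) ^ a * k⁻¹) ∈ K := by
      rw [hxa, hha]
      have h2 : h⁻¹ * (k * (h * za) * k⁻¹) = (h⁻¹ * k * h) * za * k⁻¹ := by group
      rw [h2]
      refine K.mul_mem (K.mul_mem ?_ hza) (K.inv_mem hk)
      have := hKn.conj_mem k hk h⁻¹
      simpa using this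
    have h3 := eq_one_of_mem_of_mem hH hK (H.mul_mem (H.inv_mem hh) hkH) h1
    calc k * (h * u) ^ a * k⁻¹ = h * (h⁻¹ * (k * (h * u) ^ a * k⁻¹)) := by group
      _ = h := by rw [h3, mul_one]
  refine ⟨k, hk, k * (h * u) ^ b * k⁻¹, hKn.conj_mem _ hxbK k, ?_, ?_⟩
  · have hc : (h * u) ^ b * (h * u) ^ a = (h * u) ^ a * (h * u) ^ b := by
      rw [← pow_add, ← pow_add, add_comm]
    have hcomm : k * (h * u) ^ b * k⁻¹ * (k * (h * u) ^ a * k⁻¹) =
        k * (h * u) ^ a * k⁻¹ * (k * (h * u) ^ b * k⁻¹) := by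
      calc k * (h * u) ^ b * k⁻¹ * (k * (h * u) ^ a * k⁻¹)
          = k * ((h * u) ^ b * (h * u) ^ a) * k⁻¹ := by group
        _ = k * ((h * u) ^ a * (h * u) ^ b) * k⁻¹ := by rw [hc]
        _ = k * (h * u) ^ a * k⁻¹ * (k * (h * u) ^ b * k⁻¹) := by group
    rw [hkh] at hcomm
    exact hcomm
  · calc k * (h * u) * k⁻¹ = k * ((h * u) ^ a * (h * u) ^ b) * k⁻¹ := by rw [hab]
      _ = (k * (h * u) ^ a * k⁻¹) * (k * (h * u) ^ b * k⁻¹) := by group
      _ = h * (k * (h * u) ^ b * k⁻¹) := by rw [hkh]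

end Cfsg.Agent.Lib.H9.SHp
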