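import Mathlib
import Cfsg.Prelude.Def_SubgroupEmbedding
import Cfsg.Prelude.Def_CaseTheorems
import Cfsg.Prelude.Def_Local
import Cfsg.Agent.S3020
import Cfsg.Agent.Lib.H9.SHLOCpa
import Cfsg.Agent.Lib.H22.PPrimeCore
import Cfsg.Agent.Lib.H1.CoprimeAction

/-!
# S3016 (Shult, odd `p`), piece LOC (helper9): STRUCT + COSET + CORE for a general prime `p`

`H` an abelian extremely closed `p`-subgroup of the finite group `G`,
`T_g = ⟨H, g H g⁻¹⟩ = K_g ⋊ H` (landed S3020, general `p`).  `g = k ν` with `k ∈ K_g`, `ν ∈ N_G(H)`;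
and `a * g b g⁻¹` is conjugate to `(a * ν b ν⁻¹) * w` with `w ∈ O_{p'}(C_G(a * ν b ν⁻¹))`.
(General-`p` copy of `Lib/H9/SHLOC.lean`.)
-/

set_option autoImplicit false

namespace Cfsg.Agent.Lib.H9.SHp

open Cfsg

variable {G : Type*} [Group G] [Finite G]

/-- `T_g = ⟨H, g H g⁻¹⟩` -/
def Tg (H : Subgroup G) (g : G) : Subgroup G := H ⊔ H.map (MulAut.conj g).toMonoidHom

/-- `K_g = O_{p'}(T_g)` as a subgroup of `G` -/
def Kg (p : ℕ) (H : Subgroup G) (g : G) : Subgroup G :=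
  (Cfsg.pPrimeCore p ↥(Tg H g)).map (Tg H g).subtype

theorem H_le_Tg (H : Subgroup G) (g : G) : H ≤ Tg H g := le_sup_left

theorem conj_mem_Tg (H : Subgroup G) (g : G) {b : G} (hb : b ∈ H) : g * b * g⁻¹ ∈ Tg H g :=
  (le_sup_right : H.map (MulAut.conj g).toMonoidHom ≤ Tg H g) ⟨b, hb, rfl⟩

theorem Kg_le_Tg (p : ℕ) (H : Subgroup G) (g : G) : Kg p H g ≤ Tg H g := by
  rintro _ ⟨y, _, rfl⟩
  exact y.2

theorem Kg_coprime (p : ℕ) (H : Subgroup G) (g : G) : (Nat.card (Kg p H g)).Coprime p := by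
  have h1 : (Nat.card (Cfsg.pPrimeCore p ↥(Tg H g))).Coprime p :=
    Cfsg.Agent.Lib.H22.card_pPrimeCore_coprime p
  have h2 : Nat.card (Kg p H g) = Nat.card (Cfsg.pPrimeCore p ↥(Tg H g)) :=
    Subgroup.card_map_of_injective (Subgroup.subtype_injective _)
  rw [h2]
  exact h1

theorem Kg_conj_mem (p : ℕ) (H : Subgroup G) (g : G) {t k : G} (ht : t ∈ Tg H g)
    (hk : k ∈ Kg p H g) : t * k * t⁻¹ ∈ Kg p H g := by
  obtain ⟨y, hy, rfl⟩ := hk
  have hn : (Cfsg.pPrimeCore p ↥(Tg H g)).Normal := inferInstance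
  exact ⟨⟨t, ht⟩ * y * ⟨t, ht⟩⁻¹, hn.conj_mem y hy ⟨t, ht⟩, rfl⟩

section extremely

variable {p : ℕ} [hp : Fact p.Prime] {H : Subgroup G} (hHp : IsPGroup p H)
  (hHab : IsMulCommutative H) (hcl : Cfsg.IsExtremelyClosed H)

include hHp hHab hcl

theorem H_sup_Kg (g : G) : H ⊔ Kg p H g = Tg H g :=
  (Cfsg.Agent.S3020.result H hHp hHab hcl g (Tg H g) rfl).1

theorem H_inf_Kg (g : G) : H ⊓ Kg p H g = ⊥ :=
  (Cfsg.Agent.S3020.result H hHp hHab hcl g (Tg H g) rfl).2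

theorem Kg_inf_normalizer (g : G) : Kg p H g ⊓ Subgroup.normalizer (H : Set G) = ⊥ := by
  rw [eq_bot_iff]
  intro y hy
  have h1 : y ∈ Tg H g ⊓ Subgroup.normalizer (H : Set G) := ⟨Kg_le_Tg p H g hy.1, hy.2⟩
  have h2 : y ∈ H := by
    have := hcl g
    unfold Tg at h1
    rw [this] at h1
    exact h1
  have h3 : y ∈ H ⊓ Kg p H g := ⟨h2, hy.1⟩
  rw [H_inf_Kg hHp hHab hcl g] at h3
  exact h3

/-- the hypotheses of the abstract lemmas inside `↥T_g` -/
theorem subgroupOf_sup_pPrimeCore (g : G) :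
    H.subgroupOf (Tg H g) ⊔ Cfsg.pPrimeCore p ↥(Tg H g) = ⊤ := by
  have h1 := H_sup_Kg hHp hHab hcl g
  have h2 : (H ⊔ Kg p H g).subgroupOf (Tg H g) = ⊤ := by rw [h1]; exact Subgroup.subgroupOf_self _
  rw [Subgroup.subgroupOf_sup (H_le_Tg H g) (Kg_le_Tg p H g)] at h2
  have h3 : (Kg p H g).subgroupOf (Tg H g) = Cfsg.pPrimeCore p ↥(Tg H g) :=
    Subgroup.comap_map_eq_self_of_injective (Subgroup.subtype_injective _) _
  rw [h3] at h2
  exact h2

/-- COSET in `G` -/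
theorem coset_conj_Kg (g : G) {h u : G} (hh : h ∈ H) (hu : u ∈ Kg p H g) :
    ∃ k ∈ Kg p H g, ∃ w ∈ Kg p H g, w * h = h * w ∧ k * (h * u) * k⁻¹ = h * w := by
  obtain ⟨u', hu', rfl⟩ := hu
  have hK' : (Nat.card (Cfsg.pPrimeCore p ↥(Tg H g))).Coprime p :=
    Cfsg.Agent.Lib.H22.card_pPrimeCore_coprime p
  have hH' : IsPGroup p (H.subgroupOf (Tg H g)) := hHp.comap_subtype
  obtain ⟨k, hk, w, hw, hwh, hkw⟩ :=
    coset_conj (H.subgroupOf (Tg H g)) (Cfsg.pPrimeCore p ↥(Tg H g)) hH' hK'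
      (subgroupOf_sup_pPrimeCore hHp hHab hcl g)
      (h := ⟨h, H_le_Tg H g hh⟩) (u := u') (Subgroup.mem_subgroupOf.2 hh) hu'
  refine ⟨k, ⟨k, hk, rfl⟩, w, ⟨w, hw, rfl⟩, ?_, ?_⟩
  · exact congrArg Subtype.val hwh
  · exact congrArg Subtype.val hkw

/-- STRUCT: `g = k ν`, `k ∈ K_g`, `ν ∈ N_G(H)` -/
theorem exists_struct (g : G) :
    ∃ k ∈ Kg p H g, ∃ ν ∈ Subgroup.normalizer (H : Set G), g = k * ν := by
  have hK' : (Nat.card (Cfsg.pPrimeCore p ↥(Tg H g))).Coprime p :=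
    Cfsg.Agent.Lib.H22.card_pPrimeCore_coprime p
  have hH' : IsPGroup p (H.subgroupOf (Tg H g)) := hHp.comap_subtype
  have hQ : IsPGroup p ((H.map (MulAut.conj g).toMonoidHom).subgroupOf (Tg H g)) :=
    (hHp.map _).comap_subtype
  obtain ⟨k, hk, hkQ⟩ :=
    exists_conj_le (H.subgroupOf (Tg H g)) (Cfsg.pPrimeCore p ↥(Tg H g)) hH' hK'
      (subgroupOf_sup_pPrimeCore hHp hHab hcl g) _ hQ
  have hkK : (k : G)⁻¹ ∈ Kg p H g := (Kg p H g).inv_mem ⟨k, hk, rfl⟩
  refine ⟨(k : G)⁻¹, hkK, (k : G) * g, ?_, by group⟩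
  apply Subgroup.mem_normalizer_fintype
  intro b hb
  have hb' : b ∈ H := hb
  have hq : (⟨g * b * g⁻¹, conj_mem_Tg H g hb'⟩ : ↥(Tg H g)) ∈
      (H.map (MulAut.conj g).toMonoidHom).subgroupOf (Tg H g) :=
    Subgroup.mem_subgroupOf.2 ⟨b, hb', rfl⟩
  have h1 := hkQ _ hq
  rw [Subgroup.mem_subgroupOf] at h1
  have h2 : (k : G) * g * b * ((k : G) * g)⁻¹ = (k : G) * (g * b * g⁻¹) * (k : G)⁻¹ := by group
  show (k : G) * g * b * ((k : G) * g)⁻¹ ∈ H
  rw [h2]
  exact h1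

end extremely

/-- CORE: the induction hypothesis in `C = C_G(h)` puts `C_K(h)` inside `O_{p'}(C_G(h))` -/
theorem core_le {p : ℕ} [hp : Fact p.Prime] {H : Subgroup G} (hHp : IsPGroup p H)
    (hHab : IsMulCommutative H) {h : G} (hh : h ∈ H)
    (hIH : Subgroup.normalizer
        ((H.subgroupOf (Subgroup.centralizer ({h} : Set G)) :
          Subgroup ↥(Subgroup.centralizer ({h} : Set G))) :
          Set ↥(Subgroup.centralizer ({h} : Set G))) ⊔
        Cfsg.pPrimeCore p ↥(Subgroup.centralizer ({h} : Set G)) = ⊤)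
    (K : Subgroup G) (hKodd : (Nat.card K).Coprime p)
    (hHK : H ≤ Subgroup.normalizer (K : Set G))
    (hKN : K ⊓ Subgroup.centralizer (H : Set G) = ⊥) :
    K ⊓ Subgroup.centralizer ({h} : Set G) ≤ Cfsg.centralizerPPrimeCore p h := by
  have hcomm : ∀ a ∈ H, ∀ b ∈ H, a * b = b * a := by
    intro a ha b hb
    have := hHab.is_comm.comm (⟨a, ha⟩ : H) ⟨b, hb⟩
    exact congrArg Subtype.val this
  set C : Subgroup G := Subgroup.centralizer ({h} : Set G) with hC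
  have hHC : H ≤ C := by
    intro x hx
    rw [hC, Subgroup.mem_centralizer_singleton_iff]
    exact hcomm x hx h hh
  set W0 : Subgroup G := K ⊓ C with hW0
  -- the coprime action of `H` on `W0`
  have hnormW : H ≤ Subgroup.normalizer (W0 : Set G) := by
    intro x hx
    rw [Subgroup.mem_normalizer_iff]
    intro y
    have h1 := (Subgroup.mem_normalizer_iff.1 (hHK hx)) y
    have hxC : x ∈ C := hHC hx
    constructor
    · rintro ⟨hyK, hyC⟩
      exact ⟨h1.1 hyK, C.mul_mem (C.mul_mem hxC hyC) (C.inv_mem hxC)⟩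
    · rintro ⟨hyK, hyC⟩
      refine ⟨h1.2 hyK, ?_⟩
      have : y = x⁻¹ * (x * y * x⁻¹) * x := by group
      rw [this]
      exact C.mul_mem (C.mul_mem (C.inv_mem hxC) hyC) hxC
  have hW0odd : (Nat.card W0).Coprime p := by
    have hdvd : Nat.card W0 ∣ Nat.card K := Subgroup.card_dvd_of_le inf_le_left
    exact Nat.Coprime.coprime_dvd_left hdvd hKodd
  have hact : Cfsg.Agent.Lib.H1.CoprimeAction H W0 := by
    refine ⟨hnormW, ?_, Or.inl ?_⟩
    · obtain ⟨n, hn⟩ := IsPGroup.exists_card_eq hHp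
      rw [hn]
      exact Nat.Coprime.pow_left n hW0odd.symm
    · let _ : CommGroup ↥H := { (inferInstance : Group ↥H) with
        mul_comm := fun a b => hHab.is_comm.comm a b }
      exact inferInstance
  have hdec := Cfsg.Agent.Lib.H1.coprime_commutator_sup_centralizer hact
  have hcen : W0 ⊓ Subgroup.centralizer (H : Set G) = ⊥ := by
    rw [eq_bot_iff, ← hKN]
    exact inf_le_inf_right _ inf_le_left
  rw [hcen, sup_bot_eq] at hdec
  -- now `W0 = ⁅W0, H⁆`; show every commutator lies in `O_{p'}(C)`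
  rw [← hdec, Subgroup.commutator_le]
  intro w hw x hx
  have hwC : w ∈ C := hw.2
  have hxC : x ∈ C := hHC hx
  set Oc : Subgroup ↥C := Cfsg.pPrimeCore p ↥C with hOc
  set Hc : Subgroup ↥C := H.subgroupOf C with hHc
  have hOcn : Oc.Normal := inferInstance
  have hOcodd : (Nat.card Oc).Coprime p := Cfsg.Agent.Lib.H22.card_pPrimeCore_coprime p
  have hHc2 : IsPGroup p Hc := hHp.comap_subtype
  -- `Hc ⊔ Oc` is normal in `↥C`
  have hnorm : ∀ c : ↥C, ∀ y ∈ Hc ⊔ Oc, c * y * c⁻¹ ∈ Hc ⊔ Oc := by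
    intro c y hy
    have hc : c ∈ Subgroup.normalizer ((Hc : Subgroup ↥C) : Set ↥C) ⊔ Oc := by
      rw [hIH]; exact Subgroup.mem_top c
    obtain ⟨n, hn, o, ho, rfl⟩ := (Subgroup.mem_sup_of_normal_right).1 hc
    obtain ⟨y1, hy1, y2, hy2, rfl⟩ := (Subgroup.mem_sup_of_normal_right).1 hy
    -- conjugate by `o` first, then by `n`
    have h1 : o * (y1 * y2) * o⁻¹ ∈ Hc ⊔ Oc := by
      have : o * (y1 * y2) * o⁻¹ = y1 * ((y1⁻¹ * o * y1) * y2 * o⁻¹) := by group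
      rw [this]
      refine Subgroup.mul_mem _ (Subgroup.mem_sup_left hy1) (Subgroup.mem_sup_right ?_)
      refine Oc.mul_mem (Oc.mul_mem ?_ hy2) (Oc.inv_mem ho)
      have := hOcn.conj_mem o ho y1⁻¹
      simpa using this
    obtain ⟨z1, hz1, z2, hz2, hz⟩ := (Subgroup.mem_sup_of_normal_right).1 h1
    have h2 : n * o * (y1 * y2) * (n * o)⁻¹ = (n * z1 * n⁻¹) * (n * z2 * n⁻¹) := by
      have : n * o * (y1 * y2) * (n * o)⁻¹ = n * (o * (y1 * y2) * o⁻¹) * n⁻¹ := by group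
      rw [this, ← hz]; group
    rw [h2]
    refine Subgroup.mul_mem _ (Subgroup.mem_sup_left ?_) (Subgroup.mem_sup_right ?_)
    · exact ((Subgroup.mem_normalizer_iff.1 hn) z1).1 hz1
    · exact hOcn.conj_mem z2 hz2 n
  -- the commutator, as an element of `↥C`
  set w' : ↥C := ⟨w, hwC⟩ with hw'
  set x' : ↥C := ⟨x, hxC⟩ with hx'
  have hx'H : x' ∈ Hc := Subgroup.mem_subgroupOf.2 hx
  have hcomHO : w' * x' * w'⁻¹ * x'⁻¹ ∈ Hc ⊔ Oc :=
    Subgroup.mul_mem _ (hnorm w' x' (Subgroup.mem_sup_left hx'H))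
      (Subgroup.inv_mem _ (Subgroup.mem_sup_left hx'H))
  -- it has `p'`-order, being in `W0`
  have hcomW : w * x * w⁻¹ * x⁻¹ ∈ W0 := by
    have h1 : x * w⁻¹ * x⁻¹ ∈ W0 :=
      ((Subgroup.mem_normalizer_iff.1 (hnormW hx)) w⁻¹).1 (W0.inv_mem hw)
    have : w * x * w⁻¹ * x⁻¹ = w * (x * w⁻¹ * x⁻¹) := by group
    rw [this]
    exact W0.mul_mem hw h1
  set m : ℕ := Nat.card W0 with hm
  have hpow : (w * x * w⁻¹ * x⁻¹) ^ m = 1 := by
    have h1 : (⟨w * x * w⁻¹ * x⁻¹, hcomW⟩ : W0) ^ Nat.card W0 = 1 := pow_card_eq_one'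
    have := congrArg Subtype.val h1
    simp only [SubgroupClass.coe_pow, OneMemClass.coe_one] at this
    exact this
  -- write the commutator as `y1 * y2`, `y1 ∈ Hc`, `y2 ∈ Oc`; then `y1 = 1`
  obtain ⟨y1, hy1, y2, hy2, hy⟩ := (Subgroup.mem_sup_of_normal_right).1 hcomHO
  obtain ⟨z, hz, hzpow⟩ := pow_mul_mem Oc y1 y2 hy2 m
  have hpow' : (y1 * y2) ^ m = 1 := by
    rw [hy]
    apply Subtype.ext
    simp only [SubgroupClass.coe_pow, OneMemClass.coe_one]
    exact hpow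
  have hy1pow : y1 ^ m = 1 := by
    have h1 : y1 ^ m = z⁻¹ := by
      rw [hpow'] at hzpow
      exact eq_inv_of_mul_eq_one_left hzpow.symm
    exact eq_one_of_mem_of_mem hHc2 hOcodd (Hc.pow_mem hy1 _) (h1 ▸ Oc.inv_mem hz)
  have hy1one : y1 = 1 := by
    obtain ⟨e, he⟩ := exists_pow_eq_one hHc2 hy1
    have h4 : orderOf y1 ∣ m := orderOf_dvd_of_pow_eq_one hy1pow
    have h5 : orderOf y1 ∣ p ^ e := orderOf_dvd_of_pow_eq_one he
    have hcop : Nat.Coprime m (p ^ e) := Nat.Coprime.pow_right e hW0odd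
    have h6 : orderOf y1 ∣ 1 := by
      have := Nat.dvd_gcd h4 h5
      rwa [hcop] at this
    exact orderOf_eq_one_iff.1 (Nat.dvd_one.1 h6)
  rw [hy1one, one_mul] at hy
  -- conclude
  rw [commutatorElement_def]
  refine ⟨y2, hy2, ?_⟩
  rw [hy]
  rfl

/-- `T_{g n} = T_g` for `n ∈ N_G(H)` -/
theorem Tg_mul_normalizer (H : Subgroup G) (g : G) {n : G}
    (hn : n ∈ Subgroup.normalizer (H : Set G)) : Tg H (g * n) = Tg H g := by
  unfold Tg
  congr 1
  ext y
  constructor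
  · rintro ⟨b, hb, rfl⟩
    refine ⟨n * b * n⁻¹, ((Subgroup.mem_normalizer_iff.1 hn) b).1 hb, ?_⟩
    simp [MulAut.conj_apply, mul_assoc]
  · rintro ⟨b, hb, rfl⟩
    refine ⟨n⁻¹ * b * n, ?_, ?_⟩
    · have := ((Subgroup.mem_normalizer_iff.1 hn) (n⁻¹ * b * n)).2
      apply this
      have h1 : n * (n⁻¹ * b * n) * n⁻¹ = b := by group
      rw [h1]; exact hb
    · simp [MulAut.conj_apply, mul_assoc]

theorem Kg_mul_normalizer (p : ℕ) (H : Subgroup G) (g : G) {n : G}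
    (hn : n ∈ Subgroup.normalizer (H : Set G)) : Kg p H (g * n) = Kg p H g := by
  unfold Kg
  rw [Tg_mul_normalizer H g hn]

section main

variable {p : ℕ} [hp : Fact p.Prime] {H : Subgroup G} (hHp : IsPGroup p H)
  (hHab : IsMulCommutative H) (hcl : Cfsg.IsExtremelyClosed H)

include hHp hHab hcl

/-- uniqueness of the decomposition `g = k ν` -/
theorem struct_unique (g : G) {k k' ν ν' : G} (hk : k ∈ Kg p H g) (hk' : k' ∈ Kg p H g)
    (hν : ν ∈ Subgroup.normalizer (H : Set G)) (hν' : ν' ∈ Subgroup.normalizer (H : Set G))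
    (h : k * ν = k' * ν') : k = k' ∧ ν = ν' := by
  have h1 : k'⁻¹ * k = ν' * ν⁻¹ := by
    have : k = k' * ν' * ν⁻¹ := by rw [← h]; group
    rw [this]; group
  have h2 : k'⁻¹ * k ∈ Kg p H g ⊓ Subgroup.normalizer (H : Set G) :=
    ⟨(Kg p H g).mul_mem ((Kg p H g).inv_mem hk') hk,
      h1 ▸ Subgroup.mul_mem _ hν' (Subgroup.inv_mem _ hν)⟩
  rw [Kg_inf_normalizer hHp hHab hcl g, Subgroup.mem_bot] at h2
  have h3 : k = k' := by
    calc k = k' * (k'⁻¹ * k) := by group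
      _ = k' := by rw [h2, mul_one]
  refine ⟨h3, ?_⟩
  rw [h3] at h
  exact mul_left_cancel h

/-- LOC: the main statement, for a general prime `p`. -/
theorem loc_main
    (hIH : ∀ h ∈ H, h ≠ 1 → Subgroup.normalizer
        ((H.subgroupOf (Subgroup.centralizer ({h} : Set G)) :
          Subgroup ↥(Subgroup.centralizer ({h} : Set G))) :
          Set ↥(Subgroup.centralizer ({h} : Set G))) ⊔
        Cfsg.pPrimeCore p ↥(Subgroup.centralizer ({h} : Set G)) = ⊤)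
    (g : G) :
    ∃ k ∈ Kg p H g, ∃ ν ∈ Subgroup.normalizer (H : Set G), g = k * ν ∧
      ∀ a ∈ H, ∀ b ∈ H,
        (a * (ν * b * ν⁻¹) ≠ 1 →
          ∃ x : G, ∃ w ∈ Cfsg.centralizerPPrimeCore p (a * (ν * b * ν⁻¹)),
            x * (a * (g * b * g⁻¹)) * x⁻¹ = (a * (ν * b * ν⁻¹)) * w) ∧
        (a * (ν * b * ν⁻¹) = 1 → (orderOf (a * (g * b * g⁻¹))).Coprime p) := by
  obtain ⟨k, hk, ν, hν, hg⟩ := exists_struct hHp hHab hcl g
  refine ⟨k, hk, ν, hν, hg, ?_⟩
  intro a ha b hb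
  have hb' : ν * b * ν⁻¹ ∈ H := ((Subgroup.mem_normalizer_iff.1 hν) b).1 hb
  set b' := ν * b * ν⁻¹ with hb'def
  have hab' : a * b' ∈ H := H.mul_mem ha hb'
  -- `a * g b g⁻¹ = (a b') * u`, `u ∈ K_g`
  have hu : b'⁻¹ * k * b' * k⁻¹ ∈ Kg p H g := by
    refine (Kg p H g).mul_mem ?_ ((Kg p H g).inv_mem hk)
    have := Kg_conj_mem p H g (H_le_Tg H g (H.inv_mem hb')) hk
    simpa using this
  have hdec : a * (g * b * g⁻¹) = (a * b') * (b'⁻¹ * k * b' * k⁻¹) := by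
    rw [hg, hb'def]; group
  constructor
  · intro hne
    obtain ⟨k1, hk1, w, hw, hwh, hkw⟩ := coset_conj_Kg hHp hHab hcl g hab' hu
    refine ⟨k1, w, ?_, ?_⟩
    · apply core_le hHp hHab hab' (hIH _ hab' hne) (Kg p H g) (Kg_coprime p H g)
      · intro x hx
        rw [Subgroup.mem_normalizer_iff]
        intro y
        constructor
        · intro hy
          exact Kg_conj_mem p H g (H_le_Tg H g hx) hy
        · intro hy
          have := Kg_conj_mem p H g (H_le_Tg H g (H.inv_mem hx)) hy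
          have h2 : x⁻¹ * (x * y * x⁻¹) * x⁻¹⁻¹ = y := by group
          rw [h2] at this
          exact this
      · rw [eq_bot_iff, ← Kg_inf_normalizer hHp hHab hcl g]
        apply inf_le_inf_left
        intro y hy
        rw [Subgroup.mem_normalizer_iff]
        intro z
        have hyz : ∀ z ∈ H, y * z * y⁻¹ = z := by
          intro z hz
          have := (Subgroup.mem_centralizer_iff.1 hy) z hz
          calc y * z * y⁻¹ = (z * y) * y⁻¹ := by rw [this]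
            _ = z := by group
        constructor
        · intro hz
          rw [hyz z hz]; exact hz
        · intro hz
          have h3 : y⁻¹ * (y * z * y⁻¹) * y = z := by group
          have h4 : y⁻¹ * (y * z * y⁻¹) * y = y * z * y⁻¹ := by
            have := (Subgroup.mem_centralizer_iff.1 hy) _ hz
            calc y⁻¹ * (y * z * y⁻¹) * y = y⁻¹ * ((y * z * y⁻¹) * y) := by group
              _ = y⁻¹ * (y * (y * z * y⁻¹)) := by rw [this]
              _ = y * z * y⁻¹ := by group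
          rw [← h3, h4]; exact hz
      · exact ⟨hw, Subgroup.mem_centralizer_singleton_iff.2 hwh⟩
    · rw [hdec]; exact hkw
  · intro he
    rw [hdec, he, one_mul]
    have h1 : (⟨b'⁻¹ * k * b' * k⁻¹, hu⟩ : Kg p H g) ^ Nat.card (Kg p H g) = 1 :=
      pow_card_eq_one'
    have h2 : (b'⁻¹ * k * b' * k⁻¹) ^ Nat.card (Kg p H g) = 1 := by
      have := congrArg Subtype.val h1
      simp only [SubgroupClass.coe_pow, OneMemClass.coe_one] at this
      exact this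
    exact Nat.Coprime.coprime_dvd_left (orderOf_dvd_of_pow_eq_one h2) (Kg_coprime p H g)

end main

end Cfsg.Agent.Lib.H9.SHp
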