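import Mathlib
import Cfsg.Agent.S0942
import Cfsg.Agent.Lib.H9.SHLOCp
import Cfsg.Agent.Lib.H11.SHCSG
import Cfsg.Agent.Lib.H24.CharSchur

/-!
# S3016 (Shult, odd `p`), glue (helper9): the LOC output in character form, general prime `p`

`locData_of_loc`: helper9's general-`p` `loc_main` (group side) plus the landed `S0942` give
helper11's `LocData p H (principalBlock M G)`.  (General-`p` copy of `Lib/H9/SHLOCD.lean`.)
-/

set_option autoImplicit false

namespace Cfsg.Agent.Lib.H9.SHp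

open Cfsg

variable {G : Type*} [Group G] [Finite G] {H : Subgroup G}

/-- the induction hypothesis of S3016 / S3017 in the centralizers of the nontrivial elements of `H`
gives the LOC data in character form (for the principal `p`-block). -/
theorem locData_of_loc {p : ℕ} [hp : Fact p.Prime] (hHp : IsPGroup p H)
    (hHab : IsMulCommutative ↥H) (hcl : Cfsg.IsExtremelyClosed H)
    (hIH : ∀ h ∈ H, h ≠ 1 → Subgroup.normalizer
        ((H.subgroupOf (Subgroup.centralizer ({h} : Set G)) :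
          Subgroup ↥(Subgroup.centralizer ({h} : Set G))) :
          Set ↥(Subgroup.centralizer ({h} : Set G))) ⊔
        Cfsg.pPrimeCore p ↥(Subgroup.centralizer ({h} : Set G)) = ⊤)
    (M : Ideal Cfsg.AlgInt) (hM : Cfsg.IsPModular p M) :
    Cfsg.Agent.Lib.H11.SH.LocData p H (Cfsg.principalBlock M G) := by
  intro g
  obtain ⟨k, _, ν, hν, _, hloc⟩ := loc_main hHp hHab hcl hIH g
  refine ⟨ν, hν, ?_⟩
  intro a ha b hb
  obtain ⟨h1, h2⟩ := hloc a ha b hb
  have hb' : ν * b * ν⁻¹ ∈ H := ((Subgroup.mem_normalizer_iff.1 hν) b).1 hb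
  have hu : a * (ν * b * ν⁻¹) ∈ H := H.mul_mem ha hb'
  refine ⟨?_, ?_⟩
  · intro hne χ hχ
    obtain ⟨x, w, hw, hx⟩ := h1 hne
    have hcf := Cfsg.Agent.Lib.H24.isClassFunction_irr χ
    have hord : ∃ n : ℕ, orderOf (a * (ν * b * ν⁻¹)) = p ^ n := by
      obtain ⟨n, hn⟩ := hHp ⟨_, hu⟩
      have h3 : (a * (ν * b * ν⁻¹)) ^ p ^ n = 1 := by
        have := congrArg Subtype.val hn
        simpa using this
      obtain ⟨m, _, hm⟩ := (Nat.dvd_prime_pow hp.out).1 (orderOf_dvd_of_pow_eq_one h3)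
      exact ⟨m, hm⟩
    have h4 := Cfsg.Agent.S0942.result p M hM (a * (ν * b * ν⁻¹)) hord w hw χ hχ
    rw [← hcf (a * (g * b * g⁻¹)) x, hx, h4]
  · intro heq hdvd
    have hcop := h2 heq
    exact (Nat.Prime.coprime_iff_not_dvd hp.out).1 hcop.symm hdvd

/-- the same for `p = 2` with the `oddCore` form of the induction hypothesis unfolded:
`Cfsg.oddCore X` is by definition `Cfsg.pPrimeCore 2 X`. -/
theorem pPrimeCore_two_eq_oddCore (X : Type*) [Group X] :
    Cfsg.pPrimeCore 2 X = Cfsg.oddCore X := rfl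

end Cfsg.Agent.Lib.H9.SHp
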