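import Mathlib
import Cfsg.Prelude.Def_CaseTheorems
import Cfsg.Agent.Lib.H9.SqCommA
import Cfsg.Agent.Lib.H9.SqCommC
import Cfsg.Agent.Lib.H9.SqCommE
import Cfsg.Agent.Lib.H12.CardSL

set_option autoImplicit false

/-!
# Tools for Sylow 2-subgroups of `GL` and `SL` over fields of odd order

* `sqComm_top_of_quasiDihedral`
* `glWr F m`: the wreath product `GL2 ≀ Sym(m)` inside `GL(Fin m ⊕ Fin m)`
* `glToSl`, `slReindex`
* 2-adic valuations of `|GL_n(q)|`, `|SL_{2m+1}(q)|`
-/

namespace Cfsg.Agent.Lib.H9.SqC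

open Matrix Equiv
open scoped commutatorElement

theorem sqComm_top_of_quasiDihedral {S : Type*} [Group S] [Finite S] (h : Cfsg.IsQuasiDihedral S) :
    SqComm (⊤ : Subgroup S) := by
  obtain ⟨n, hn, hcard, x, y, hx, hy, hxy⟩ := h
  have hpow : (4 : ℕ) ≤ 2 ^ (n - 1) := by
    have : n - 1 = (n - 3) + 2 := by omega
    rw [this, pow_add]
    have : 0 < 2 ^ (n - 3) := by positivity
    omega
  have hpow2 : 2 ^ n = 2 * 2 ^ (n - 1) := by
    have : n = (n - 1) + 1 := by omega
    conv_lhs => rw [this, pow_succ]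
    ring
  -- y is not a power of x
  have hynot : y ∉ Subgroup.zpowers x := by
    intro hmem
    obtain ⟨j, hj⟩ := Subgroup.mem_zpowers_iff.1 hmem
    have hcomm : y * x * y⁻¹ = x := by
      rw [← hj]
      group
    rw [hxy] at hcomm
    have h1 : x ^ (2 ^ (n - 1) - 2) = 1 := by
      have h2 : x ^ (2 ^ (n - 1) - 1) = x ^ (2 ^ (n - 1) - 2) * x := by
        rw [← pow_succ]
        congr 1
        omega
      rw [h2] at hcomm
      exact mul_eq_right.1 hcomm
    have h3 := orderOf_dvd_of_pow_eq_one h1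
    rw [hx] at h3
    have := Nat.le_of_dvd (by omega) h3
    omega
  -- so x and y generate
  have hgen : Subgroup.closure ({x, y} : Set S) = ⊤ := by
    have hle : Subgroup.zpowers x ≤ Subgroup.closure ({x, y} : Set S) := by
      rw [Subgroup.zpowers_le]
      exact Subgroup.subset_closure (by simp)
    have hyc : y ∈ Subgroup.closure ({x, y} : Set S) := Subgroup.subset_closure (by simp)
    have hne : Subgroup.zpowers x ≠ Subgroup.closure ({x, y} : Set S) := by
      intro heq
      rw [← heq] at hyc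
      exact hynot hyc
    have hdvd1 := Subgroup.card_dvd_of_le hle
    rw [Nat.card_zpowers, hx] at hdvd1
    have hdvd2 := Subgroup.card_subgroup_dvd_card (Subgroup.closure ({x, y} : Set S))
    rw [hcard] at hdvd2
    obtain ⟨j, hj, hjc⟩ := (Nat.dvd_prime_pow Nat.prime_two).1 hdvd2
    rw [hjc] at hdvd1
    have hnj : n ≤ j := (Nat.pow_dvd_pow_iff_le_right (by norm_num)).1 hdvd1
    have hjn : j ≠ n := by
      intro hjn
      apply hne
      apply Subgroup.eq_of_le_of_card_ge hle
      rw [hjc, Nat.card_zpowers, hx, hjn]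
    have : j = n + 1 := by omega
    apply Subgroup.eq_top_of_card_eq
    rw [hjc, this, hcard]
  apply sqComm_of_closure _ hgen
  rintro s (rfl | rfl)
  · -- s = x
    have h1 : ⁅y, s⁆ ∈ ⁅(⊤ : Subgroup S), ⊤⁆ :=
      Subgroup.commutator_mem_commutator (Subgroup.mem_top _) (Subgroup.mem_top _)
    rw [commutatorElement_def, hxy] at h1
    have h2 : s ^ (2 ^ (n - 1) - 1) * s⁻¹ = (s ^ 2) ^ (2 ^ (n - 2) - 1) := by
      rw [← pow_mul]
      have h3 : 2 * (2 ^ (n - 2) - 1) = 2 ^ (n - 1) - 2 := by
        have : n - 1 = (n - 2) + 1 := by omega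
        rw [this, pow_succ]
        omega
      rw [h3]
      have h4 : s ^ (2 ^ (n - 1) - 1) = s ^ (2 ^ (n - 1) - 2) * s := by
        rw [← pow_succ]
        congr 1
        omega
      rw [h4, mul_assoc, mul_inv_cancel, mul_one]
    rw [h2] at h1
    -- the exponent is odd, so s^2 is a power of this
    have hcop : (2 ^ (n - 2) - 1).Coprime (orderOf (s ^ 2)) := by
      have hord : orderOf (s ^ 2) ∣ 2 ^ n := by
        rw [← hx]
        exact orderOf_pow_dvd 2
      apply Nat.Coprime.coprime_dvd_right hord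
      apply Nat.Coprime.pow_right
      rw [Nat.coprime_two_right]
      have h5 : 2 ^ (n - 2) = 2 * 2 ^ (n - 3) := by
        have : n - 2 = (n - 3) + 1 := by omega
        rw [this, pow_succ]
        ring
      have h6 : 0 < 2 ^ (n - 3) := by positivity
      rw [Nat.odd_iff]
      omega
    obtain ⟨k, hk⟩ := exists_pow_eq_self_of_coprime hcop
    rw [← hk]
    exact pow_mem h1 k
  · -- s = y
    have : s ^ 2 = 1 := by
      rw [← hy]
      exact pow_orderOf_eq_one s
    rw [this]
    exact one_mem _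


section gl

variable {F : Type*} [Field F] {m : ℕ}

/-- block matrix of `m` two-by-two matrices acting on the planes `⟨e_i, f_i⟩` -/
def bigMat (M : Fin m → Matrix (Fin 2) (Fin 2) F) : Matrix (Fin m ⊕ Fin m) (Fin m ⊕ Fin m) F :=
  fromBlocks (diagonal fun i => M i 0 0) (diagonal fun i => M i 0 1)
    (diagonal fun i => M i 1 0) (diagonal fun i => M i 1 1)

theorem bigMat_one : bigMat (fun _ : Fin m => (1 : Matrix (Fin 2) (Fin 2) F)) = 1 := by
  rw [bigMat, ← fromBlocks_one]
  congr 1 <;> ext i j <;> simp [diagonal_apply, one_apply]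

theorem bigMat_mul (M M' : Fin m → Matrix (Fin 2) (Fin 2) F) :
    bigMat (fun i => M i * M' i) = bigMat M * bigMat M' := by
  simp only [bigMat, fromBlocks_multiply, diagonal_mul_diagonal, diagonal_add]
  congr 1 <;>
  · congr 1
    funext i
    simp [mul_apply, Fin.sum_univ_two]

theorem bigMat_injective : Function.Injective (bigMat (F := F) (m := m)) := by
  intro M M' h
  simp only [bigMat, fromBlocks_inj] at h
  obtain ⟨h00, h01, h10, h11⟩ := h
  funext i
  ext a b
  fin_cases a <;> fin_cases b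
  · exact congrFun (diagonal_injective h00) i
  · exact congrFun (diagonal_injective h01) i
  · exact congrFun (diagonal_injective h10) i
  · exact congrFun (diagonal_injective h11) i

theorem psiMat_mul_bigMat (σ : Perm (Fin m)) (M : Fin m → Matrix (Fin 2) (Fin 2) F) :
    psiMat σ * bigMat M = bigMat (fun i => M (σ⁻¹ i)) * psiMat σ := by
  simp only [psiMat, bigMat, fromBlocks_multiply, Matrix.zero_mul, Matrix.mul_zero, add_zero,
    zero_add, pM_mul_diagonal]

theorem bigMat_eq_psiMat {M : Fin m → Matrix (Fin 2) (Fin 2) F} {σ : Perm (Fin m)}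
    (h : bigMat M = psiMat σ) : σ = 1 := by
  simp only [bigMat, psiMat, fromBlocks_inj] at h
  obtain ⟨h00, -, -, -⟩ := h
  ext j
  by_contra hne
  have := congrFun (congrFun h00 (σ j)) j
  rw [pM_apply, if_pos rfl, diagonal_apply, if_neg] at this
  · exact zero_ne_one this
  · intro h; apply hne; rw [h]; simp

theorem psiMat_one : psiMat (F := F) (1 : Perm (Fin m)) = 1 := by
  rw [psiMat, pM_one, fromBlocks_one]

theorem psiMat_mul (σ τ : Perm (Fin m)) : psiMat (F := F) (σ * τ) = psiMat σ * psiMat τ := by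
  simp [psiMat, pM_mul, fromBlocks_multiply]

/-- block embedding of `GL2^m` -/
def gPhi : (Fin m → GL (Fin 2) F) →* GL (Fin m ⊕ Fin m) F :=
  MonoidHom.toHomUnits
    { toFun := fun g => bigMat (fun i => ((g i : GL (Fin 2) F) : Matrix (Fin 2) (Fin 2) F))
      map_one' := by
        show bigMat (fun i => (((1 : Fin m → GL (Fin 2) F) i : GL (Fin 2) F) :
          Matrix (Fin 2) (Fin 2) F)) = 1
        simp only [Pi.one_apply, Units.val_one]
        exact bigMat_one
      map_mul' := fun g g' => by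
        rw [← bigMat_mul]
        congr 1 }

theorem gPhi_val (g : Fin m → GL (Fin 2) F) :
    ((gPhi g : GL (Fin m ⊕ Fin m) F) : Matrix (Fin m ⊕ Fin m) (Fin m ⊕ Fin m) F) =
      bigMat (fun i => ((g i : GL (Fin 2) F) : Matrix (Fin 2) (Fin 2) F)) := rfl

def gPsi : Perm (Fin m) →* GL (Fin m ⊕ Fin m) F :=
  MonoidHom.toHomUnits
    { toFun := fun σ => psiMat σ
      map_one' := psiMat_one
      map_mul' := psiMat_mul }

theorem gPsi_val (σ : Perm (Fin m)) :
    ((gPsi σ : GL (Fin m ⊕ Fin m) F) : Matrix (Fin m ⊕ Fin m) (Fin m ⊕ Fin m) F) = psiMat σ := rfl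

/-- the wreath product data `GL2 ≀ Sym(m)` inside `GL(2m)` -/
def glWr (F : Type*) [Field F] (m : ℕ) : WrData (GL (Fin 2) F) (GL (Fin m ⊕ Fin m) F) m where
  Φ := gPhi
  Ψ := gPsi
  inj := by
    intro g g' h
    have h1 := congrArg Units.val h
    rw [gPhi_val, gPhi_val] at h1
    have h2 := bigMat_injective h1
    funext i
    exact Units.ext (congrFun h2 i)
  conj := by
    intro σ g
    have h1 : gPsi σ * gPhi g = gPhi (fun i => g (σ⁻¹ i)) * gPsi (F := F) σ := by
      apply Units.ext
      rw [Units.val_mul, Units.val_mul, gPsi_val, gPhi_val, gPhi_val, psiMat_mul_bigMat]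
    rw [h1, mul_assoc, mul_inv_cancel, mul_one]
  disj := by
    intro g σ h
    have h1 := congrArg Units.val h
    rw [gPhi_val, gPsi_val] at h1
    exact bigMat_eq_psiMat h1


end gl

section sl

variable {F : Type*} [Field F]

/-- `GL(N) → SL(N ⊕ 1)`, `M ↦ diag(M, det M⁻¹)` -/
def glToSl (N : Type*) [Fintype N] [DecidableEq N] :
    GL N F →* SpecialLinearGroup (N ⊕ Unit) F where
  toFun M := ⟨fromBlocks (M : Matrix N N F) 0 0 ((det (M : Matrix N N F))⁻¹ • (1 : Matrix Unit Unit F)), by
    rw [det_fromBlocks_zero₁₂, det_smul, det_one, Fintype.card_unit, pow_one, mul_one]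
    exact mul_inv_cancel₀ (Matrix.GeneralLinearGroup.det_ne_zero M)⟩
  map_one' := by
    apply Subtype.ext
    simp [fromBlocks_one]
  map_mul' M M' := by
    apply Subtype.ext
    show fromBlocks ((M * M' : GL N F) : Matrix N N F) 0 0 _ = fromBlocks _ 0 0 _ * fromBlocks _ 0 0 _
    rw [fromBlocks_multiply]
    simp [det_mul, smul_smul, mul_comm]

theorem glToSl_val (N : Type*) [Fintype N] [DecidableEq N] (M : GL N F) :
    (glToSl N M).1 = fromBlocks (M : Matrix N N F) 0 0
      ((det (M : Matrix N N F))⁻¹ • (1 : Matrix Unit Unit F)) := rfl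

theorem glToSl_injective (N : Type*) [Fintype N] [DecidableEq N] :
    Function.Injective (glToSl (F := F) N) := by
  intro M M' h
  have h1 := congrArg Subtype.val h
  rw [glToSl_val, glToSl_val, fromBlocks_inj] at h1
  exact Units.ext h1.1

/-- reindexing of `SL` -/
def slReindex {N N' : Type*} [Fintype N] [DecidableEq N] [Fintype N'] [DecidableEq N']
    (e : N ≃ N') : SpecialLinearGroup N F →* SpecialLinearGroup N' F where
  toFun A := ⟨Matrix.reindex e e A.1, by rw [Matrix.det_reindex_self]; exact A.2⟩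
  map_one' := by
    apply Subtype.ext
    simp
  map_mul' A B := by
    apply Subtype.ext
    show Matrix.reindex e e (A.1 * B.1) = Matrix.reindex e e A.1 * Matrix.reindex e e B.1
    simp [Matrix.reindex_apply, Matrix.submatrix_mul_equiv]

theorem slReindex_injective {N N' : Type*} [Fintype N] [DecidableEq N] [Fintype N']
    [DecidableEq N'] (e : N ≃ N') : Function.Injective (slReindex (F := F) e) := by
  intro A B h
  have h1 : Matrix.reindex e e A.1 = Matrix.reindex e e B.1 := congrArg Subtype.val h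
  exact Subtype.ext ((Matrix.reindex e e).injective h1)


end sl

section numbers

theorem geom_identity (q : ℕ) (hq : 1 ≤ q) (k : ℕ) :
    (q - 1) * (∑ i ∈ Finset.range k, q ^ i) + 1 = q ^ k := by
  induction k with
  | zero => simp
  | succ k ih =>
    rw [Finset.sum_range_succ, mul_add, pow_succ]
    have h1 : (q - 1) * q ^ k + q ^ k = q ^ k * q := by
      obtain ⟨r, rfl⟩ : ∃ r, q = r + 1 := ⟨q - 1, by omega⟩
      rw [Nat.add_sub_cancel]
      ring
    omega

theorem geom_parity (q : ℕ) (hq : Odd q) (k : ℕ) :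
    (∑ i ∈ Finset.range k, q ^ i) % 2 = k % 2 := by
  induction k with
  | zero => simp
  | succ k ih =>
    rw [Finset.sum_range_succ]
    have h1 : q ^ k % 2 = 1 := Nat.odd_iff.1 (hq.pow)
    omega

theorem v2_pow_sub_one_odd (q : ℕ) (hq : Odd q) (hq1 : 1 < q) (k : ℕ) (hk : Odd k) :
    padicValNat 2 (q ^ k - 1) = padicValNat 2 (q - 1) := by
  have h1 := geom_identity q (by omega) k
  have h2 := geom_parity q hq k
  have h3 : q ^ k - 1 = (q - 1) * (∑ i ∈ Finset.range k, q ^ i) := by omega
  have hodd : (∑ i ∈ Finset.range k, q ^ i) % 2 = 1 := by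
    rw [h2]; exact Nat.odd_iff.1 hk
  rw [h3, padicValNat.mul (by omega) (by intro h; rw [h] at hodd; simp at hodd),
    padicValNat.eq_zero_of_not_dvd (n := ∑ i ∈ Finset.range k, q ^ i) (by omega), add_zero]

theorem v2_pow_sub_one_even (q : ℕ) (hq : Odd q) (hq1 : 1 < q) (j : ℕ) (hj : j ≠ 0) :
    padicValNat 2 (q ^ (2 * j) - 1) =
      padicValNat 2 (q - 1) + padicValNat 2 (q + 1) + padicValNat 2 j := by
  have h2q : ¬ 2 ∣ q := by
    rcases hq with ⟨k, hk⟩
    omega
  have h1 := padicValNat.pow_two_sub_one hq1 h2q (n := 2 * j) (by omega) (even_two_mul _)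
  rw [padicValNat.mul (by norm_num) hj, padicValNat_self] at h1
  omega

variable {F : Type*} [Field F] [Fintype F]

theorem card_GL_succ (n : ℕ) :
    Nat.card (GL (Fin (n + 1)) F) =
      (Fintype.card F ^ (n + 1) - 1) * Fintype.card F ^ n * Nat.card (GL (Fin n) F) := by
  rw [Matrix.card_GL_field, Matrix.card_GL_field, Fin.prod_univ_succ]
  simp only [Fin.val_zero, pow_zero, Fin.val_succ]
  have h1 : ∀ i : Fin n, Fintype.card F ^ (n + 1) - Fintype.card F ^ ((i : ℕ) + 1) =
      Fintype.card F * (Fintype.card F ^ n - Fintype.card F ^ (i : ℕ)) := by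
    intro i
    rw [Nat.mul_sub, pow_succ, pow_succ, mul_comm, mul_comm (Fintype.card F ^ (i : ℕ))]
  rw [Finset.prod_congr rfl (fun i _ => h1 i), Finset.prod_mul_distrib, Finset.prod_const,
    Finset.card_univ, Fintype.card_fin]
  ring

theorem v2_card_GL (hq : Odd (Fintype.card F)) (n : ℕ) :
    padicValNat 2 (Nat.card (GL (Fin n) F)) =
      ∑ k ∈ Finset.range n, padicValNat 2 (Fintype.card F ^ (k + 1) - 1) := by
  have hq1 : 1 < Fintype.card F := Fintype.one_lt_card
  have h2q : ¬ 2 ∣ Fintype.card F := by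
    rcases hq with ⟨k, hk⟩
    omega
  induction n with
  | zero =>
    simp only [Finset.range_zero, Finset.sum_empty]
    have : Nat.card (GL (Fin 0) F) = 1 := by
      rw [Matrix.card_GL_field]; simp
    rw [this]; simp
  | succ n ih =>
    have hne1 : Fintype.card F ^ (n + 1) - 1 ≠ 0 := by
      have : 1 < Fintype.card F ^ (n + 1) := Nat.one_lt_pow (by omega) hq1
      omega
    have hne2 : Fintype.card F ^ n ≠ 0 := by positivity
    have hne3 : Nat.card (GL (Fin n) F) ≠ 0 := Nat.card_pos.ne'
    rw [card_GL_succ, padicValNat.mul (mul_ne_zero hne1 hne2) hne3, padicValNat.mul hne1 hne2,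
      padicValNat.pow, padicValNat.eq_zero_of_not_dvd h2q, mul_zero, add_zero, ih,
      Finset.sum_range_succ, add_comm]

theorem v2_card_GL_even (hq : Odd (Fintype.card F)) (m : ℕ) :
    padicValNat 2 (Nat.card (GL (Fin (2 * m)) F)) =
      m * (2 * padicValNat 2 (Fintype.card F - 1) + padicValNat 2 (Fintype.card F + 1)) +
        padicValNat 2 m.factorial := by
  have hq1 : 1 < Fintype.card F := Fintype.one_lt_card
  rw [v2_card_GL hq]
  induction m with
  | zero => simp
  | succ m ih =>
    have h1 : 2 * (m + 1) = 2 * m + 1 + 1 := by ring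
    rw [h1, Finset.sum_range_succ, Finset.sum_range_succ, ih,
      v2_pow_sub_one_odd _ hq hq1 (2 * m + 1) ⟨m, rfl⟩]
    have h2 : 2 * m + 1 + 1 = 2 * (m + 1) := by ring
    rw [h2, v2_pow_sub_one_even _ hq hq1 (m + 1) (by omega), Nat.factorial_succ,
      padicValNat.mul (by omega) (Nat.factorial_ne_zero m)]
    ring

theorem v2_card_GL2 (hq : Odd (Fintype.card F)) :
    padicValNat 2 (Nat.card (GL (Fin 2) F)) =
      2 * padicValNat 2 (Fintype.card F - 1) + padicValNat 2 (Fintype.card F + 1) := by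
  have := v2_card_GL_even (F := F) hq 1
  simpa using this

theorem v2_card_SL_odd (hq : Odd (Fintype.card F)) (m : ℕ) :
    padicValNat 2 (Nat.card (SpecialLinearGroup (Fin (2 * m + 1)) F)) =
      padicValNat 2 (Nat.card (GL (Fin (2 * m)) F)) := by
  have hq1 : 1 < Fintype.card F := Fintype.one_lt_card
  have h2q : ¬ 2 ∣ Fintype.card F := by
    rcases hq with ⟨k, hk⟩
    omega
  have h1 := Cfsg.Agent.Lib.H12.card_GL_eq_card_SL_mul (n := Fin (2 * m + 1)) (F := F)
  rw [card_GL_succ] at h1
  have hne1 : Fintype.card F ^ (2 * m + 1) - 1 ≠ 0 := by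
    have : 1 < Fintype.card F ^ (2 * m + 1) := Nat.one_lt_pow (by omega) hq1
    omega
  have hne2 : Fintype.card F ^ (2 * m) ≠ 0 := by positivity
  have hne3 : Nat.card (GL (Fin (2 * m)) F) ≠ 0 := Nat.card_pos.ne'
  have hne4 : Nat.card (SpecialLinearGroup (Fin (2 * m + 1)) F) ≠ 0 := Nat.card_pos.ne'
  have h2 := congrArg (padicValNat 2) h1
  rw [padicValNat.mul (mul_ne_zero hne1 hne2) hne3, padicValNat.mul hne1 hne2,
    padicValNat.pow, padicValNat.eq_zero_of_not_dvd h2q, mul_zero, add_zero,
    v2_pow_sub_one_odd _ hq hq1 (2 * m + 1) ⟨m, rfl⟩, padicValNat.mul hne4 (by omega)] at h2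
  omega

end numbers


end Cfsg.Agent.Lib.H9.SqC
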