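import Mathlib
import Cfsg.Prelude.Def_OddOrderLocal
import Cfsg.Agent.Lib.H23.BlockAlgebra
import Cfsg.Agent.Lib.L0.CharOps
import Cfsg.Agent.Lib.L0.FrobTICoh

set_option autoImplicit false
open Cfsg

namespace Cfsg.Agent.Lib.H9.TICong

open Cfsg.Agent.Lib.H23 Cfsg.Agent.Lib.L0 MulAction

/-- Sum of an invariant, integral-valued function which vanishes off the free part of an action
is `|A|` times an algebraic integer. -/
theorem sum_eq_card_mul_of_free {A X : Type*} [Group A] [Fintype A] [MulAction A X] [Fintype X]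
    (F : X → ℂ) (hinv : ∀ (a : A) (x : X), F (a • x) = F x)
    (hfree : ∀ (a : A) (x : X), F x ≠ 0 → a • x = x → a = 1)
    (hint : ∀ x, IsIntegral ℤ (F x)) :
    ∃ c : ℂ, IsIntegral ℤ c ∧ ∑ x, F x = (Fintype.card A : ℂ) * c := by
  classical
  have hfin : Fintype (orbitRel.Quotient A X) := Fintype.ofFinite _
  refine ⟨∑ ω : orbitRel.Quotient A X, F ω.out, IsIntegral.sum _ (fun ω _ => hint _), ?_⟩
  rw [← Finset.sum_fiberwise (Finset.univ) (fun x : X => (Quotient.mk'' x : orbitRel.Quotient A X)) F,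
    Finset.mul_sum]
  refine Finset.sum_congr rfl (fun ω _ => ?_)
  have hmem : ∀ x : X, (Quotient.mk'' x : orbitRel.Quotient A X) = ω ↔ ∃ a : A, a • ω.out = x := by
    intro x
    constructor
    · intro h
      have h2 : (Quotient.mk'' x : orbitRel.Quotient A X) = Quotient.mk'' ω.out := by
        rw [h]; exact (Quotient.out_eq' ω).symm
      have h3 := Quotient.eq''.mp h2
      rw [orbitRel_apply] at h3
      obtain ⟨a, ha⟩ := h3
      exact ⟨a, ha⟩
    · rintro ⟨a, rfl⟩
      have : (Quotient.mk'' (a • ω.out) : orbitRel.Quotient A X) = Quotient.mk'' ω.out := by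
        apply Quotient.eq''.mpr
        rw [orbitRel_apply]
        exact ⟨a, rfl⟩
      rw [this]; exact Quotient.out_eq' ω
  by_cases h0 : F ω.out = 0
  · rw [h0, mul_zero]
    apply Finset.sum_eq_zero
    intro x hx
    rw [Finset.mem_filter] at hx
    obtain ⟨a, rfl⟩ := (hmem x).mp hx.2
    rw [hinv, h0]
  · have hinj : Function.Injective (fun a : A => a • ω.out) := by
      intro a b hab
      have h1 : (b⁻¹ * a) • ω.out = ω.out := by
        rw [mul_smul]
        simp only at hab
        rw [hab, inv_smul_smul]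
      have := hfree _ _ h0 h1
      exact (inv_mul_eq_one.mp this).symm
    have himg : (Finset.univ.filter fun x : X => (Quotient.mk'' x : orbitRel.Quotient A X) = ω)
        = Finset.univ.image (fun a : A => a • ω.out) := by
      ext x
      simp only [Finset.mem_filter, Finset.mem_univ, true_and, Finset.mem_image]
      exact hmem x
    rw [himg, Finset.sum_image (fun a _ b _ h => hinj h)]
    simp only [hinv, Finset.sum_const, Finset.card_univ, nsmul_eq_mul]

/-- the sum of all conjugates (with multiplicity) of `g` in the group algebra -/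
noncomputable def conjSum {G : Type*} [Group G] [Fintype G] (g : G) : MonoidAlgebra ℂ G :=
  ∑ x : G, MonoidAlgebra.single (x * g * x⁻¹) (1 : ℂ)

theorem conjSum_mem_center {G : Type*} [Group G] [Fintype G] (g : G) :
    conjSum g ∈ Subalgebra.center ℂ (MonoidAlgebra ℂ G) := by
  rw [Subalgebra.mem_center_iff]
  intro b
  induction b using MonoidAlgebra.induction_on with
  | of h =>
    rw [MonoidAlgebra.of_apply, conjSum, Finset.mul_sum, Finset.sum_mul]
    simp only [MonoidAlgebra.single_mul_single, one_mul]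
    refine Fintype.sum_equiv (Equiv.mulLeft h) _ _ (fun x => ?_)
    simp only [Equiv.coe_mulLeft]
    congr 1
    group
  | add x y hx hy => rw [add_mul, mul_add, hx, hy]
  | smul r x hx => rw [smul_mul_assoc, mul_smul_comm, hx]

theorem sum_conj_mul {G : Type*} [Group G] [Fintype G] {χ : G → ℂ} (hχ : IsIrrCharacter G χ)
    (a g : G) :
    ∑ x : G, χ (x * g * x⁻¹ * a) = (Fintype.card G : ℂ) * χ g * χ a / χ 1 := by
  have hcf := isClassFunction_of_isCharacter (isCharacter_of_irr hχ)
  have h1 := charEval_mul_of_mem_center hχ (conjSum_mem_center g) (MonoidAlgebra.single a (1 : ℂ))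
  have h2 : conjSum g * MonoidAlgebra.single a (1 : ℂ)
      = ∑ x : G, MonoidAlgebra.single (x * g * x⁻¹ * a) (1 : ℂ) := by
    rw [conjSum, Finset.sum_mul]
    simp only [MonoidAlgebra.single_mul_single, one_mul]
  have h3 : charEval χ (conjSum g) = (Fintype.card G : ℂ) * χ g := by
    rw [conjSum, charEval_sum]
    simp only [charEval_single, one_mul]
    have : ∀ x : G, χ (x * g * x⁻¹) = χ g := fun x => hcf g x
    simp only [this, Finset.sum_const, Finset.card_univ, nsmul_eq_mul]
  rw [h2, charEval_sum, h3, charEval_single] at h1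
  simp only [charEval_single, one_mul] at h1
  rw [h1]
  ring

/-- two-sided multiplication action of `P × P` on `G` -/
@[instance_reducible] def biAct {G : Type*} [Group G] (P : Subgroup G) : MulAction (P × P) G where
  smul a x := (a.1 : G) * x * (a.2 : G)⁻¹
  one_smul x := by
    show ((1 : P × P).1 : G) * x * ((1 : P × P).2 : G)⁻¹ = x
    simp
  mul_smul a b x := by
    show ((a * b).1 : G) * x * ((a * b).2 : G)⁻¹ = (a.1 : G) * ((b.1 : G) * x * (b.2 : G)⁻¹) * (a.2 : G)⁻¹
    simp only [Prod.fst_mul, Prod.snd_mul, Subgroup.coe_mul]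
    group

theorem eq_one_of_invert {G : Type*} [Group G] (x z : G) (hx : Odd (orderOf x))
    (hzodd : Odd (orderOf z)) (h : x * z * x⁻¹ = z⁻¹) : z = 1 := by
  have key : ∀ k : ℕ, x ^ (2 * k + 1) * z * (x ^ (2 * k + 1))⁻¹ = z⁻¹ := by
    intro k
    induction k with
    | zero => simpa using h
    | succ k ih =>
      have e : x ^ (2 * (k + 1) + 1) = x * x * x ^ (2 * k + 1) := by
        rw [show 2 * (k + 1) + 1 = 2 + (2 * k + 1) by ring, pow_add, pow_two]
      rw [e]
      calc x * x * x ^ (2 * k + 1) * z * (x * x * x ^ (2 * k + 1))⁻¹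
          = x * (x * (x ^ (2 * k + 1) * z * (x ^ (2 * k + 1))⁻¹) * x⁻¹) * x⁻¹ := by group
        _ = x * (x * z⁻¹ * x⁻¹) * x⁻¹ := by rw [ih]
        _ = x * (x * z * x⁻¹)⁻¹ * x⁻¹ := by group
        _ = z⁻¹ := by rw [h, inv_inv, h]
  obtain ⟨k, hk⟩ := hx
  have h1 := key k
  rw [← hk, pow_orderOf_eq_one] at h1
  simp only [one_mul, inv_one, mul_one] at h1
  have h2 : z ^ 2 = 1 := by
    rw [pow_two]
    nth_rewrite 1 [h1]
    exact inv_mul_cancel z
  have h3 : orderOf z ∣ 2 := orderOf_dvd_of_pow_eq_one h2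
  have h4 : orderOf z = 1 := by
    rcases (Nat.dvd_prime Nat.prime_two).mp h3 with h | h
    · exact h
    · rw [h] at hzodd; exact absurd hzodd (by decide)
  exact orderOf_eq_one_iff.mp h4

theorem card_filter_mem {G : Type*} [Group G] [Fintype G] (H : Subgroup G)
    [DecidablePred (· ∈ H)] :
    ((Finset.univ.filter (fun x : G => x ∈ H)).card : ℂ) = (Nat.card H : ℂ) := by
  rw [Nat.card_eq_fintype_card, Fintype.card_subtype]


theorem free_part {G : Type*} [Group G] [Fintype G] (P : Subgroup G)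
    (hTI : IsTISubset (P : Set G)) {ψ : G → ℂ} (hψ : IsIrrCharacter G ψ)
    (z g : G) (hzc : ∀ y ∈ P, z * y = y * z) (hgc : ∀ y ∈ P, g * y = y * g)
    [DecidablePred (· ∈ Subgroup.normalizer (P : Set G))] :
    ∃ c : ℂ, IsIntegral ℤ c ∧
      ∑ x : G, (if x ∈ Subgroup.normalizer (P : Set G) then 0 else ψ (x * g * x⁻¹ * z))
        = (Nat.card P : ℂ) ^ 2 * c := by
  classical
  have hfP : Fintype P := Fintype.ofFinite _
  have hchar := isCharacter_of_irr hψ
  have hcf := isClassFunction_of_isCharacter hchar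
  have hPL : P ≤ Subgroup.normalizer (P : Set G) := Subgroup.le_normalizer
  obtain ⟨c, hc, hsum⟩ := @sum_eq_card_mul_of_free (P × P) G _ _ (biAct P) _
    (fun x => if x ∈ Subgroup.normalizer (P : Set G) then 0 else ψ (x * g * x⁻¹ * z))
    (by
      intro a x
      show (if (a.1 : G) * x * (a.2 : G)⁻¹ ∈ Subgroup.normalizer (P : Set G) then 0
        else ψ ((a.1 : G) * x * (a.2 : G)⁻¹ * g * ((a.1 : G) * x * (a.2 : G)⁻¹)⁻¹ * z)) =
        (if x ∈ Subgroup.normalizer (P : Set G) then 0 else ψ (x * g * x⁻¹ * z))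
      have h1 : (a.1 : G) * x * (a.2 : G)⁻¹ ∈ Subgroup.normalizer (P : Set G) ↔
          x ∈ Subgroup.normalizer (P : Set G) := by
        rw [Subgroup.mul_mem_cancel_right _ (inv_mem (hPL a.2.2)),
          Subgroup.mul_mem_cancel_left _ (hPL a.1.2)]
      have h2 : (a.1 : G) * x * (a.2 : G)⁻¹ * g * ((a.1 : G) * x * (a.2 : G)⁻¹)⁻¹ * z
          = (a.1 : G) * (x * g * x⁻¹ * z) * (a.1 : G)⁻¹ := by
        have e1 : (a.2 : G)⁻¹ * g * (a.2 : G) = g := by
          rw [mul_assoc, hgc _ a.2.2, inv_mul_cancel_left]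
        have e2 : (a.1 : G)⁻¹ * z = z * (a.1 : G)⁻¹ := by
          have := hzc _ a.1.2
          calc (a.1 : G)⁻¹ * z = (a.1 : G)⁻¹ * (z * (a.1 : G)) * (a.1 : G)⁻¹ := by group
            _ = (a.1 : G)⁻¹ * ((a.1 : G) * z) * (a.1 : G)⁻¹ := by rw [this]
            _ = z * (a.1 : G)⁻¹ := by group
        calc (a.1 : G) * x * (a.2 : G)⁻¹ * g * ((a.1 : G) * x * (a.2 : G)⁻¹)⁻¹ * z
            = (a.1 : G) * x * ((a.2 : G)⁻¹ * g * (a.2 : G)) * x⁻¹ * ((a.1 : G)⁻¹ * z) := by group
          _ = (a.1 : G) * x * g * x⁻¹ * (z * (a.1 : G)⁻¹) := by rw [e1, e2]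
          _ = (a.1 : G) * (x * g * x⁻¹ * z) * (a.1 : G)⁻¹ := by group
      rw [h2, hcf]
      simp only [h1])
    (by
      intro a x hx hax
      have hxL : x ∉ Subgroup.normalizer (P : Set G) := by
        intro h
        apply hx
        simp only [h, if_true]
      have hax' : (a.1 : G) * x * (a.2 : G)⁻¹ = x := hax
      have h3 : x * (a.2 : G) * x⁻¹ = (a.1 : G) := by
        calc x * (a.2 : G) * x⁻¹ = ((a.1 : G) * x * (a.2 : G)⁻¹) * (a.2 : G) * x⁻¹ := by rw [hax']
          _ = (a.1 : G) := by group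
      have h4 : (a.2 : G) = 1 := hTI x hxL _ a.2.2 (by rw [h3]; exact a.1.2)
      have h5 : (a.1 : G) = 1 := by rw [← h3, h4]; group
      apply Prod.ext
      · exact Subtype.ext h5
      · exact Subtype.ext h4)
    (by
      intro x
      show IsIntegral ℤ (if x ∈ Subgroup.normalizer (P : Set G) then 0 else ψ (x * g * x⁻¹ * z))
      split_ifs
      · exact isIntegral_zero
      · exact isCharacter_isIntegral hchar _)
  refine ⟨c, hc, ?_⟩
  rw [hsum, Fintype.card_prod, Nat.card_eq_fintype_card]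
  push_cast
  ring


theorem core {G : Type*} [Group G] [Fintype G] (P : Subgroup G)
    (hTI : IsTISubset (P : Set G))
    (hodd : Odd (Nat.card (Subgroup.normalizer (P : Set G))))
    (Z : Subgroup G) (hZP : Z ≤ P)
    (hZn : ∀ x ∈ Subgroup.normalizer (P : Set G), ∀ z ∈ Z, x * z * x⁻¹ ∈ Z)
    (hZc : ∀ z ∈ Z, ∀ y ∈ P, z * y = y * z)
    {ψ : G → ℂ} (hψ : IsIrrCharacter G ψ)
    (hconst : ∀ z ∈ Z, ∀ z' ∈ Z, z ≠ 1 → z' ≠ 1 → ψ z = ψ z')
    (z : G) (hz : z ∈ Z) (hz1 : z ≠ 1) :
    ∃ c : ℂ, IsIntegral ℤ c ∧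
      (Nat.card ↥(Subgroup.normalizer (P : Set G) ⊓ Subgroup.centralizer ({z} : Set G)) : ℂ)
        * (ψ 1 - ψ z) = (Nat.card P : ℂ) ^ 2 * c := by
  classical
  have hPL : P ≤ Subgroup.normalizer (P : Set G) := Subgroup.le_normalizer
  have hzi : z⁻¹ ∈ Z := inv_mem hz
  have hzi1 : z⁻¹ ≠ 1 := by simpa using hz1
  have hψzi : ψ z⁻¹ = ψ z := hconst _ hzi _ hz hzi1 hz1
  have hoddL : ∀ x ∈ Subgroup.normalizer (P : Set G), Odd (orderOf x) := fun x hx =>
    Odd.of_dvd_nat hodd (Subgroup.orderOf_dvd_natCard _ hx)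
  obtain ⟨c1, hc1, hs1⟩ := free_part P hTI hψ z z (hZc z hz) (hZc z hz)
  obtain ⟨c2, hc2, hs2⟩ := free_part P hTI hψ z z⁻¹ (hZc z hz) (hZc _ hzi)
  have ht1 := sum_conj_mul hψ z z
  have ht2 := sum_conj_mul hψ z z⁻¹
  rw [hψzi] at ht2
  -- split sums
  have hsplit : ∀ f : G → ℂ, ∑ x : G, f x =
      ∑ x : G, (if x ∈ Subgroup.normalizer (P : Set G) then f x else 0) +
      ∑ x : G, (if x ∈ Subgroup.normalizer (P : Set G) then 0 else f x) := by
    intro f
    rw [← Finset.sum_add_distrib]
    refine Finset.sum_congr rfl (fun x _ => ?_)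
    split_ifs <;> simp
  -- L-part for g = z
  have hB : ∑ x : G, (if x ∈ Subgroup.normalizer (P : Set G) then ψ (x * z * x⁻¹ * z) else 0)
      = (Nat.card (Subgroup.normalizer (P : Set G)) : ℂ) * ψ z := by
    have : ∀ x : G, (if x ∈ Subgroup.normalizer (P : Set G) then ψ (x * z * x⁻¹ * z) else 0)
        = (if x ∈ Subgroup.normalizer (P : Set G) then ψ z else 0) := by
      intro x
      split_ifs with hx
      · have h1 : x * z * x⁻¹ ∈ Z := hZn x hx z hz
        have h2 : x * z * x⁻¹ * z ≠ 1 := by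
          intro h
          have h3 : x * z * x⁻¹ = z⁻¹ := eq_inv_of_mul_eq_one_left h
          exact hz1 (eq_one_of_invert x z (hoddL x hx) (hoddL z (hPL (hZP hz))) h3)
        exact hconst _ (mul_mem h1 hz) _ hz h2 hz1
      · rfl
    simp only [this]
    rw [← Finset.sum_filter, Finset.sum_const, nsmul_eq_mul, card_filter_mem]
  -- L-part for g = z⁻¹
  have hC : ∑ x : G, (if x ∈ Subgroup.normalizer (P : Set G) then ψ (x * z⁻¹ * x⁻¹ * z) else 0)
      = (Nat.card ↥(Subgroup.normalizer (P : Set G) ⊓ Subgroup.centralizer ({z} : Set G)) : ℂ)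
          * (ψ 1 - ψ z)
        + (Nat.card (Subgroup.normalizer (P : Set G)) : ℂ) * ψ z := by
    have : ∀ x : G, (if x ∈ Subgroup.normalizer (P : Set G) then ψ (x * z⁻¹ * x⁻¹ * z) else 0)
        = (if x ∈ Subgroup.normalizer (P : Set G) ⊓ Subgroup.centralizer ({z} : Set G)
            then (ψ 1 - ψ z) else 0)
          + (if x ∈ Subgroup.normalizer (P : Set G) then ψ z else 0) := by
      intro x
      by_cases hx : x ∈ Subgroup.normalizer (P : Set G)
      · by_cases hxc : x ∈ Subgroup.centralizer ({z} : Set G)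
        · have hmem : x ∈ Subgroup.normalizer (P : Set G) ⊓ Subgroup.centralizer ({z} : Set G) :=
            ⟨hx, hxc⟩
          rw [if_pos hx, if_pos hmem, if_pos hx]
          rw [Subgroup.mem_centralizer_singleton_iff] at hxc
          have : x * z⁻¹ * x⁻¹ * z = 1 := by
            have h1 : x * z⁻¹ = z⁻¹ * x := by
              calc x * z⁻¹ = z⁻¹ * (z * x) * z⁻¹ := by group
                _ = z⁻¹ * (x * z) * z⁻¹ := by rw [hxc]
                _ = z⁻¹ * x := by group
            rw [h1]; group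
          rw [this]; ring
        · have hmem : ¬ x ∈ Subgroup.normalizer (P : Set G) ⊓ Subgroup.centralizer ({z} : Set G) :=
            fun h => hxc h.2
          rw [if_pos hx, if_neg hmem, if_pos hx, zero_add]
          have h1 : x * z⁻¹ * x⁻¹ ∈ Z := hZn x hx _ hzi
          have h2 : x * z⁻¹ * x⁻¹ * z ≠ 1 := by
            intro h
            apply hxc
            rw [Subgroup.mem_centralizer_singleton_iff]
            have h3 : x * z⁻¹ * x⁻¹ = z⁻¹ := eq_inv_of_mul_eq_one_left h
            have h4 : x * z⁻¹ = z⁻¹ * x := by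
              calc x * z⁻¹ = (x * z⁻¹ * x⁻¹) * x := by group
                _ = z⁻¹ * x := by rw [h3]
            calc x * z = z * (x * z⁻¹) * z := by rw [h4]; group
              _ = z * x := by group
          exact hconst _ (mul_mem h1 hz) _ hz h2 hz1
      · have hmem : ¬ x ∈ Subgroup.normalizer (P : Set G) ⊓ Subgroup.centralizer ({z} : Set G) :=
          fun h => hx h.1
        rw [if_neg hx, if_neg hmem, if_neg hx, add_zero]
    simp only [this]
    rw [Finset.sum_add_distrib, ← Finset.sum_filter, ← Finset.sum_filter, Finset.sum_const,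
      Finset.sum_const, nsmul_eq_mul, nsmul_eq_mul, card_filter_mem, card_filter_mem]
  rw [hsplit, hB, hs1] at ht1
  rw [hsplit, hC, hs2] at ht2
  refine ⟨c1 - c2, IsIntegral.sub hc1 hc2, ?_⟩
  have := ht1.trans ht2.symm
  linear_combination (-1 : ℂ) * this

end Cfsg.Agent.Lib.H9.TICong
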