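import Mathlib
import Cfsg.Agent.Lib.H9.TICong
import Cfsg.Agent.Lib.H24.CharOrth

/-!
# S1951 piece CLASSSUM (helper9): the class-sum identity for irreducible characters

`sum_class_mul`: for an irreducible character `χ` and `a b : G`,
`∑_{y ∈ a^G} χ (y * b) = |a^G| χ(a) χ(b) / χ(1)`,
and the weighted version `sum_class_weighted` used for `Ψ = ∑ d_χ χ`.
-/

set_option autoImplicit false
open Cfsg

namespace Cfsg.Agent.Lib.H9.AECS

open scoped BigOperators

variable {G : Type*} [Group G] [Fintype G] [DecidableEq G]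

/-- the conjugacy class of `a` as a finset -/
def cls (a : G) : Finset G := Finset.univ.filter (fun y => IsConj a y)

theorem mem_cls {a y : G} : y ∈ cls a ↔ IsConj a y := by
  simp [cls]

theorem conj_mem_cls (a x : G) : x * a * x⁻¹ ∈ cls a :=
  mem_cls.2 (isConj_iff.2 ⟨x, rfl⟩)

/-- the fibre of `x ↦ x a x⁻¹` over `a` (the centralizer, as a finset) -/
def fib (a y : G) : Finset G := Finset.univ.filter (fun x => x * a * x⁻¹ = y)

theorem card_fib_eq {a y : G} (hy : y ∈ cls a) : (fib a y).card = (fib a a).card := by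
  obtain ⟨g, hg⟩ := isConj_iff.1 (mem_cls.1 hy)
  refine Finset.card_bij (fun x _ => g⁻¹ * x) ?_ ?_ ?_
  · intro x hx
    simp only [fib, Finset.mem_filter, Finset.mem_univ, true_and] at hx ⊢
    have : g⁻¹ * x * a * (g⁻¹ * x)⁻¹ = g⁻¹ * (x * a * x⁻¹) * g := by group
    rw [this, hx, ← hg]; group
  · intro x _ x' _ h
    exact mul_left_cancel h
  · intro z hz
    simp only [fib, Finset.mem_filter, Finset.mem_univ, true_and] at hz
    refine ⟨g * z, ?_, by group⟩
    simp only [fib, Finset.mem_filter, Finset.mem_univ, true_and]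
    have : g * z * a * (g * z)⁻¹ = g * (z * a * z⁻¹) * g⁻¹ := by group
    rw [this, hz, hg]

/-- fibre count for `x ↦ x a x⁻¹` -/
theorem sum_conj_eq (a : G) (F : G → ℂ) :
    ∑ x : G, F (x * a * x⁻¹) = ((fib a a).card : ℂ) * ∑ y ∈ cls a, F y := by
  rw [← Finset.sum_fiberwise_of_maps_to (s := Finset.univ) (t := cls a)
    (g := fun x => x * a * x⁻¹) (fun x _ => conj_mem_cls a x) (fun x => F (x * a * x⁻¹)),
    Finset.mul_sum]
  refine Finset.sum_congr rfl (fun y hy => ?_)
  have h1 : ∀ x ∈ Finset.univ.filter (fun x => x * a * x⁻¹ = y), F (x * a * x⁻¹) = F y := by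
    intro x hx
    rw [(Finset.mem_filter.1 hx).2]
  rw [Finset.sum_congr rfl h1, Finset.sum_const, nsmul_eq_mul]
  have : (Finset.univ.filter (fun x => x * a * x⁻¹ = y)) = fib a y := rfl
  rw [this, card_fib_eq hy]

theorem card_fib_mul_card_cls (a : G) : (fib a a).card * (cls a).card = Fintype.card G := by
  have h := sum_conj_eq a (fun _ => (1 : ℂ))
  simp only [Finset.sum_const, Finset.card_univ, nsmul_eq_mul, mul_one] at h
  have h2 : ((Fintype.card G : ℕ) : ℂ) = (((fib a a).card * (cls a).card : ℕ) : ℂ) := by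
    rw [h]; push_cast; ring
  exact (Nat.cast_injective h2).symm

theorem card_fib_pos (a : G) : 0 < (fib a a).card := by
  have h := card_fib_mul_card_cls a
  rcases Nat.eq_zero_or_pos (fib a a).card with h0 | h0
  · rw [h0, zero_mul] at h
    exact absurd h.symm Fintype.card_ne_zero
  · exact h0

/-- **class-sum identity**: `∑_{y ∈ a^G} χ (y b) = |a^G| χ(a) χ(b) / χ(1)` -/
theorem sum_class_mul {χ : G → ℂ} (hχ : IsIrrCharacter G χ) (a b : G) :
    ∑ y ∈ cls a, χ (y * b) = ((cls a).card : ℂ) * χ a * χ b / χ 1 := by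
  have h1 := Cfsg.Agent.Lib.H9.TICong.sum_conj_mul hχ b a
  have h2 := sum_conj_eq a (fun y => χ (y * b))
  rw [h2] at h1
  have hm : ((fib a a).card : ℂ) ≠ 0 := by
    have := card_fib_pos a
    exact_mod_cast this.ne'
  have hG : (Fintype.card G : ℂ) = ((fib a a).card : ℂ) * ((cls a).card : ℂ) := by
    rw [← card_fib_mul_card_cls a]; push_cast; ring
  rw [hG] at h1
  have h3 : ((fib a a).card : ℂ) * ∑ y ∈ cls a, χ (y * b) =
      ((fib a a).card : ℂ) * (((cls a).card : ℂ) * χ a * χ b / χ 1) := by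
    rw [h1]; ring
  exact mul_left_cancel₀ hm h3

/-- left-multiplication form: `∑_{y ∈ a^G} χ (b y) = |a^G| χ(a) χ(b) / χ(1)` -/
theorem sum_class_mul' {χ : G → ℂ} (hχ : IsIrrCharacter G χ) (a b : G) :
    ∑ y ∈ cls a, χ (b * y) = ((cls a).card : ℂ) * χ a * χ b / χ 1 := by
  rw [← sum_class_mul hχ a b]
  refine Finset.sum_congr rfl (fun y _ => ?_)
  have hcf := Cfsg.Agent.Lib.L0.isClassFunction_of_isCharacter (Cfsg.Agent.Lib.L0.isCharacter_of_irr hχ)
  have : y * b = b⁻¹ * (b * y) * b⁻¹⁻¹ := by group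
  rw [this, hcf]

/-- weighted class-sum identity over a set `B` of irreducible characters (`finsum` form):
`∑_{y ∈ a^G} ∑_{χ ∈ B} w_χ χ(b y) = |a^G| ∑_{χ ∈ B} w_χ χ(a) χ(b) / χ(1)` -/
theorem sum_class_finsum (B : Set (IrrCharacter G)) (w : IrrCharacter G → ℂ) (a b : G) :
    ∑ y ∈ cls a, ∑ᶠ χ ∈ B, w χ * (χ : G → ℂ) (b * y) =
      ((cls a).card : ℂ) * ∑ᶠ χ ∈ B, w χ * ((χ : G → ℂ) a * (χ : G → ℂ) b / (χ : G → ℂ) 1) := by
  classical
  have : Finite (IrrCharacter G) := Cfsg.Agent.Lib.H24.finite_irr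
  have hB : B.Finite := Set.toFinite B
  rw [finsum_mem_eq_finite_toFinset_sum _ hB]
  have h1 : ∀ y : G, ∑ᶠ χ ∈ B, w χ * (χ : G → ℂ) (b * y) =
      ∑ χ ∈ hB.toFinset, w χ * (χ : G → ℂ) (b * y) := fun y =>
    finsum_mem_eq_finite_toFinset_sum _ hB
  simp only [h1]
  rw [Finset.sum_comm, Finset.mul_sum]
  refine Finset.sum_congr rfl (fun χ _ => ?_)
  rw [← Finset.mul_sum, sum_class_mul' χ.2 a b]
  ring

end Cfsg.Agent.Lib.H9.AECS
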