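import Mathlib
import Cfsg.Agent.Lib.H9.AECS

/-!
# S1951 piece CLASSSUM / F4 (helper9): `t * N_sing = |K| ∑ d^3 / χ(1)`

Generic form: `B` a set of irreducible characters, `d χ ∈ ℤ` the common value `χ a`,
`Ψ = ∑_{χ ∈ B} d_χ χ` equal to `t` times the indicator function of a set `S` of elements.
Then `t * #{y ∈ a^G | a⁻¹ y ∈ S} = |a^G| * ∑_{χ ∈ B} d_χ^3 / χ(1)`.
-/

set_option autoImplicit false
open Cfsg

namespace Cfsg.Agent.Lib.H9.AECS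

open scoped BigOperators ComplexConjugate

variable {G : Type*} [Group G] [Fintype G] [DecidableEq G]

/-- **F4**: if `Ψ := ∑_{χ ∈ B} d_χ χ` is `t` on `S` and `0` off `S`, and `χ a = d_χ` (an integer) for `χ ∈ B`,
then `t * #{y ∈ a^G | a⁻¹ y ∈ S} = |a^G| ∑_{χ ∈ B} d_χ^3 / χ(1)`. -/
theorem nsing_eq (B : Set (IrrCharacter G)) (d : IrrCharacter G → ℤ) (a : G) (t : ℂ)
    (S : Set G) [DecidablePred (· ∈ S)]
    (hd : ∀ χ ∈ B, (χ : G → ℂ) a = (d χ : ℂ))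
    (hΨ : ∀ g : G, ∑ᶠ χ ∈ B, (d χ : ℂ) * (χ : G → ℂ) g = if g ∈ S then t else 0) :
    t * (((cls a).filter (fun y => a⁻¹ * y ∈ S)).card : ℂ) =
      ((cls a).card : ℂ) * ∑ᶠ χ ∈ B, ((d χ : ℂ) ^ 3 / (χ : G → ℂ) 1) := by
  classical
  have h1 := sum_class_finsum B (fun χ => (d χ : ℂ)) a a⁻¹
  simp only [hΨ] at h1
  rw [Finset.sum_ite, Finset.sum_const, Finset.sum_const_zero, add_zero, nsmul_eq_mul] at h1
  rw [mul_comm, h1]
  congr 1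
  refine finsum_mem_congr rfl (fun χ hχ => ?_)
  have hinv : (χ : G → ℂ) a⁻¹ = (d χ : ℂ) := by
    rw [Cfsg.Agent.Lib.L0.isCharacter_apply_inv (Cfsg.Agent.Lib.L0.isCharacter_of_irr χ.2), hd χ hχ]
    simp
  rw [hd χ hχ, hinv]
  ring

end Cfsg.Agent.Lib.H9.AECS
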