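import Mathlib
import Cfsg.Agent.Lib.H12.CYDefs
import Cfsg.Agent.Lib.H28.CYKER
import Cfsg.Agent.Lib.H20.Cyclic

/-!
# S1950, piece NCE (helper9): `|N_G(P) : C_G(P)| = |fusE p z|` for a cyclic Sylow `p`-subgroup `P`
-/

set_option autoImplicit false

namespace Cfsg.Agent.Lib.H9.CY

open Cfsg.Agent.Lib.H12.CY

variable {G : Type*} [Group G] [Finite G] {p : ℕ} [Fact p.Prime]

/-- an element of order `p` of the cyclic group `P` is a power `z ^ t.val`, `t ≠ 0` -/
theorem exists_zmod_pow_eq (P : Sylow p G) (hP : IsCyclic ↥(P : Subgroup G))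
    {z : G} (hzP : z ∈ (P : Subgroup G)) (hz : orderOf z = p) {x : G} (hxP : x ∈ (P : Subgroup G))
    (hx : orderOf x = p) : ∃ t : ZMod p, t ≠ 0 ∧ z ^ t.val = x := by
  have hp : p.Prime := Fact.out
  have hmem : (⟨x, hxP⟩ : ↥(P : Subgroup G)) ∈
      Subgroup.zpowers (⟨z, hzP⟩ : ↥(P : Subgroup G)) := by
    apply Cfsg.Agent.Lib.H20.mem_zpowers_of_orderOf_dvd_of_isCyclic
    rw [Subgroup.orderOf_mk, Subgroup.orderOf_mk, hx, hz]
  obtain ⟨k, hk⟩ := Subgroup.mem_zpowers_iff.1 hmem
  have hk' : z ^ k = x := by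
    have := congrArg Subtype.val hk
    simpa using this
  have hzpow : z ^ k = z ^ (k % (p : ℤ)).toNat := by
    have h1 : z ^ (k % (p : ℤ)) = z ^ k := by
      rw [← hz]; exact zpow_mod_orderOf z k
    have h2 : 0 ≤ k % (p : ℤ) := Int.emod_nonneg _ (by exact_mod_cast hp.ne_zero)
    rw [← h1]
    conv_lhs => rw [← Int.toNat_of_nonneg h2]
    exact zpow_natCast z _
  set j : ℕ := (k % (p : ℤ)).toNat with hj
  have hval : z ^ ((j : ZMod p)).val = z ^ j := by
    rw [ZMod.val_natCast]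
    conv_rhs => rw [← pow_mod_orderOf, hz]
  refine ⟨(j : ZMod p), ?_, ?_⟩
  · intro h0
    rw [h0, ZMod.val_zero, pow_zero, ← hzpow, hk'] at hval
    rw [← hval, orderOf_one] at hx
    exact hp.one_lt.ne hx
  · rw [hval, ← hzpow, hk']

theorem relIndex_eq_card_fusE (P : Sylow p G) (hP : IsCyclic ↥(P : Subgroup G))
    {z : G} (hzP : z ∈ (P : Subgroup G)) (hz : orderOf z = p) :
    (Subgroup.centralizer ((P : Subgroup G) : Set G)).relIndex
      (Subgroup.normalizer ((P : Subgroup G) : Set G)) = (fusE p z).card := by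
  have hp : p.Prime := Fact.out
  have hz1 : z ≠ 1 := by
    intro h
    rw [h, orderOf_one] at hz
    exact hp.one_lt.ne hz
  let _ : MulAction ↥(Subgroup.normalizer ((P : Subgroup G) : Set G)) G :=
    MulAction.compHom G ((MulAut.conj : G →* MulAut G).comp
      (Subgroup.normalizer ((P : Subgroup G) : Set G)).subtype)
  have hsmul : ∀ (n : ↥(Subgroup.normalizer ((P : Subgroup G) : Set G))) (x : G),
      n • x = (n : G) * x * (n : G)⁻¹ := fun n x => rfl
  have hstab : MulAction.stabilizer ↥(Subgroup.normalizer ((P : Subgroup G) : Set G)) z =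
      (Subgroup.centralizer ((P : Subgroup G) : Set G)).subgroupOf
        (Subgroup.normalizer ((P : Subgroup G) : Set G)) := by
    ext n
    rw [MulAction.mem_stabilizer_iff, Subgroup.mem_subgroupOf, hsmul]
    constructor
    · intro h
      apply Cfsg.Agent.Lib.H28.CY.mem_centralizer_of_mem_normalizer_of_commute P hP z hzP hz1 n n.2
      calc (n : G) * z = ((n : G) * z * (n : G)⁻¹) * n := by group
        _ = z * n := by rw [h]
    · intro h
      have h1 := (Subgroup.mem_centralizer_iff.1 h) z hzP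
      calc (n : G) * z * (n : G)⁻¹ = (z * n) * (n : G)⁻¹ := by rw [h1]
        _ = z := by group
  have horb : MulAction.orbit ↥(Subgroup.normalizer ((P : Subgroup G) : Set G)) z =
      (fun t : ZMod p => z ^ t.val) '' (fusE p z : Set (ZMod p)) := by
    ext x
    constructor
    · rintro ⟨n, rfl⟩
      show n • z ∈ _
      rw [hsmul]
      have hxP : (n : G) * z * (n : G)⁻¹ ∈ (P : Subgroup G) :=
        ((Subgroup.mem_normalizer_iff.1 n.2) z).1 hzP
      have hord : orderOf ((n : G) * z * (n : G)⁻¹) = p := by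
        have : (n : G) * z * (n : G)⁻¹ = MulAut.conj (n : G) z := rfl
        rw [this, MulEquiv.orderOf_eq, hz]
      obtain ⟨t, ht0, ht⟩ := exists_zmod_pow_eq P hP hzP hz hxP hord
      refine ⟨t, ?_, ht⟩
      rw [Finset.mem_coe, mem_fusE]
      refine ⟨ht0, ?_⟩
      rw [isConj_iff]
      refine ⟨(n : G)⁻¹, ?_⟩
      rw [ht]; group
    · rintro ⟨t, ht, rfl⟩
      rw [Finset.mem_coe, mem_fusE] at ht
      obtain ⟨ht0, hconj⟩ := ht
      rw [isConj_iff] at hconj
      obtain ⟨c, hc⟩ := hconj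
      have hzt : z ^ t.val = c⁻¹ * z * c := by
        calc z ^ t.val = c⁻¹ * (c * z ^ t.val * c⁻¹) * c := by group
          _ = c⁻¹ * z * c := by rw [hc]
      have : IsMulCommutative ↥(P : Subgroup G) := IsCyclic.isMulCommutative
      have hy : c⁻¹ * z * c ∈ (P : Subgroup G) := by
        rw [← hzt]; exact Subgroup.pow_mem _ hzP _
      obtain ⟨n, hn, hnz⟩ := Sylow.conj_eq_normalizer_conj_of_mem P z c hzP hy
      refine ⟨⟨n⁻¹, Subgroup.inv_mem _ hn⟩, ?_⟩
      show (⟨n⁻¹, Subgroup.inv_mem _ hn⟩ : ↥(Subgroup.normalizer ((P : Subgroup G) : Set G))) • z =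
        z ^ t.val
      rw [hsmul, hzt, hnz]
      simp
  unfold Subgroup.relIndex
  rw [← hstab, MulAction.index_stabilizer, horb, Set.InjOn.ncard_image, Set.ncard_coe_finset]
  intro s _ t _ hst
  have h1 : z ^ s.val = z ^ t.val := hst
  rw [pow_inj_mod, hz, Nat.mod_eq_of_lt (ZMod.val_lt s), Nat.mod_eq_of_lt (ZMod.val_lt t)] at h1
  exact ZMod.val_injective p h1

end Cfsg.Agent.Lib.H9.CY
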