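import Mathlib
import Cfsg.Prelude.Def_Classical

/-!
# Counting on the hyperbolic quadric `quadFormPlus m F` (helper9; pieces CNT-SING, CNT-NORM, QSUM, FIX of S2345)

`Nq m c` = number of `y : Fin m ⊕ Fin m → F` with `quadFormPlus m F y = c`.

* `sum_split` : splitting off the first hyperbolic pair, with a weight `g (y (inr 0))`;
* `Nq_succ` : `Nq (m+1) c = q * Nq m c + (q - 1) * q ^ (2 m)`;
* `Nq_zero_add`, `Nq_ne_add` : closed forms;
* `qsum` : `∑_{Q y = 0} χ₀ (y (inr 0)) = q * Nq m 0 - q ^ (2 m)` for a non-trivial additive character `χ₀`;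
* `card_fix` : `#{y : Q y = 0, y (inr 0) = 0, y (inr 1) = 0} = q ^ 2 * Nq m 0`.
-/

set_option autoImplicit false

namespace Cfsg.Agent.Lib.H9.OrthMin

open scoped BigOperators

variable {F : Type*} [Field F] [Fintype F] [DecidableEq F]

/-- splitting off the first hyperbolic pair -/
def splitEquiv (m : ℕ) : (Fin (m + 1) ⊕ Fin (m + 1) → F) ≃ F × F × (Fin m ⊕ Fin m → F) where
  toFun y := (y (.inl 0), y (.inr 0), fun i => y (Sum.map Fin.succ Fin.succ i))
  invFun p := Sum.elim (Fin.cons p.1 (fun i => p.2.2 (.inl i))) (Fin.cons p.2.1 (fun i => p.2.2 (.inr i)))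
  left_inv y := by
    funext i
    rcases i with i | i
    · refine Fin.cases ?_ (fun j => ?_) i <;> simp
    · refine Fin.cases ?_ (fun j => ?_) i <;> simp
  right_inv p := by
    rcases p with ⟨a, b, y'⟩
    refine Prod.ext ?_ (Prod.ext ?_ ?_)
    · simp
    · simp
    · funext i
      rcases i with i | i <;> simp

theorem quadFormPlus_succ (m : ℕ) (y : Fin (m + 1) ⊕ Fin (m + 1) → F) :
    Cfsg.quadFormPlus (m + 1) F y =
      y (.inl 0) * y (.inr 0) + Cfsg.quadFormPlus m F (fun i => y (Sum.map Fin.succ Fin.succ i)) := by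
  unfold Cfsg.quadFormPlus
  rw [Fin.sum_univ_succ]
  rfl

theorem quadFormPlus_splitEquiv_symm (m : ℕ) (a b : F) (y' : Fin m ⊕ Fin m → F) :
    Cfsg.quadFormPlus (m + 1) F ((splitEquiv m).symm (a, b, y')) = a * b + Cfsg.quadFormPlus m F y' := by
  have h := quadFormPlus_succ m ((splitEquiv m).symm (a, b, y'))
  have h2 := (splitEquiv m).apply_symm_apply (a, b, y')
  have e1 : ((splitEquiv m).symm (a, b, y')) (.inl 0) = a := congrArg Prod.fst h2
  have e2 : ((splitEquiv m).symm (a, b, y')) (.inr 0) = b := congrArg (fun p => p.2.1) h2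
  have e3 : (fun i => ((splitEquiv m).symm (a, b, y')) (Sum.map Fin.succ Fin.succ i)) = y' :=
    congrArg (fun p => p.2.2) h2
  rw [h, e1, e2, e3]

/-- the number of solutions of `quadFormPlus m F y = c` -/
def Nq (F : Type*) [Field F] [Fintype F] [DecidableEq F] (m : ℕ) (c : F) : ℕ :=
  (Finset.univ.filter (fun y : Fin m ⊕ Fin m → F => Cfsg.quadFormPlus m F y = c)).card

theorem Nq_cast (m : ℕ) (c : F) :
    (Nq F m c : ℂ) = ∑ y : Fin m ⊕ Fin m → F, if Cfsg.quadFormPlus m F y = c then (1 : ℂ) else 0 := by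
  rw [Nq, Finset.card_filter]
  push_cast
  rfl

theorem sum_Nq (m : ℕ) : ∑ d : F, (Nq F m d : ℂ) = (Fintype.card F : ℂ) ^ (2 * m) := by
  simp_rw [Nq_cast]
  rw [Finset.sum_comm]
  simp only [Finset.sum_ite_eq, Finset.mem_univ, if_true, Finset.sum_const, Finset.card_univ,
    nsmul_eq_mul, mul_one]
  rw [Fintype.card_fun, Fintype.card_sum, Fintype.card_fin]
  push_cast
  ring_nf

/-- splitting off the first hyperbolic pair, with a weight on the coordinate `y (inr 0)` -/
theorem sum_split (m : ℕ) (c : F) (g : F → ℂ) :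
    (∑ y : Fin (m + 1) ⊕ Fin (m + 1) → F,
      if Cfsg.quadFormPlus (m + 1) F y = c then g (y (.inr 0)) else 0) =
      g 0 * (Fintype.card F : ℂ) * (Nq F m c : ℂ) +
        (∑ b ∈ Finset.univ.erase (0 : F), g b) * (Fintype.card F : ℂ) ^ (2 * m) := by
  rw [← (splitEquiv (F := F) m).symm.sum_comp]
  have h1 : ∀ p : F × F × (Fin m ⊕ Fin m → F),
      (if Cfsg.quadFormPlus (m + 1) F ((splitEquiv m).symm p) = c
        then g (((splitEquiv m).symm p) (.inr 0)) else 0) =
      (if p.1 * p.2.1 + Cfsg.quadFormPlus m F p.2.2 = c then g p.2.1 else 0) := by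
    rintro ⟨a, b, y'⟩
    rw [quadFormPlus_splitEquiv_symm]
    have h2 := (splitEquiv m).apply_symm_apply (a, b, y')
    have e2 : ((splitEquiv m).symm (a, b, y')) (.inr 0) = b := congrArg (fun p => p.2.1) h2
    rw [e2]
  rw [Finset.sum_congr rfl (fun p _ => h1 p), Fintype.sum_prod_type]
  simp_rw [Fintype.sum_prod_type]
  rw [Finset.sum_comm]
  -- now `∑ b, ∑ a, ∑ y', if a * b + Q y' = c then g b else 0`
  have h3 : ∀ a b : F, (∑ y' : Fin m ⊕ Fin m → F,
      if a * b + Cfsg.quadFormPlus m F y' = c then g b else 0) = g b * (Nq F m (c - a * b) : ℂ) := by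
    intro a b
    rw [Nq_cast, Finset.mul_sum]
    refine Finset.sum_congr rfl fun y' _ => ?_
    have : (a * b + Cfsg.quadFormPlus m F y' = c) ↔ (Cfsg.quadFormPlus m F y' = c - a * b) := by
      constructor
      · intro h; rw [← h]; ring
      · intro h; rw [h]; ring
    by_cases hh : Cfsg.quadFormPlus m F y' = c - a * b
    · rw [if_pos (this.2 hh), if_pos hh, mul_one]
    · rw [if_neg (fun h => hh (this.1 h)), if_neg hh, mul_zero]
  have h4 : ∀ b : F, (∑ a : F, ∑ y' : Fin m ⊕ Fin m → F,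
      if a * b + Cfsg.quadFormPlus m F y' = c then g b else 0) =
      if b = 0 then g 0 * (Fintype.card F : ℂ) * (Nq F m c : ℂ)
        else g b * (Fintype.card F : ℂ) ^ (2 * m) := by
    intro b
    rw [Finset.sum_congr rfl (fun a _ => h3 a b), ← Finset.mul_sum]
    by_cases hb : b = 0
    · subst hb
      rw [if_pos rfl]
      simp only [mul_zero, sub_zero, Finset.sum_const, Finset.card_univ, nsmul_eq_mul]
      ring
    · rw [if_neg hb, ← sum_Nq (F := F) m]
      congr 1
      -- `a ↦ c - a * b` is a bijection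
      let e : F ≃ F :=
        { toFun := fun a => c - a * b
          invFun := fun d => (c - d) * b⁻¹
          left_inv := fun a => by field_simp; ring
          right_inv := fun d => by field_simp; ring }
      exact e.sum_comp (fun d => (Nq F m d : ℂ))
  rw [Finset.sum_congr rfl (fun b _ => h4 b),
    ← Finset.add_sum_erase Finset.univ _ (Finset.mem_univ (0 : F)), if_pos rfl, Finset.sum_mul]
  congr 1
  refine Finset.sum_congr rfl fun b hb => ?_
  rw [if_neg (Finset.ne_of_mem_erase hb)]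

/-- the recursion for `Nq` -/
theorem Nq_succ (m : ℕ) (c : F) :
    Nq F (m + 1) c = Fintype.card F * Nq F m c + (Fintype.card F - 1) * Fintype.card F ^ (2 * m) := by
  have h := sum_split (F := F) m c (fun _ => 1)
  rw [← Nq_cast] at h
  have h2 : (∑ b ∈ Finset.univ.erase (0 : F), (1 : ℂ)) = ((Fintype.card F - 1 : ℕ) : ℂ) := by
    rw [Finset.sum_const, Finset.card_erase_of_mem (Finset.mem_univ _), Finset.card_univ,
      nsmul_eq_mul, mul_one]
  rw [h2, one_mul] at h
  exact_mod_cast h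

theorem Nq_zero_zero : Nq F 0 (0 : F) = 1 := by
  rw [Nq]
  have : (Finset.univ.filter (fun y : Fin 0 ⊕ Fin 0 → F => Cfsg.quadFormPlus 0 F y = 0)) =
      Finset.univ := by
    ext y
    simp [Cfsg.quadFormPlus]
  rw [this, Finset.card_univ, Fintype.card_fun, Fintype.card_sum, Fintype.card_fin]
  simp

theorem Nq_zero_ne {c : F} (hc : c ≠ 0) : Nq F 0 c = 0 := by
  rw [Nq, Finset.card_eq_zero, Finset.filter_eq_empty_iff]
  intro y _ h
  apply hc
  rw [← h]
  simp [Cfsg.quadFormPlus]

theorem one_le_card : 1 ≤ Fintype.card F := Fintype.card_pos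

/-- the number of singular vectors (including `0`) of the plus-type space of dimension `2 (m + 1)` -/
theorem Nq_zero_add (m : ℕ) :
    Nq F (m + 1) (0 : F) + Fintype.card F ^ m =
      Fintype.card F ^ (2 * m + 1) + Fintype.card F ^ (m + 1) := by
  have hq := one_le_card (F := F)
  induction m with
  | zero =>
    rw [Nq_succ, Nq_zero_zero]
    obtain ⟨k, hk⟩ : ∃ k, Fintype.card F = k + 1 := ⟨Fintype.card F - 1, by omega⟩
    rw [hk]
    simp
    ring
  | succ m ih =>
    rw [Nq_succ]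
    obtain ⟨k, hk⟩ : ∃ k, Fintype.card F = k + 1 := ⟨Fintype.card F - 1, by omega⟩
    have e : Nq F (m + 1) (0 : F) = Fintype.card F ^ (2 * m + 1) + Fintype.card F ^ (m + 1) -
        Fintype.card F ^ m := by omega
    have hle : Fintype.card F ^ m ≤ Fintype.card F ^ (2 * m + 1) + Fintype.card F ^ (m + 1) := by
      have : Fintype.card F ^ m ≤ Fintype.card F ^ (m + 1) := Nat.pow_le_pow_right hq (by omega)
      omega
    zify [hle] at e ⊢
    rw [e]
    have : ((Fintype.card F - 1 : ℕ) : ℤ) = (Fintype.card F : ℤ) - 1 := by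
      rw [Nat.cast_sub hq]; simp
    rw [this]
    ring

/-- the number of vectors of a given non-zero norm -/
theorem Nq_ne_add (m : ℕ) {c : F} (hc : c ≠ 0) :
    Nq F (m + 1) c + Fintype.card F ^ m = Fintype.card F ^ (2 * m + 1) := by
  have hq := one_le_card (F := F)
  induction m with
  | zero =>
    rw [Nq_succ, Nq_zero_ne hc]
    simp
    omega
  | succ m ih =>
    rw [Nq_succ]
    have hle : Fintype.card F ^ m ≤ Fintype.card F ^ (2 * m + 1) :=
      Nat.pow_le_pow_right hq (by omega)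
    have e : Nq F (m + 1) c = Fintype.card F ^ (2 * m + 1) - Fintype.card F ^ m := by omega
    zify [hle] at e ⊢
    rw [e]
    have : ((Fintype.card F - 1 : ℕ) : ℤ) = (Fintype.card F : ℤ) - 1 := by
      rw [Nat.cast_sub hq]; simp
    rw [this]
    ring

/-- QSUM: the character sum over the quadric -/
theorem qsum (m : ℕ) (χ₀ : AddChar F ℂ) (hχ₀ : χ₀ ≠ 1) :
    (∑ y : Fin (m + 1) ⊕ Fin (m + 1) → F,
      if Cfsg.quadFormPlus (m + 1) F y = 0 then χ₀ (y (.inr 0)) else 0) =
      (Fintype.card F : ℂ) * (Nq F m (0 : F) : ℂ) - (Fintype.card F : ℂ) ^ (2 * m) := by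
  rw [sum_split (F := F) m 0 (fun b => χ₀ b)]
  have h0 : ∑ b : F, χ₀ b = 0 := AddChar.sum_eq_zero_of_ne_one hχ₀
  have h1 : (∑ b ∈ Finset.univ.erase (0 : F), χ₀ b) = -1 := by
    have := Finset.add_sum_erase Finset.univ (fun b => χ₀ b) (Finset.mem_univ (0 : F))
    rw [h0, AddChar.map_zero_eq_one] at this
    linear_combination this
  rw [h1, AddChar.map_zero_eq_one]
  ring

/-- QSUM in closed form: `∑_{Q y = 0} χ₀ (y (inr 0)) = q ^ (m + 1) - q ^ m` on the space of dimension `2 (m + 1)` -/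
theorem qsum_closed (m : ℕ) (χ₀ : AddChar F ℂ) (hχ₀ : χ₀ ≠ 1) :
    (∑ y : Fin (m + 1) ⊕ Fin (m + 1) → F,
      if Cfsg.quadFormPlus (m + 1) F y = 0 then χ₀ (y (.inr 0)) else 0) =
      (Fintype.card F : ℂ) ^ (m + 1) - (Fintype.card F : ℂ) ^ m := by
  rw [qsum m χ₀ hχ₀]
  rcases m with _ | m
  · rw [Nq_zero_zero]
    simp
  · have h := Nq_zero_add (F := F) m
    have h' : (Nq F (m + 1) (0 : F) : ℂ) + (Fintype.card F : ℂ) ^ m =
        (Fintype.card F : ℂ) ^ (2 * m + 1) + (Fintype.card F : ℂ) ^ (m + 1) := by exact_mod_cast h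
    have e : (Nq F (m + 1) (0 : F) : ℂ) = (Fintype.card F : ℂ) ^ (2 * m + 1) +
        (Fintype.card F : ℂ) ^ (m + 1) - (Fintype.card F : ℂ) ^ m := by linear_combination h'
    rw [e]
    ring

/-- FIX: singular vectors orthogonal to the first two basis vectors `e₀, e₁` -/
theorem card_fix (m : ℕ) :
    (Finset.univ.filter (fun y : Fin (m + 2) ⊕ Fin (m + 2) → F =>
      Cfsg.quadFormPlus (m + 2) F y = 0 ∧ y (.inr 0) = 0 ∧ y (.inr 1) = 0)).card =
      Fintype.card F ^ 2 * Nq F m (0 : F) := by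
  -- count over `(a, b, (a', b', y''))`
  let E : (Fin (m + 2) ⊕ Fin (m + 2) → F) ≃ F × F × (F × F × (Fin m ⊕ Fin m → F)) :=
    (splitEquiv (F := F) (m + 1)).trans
      (Equiv.prodCongr (Equiv.refl F) (Equiv.prodCongr (Equiv.refl F) (splitEquiv (F := F) m)))
  have hE : ∀ y, E y = (y (.inl 0), y (.inr 0), y (.inl 1), y (.inr 1),
      fun i => y (Sum.map Fin.succ Fin.succ (Sum.map Fin.succ Fin.succ i))) := by
    intro y
    rfl
  have hQ : ∀ y : Fin (m + 2) ⊕ Fin (m + 2) → F, Cfsg.quadFormPlus (m + 2) F y =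
      y (.inl 0) * y (.inr 0) + (y (.inl 1) * y (.inr 1) +
        Cfsg.quadFormPlus m F (E y).2.2.2.2) := by
    intro y
    rw [quadFormPlus_succ (m + 1) y, quadFormPlus_succ m]
    rfl
  rw [← Finset.card_map E.toEmbedding]
  have hmap : (Finset.univ.filter (fun y : Fin (m + 2) ⊕ Fin (m + 2) → F =>
      Cfsg.quadFormPlus (m + 2) F y = 0 ∧ y (.inr 0) = 0 ∧ y (.inr 1) = 0)).map E.toEmbedding =
      (Finset.univ : Finset F) ×ˢ (({0} : Finset F) ×ˢ ((Finset.univ : Finset F) ×ˢ
        (({0} : Finset F) ×ˢ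
          (Finset.univ.filter (fun y'' : Fin m ⊕ Fin m → F => Cfsg.quadFormPlus m F y'' = 0))))) := by
    ext p
    simp only [Finset.mem_map, Finset.mem_filter, Finset.mem_univ, true_and, Equiv.coe_toEmbedding,
      Finset.mem_product, Finset.mem_singleton]
    constructor
    · rintro ⟨y, ⟨hy, h0, h1⟩, rfl⟩
      rw [hE]
      refine ⟨h0, h1, ?_⟩
      have := hQ y
      rw [hy, h0, h1, mul_zero, mul_zero, zero_add, zero_add, hE] at this
      exact this.symm
    · rintro ⟨h0, h1, hy''⟩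
      refine ⟨E.symm p, ?_, E.apply_symm_apply p⟩
      have hp := E.apply_symm_apply p
      have hEp := hE (E.symm p)
      rw [hp] at hEp
      have e0 : (E.symm p) (.inr 0) = p.2.1 := (congrArg (fun r => r.2.1) hEp).symm
      have e1 : (E.symm p) (.inr 1) = p.2.2.2.1 := (congrArg (fun r => r.2.2.2.1) hEp).symm
      refine ⟨?_, e0.trans h0, e1.trans h1⟩
      rw [hQ, e0, e1, h0, h1, mul_zero, mul_zero, zero_add, zero_add, hp]
      exact hy''
  rw [hmap]
  simp only [Finset.card_product, Finset.card_univ, Finset.card_singleton, one_mul]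
  rw [Nq]
  ring

/-- the polar form against a basis vector `e_i` picks out the `f_i`-coordinate -/
theorem polar_single_inl (m : ℕ) (y : Fin m ⊕ Fin m → F) (i : Fin m) :
    QuadraticMap.polar (Cfsg.quadFormPlus m F) y (Pi.single (.inl i) 1) = y (.inr i) := by
  unfold QuadraticMap.polar Cfsg.quadFormPlus
  rw [← Finset.sum_sub_distrib, ← Finset.sum_sub_distrib]
  rw [Finset.sum_eq_single i]
  · simp
    ring
  · intro j _ hji
    have h1 : (Pi.single (Sum.inl i : Fin m ⊕ Fin m) (1 : F) : Fin m ⊕ Fin m → F) (.inl j) = 0 := by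
      rw [Pi.single_apply, if_neg]
      intro h
      exact hji (Sum.inl.inj h)
    have h2 : (Pi.single (Sum.inl i : Fin m ⊕ Fin m) (1 : F) : Fin m ⊕ Fin m → F) (.inr j) = 0 := by
      rw [Pi.single_apply, if_neg]
      intro h
      exact Sum.inr_ne_inl h
    simp [Pi.add_apply, h1, h2]
  · intro h
    exact absurd (Finset.mem_univ i) h

end Cfsg.Agent.Lib.H9.OrthMin
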