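import Mathlib
import Cfsg.Agent.Lib.H4.Orth
import Cfsg.Agent.Lib.H12.CardSL
import Cfsg.Agent.Lib.H13.StdForm
import Cfsg.Agent.Lib.H9.OrthMinCount

/-!
# Counting long root (Siegel) matrices (helper9; core of piece CNT of S2345)

For `Q : QuadraticForm F (ι → F)` with `NonDeg Q` (`B u · ≠ 0` for `u ≠ 0`, `B` the polar form):

* `card_sing_perp` (A): for singular `u ≠ 0`: `q² #{v : Q v = 0, B u v = 0} + (q - 1) q^d = q² #{v : Q v = 0}`;
* `pairs Q` : the independent, orthogonal pairs of singular vectors; `sig Q (u, v) = siegelMatrix Q u v 1`;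
* `sig_actP`, `exists_actP_of_sig_eq`, `card_fibre_sig` : the fibres of `sig` are free `SL₂(F)`-orbits;
* `card_image_sig` (B): `#(image sig) * (q (q² - 1)) = #pairs`;
* `card_pairs` (C): the number of pairs (in `ℤ`);
* `card_pairs_plus`, `card_longRoot_plus` : closed forms for the plus-type form `plusQF F (m + 2)` (helper13):
  `#T * (q (q² - 1)) = (q^(m+2) - 1)(q^(m+1) + 1) * (q (q^(m+1) - 1)(q^m + 1))`.
-/

set_option autoImplicit false
set_option linter.unusedSimpArgs false

namespace Cfsg.Agent.Lib.H9.OrthMin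

open Matrix

variable {F : Type*} [Field F] [Fintype F] [DecidableEq F] {ι : Type} [Fintype ι] [DecidableEq ι]
variable (Q : QuadraticForm F (ι → F))

set_option quotPrecheck false in
local notation "B" => QuadraticMap.polar (⇑Q)

/-! ### Part A: vectors orthogonal to a singular vector -/

/-- the fibres of a non-zero linear functional `B u ·` all have `q ^ (d - 1)` elements -/
theorem card_polar_fibre (u : ι → F) (hu : ∃ x, B u x ≠ 0) (γ : F) :
    Fintype.card F * (Finset.univ.filter (fun v : ι → F => B u v = γ)).card =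
      Fintype.card F ^ Fintype.card ι := by
  obtain ⟨x₀, hx₀⟩ := hu
  have hshift : ∀ γ' : F, (Finset.univ.filter (fun v : ι → F => B u v = γ')).card =
      (Finset.univ.filter (fun v : ι → F => B u v = γ)).card := by
    intro γ'
    refine Finset.card_equiv (Equiv.addRight (((γ - γ') / B u x₀) • x₀)) ?_
    intro v
    simp only [Finset.mem_filter, Finset.mem_univ, true_and, Equiv.coe_addRight]
    rw [QuadraticMap.polar_add_right, QuadraticMap.polar_smul_right, smul_eq_mul,
      div_mul_cancel₀ _ hx₀]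
    constructor
    · intro h; rw [h]; ring
    · intro h; linear_combination h
  have h1 := Finset.card_eq_sum_card_fiberwise (f := fun v : ι → F => B u v)
    (s := (Finset.univ : Finset (ι → F))) (t := (Finset.univ : Finset F))
    (fun v _ => Finset.mem_univ _)
  rw [Finset.card_univ, Fintype.card_fun] at h1
  rw [h1, Finset.sum_congr rfl (fun γ' _ => hshift γ'), Finset.sum_const, Finset.card_univ,
    smul_eq_mul]


/-- for `γ ≠ 0` and singular `u`, the number of `v` with `Q v = α`, `B u v = γ` does not depend on `α` -/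
theorem card_fibre_shift (u : ι → F) (hQu : Q u = 0) {γ : F} (hγ : γ ≠ 0) (α : F) :
    (Finset.univ.filter (fun v : ι → F => Q v = α ∧ B u v = γ)).card =
      (Finset.univ.filter (fun v : ι → F => Q v = 0 ∧ B u v = γ)).card := by
  have huu : B u u = 0 := by rw [Cfsg.Agent.Lib.H4.polar_self, hQu, mul_zero]
  refine Finset.card_equiv (Equiv.addRight ((-α / γ) • u)) ?_
  intro v
  simp only [Finset.mem_filter, Finset.mem_univ, true_and, Equiv.coe_addRight]
  rw [QuadraticMap.map_add (⇑Q), QuadraticMap.map_smul, hQu, smul_zero, add_zero,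
    QuadraticMap.polar_add_right, QuadraticMap.polar_smul_right, QuadraticMap.polar_smul_right, huu,
    smul_zero, add_zero, QuadraticMap.polar_comm (⇑Q) v u, smul_eq_mul]
  constructor
  · rintro ⟨h1, h2⟩
    refine ⟨?_, h2⟩
    rw [h1, h2]
    field_simp
    ring
  · rintro ⟨h1, h2⟩
    refine ⟨?_, h2⟩
    rw [h2] at h1
    field_simp at h1
    linear_combination h1

/-- for `γ ≠ 0` and singular `u` with `B u · ≠ 0`: `q² · #{v : Q v = 0, B u v = γ} = q ^ d` -/
theorem card_fibre_ne (u : ι → F) (hQu : Q u = 0) (hu : ∃ x, B u x ≠ 0) {γ : F} (hγ : γ ≠ 0) :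
    Fintype.card F * (Fintype.card F *
      (Finset.univ.filter (fun v : ι → F => Q v = 0 ∧ B u v = γ)).card) =
      Fintype.card F ^ Fintype.card ι := by
  rw [← card_polar_fibre Q u hu γ]
  congr 1
  have h1 := Finset.card_eq_sum_card_fiberwise (f := fun v : ι → F => Q v)
    (s := (Finset.univ.filter (fun v : ι → F => B u v = γ))) (t := (Finset.univ : Finset F))
    (fun v _ => Finset.mem_univ _)
  have h2 : ∀ α : F, ((Finset.univ.filter (fun v : ι → F => B u v = γ)).filter
      (fun v => Q v = α)).card =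
      (Finset.univ.filter (fun v : ι → F => Q v = 0 ∧ B u v = γ)).card := by
    intro α
    rw [← card_fibre_shift Q u hQu hγ α, Finset.filter_filter]
    congr 1
    ext v
    simp only [Finset.mem_filter, Finset.mem_univ, true_and]
    exact and_comm
  rw [h1, Finset.sum_congr rfl (fun α _ => h2 α), Finset.sum_const, Finset.card_univ, smul_eq_mul]

/-- (A): the singular vectors orthogonal to a non-zero singular vector -/
theorem card_sing_perp (u : ι → F) (hQu : Q u = 0) (hu : ∃ x, B u x ≠ 0) :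
    Fintype.card F ^ 2 * (Finset.univ.filter (fun v : ι → F => Q v = 0 ∧ B u v = 0)).card +
      (Fintype.card F - 1) * Fintype.card F ^ Fintype.card ι =
      Fintype.card F ^ 2 * (Finset.univ.filter (fun v : ι → F => Q v = 0)).card := by
  have h1 := Finset.card_eq_sum_card_fiberwise (f := fun v : ι → F => B u v)
    (s := (Finset.univ.filter (fun v : ι → F => Q v = 0))) (t := (Finset.univ : Finset F))
    (fun v _ => Finset.mem_univ _)
  have h2 : ∀ γ : F, ((Finset.univ.filter (fun v : ι → F => Q v = 0)).filter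
      (fun v => B u v = γ)).card =
      (Finset.univ.filter (fun v : ι → F => Q v = 0 ∧ B u v = γ)).card := by
    intro γ
    rw [Finset.filter_filter]
  rw [Finset.sum_congr rfl (fun γ _ => h2 γ),
    ← Finset.add_sum_erase Finset.univ _ (Finset.mem_univ (0 : F))] at h1
  rw [h1, mul_add, Finset.mul_sum]
  congr 1
  have h3 : ∀ γ ∈ Finset.univ.erase (0 : F), Fintype.card F ^ 2 *
      (Finset.univ.filter (fun v : ι → F => Q v = 0 ∧ B u v = γ)).card =
      Fintype.card F ^ Fintype.card ι := by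
    intro γ hγ
    rw [pow_two, mul_assoc]
    exact card_fibre_ne Q u hQu hu (Finset.ne_of_mem_erase hγ)
  rw [Finset.sum_congr rfl h3, Finset.sum_const, Finset.card_erase_of_mem (Finset.mem_univ _),
    Finset.card_univ, smul_eq_mul]


/-! ### Part B: the fibres of `(u, v) ↦ siegelMatrix Q u v 1` are free `SL₂`-orbits -/

/-- two vectors are linearly independent -/
def Indep (u v : ι → F) : Prop := ∀ s t : F, s • u + t • v = 0 → s = 0 ∧ t = 0

theorem indep_iff (u v : ι → F) : Indep u v ↔ LinearIndependent F ![u, v] :=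
  LinearIndependent.pair_iff.symm

theorem Indep.ne_zero_left {u v : ι → F} (h : Indep u v) : u ≠ 0 := by
  rintro rfl
  have := (h 1 0 (by simp)).1
  exact one_ne_zero this

theorem Indep.ne_zero_right {u v : ι → F} (h : Indep u v) : v ≠ 0 := by
  rintro rfl
  have := (h 0 1 (by simp)).2
  exact one_ne_zero this

/-- the Siegel matrix of a pair -/
def sig (p : (ι → F) × (ι → F)) : Matrix ι ι F := Cfsg.siegelMatrix (⇑Q) p.1 p.2 1

/-- `2 × 2` matrices act on pairs of vectors -/
def actP (M : Matrix (Fin 2) (Fin 2) F) (p : (ι → F) × (ι → F)) : (ι → F) × (ι → F) :=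
  (M 0 0 • p.1 + M 1 0 • p.2, M 0 1 • p.1 + M 1 1 • p.2)

theorem sig_mulVec (p : (ι → F) × (ι → F)) (x : ι → F) :
    sig Q p *ᵥ x = x + B p.1 x • p.2 - B p.2 x • p.1 := by
  rw [sig, Cfsg.Agent.Lib.H4.siegelMatrix_mulVec, one_mul, one_mul]

theorem sig_actP_mulVec (M : Matrix (Fin 2) (Fin 2) F) (p : (ι → F) × (ι → F)) (x : ι → F) :
    sig Q (actP M p) *ᵥ x = x + M.det • (B p.1 x • p.2 - B p.2 x • p.1) := by
  rw [sig_mulVec, actP, Matrix.det_fin_two]
  simp only [QuadraticMap.polar_add_left, QuadraticMap.polar_smul_left, smul_eq_mul]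
  module

theorem sig_actP (M : Matrix (Fin 2) (Fin 2) F) (hM : M.det = 1) (p : (ι → F) × (ι → F)) :
    sig Q (actP M p) = sig Q p := by
  rw [Matrix.ext_iff_mulVec]
  intro x
  rw [sig_actP_mulVec, hM, one_smul, sig_mulVec, add_sub_assoc]

/-- the non-degeneracy hypothesis: `B u · ≠ 0` for `u ≠ 0` -/
def NonDeg : Prop := ∀ u : ι → F, u ≠ 0 → ∃ x, B u x ≠ 0

/-- dual vectors for an independent pair -/
theorem exists_dual (hnd : NonDeg Q) {u v : ι → F} (h : Indep u v) :
    ∃ x, B u x = 1 ∧ B v x = 0 := by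
  obtain ⟨x₀, hx₀⟩ := hnd v h.ne_zero_right
  set c := B u x₀ / B v x₀ with hc
  have hw : u - c • v ≠ 0 := by
    intro h0
    have := (h 1 (-c) (by rw [one_smul, neg_smul, ← sub_eq_add_neg]; exact h0)).1
    exact one_ne_zero this
  obtain ⟨x', hx'⟩ := hnd _ hw
  set x₁ := x' - (B v x' / B v x₀) • x₀ with hx₁
  have hv1 : B v x₁ = 0 := by
    rw [hx₁, QuadraticMap.polar_sub_right, QuadraticMap.polar_smul_right, smul_eq_mul,
      div_mul_cancel₀ _ hx₀, sub_self]
  have hw0 : B (u - c • v) x₀ = 0 := by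
    rw [QuadraticMap.polar_sub_left, QuadraticMap.polar_smul_left, smul_eq_mul, hc,
      div_mul_cancel₀ _ hx₀, sub_self]
  have hw1 : B (u - c • v) x₁ = B (u - c • v) x' := by
    rw [hx₁, QuadraticMap.polar_sub_right, QuadraticMap.polar_smul_right, hw0, smul_zero, sub_zero]
  have hu1 : B u x₁ = B (u - c • v) x₁ := by
    rw [QuadraticMap.polar_sub_left, QuadraticMap.polar_smul_left, hv1, smul_zero, sub_zero]
  have hne : B u x₁ ≠ 0 := by rw [hu1, hw1]; exact hx'
  refine ⟨(B u x₁)⁻¹ • x₁, ?_, ?_⟩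
  · rw [QuadraticMap.polar_smul_right, smul_eq_mul, inv_mul_cancel₀ hne]
  · rw [QuadraticMap.polar_smul_right, hv1, smul_zero]

theorem Indep.symm {u v : ι → F} (h : Indep u v) : Indep v u := by
  intro s t hst
  have := h t s (by rw [add_comm]; exact hst)
  exact ⟨this.2, this.1⟩

/-- two independent pairs with the same Siegel matrix differ by an element of `SL₂` -/
theorem exists_actP_of_sig_eq (hnd : NonDeg Q) {p p' : (ι → F) × (ι → F)}
    (hp : Indep p.1 p.2) (hp' : Indep p'.1 p'.2) (h : sig Q p = sig Q p') :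
    ∃ M : Matrix (Fin 2) (Fin 2) F, M.det = 1 ∧ p' = actP M p := by
  obtain ⟨x₁, h11, h12⟩ := exists_dual Q hnd hp'
  obtain ⟨x₂, h22, h21⟩ := exists_dual Q hnd hp'.symm
  have hx : ∀ x, B p.1 x • p.2 - B p.2 x • p.1 = B p'.1 x • p'.2 - B p'.2 x • p'.1 := by
    intro x
    have := congrArg (fun A => A *ᵥ x) h
    simp only [sig_mulVec] at this
    have e : ∀ a b : ι → F, x + a - b = x + (a - b) := fun a b => by abel
    rw [e, e] at this
    exact add_left_cancel this
  have e1 := hx x₁
  rw [h11, h12, one_smul, zero_smul, sub_zero] at e1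
  have e2 := hx x₂
  rw [h21, h22, one_smul, zero_smul, zero_sub] at e2
  -- `p'.2 = B p.1 x₁ • p.2 - B p.2 x₁ • p.1`, `-p'.1 = B p.1 x₂ • p.2 - B p.2 x₂ • p.1`
  set M : Matrix (Fin 2) (Fin 2) F := !![B p.2 x₂, -B p.2 x₁; -B p.1 x₂, B p.1 x₁] with hM
  have hact : p' = actP M p := by
    refine Prod.ext ?_ ?_
    · show p'.1 = M 0 0 • p.1 + M 1 0 • p.2
      have : p'.1 = -(B p.1 x₂ • p.2 - B p.2 x₂ • p.1) := by rw [e2, neg_neg]
      rw [this, hM]
      simp
      module
    · show p'.2 = M 0 1 • p.1 + M 1 1 • p.2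
      rw [← e1, hM]
      simp
      module
  refine ⟨M, ?_, hact⟩
  -- the determinant is one
  obtain ⟨y, hy1, hy2⟩ := exists_dual Q hnd hp
  have h3 : sig Q p *ᵥ y = sig Q p' *ᵥ y := by rw [h]
  rw [hact, sig_actP_mulVec, sig_mulVec, hy1, hy2, one_smul, zero_smul, sub_zero] at h3
  have h4 : (1 - M.det) • p.2 = 0 := by
    have h5 : p.2 = M.det • p.2 := by
      have := add_left_cancel h3
      rwa [sub_zero] at this
    rw [sub_smul, one_smul]
    exact sub_eq_zero.2 h5
  rcases smul_eq_zero.1 h4 with h5 | h5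
  · exact (sub_eq_zero.1 h5).symm
  · exact absurd h5 hp.ne_zero_right


/-- the set of independent, orthogonal pairs of singular vectors -/
noncomputable def pairs : Finset ((ι → F) × (ι → F)) := by
  classical
  exact Finset.univ.filter (fun p => Q p.1 = 0 ∧ Q p.2 = 0 ∧ B p.1 p.2 = 0 ∧ Indep p.1 p.2)

theorem mem_pairs (p : (ι → F) × (ι → F)) :
    p ∈ pairs Q ↔ Q p.1 = 0 ∧ Q p.2 = 0 ∧ B p.1 p.2 = 0 ∧ Indep p.1 p.2 := by
  classical
  rw [pairs]
  simp only [Finset.mem_filter, Finset.mem_univ, true_and]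

theorem actP_mem_pairs (M : Matrix (Fin 2) (Fin 2) F) (hM : M.det = 1) {p : (ι → F) × (ι → F)}
    (hp : p ∈ pairs Q) : actP M p ∈ pairs Q := by
  rw [mem_pairs] at hp ⊢
  obtain ⟨h1, h2, h3, h4⟩ := hp
  have h11 : B p.1 p.1 = 0 := by rw [Cfsg.Agent.Lib.H4.polar_self, h1, mul_zero]
  have h22 : B p.2 p.2 = 0 := by rw [Cfsg.Agent.Lib.H4.polar_self, h2, mul_zero]
  have h21 : B p.2 p.1 = 0 := by rw [QuadraticMap.polar_comm, h3]
  rw [Matrix.det_fin_two] at hM
  refine ⟨?_, ?_, ?_, ?_⟩
  · show Q (M 0 0 • p.1 + M 1 0 • p.2) = 0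
    rw [QuadraticMap.map_add (⇑Q), QuadraticMap.map_smul, QuadraticMap.map_smul, h1, h2,
      QuadraticMap.polar_smul_left, QuadraticMap.polar_smul_right, h3]
    simp
  · show Q (M 0 1 • p.1 + M 1 1 • p.2) = 0
    rw [QuadraticMap.map_add (⇑Q), QuadraticMap.map_smul, QuadraticMap.map_smul, h1, h2,
      QuadraticMap.polar_smul_left, QuadraticMap.polar_smul_right, h3]
    simp
  · show B (M 0 0 • p.1 + M 1 0 • p.2) (M 0 1 • p.1 + M 1 1 • p.2) = 0
    simp only [QuadraticMap.polar_add_left, QuadraticMap.polar_add_right,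
      QuadraticMap.polar_smul_left, QuadraticMap.polar_smul_right, h11, h22, h3, h21, smul_zero,
      add_zero]
  · intro s t hst
    have e : (s * M 0 0 + t * M 0 1) • p.1 + (s * M 1 0 + t * M 1 1) • p.2 = 0 := by
      rw [← hst]
      show _ = s • (M 0 0 • p.1 + M 1 0 • p.2) + t • (M 0 1 • p.1 + M 1 1 • p.2)
      module
    obtain ⟨e1, e2⟩ := h4 _ _ e
    constructor
    · linear_combination M 1 1 * e1 - M 0 1 * e2 - s * hM
    · linear_combination M 0 0 * e2 - M 1 0 * e1 - t * hM

theorem actP_injective {p : (ι → F) × (ι → F)} (hp : Indep p.1 p.2) :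
    Function.Injective (fun M : Matrix.SpecialLinearGroup (Fin 2) F => actP M.1 p) := by
  intro M M' h
  have h1 := congrArg Prod.fst h
  have h2 := congrArg Prod.snd h
  simp only [actP] at h1 h2
  have e1 : (M.1 0 0 - M'.1 0 0) • p.1 + (M.1 1 0 - M'.1 1 0) • p.2 = 0 := by
    rw [sub_smul, sub_smul]
    have : M.1 0 0 • p.1 + M.1 1 0 • p.2 - (M'.1 0 0 • p.1 + M'.1 1 0 • p.2) = 0 := sub_eq_zero.2 h1
    rw [← this]
    abel
  have e2 : (M.1 0 1 - M'.1 0 1) • p.1 + (M.1 1 1 - M'.1 1 1) • p.2 = 0 := by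
    rw [sub_smul, sub_smul]
    have : M.1 0 1 • p.1 + M.1 1 1 • p.2 - (M'.1 0 1 • p.1 + M'.1 1 1 • p.2) = 0 := sub_eq_zero.2 h2
    rw [← this]
    abel
  obtain ⟨a1, a2⟩ := hp _ _ e1
  obtain ⟨b1, b2⟩ := hp _ _ e2
  apply Subtype.ext
  ext i j
  fin_cases i <;> fin_cases j
  · exact sub_eq_zero.1 a1
  · exact sub_eq_zero.1 b1
  · exact sub_eq_zero.1 a2
  · exact sub_eq_zero.1 b2

/-- the fibres of `sig` on `pairs` have `|SL₂(F)|` elements -/
theorem card_fibre_sig (hnd : NonDeg Q) {p₀ : (ι → F) × (ι → F)} (hp₀ : p₀ ∈ pairs Q) :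
    ((pairs Q).filter (fun p => sig Q p = sig Q p₀)).card =
      Fintype.card F * (Fintype.card F ^ 2 - 1) := by
  classical
  have hI := ((mem_pairs Q p₀).1 hp₀).2.2.2
  have h1 : (pairs Q).filter (fun p => sig Q p = sig Q p₀) =
      Finset.univ.image (fun M : Matrix.SpecialLinearGroup (Fin 2) F => actP M.1 p₀) := by
    ext p
    simp only [Finset.mem_filter, Finset.mem_image, Finset.mem_univ, true_and]
    constructor
    · rintro ⟨hp, hs⟩
      obtain ⟨M, hM, hact⟩ := exists_actP_of_sig_eq Q hnd hI ((mem_pairs Q p).1 hp).2.2.2 hs.symm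
      exact ⟨⟨M, hM⟩, hact.symm⟩
    · rintro ⟨M, rfl⟩
      exact ⟨actP_mem_pairs Q M.1 M.2 hp₀, sig_actP Q M.1 M.2 p₀⟩
  rw [h1, Finset.card_image_of_injective _ (actP_injective hI), Finset.card_univ,
    ← Nat.card_eq_fintype_card, Cfsg.Agent.Lib.H12.card_SL2]

/-- (B): the number of Siegel matrices times `|SL₂(F)|` is the number of pairs -/
theorem card_image_sig (hnd : NonDeg Q) :
    ((pairs Q).image (sig Q)).card * (Fintype.card F * (Fintype.card F ^ 2 - 1)) =
      (pairs Q).card := by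
  classical
  have h1 := Finset.card_eq_sum_card_fiberwise (f := sig Q) (s := pairs Q)
    (t := (pairs Q).image (sig Q)) (fun p hp => Finset.mem_image_of_mem _ hp)
  have h2 : ∀ z ∈ (pairs Q).image (sig Q), ((pairs Q).filter (fun p => sig Q p = z)).card =
      Fintype.card F * (Fintype.card F ^ 2 - 1) := by
    intro z hz
    obtain ⟨p₀, hp₀, rfl⟩ := Finset.mem_image.1 hz
    exact card_fibre_sig Q hnd hp₀
  rw [h1, Finset.sum_congr rfl h2, Finset.sum_const, smul_eq_mul]


/-! ### Part C: the number of pairs -/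

/-- for `u ≠ 0`: `v` is not independent of `u` iff `v` is a multiple of `u` -/
theorem not_indep_iff {u : ι → F} (hu : u ≠ 0) (v : ι → F) : ¬ Indep u v ↔ ∃ s : F, v = s • u := by
  constructor
  · intro h
    unfold Indep at h
    push Not at h
    obtain ⟨s, t, hst, hne⟩ := h
    have ht : t ≠ 0 := by
      intro ht
      rw [ht, zero_smul, add_zero] at hst
      rcases smul_eq_zero.1 hst with h0 | h0
      · exact hne h0 ht
      · exact hu h0
    refine ⟨-s / t, ?_⟩
    have : t • v = -(s • u) := eq_neg_of_add_eq_zero_right hst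
    calc v = t⁻¹ • (t • v) := by rw [smul_smul, inv_mul_cancel₀ ht, one_smul]
      _ = (-s / t) • u := by rw [this, ← neg_smul, smul_smul]; congr 1; field_simp
  · rintro ⟨s, rfl⟩ h
    have := (h (-s) 1 (by rw [one_smul, neg_smul, neg_add_cancel])).2
    exact one_ne_zero this

/-- the second components of the pairs with first component `u` -/
theorem card_snd (u : ι → F) (hQu : Q u = 0) (hu : u ≠ 0) [DecidablePred (fun v : ι → F => Indep u v)] :
    (Finset.univ.filter (fun v : ι → F => Q v = 0 ∧ B u v = 0 ∧ Indep u v)).card + Fintype.card F =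
      (Finset.univ.filter (fun v : ι → F => Q v = 0 ∧ B u v = 0)).card := by
  classical
  have huu : B u u = 0 := by rw [Cfsg.Agent.Lib.H4.polar_self, hQu, mul_zero]
  have h1 : (Finset.univ.filter (fun v : ι → F => Q v = 0 ∧ B u v = 0)) =
      (Finset.univ.filter (fun v : ι → F => Q v = 0 ∧ B u v = 0 ∧ Indep u v)) ∪
        Finset.univ.image (fun s : F => s • u) := by
    ext v
    simp only [Finset.mem_filter, Finset.mem_univ, true_and, Finset.mem_union, Finset.mem_image]
    constructor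
    · rintro ⟨h1, h2⟩
      by_cases hI : Indep u v
      · exact Or.inl ⟨h1, h2, hI⟩
      · obtain ⟨s, hs⟩ := (not_indep_iff hu v).1 hI
        exact Or.inr ⟨s, hs.symm⟩
    · rintro (⟨h1, h2, -⟩ | ⟨s, rfl⟩)
      · exact ⟨h1, h2⟩
      · rw [QuadraticMap.map_smul, hQu, smul_zero, QuadraticMap.polar_smul_right, huu, smul_zero]
        exact ⟨rfl, rfl⟩
  have hdisj : Disjoint (Finset.univ.filter (fun v : ι → F => Q v = 0 ∧ B u v = 0 ∧ Indep u v))
      (Finset.univ.image (fun s : F => s • u)) := by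
    rw [Finset.disjoint_left]
    intro v hv hv'
    simp only [Finset.mem_filter, Finset.mem_univ, true_and] at hv
    obtain ⟨s, -, rfl⟩ := Finset.mem_image.1 hv'
    exact (not_indep_iff hu _).2 ⟨s, rfl⟩ hv.2.2
  have hinj : Function.Injective (fun s : F => s • u) := by
    intro s s' h
    simp only at h
    by_contra hne
    have : (s - s') • u = 0 := by rw [sub_smul, h, sub_self]
    rcases smul_eq_zero.1 this with h0 | h0
    · exact hne (sub_eq_zero.1 h0)
    · exact hu h0
  rw [h1, Finset.card_union_of_disjoint hdisj, Finset.card_image_of_injective _ hinj,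
    Finset.card_univ]

/-- (C): the number of pairs -/
theorem card_pairs (hnd : NonDeg Q) :
    ((Fintype.card F : ℤ) ^ 2) * ((pairs Q).card : ℤ) =
      (((Finset.univ.filter (fun v : ι → F => Q v = 0)).card : ℤ) - 1) *
        ((Fintype.card F : ℤ) ^ 2 * ((Finset.univ.filter (fun v : ι → F => Q v = 0)).card : ℤ) -
          ((Fintype.card F : ℤ) - 1) * (Fintype.card F : ℤ) ^ Fintype.card ι -
            (Fintype.card F : ℤ) ^ 3) := by
  classical
  set N₀ := (Finset.univ.filter (fun v : ι → F => Q v = 0)).card with hN₀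
  have h1 := Finset.card_eq_sum_card_fiberwise (f := fun p : (ι → F) × (ι → F) => p.1)
    (s := pairs Q) (t := (Finset.univ.filter (fun u : ι → F => Q u = 0 ∧ u ≠ 0))) (by
      intro p hp
      have := (mem_pairs Q p).1 hp
      exact Finset.mem_filter.2 ⟨Finset.mem_univ _, this.1, this.2.2.2.ne_zero_left⟩)
  -- each fibre
  have h2 : ∀ u ∈ Finset.univ.filter (fun u : ι → F => Q u = 0 ∧ u ≠ 0),
      ((Fintype.card F : ℤ) ^ 2) * (((pairs Q).filter (fun p => p.1 = u)).card : ℤ) =
        (Fintype.card F : ℤ) ^ 2 * (N₀ : ℤ) -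
          ((Fintype.card F : ℤ) - 1) * (Fintype.card F : ℤ) ^ Fintype.card ι -
            (Fintype.card F : ℤ) ^ 3 := by
    intro u hu
    simp only [Finset.mem_filter, Finset.mem_univ, true_and] at hu
    have e1 : ((pairs Q).filter (fun p => p.1 = u)).card =
        (Finset.univ.filter (fun v : ι → F => Q v = 0 ∧ B u v = 0 ∧ Indep u v)).card := by
      rw [← Finset.card_image_of_injective
        (Finset.univ.filter (fun v : ι → F => Q v = 0 ∧ B u v = 0 ∧ Indep u v))
        (f := fun v => (u, v)) (fun v v' h => (Prod.ext_iff.1 h).2)]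
      congr 1
      ext p
      simp only [Finset.mem_filter, Finset.mem_image, Finset.mem_univ, true_and, mem_pairs]
      constructor
      · rintro ⟨⟨-, h2, h3, h4⟩, rfl⟩
        exact ⟨p.2, ⟨h2, h3, h4⟩, rfl⟩
      · rintro ⟨v, ⟨h2, h3, h4⟩, rfl⟩
        exact ⟨⟨hu.1, h2, h3, h4⟩, rfl⟩
    have e2 := card_snd Q u hu.1 hu.2
    have e3 := card_sing_perp Q u hu.1 (hnd u hu.2)
    rw [e1]
    have hq : 1 ≤ Fintype.card F := Fintype.card_pos
    zify [hq] at e2 e3
    rw [← hN₀] at e3
    linear_combination (Fintype.card F : ℤ) ^ 2 * e2 + e3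
  -- the number of `u`
  have h3 : ((Finset.univ.filter (fun u : ι → F => Q u = 0 ∧ u ≠ 0)).card : ℤ) = (N₀ : ℤ) - 1 := by
    have : (Finset.univ.filter (fun u : ι → F => Q u = 0 ∧ u ≠ 0)) =
        (Finset.univ.filter (fun v : ι → F => Q v = 0)).erase 0 := by
      ext u
      simp only [Finset.mem_filter, Finset.mem_univ, true_and, Finset.mem_erase]
      exact and_comm
    rw [this, Finset.card_erase_of_mem (by simp), Nat.cast_sub (by
      apply Finset.card_pos.2
      exact ⟨0, by simp⟩)]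
    simp [hN₀]
  rw [h1, Nat.cast_sum, Finset.mul_sum, Finset.sum_congr rfl h2, Finset.sum_const, nsmul_eq_mul, h3]


/-! ### The plus-type form -/

section Plus

open Cfsg.Agent.Lib.H13

omit [Fintype F] [DecidableEq F] in
/-- the polar form against a basis vector `f_i` picks out the `e_i`-coordinate -/
theorem polar_single_inr (m : ℕ) (y : Fin m ⊕ Fin m → F) (i : Fin m) :
    QuadraticMap.polar (Cfsg.quadFormPlus m F) y (Pi.single (.inr i) 1) = y (.inl i) := by
  unfold QuadraticMap.polar Cfsg.quadFormPlus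
  rw [← Finset.sum_sub_distrib, ← Finset.sum_sub_distrib]
  rw [Finset.sum_eq_single i]
  · simp
    ring
  · intro j _ hji
    have h1 : (Pi.single (Sum.inr i : Fin m ⊕ Fin m) (1 : F) : Fin m ⊕ Fin m → F) (.inr j) = 0 := by
      rw [Pi.single_apply, if_neg]
      intro h
      exact hji (Sum.inr.inj h)
    have h2 : (Pi.single (Sum.inr i : Fin m ⊕ Fin m) (1 : F) : Fin m ⊕ Fin m → F) (.inl j) = 0 := by
      rw [Pi.single_apply, if_neg]
      intro h
      exact Sum.inl_ne_inr h
    simp [Pi.add_apply, h1, h2]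
  · intro h
    exact absurd (Finset.mem_univ i) h

omit [Fintype F] [DecidableEq F] in
theorem coe_plusQF' (n : ℕ) : ⇑(plusQF F n) = Cfsg.quadFormPlus n F := funext (plusQF_apply F n)

theorem nonDeg_plusQF (n : ℕ) : NonDeg (plusQF F n) := by
  intro u hu
  obtain ⟨j, hj⟩ : ∃ j, u j ≠ 0 := by
    by_contra h
    push Not at h
    exact hu (funext h)
  rcases j with i | i
  · refine ⟨Pi.single (.inr i) 1, ?_⟩
    rw [coe_plusQF', polar_single_inr]
    exact hj
  · refine ⟨Pi.single (.inl i) 1, ?_⟩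
    rw [coe_plusQF', polar_single_inl]
    exact hj

theorem card_sing_plusQF (n : ℕ) :
    (Finset.univ.filter (fun v : Fin n ⊕ Fin n → F => plusQF F n v = 0)).card = Nq F n (0 : F) := by
  rw [Nq]
  congr 1
  ext v
  simp only [Finset.mem_filter, Finset.mem_univ, true_and, plusQF_apply]

/-- the number of pairs for the plus-type form of dimension `2 (m + 2)` -/
theorem card_pairs_plus (m : ℕ) :
    (pairs (plusQF F (m + 2))).card =
      (Fintype.card F ^ (m + 2) - 1) * (Fintype.card F ^ (m + 1) + 1) *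
        (Fintype.card F * ((Fintype.card F ^ (m + 1) - 1) * (Fintype.card F ^ m + 1))) := by
  have hq : 1 ≤ Fintype.card F := Fintype.card_pos
  have h1 := card_pairs (plusQF F (m + 2)) (nonDeg_plusQF (m + 2))
  rw [card_sing_plusQF, Fintype.card_sum, Fintype.card_fin] at h1
  have h2 := Nq_zero_add (F := F) (m + 1)
  have hq0 : (Fintype.card F : ℤ) ≠ 0 := by exact_mod_cast (by omega : Fintype.card F ≠ 0)
  have e : ((Nq F (m + 2) (0 : F) : ℕ) : ℤ) = (Fintype.card F : ℤ) ^ (2 * (m + 1) + 1) +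
      (Fintype.card F : ℤ) ^ (m + 1 + 1) - (Fintype.card F : ℤ) ^ (m + 1) := by
    have : ((Nq F (m + 1 + 1) (0 : F) : ℕ) : ℤ) + (Fintype.card F : ℤ) ^ (m + 1) =
        (Fintype.card F : ℤ) ^ (2 * (m + 1) + 1) + (Fintype.card F : ℤ) ^ (m + 1 + 1) := by
      exact_mod_cast h2
    linear_combination this
  rw [e] at h1
  have h3 : ((pairs (plusQF F (m + 2))).card : ℤ) =
      ((Fintype.card F : ℤ) ^ (m + 2) - 1) * ((Fintype.card F : ℤ) ^ (m + 1) + 1) *
        ((Fintype.card F : ℤ) * (((Fintype.card F : ℤ) ^ (m + 1) - 1) *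
          ((Fintype.card F : ℤ) ^ m + 1))) := by
    have hq2 : ((Fintype.card F : ℤ) ^ 2) ≠ 0 := pow_ne_zero _ hq0
    apply mul_left_cancel₀ hq2
    rw [h1]
    ring
  have c1 : ((Fintype.card F ^ (m + 2) - 1 : ℕ) : ℤ) = (Fintype.card F : ℤ) ^ (m + 2) - 1 := by
    rw [Nat.cast_sub (Nat.one_le_pow _ _ hq)]
    simp
  have c2 : ((Fintype.card F ^ (m + 1) - 1 : ℕ) : ℤ) = (Fintype.card F : ℤ) ^ (m + 1) - 1 := by
    rw [Nat.cast_sub (Nat.one_le_pow _ _ hq)]
    simp
  have : ((pairs (plusQF F (m + 2))).card : ℤ) =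
      (((Fintype.card F ^ (m + 2) - 1) * (Fintype.card F ^ (m + 1) + 1) *
        (Fintype.card F * ((Fintype.card F ^ (m + 1) - 1) * (Fintype.card F ^ m + 1))) : ℕ) : ℤ) := by
    rw [h3]
    push_cast [c1, c2]
    ring
  exact_mod_cast this

/-- CNT: the number of long root (Siegel) matrices of the plus-type form of dimension `2 (m + 2)` -/
theorem card_longRoot_plus (m : ℕ) :
    ((pairs (plusQF F (m + 2))).image (sig (plusQF F (m + 2)))).card *
        (Fintype.card F * (Fintype.card F ^ 2 - 1)) =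
      (Fintype.card F ^ (m + 2) - 1) * (Fintype.card F ^ (m + 1) + 1) *
        (Fintype.card F * ((Fintype.card F ^ (m + 1) - 1) * (Fintype.card F ^ m + 1))) := by
  rw [card_image_sig (plusQF F (m + 2)) (nonDeg_plusQF (m + 2)), card_pairs_plus]

end Plus

end Cfsg.Agent.Lib.H9.OrthMin
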