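import Mathlib
import Cfsg.Agent.Lib.H12.OPMinDefs
import Cfsg.Agent.Lib.H11.OPlusTrans
import Cfsg.Agent.Lib.H9.OrthMinRoot

/-!
# S2345 piece CNT (twin, helper9): the number of long root elements of `Ω⁺_{2n}(q)`, `n = m + 3`

`card_class` of `tools/blueprints/S2345_sigs.lean`, on top of `Lib/H9/OrthMinRoot.card_longRoot_plus` (count of the Siegel
matrices through the free `SL₂`-orbits) and helper11's `OPlusTrans.trans_ts`.
-/

set_option autoImplicit false
set_option linter.unusedSimpArgs false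

namespace Cfsg.Agent.Lib.H9.OPMin

open Matrix Cfsg.Agent.Lib.H12.OPMin

variable {F : Type*} [Field F]

section General

variable {ι : Type} [Fintype ι] [DecidableEq ι] (Q : QuadraticForm F (ι → F))

theorem polar_mulVec' (M : Matrix ι ι F) (hM : ∀ x, Q (M *ᵥ x) = Q x) (x y : ι → F) :
    QuadraticMap.polar (⇑Q) (M *ᵥ x) (M *ᵥ y) = QuadraticMap.polar (⇑Q) x y := by
  unfold QuadraticMap.polar
  rw [← Matrix.mulVec_add, hM, hM, hM]

theorem siegel_conj' (M : Matrix ι ι F) (hM : ∀ x, Q (M *ᵥ x) = Q x) (u v : ι → F) (c : F) :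
    M * Cfsg.siegelMatrix (⇑Q) u v c = Cfsg.siegelMatrix (⇑Q) (M *ᵥ u) (M *ᵥ v) c * M := by
  rw [Matrix.ext_iff_mulVec]
  intro x
  rw [← Matrix.mulVec_mulVec, ← Matrix.mulVec_mulVec, Cfsg.Agent.Lib.H4.siegelMatrix_mulVec,
    Cfsg.Agent.Lib.H4.siegelMatrix_mulVec, polar_mulVec' Q M hM, polar_mulVec' Q M hM,
    Matrix.mulVec_sub, Matrix.mulVec_add, Matrix.mulVec_smul, Matrix.mulVec_smul]

end General


section Plus

open Cfsg.Agent.Lib.H9.OrthMin Cfsg.Agent.Lib.H13 Cfsg.Agent.Lib.H11.OPlusTrans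

variable {n : ℕ}

/-- the matrix of an element of `Ω` -/
def matOf (x : OmG n F) : Matrix (Fin n ⊕ Fin n) (Fin n ⊕ Fin n) F :=
  ((x : OG n F) : GL (Fin n ⊕ Fin n) F).1

theorem matOf_injective : Function.Injective (matOf (n := n) (F := F)) :=
  fun _ _ h => Subtype.ext (OG_ext h)

theorem matOf_mul (x y : OmG n F) : matOf (x * y) = matOf x * matOf y := rfl

theorem matOf_one : matOf (1 : OmG n F) = 1 := rfl

theorem matOf_mul_inv (x : OmG n F) : matOf x * matOf x⁻¹ = 1 := by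
  rw [← matOf_mul, mul_inv_cancel, matOf_one]

theorem matOf_preserves (x : OmG n F) (v : Fin n ⊕ Fin n → F) :
    plusQF F n (matOf x *ᵥ v) = plusQF F n v := by
  rw [plusQF_apply, plusQF_apply]
  exact (mem_isometryGroup_iff _).1 x.1.2 v

variable [Fintype F] [DecidableEq F]

/-- `u(X₀)` is the Siegel matrix of the pair `(e₁, e₀)` -/
theorem uMat_X0 (m : ℕ) :
    uMat (X0 m F).1 = sig (plusQF F (m + 3)) (eB F 1, eB F 0) := by
  rw [Matrix.ext_iff_mulVec]
  intro v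
  rw [sig_mulVec, polarQF_eB, polarQF_eB]
  funext i
  rcases i with j | j
  · simp only [uMat, X0, fromBlocks_mulVec, Sum.elim_inl, Pi.add_apply, Pi.sub_apply, Pi.smul_apply,
      one_mulVec, Function.comp_apply, eB_apply_inl, smul_eq_mul, sub_mulVec]
    have h1 : (single (0 : Fin (m + 3)) (1 : Fin (m + 3)) (1 : F) *ᵥ (v ∘ Sum.inr)) j =
        if j = 0 then v (Sum.inr 1) else 0 := by
      simp only [Matrix.mulVec, dotProduct, Matrix.single_apply, Function.comp_apply]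
      by_cases hj : j = 0
      · subst hj
        simp
      · have : ¬ (0 = j) := fun h => hj h.symm
        simp [hj, this]
    have h2 : ((single (0 : Fin (m + 3)) (1 : Fin (m + 3)) (1 : F))ᵀ *ᵥ (v ∘ Sum.inr)) j =
        if j = 1 then v (Sum.inr 0) else 0 := by
      simp only [Matrix.mulVec, dotProduct, Matrix.single_apply, Matrix.transpose_apply,
        Function.comp_apply]
      by_cases hj : j = 1
      · subst hj
        simp
      · have : ¬ (1 = j) := fun h => hj h.symm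
        simp [hj, this]
    rw [h1, h2]
    split_ifs <;> ring
  · simp only [uMat, X0, fromBlocks_mulVec, Sum.elim_inr, Pi.add_apply, Pi.sub_apply, Pi.smul_apply,
      one_mulVec, zero_mulVec, Function.comp_apply, eB_apply_inr, smul_eq_mul, mul_zero, zero_add,
      add_zero, sub_zero]


theorem matOf_inv_mul (x : OmG n F) : matOf x⁻¹ * matOf x = 1 := by
  rw [← matOf_mul, inv_mul_cancel, matOf_one]

/-- conjugating a Siegel matrix by an element of `Ω` -/
theorem matOf_conj_sig (g : OmG n F) (p : (Fin n ⊕ Fin n → F) × (Fin n ⊕ Fin n → F)) :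
    matOf g * sig (plusQF F n) p * matOf g⁻¹ =
      sig (plusQF F n) (matOf g *ᵥ p.1, matOf g *ᵥ p.2) := by
  have h := siegel_conj' (plusQF F n) (matOf g) (matOf_preserves g) p.1 p.2 1
  show matOf g * Cfsg.siegelMatrix (⇑(plusQF F n)) p.1 p.2 1 * matOf g⁻¹ = _
  rw [h, Matrix.mul_assoc, matOf_mul_inv, Matrix.mul_one]
  rfl

theorem mulVec_mem_pairs (g : OmG n F) {p : (Fin n ⊕ Fin n → F) × (Fin n ⊕ Fin n → F)}
    (hp : p ∈ pairs (plusQF F n)) : (matOf g *ᵥ p.1, matOf g *ᵥ p.2) ∈ pairs (plusQF F n) := by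
  rw [mem_pairs] at hp ⊢
  obtain ⟨h1, h2, h3, h4⟩ := hp
  refine ⟨?_, ?_, ?_, ?_⟩
  · show plusQF F n (matOf g *ᵥ p.1) = 0
    rw [matOf_preserves, h1]
  · show plusQF F n (matOf g *ᵥ p.2) = 0
    rw [matOf_preserves, h2]
  · show QuadraticMap.polar (⇑(plusQF F n)) (matOf g *ᵥ p.1) (matOf g *ᵥ p.2) = 0
    rw [polar_mulVec' (plusQF F n) (matOf g) (matOf_preserves g), h3]
  · intro s t hst
    apply h4 s t
    have e : matOf g *ᵥ (s • p.1 + t • p.2) = 0 := by
      rw [Matrix.mulVec_add, Matrix.mulVec_smul, Matrix.mulVec_smul]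
      exact hst
    have := congrArg (fun w => matOf g⁻¹ *ᵥ w) e
    simp only [Matrix.mulVec_mulVec, matOf_inv_mul, Matrix.one_mulVec, Matrix.mulVec_zero] at this
    exact this

theorem pair0_mem (m : ℕ) : ((eB F 1, eB F 0) : (Fin (m + 3) ⊕ Fin (m + 3) → F) × _) ∈
    pairs (plusQF F (m + 3)) := by
  rw [mem_pairs]
  refine ⟨plusQF_eB 1, plusQF_eB 0, ?_, ?_⟩
  · show QuadraticMap.polar (⇑(plusQF F (m + 3))) (eB F 1) (eB F 0) = 0
    rw [polarQF_eB, eB_apply_inr]
  · rw [indep_iff]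
    exact li_eB_eB 1 0 (by intro h; have := congrArg Fin.val h; simp at this)

end Plus

/-- CNT: the number of long root elements of `Ω⁺_{2n}(q)`, `n = m + 3` -/
theorem card_class [Fintype F] (m : ℕ) (hm : 1 ≤ m)
    (hX : uO (X0 m F) ∈ Cfsg.Omega F (Cfsg.quadFormPlus (m + 3) F))
    (K : Finset (OmG (m + 3) F))
    (hK : ∀ x : OmG (m + 3) F, x ∈ K ↔ ∃ g : OmG (m + 3) F, x = g * ⟨uO (X0 m F), hX⟩ * g⁻¹) :
    K.card * (Fintype.card F ^ 2 - 1) =
      (Fintype.card F ^ (m + 3) - 1) * (Fintype.card F ^ (m + 2) + 1) *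
        (Fintype.card F ^ (m + 2) - 1) * (Fintype.card F ^ (m + 1) + 1) := by
  classical
  set x₀ : OmG (m + 3) F := ⟨uO (X0 m F), hX⟩ with hx₀def
  have hx₀ : matOf x₀ =
      Cfsg.Agent.Lib.H9.OrthMin.sig (Cfsg.Agent.Lib.H13.plusQF F (m + 3))
        (Cfsg.Agent.Lib.H11.OPlusTrans.eB F 1, Cfsg.Agent.Lib.H11.OPlusTrans.eB F 0) := uMat_X0 m
  have himage : K.image matOf =
      (Cfsg.Agent.Lib.H9.OrthMin.pairs (Cfsg.Agent.Lib.H13.plusQF F (m + 3))).image
        (Cfsg.Agent.Lib.H9.OrthMin.sig (Cfsg.Agent.Lib.H13.plusQF F (m + 3))) := by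
    ext z
    simp only [Finset.mem_image]
    constructor
    · rintro ⟨x, hx, rfl⟩
      obtain ⟨g, rfl⟩ := (hK x).1 hx
      refine ⟨_, mulVec_mem_pairs g (pair0_mem m), ?_⟩
      rw [← matOf_conj_sig, ← hx₀]
      rfl
    · rintro ⟨p, hp, rfl⟩
      have hp' := (Cfsg.Agent.Lib.H9.OrthMin.mem_pairs _ p).1 hp
      have hp0 := (Cfsg.Agent.Lib.H9.OrthMin.mem_pairs _ _).1 (pair0_mem (F := F) m)
      obtain ⟨ω, hω, h1, h2⟩ := Cfsg.Agent.Lib.H11.OPlusTrans.trans_ts (F := F) (n := m + 3)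
        ⟨0, by omega⟩ ⟨1, by omega⟩ ⟨2, by omega⟩
        (by intro h; have := congrArg Fin.val h; simp at this)
        (by intro h; have := congrArg Fin.val h; simp at this)
        (by intro h; have := congrArg Fin.val h; simp at this)
        (Cfsg.Agent.Lib.H11.OPlusTrans.eB F 1) (Cfsg.Agent.Lib.H11.OPlusTrans.eB F 0) p.1 p.2
        (by rw [← Cfsg.Agent.Lib.H13.plusQF_apply]; exact hp0.1)
        (by rw [← Cfsg.Agent.Lib.H13.plusQF_apply]; exact hp0.2.1)
        (by rw [← Cfsg.Agent.Lib.H13.plusQF_apply]; exact hp'.1)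
        (by rw [← Cfsg.Agent.Lib.H13.plusQF_apply]; exact hp'.2.1)
        (by rw [← Cfsg.Agent.Lib.H9.OrthMin.coe_plusQF']; exact hp0.2.2.1)
        (by rw [← Cfsg.Agent.Lib.H9.OrthMin.coe_plusQF']; exact hp'.2.2.1)
        ((Cfsg.Agent.Lib.H9.OrthMin.indep_iff _ _).1 hp0.2.2.2)
        ((Cfsg.Agent.Lib.H9.OrthMin.indep_iff _ _).1 hp'.2.2.2)
      set g : OmG (m + 3) F := ⟨ω, hω⟩ with hg
      have hmem : g * x₀ * g⁻¹ ∈ K := (hK (g * x₀ * g⁻¹)).2 ⟨g, rfl⟩
      refine ⟨g * x₀ * g⁻¹, hmem, ?_⟩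
      rw [matOf_mul, matOf_mul, hx₀, matOf_conj_sig]
      have e1 : matOf g *ᵥ Cfsg.Agent.Lib.H11.OPlusTrans.eB F 1 = p.1 := h1
      have e2 : matOf g *ᵥ Cfsg.Agent.Lib.H11.OPlusTrans.eB F 0 = p.2 := h2
      rw [e1, e2]
  have hcard : K.card = (K.image matOf).card :=
    (Finset.card_image_of_injective K matOf_injective).symm
  have hmain : ((Cfsg.Agent.Lib.H9.OrthMin.pairs (Cfsg.Agent.Lib.H13.plusQF F (m + 3))).image
        (Cfsg.Agent.Lib.H9.OrthMin.sig (Cfsg.Agent.Lib.H13.plusQF F (m + 3)))).card *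
        (Fintype.card F * (Fintype.card F ^ 2 - 1)) =
      (Fintype.card F ^ (m + 3) - 1) * (Fintype.card F ^ (m + 2) + 1) *
        (Fintype.card F * ((Fintype.card F ^ (m + 2) - 1) * (Fintype.card F ^ (m + 1) + 1))) :=
    Cfsg.Agent.Lib.H9.OrthMin.card_longRoot_plus (F := F) (m + 1)
  rw [← himage, ← hcard] at hmain
  have hq : 0 < Fintype.card F := Fintype.card_pos
  apply Nat.eq_of_mul_eq_mul_left hq
  calc Fintype.card F * (K.card * (Fintype.card F ^ 2 - 1))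
      = K.card * (Fintype.card F * (Fintype.card F ^ 2 - 1)) := by ring
    _ = _ := by rw [hmain]; ring

end Cfsg.Agent.Lib.H9.OPMin
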