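import Mathlib
import Cfsg.Agent.Lib.H12.SLMinDefs

/-!
# S2332 farm-out, piece COMM0-3 (helper9)

For `q ∉ {2, 4}` the transvection `uG (s e₀) = [[1, s], [0, 1]]` of `GL (Fin 2) F` is the commutator of
`h₁ = diag (a, a⁻²)` (with `a ≠ 0`, `a ^ 3 ≠ 1`) and `h₂ = [[1, t], [0, 1]]`, `t = s / (a ^ 3 - 1)`; both fix
(up to the determinant twist) every vector fixed by the transvection.
-/

set_option autoImplicit false

namespace Cfsg.Agent.Lib.H9.SLMin

open Matrix Cfsg.Agent.Lib.H12.SLMin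

/-- a finite field with `q ∉ {2, 4}` elements has a non-zero element whose cube is not `1` -/
theorem exists_cube_ne_one {F : Type*} [Field F] [Fintype F] (h2 : Fintype.card F ≠ 2)
    (h4 : Fintype.card F ≠ 4) : ∃ a : F, a ≠ 0 ∧ a ^ 3 ≠ 1 := by
  classical
  obtain ⟨g, hg⟩ := IsCyclic.exists_generator (α := Fˣ)
  refine ⟨(g : F), g.ne_zero, ?_⟩
  intro h
  have h3 : g ^ 3 = 1 := by
    apply Units.ext
    rw [Units.val_pow_eq_pow_val, Units.val_one]
    exact h
  have hord : orderOf g = Fintype.card Fˣ := by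
    rw [← Nat.card_eq_fintype_card]
    exact orderOf_eq_card_of_forall_mem_zpowers hg
  have hdvd : orderOf g ∣ 3 := orderOf_dvd_of_pow_eq_one h3
  rw [hord, Fintype.card_units] at hdvd
  have h13 : Fintype.card F - 1 = 1 ∨ Fintype.card F - 1 = 3 :=
    (Nat.dvd_prime Nat.prime_three).mp hdvd
  have hpos : 1 < Fintype.card F := Fintype.one_lt_card
  omega

theorem uG_single_coe {F : Type*} [Field F] (s : F) :
    ((uG (Pi.single (0 : Fin 1) s) : GL (Fin 2) F) : Matrix (Fin 2) (Fin 2) F) = !![1, s; 0, 1] := by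
  have h1 : (1 : Fin 2) = Fin.succ 0 := rfl
  ext i j
  fin_cases i <;> fin_cases j
  · simp [uG_coe]
  · show bm (1 : F) (Pi.single (0 : Fin 1) s) 0 1 0 1 = s
    rw [h1, bm_zero_succ]; simp
  · show bm (1 : F) (Pi.single (0 : Fin 1) s) 0 1 1 0 = 0
    rw [h1, bm_succ_zero]; simp
  · show bm (1 : F) (Pi.single (0 : Fin 1) s) 0 1 1 1 = 1
    rw [h1, bm_succ_succ]; simp

theorem two_mat_ext {F : Type*} [Field F] {a b c d a' b' c' d' : F} (h1 : a = a') (h2 : b = b')
    (h3 : c = c') (h4 : d = d') : (!![a, b; c, d] : Matrix (Fin 2) (Fin 2) F) = !![a', b'; c', d'] := by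
  rw [h1, h2, h3, h4]

/-- `n = 3`, `q ∉ {2, 4}` -/
theorem comm0_3 {F : Type*} [Field F] [Fintype F] (h2 : Fintype.card F ≠ 2) (h4 : Fintype.card F ≠ 4)
    (s : F) (v : Fin 2 → F)
    (hfix : ((uG (Pi.single (0 : Fin 1) s) : GL (Fin 2) F) : Matrix (Fin 2) (Fin 2) F) *ᵥ v = v) :
    ∃ h₁ h₂ : GL (Fin 2) F,
      (h₁ : Matrix (Fin 2) (Fin 2) F).det • ((h₁ : Matrix (Fin 2) (Fin 2) F) *ᵥ v) = v ∧
      (h₂ : Matrix (Fin 2) (Fin 2) F).det • ((h₂ : Matrix (Fin 2) (Fin 2) F) *ᵥ v) = v ∧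
      uG (Pi.single (0 : Fin 1) s) = h₁ * h₂ * h₁⁻¹ * h₂⁻¹ := by
  classical
  by_cases hs : s = 0
  · subst hs
    refine ⟨1, 1, by simp, by simp, ?_⟩
    rw [Pi.single_zero, uG_zero]
    simp
  · have hv1 : v 1 = 0 := by
      have h0 := congrFun hfix 0
      rw [uG_single_coe] at h0
      simp [dotProduct, Fin.sum_univ_two] at h0
      exact h0.resolve_left hs
    obtain ⟨a, ha0, ha3⟩ := exists_cube_ne_one h2 h4
    have hd : a ^ 3 - 1 ≠ 0 := sub_ne_zero.mpr ha3
    have ha2 : a ^ 2 ≠ 0 := pow_ne_zero 2 ha0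
    set t : F := s / (a ^ 3 - 1) with ht
    have hts : t * (a ^ 3 - 1) = s := by rw [ht]; field_simp
    let h₁ : GL (Fin 2) F := ⟨!![a, 0; 0, (a ^ 2)⁻¹], !![a⁻¹, 0; 0, a ^ 2],
      by rw [Matrix.mul_fin_two, Matrix.one_fin_two]
         exact two_mat_ext (by field_simp <;> simp) (by simp) (by simp) (by field_simp <;> simp),
      by rw [Matrix.mul_fin_two, Matrix.one_fin_two]
         exact two_mat_ext (by field_simp <;> simp) (by simp) (by simp) (by field_simp <;> simp)⟩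
    let h₂ : GL (Fin 2) F := ⟨!![1, t; 0, 1], !![1, -t; 0, 1],
      by rw [Matrix.mul_fin_two, Matrix.one_fin_two]
         exact two_mat_ext (by ring) (by ring) (by ring) (by ring),
      by rw [Matrix.mul_fin_two, Matrix.one_fin_two]
         exact two_mat_ext (by ring) (by ring) (by ring) (by ring)⟩
    refine ⟨h₁, h₂, ?_, ?_, ?_⟩
    · show (!![a, 0; 0, (a ^ 2)⁻¹] : Matrix (Fin 2) (Fin 2) F).det •
        ((!![a, 0; 0, (a ^ 2)⁻¹] : Matrix (Fin 2) (Fin 2) F) *ᵥ v) = v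
      rw [Matrix.det_fin_two_of]
      funext i
      fin_cases i
      · simp [dotProduct, Fin.sum_univ_two]
        field_simp
      · simp [dotProduct, Fin.sum_univ_two, hv1]
    · show (!![1, t; 0, 1] : Matrix (Fin 2) (Fin 2) F).det •
        ((!![1, t; 0, 1] : Matrix (Fin 2) (Fin 2) F) *ᵥ v) = v
      rw [Matrix.det_fin_two_of]
      funext i
      fin_cases i
      · simp [dotProduct, Fin.sum_univ_two, hv1]
      · simp [dotProduct, Fin.sum_univ_two]
    · apply Units.ext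
      show ((uG (Pi.single (0 : Fin 1) s) : GL (Fin 2) F) : Matrix (Fin 2) (Fin 2) F) =
        (!![a, 0; 0, (a ^ 2)⁻¹] : Matrix (Fin 2) (Fin 2) F) * !![1, t; 0, 1] * !![a⁻¹, 0; 0, a ^ 2] *
          !![1, -t; 0, 1]
      rw [uG_single_coe, Matrix.mul_fin_two, Matrix.mul_fin_two, Matrix.mul_fin_two]
      refine two_mat_ext ?_ ?_ ?_ ?_
      · field_simp; ring
      · rw [← hts]; field_simp; ring
      · simp
      · field_simp; ring

end Cfsg.Agent.Lib.H9.SLMin
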