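/-
REE-F4b (helper9, for helper12's REE TORI project): the non-trivial elements of order dividing `(q+1)/4`
in an abstract Ree system, given the order of the normaliser of a cyclic subgroup of order `(q+1)/4`
(the conclusion of REE-F4a).
-/
import Cfsg.Agent.Lib.H12.ReeU5
import Cfsg.Agent.Lib.H29.ReeB2

set_option autoImplicit false
set_option linter.unusedSectionVars false
set_option linter.unusedVariables false

namespace Cfsg.Agent.Lib.H9.Ree

open Cfsg.Agent.Lib.H12.ReeC Cfsg.Agent.Lib.H12.ReeC.RSys Cfsg.Agent.Lib.H12.ReeT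

variable {G K : Type*} [Group G] [Field K] {R : RSys G K} [Fintype K] [Finite G]

/-- a prime divisor of `e₂ = (q+1)/4` does not divide the index of a subgroup of order `q + 1` -/
theorem f4b_not_dvd_index {q : ℕ} (D : R.ReeData q) (S : Subgroup G) (hS : Nat.card S = q + 1)
    (s : ℕ) (hs : s.Prime) (hse : s ∣ (q + 1) / 4) : ¬ s ∣ S.index := by
  intro hsi
  have h1 := S.card_mul_index
  have hc := D.card_eq'
  have h4e := D.e4
  have c1 := D.coprime_e1_e2
  have c2 := D.coprime_e2_N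
  have c3 := D.coprime_e2_q
  have he0 : 0 < (q + 1) / 4 := by have := D.hq8; omega
  generalize (q + 1) / 4 = E at *
  rw [hS, hc, h4e] at h1
  -- index = e₁ * N * (2 q ^ 3)
  have h2 : S.index = (q - 1) / 2 * (q ^ 2 - q + 1) * (2 * q ^ 3) := by
    have h3 : E * (4 * S.index) =
        E * (4 * ((q - 1) / 2 * (q ^ 2 - q + 1) * (2 * q ^ 3))) := by
      calc E * (4 * S.index) = 4 * E * S.index := by ring
        _ = (q - 1) / 2 * E * (q ^ 2 - q + 1) * (8 * q ^ 3) := h1
        _ = _ := by ring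
    have h4 := Nat.eq_of_mul_eq_mul_left he0 h3
    exact Nat.eq_of_mul_eq_mul_left (by norm_num) h4
  rw [h2] at hsi
  have hcop : ∀ m : ℕ, Nat.Coprime E m → ¬ s ∣ m := by
    intro m hm hsm
    have := Nat.dvd_gcd hse hsm
    rw [hm] at this
    exact hs.one_lt.ne' (Nat.dvd_one.mp this)
  rcases (Nat.Prime.dvd_mul hs).mp hsi with h | h
  · rcases (Nat.Prime.dvd_mul hs).mp h with h | h
    · exact hcop _ c1.symm h
    · exact hcop _ c2 h
  · exact hcop _ c3 (dvd_trans h ⟨4, by ring⟩)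

/-- **REE-F4b** -/
theorem card_nonsplit_elements {q : ℕ} (D : R.ReeData q) (hq27 : 27 ≤ q)
    (hnorm : ∀ A : Subgroup G, IsCyclic A → Nat.card A = (q + 1) / 4 →
      Nat.card (Subgroup.normalizer (A : Set G)) = 6 * (q + 1)) :
    Nat.card {y : G // y ≠ 1 ∧ y ^ ((q + 1) / 4) = 1} * (6 * (q + 1)) = Nat.card G * ((q + 1) / 4 - 1) := by
  classical
  set e := (q + 1) / 4 with he
  have he7 : 7 ≤ e := by omega
  -- an element of prime order dividing `e`
  have hedvd : e ∣ Nat.card G := by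
    rw [D.card_eq']
    exact ⟨(q - 1) / 2 * (q ^ 2 - q + 1) * (8 * q ^ 3), by ring⟩
  obtain ⟨y₀, hy₀1, hy₀e⟩ : ∃ y₀ : G, y₀ ≠ 1 ∧ y₀ ^ e = 1 := by
    have hp : (e.minFac).Prime := Nat.minFac_prime (by omega)
    have : Fact (e.minFac).Prime := ⟨hp⟩
    obtain ⟨y, hy⟩ := exists_prime_orderOf_dvd_card' e.minFac (dvd_trans (Nat.minFac_dvd e) hedvd)
    refine ⟨y, ?_, ?_⟩
    · intro h
      rw [h, orderOf_one] at hy
      exact hp.one_lt.ne' hy.symm
    · apply orderOf_dvd_iff_pow_eq_one.mp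
      rw [hy]
      exact Nat.minFac_dvd e
  obtain ⟨A₀, hcyc, hcardA, hle, hmemA⟩ := D.tor_cyclic y₀ hy₀1 hy₀e
  obtain ⟨hcardC, hcomm⟩ := D.tor_centralizer y₀ hy₀1 hy₀e
  set C₀ : Subgroup G := Subgroup.centralizer {y₀} with hC₀
  -- elements of `A₀` have `e`-th power one
  have hpowA : ∀ u ∈ A₀, u ^ e = 1 := by
    intro u hu
    have h1 : (⟨u, hu⟩ : A₀) ^ Nat.card A₀ = 1 := pow_card_eq_one'
    rw [hcardA] at h1
    have := congrArg Subtype.val h1
    simpa using this
  have hmem : ∀ u : G, u ∈ A₀ ↔ u ∈ C₀ ∧ u ^ e = 1 :=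
    fun u => ⟨fun hu => ⟨hle hu, hpowA u hu⟩, fun hu => hmemA u hu.1 hu.2⟩
  -- (K) the centraliser of a non-trivial `e`-torsion element of `C₀`
  have hK : ∀ w ∈ C₀, w ≠ 1 → w ^ e = 1 → Subgroup.centralizer {w} = C₀ := by
    intro w hw hw1 hwe
    symm
    apply Subgroup.eq_of_le_of_card_ge
    · intro u hu
      rw [Subgroup.mem_centralizer_singleton_iff]
      exact hcomm u hu w hw
    · rw [(D.tor_centralizer w hw1 hwe).1, hcardC]
  -- conjugation and powers
  have hconj_pow : ∀ (g u : G) (k : ℕ), (g * u * g⁻¹) ^ k = g * u ^ k * g⁻¹ := by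
    intro g u k
    exact conj_pow
  -- (i) every non-trivial `e`-torsion element is conjugate into `A₀`
  have hi : ∀ y : G, y ≠ 1 → y ^ e = 1 → ∃ g : G, g⁻¹ * y * g ∈ A₀ := by
    intro y hy1 hye
    have ho1 : orderOf y ≠ 1 := fun h => hy1 (orderOf_eq_one_iff.mp h)
    have hoe : orderOf y ∣ e := orderOf_dvd_of_pow_eq_one hye
    have hsp : (orderOf y).minFac.Prime := Nat.minFac_prime ho1
    have hso : (orderOf y).minFac ∣ orderOf y := Nat.minFac_dvd _
    have : Fact (orderOf y).minFac.Prime := ⟨hsp⟩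
    set s := (orderOf y).minFac with hs
    set z := y ^ (orderOf y / s) with hz
    have hzs : z ^ s = 1 := by
      rw [hz, ← pow_mul, Nat.div_mul_cancel hso, pow_orderOf_eq_one]
    have hz1 : z ≠ 1 := by
      intro h
      have h1 := orderOf_dvd_of_pow_eq_one h
      have hopos : 0 < orderOf y := Nat.pos_of_ne_zero (fun h0 => by
        rw [h0, zero_dvd_iff] at hoe; omega)
      have h2 : orderOf y / s < orderOf y := Nat.div_lt_self hopos hsp.one_lt
      have h3 : 0 < orderOf y / s := Nat.div_pos (Nat.le_of_dvd hopos hso) hsp.pos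
      exact absurd (Nat.le_of_dvd h3 h1) (by omega)
    have hze : z ^ e = 1 := by
      rw [hz, ← pow_mul, mul_comm, pow_mul, hye, one_pow]
    have hidx : ¬ s ∣ C₀.index := f4b_not_dvd_index D C₀ hcardC s hsp (dvd_trans hso hoe)
    obtain ⟨g, hg⟩ := exists_conj_mem_of_prime C₀ z s hzs hidx
    have hw1 : g⁻¹ * z * g ≠ 1 := conj_ne_one g z hz1
    have hwe : (g⁻¹ * z * g) ^ e = 1 := conj_pow_eq_one g z e hze
    have hCw := hK _ hg hw1 hwe
    refine ⟨g, (hmem _).mpr ⟨?_, conj_pow_eq_one g y e hye⟩⟩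
    rw [← hCw, Subgroup.mem_centralizer_singleton_iff]
    have hyz : y * z = z * y := by
      rw [hz, ← pow_succ', ← pow_succ]
    calc g⁻¹ * y * g * (g⁻¹ * z * g) = g⁻¹ * (y * z) * g := by group
      _ = g⁻¹ * (z * y) * g := by rw [hyz]
      _ = _ := by group
  -- (ii) `A₀` is TI relative to its normaliser
  have hTI : ∀ g : G, ∀ y ∈ A₀, y ≠ 1 → g * y * g⁻¹ ∈ A₀ → g ∈ Subgroup.normalizer (A₀ : Set G) := by
    intro g y hy hy1 hgy
    have hgy1 : g * y * g⁻¹ ≠ 1 := by
      intro h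
      apply hy1
      have : y = g⁻¹ * (g * y * g⁻¹) * g := by group
      rw [this, h]; group
    have h1 := hK y (hle hy) hy1 (hpowA y hy)
    have h2 := hK _ (hle hgy) hgy1 (hpowA _ hgy)
    -- `g` normalises `C₀`
    have hgC : ∀ u : G, u ∈ C₀ ↔ g * u * g⁻¹ ∈ C₀ := by
      intro u
      constructor
      · intro hu
        rw [← h2, Subgroup.mem_centralizer_singleton_iff]
        rw [← h1, Subgroup.mem_centralizer_singleton_iff] at hu
        calc g * u * g⁻¹ * (g * y * g⁻¹) = g * (u * y) * g⁻¹ := by group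
          _ = g * (y * u) * g⁻¹ := by rw [hu]
          _ = _ := by group
      · intro hu
        rw [← h1, Subgroup.mem_centralizer_singleton_iff]
        rw [← h2, Subgroup.mem_centralizer_singleton_iff] at hu
        calc u * y = g⁻¹ * (g * u * g⁻¹ * (g * y * g⁻¹)) * g := by group
          _ = g⁻¹ * (g * y * g⁻¹ * (g * u * g⁻¹)) * g := by rw [hu]
          _ = _ := by group
    rw [Subgroup.mem_normalizer_iff]
    intro u
    rw [hmem, hmem, hconj_pow]
    constructor
    · rintro ⟨hu, hue⟩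
      exact ⟨(hgC u).mp hu, by rw [hue]; group⟩
    · rintro ⟨hu, hue⟩
      refine ⟨(hgC u).mpr hu, ?_⟩
      have : u ^ e = g⁻¹ * (g * u ^ e * g⁻¹) * g := by group
      rw [this, hue]; group
  -- (iii) the count
  have hcount := Cfsg.Agent.Lib.H29.Ree.card_conj_cover A₀ hTI
  rw [hnorm A₀ hcyc hcardA, hcardA] at hcount
  rw [← hcount]
  congr 1
  apply Nat.card_congr
  refine Equiv.subtypeEquivRight ?_
  intro y
  constructor
  · rintro ⟨hy1, hye⟩
    exact ⟨hy1, hi y hy1 hye⟩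
  · rintro ⟨hy1, g, hg⟩
    refine ⟨hy1, ?_⟩
    have h1 := hpowA _ hg
    have e1 : g⁻¹ * y * g = g⁻¹ * y * g⁻¹⁻¹ := by rw [inv_inv]
    rw [e1, hconj_pow, inv_inv] at h1
    have : y ^ e = g * (g⁻¹ * y ^ e * g) * g⁻¹ := by group
    rw [this, h1]; group

end Cfsg.Agent.Lib.H9.Ree
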