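import Mathlib
import Cfsg.Agent.S0942
import Cfsg.Agent.Lib.H9.SHLOC
import Cfsg.Agent.Lib.H11.SHCSG
import Cfsg.Agent.Lib.H24.CharSchur

/-!
# S3017 (Shult), glue (helper9): the LOC output in character form

`locData_of_loc`: helper9's `loc_main` (group side) plus the landed `S0942` give helper11's
`LocData 2 H (principalBlock M G)`.
-/

set_option autoImplicit false

namespace Cfsg.Agent.Lib.H9.SH

open Cfsg

variable {G : Type*} [Group G] [Finite G] {H : Subgroup G}

/-- the induction hypothesis of S3017 in the centralizers of the nontrivial elements of `H`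
gives the LOC data in character form (for the principal 2-block). -/
theorem locData_of_loc (hH2 : IsPGroup 2 H) (hHab : IsMulCommutative ↥H)
    (hcl : Cfsg.IsExtremelyClosed H)
    (hIH : ∀ h ∈ H, h ≠ 1 → Subgroup.normalizer
        ((H.subgroupOf (Subgroup.centralizer ({h} : Set G)) :
          Subgroup ↥(Subgroup.centralizer ({h} : Set G))) :
          Set ↥(Subgroup.centralizer ({h} : Set G))) ⊔
        Cfsg.oddCore ↥(Subgroup.centralizer ({h} : Set G)) = ⊤)
    (M : Ideal Cfsg.AlgInt) (hM : Cfsg.IsPModular 2 M) :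
    Cfsg.Agent.Lib.H11.SH.LocData 2 H (Cfsg.principalBlock M G) := by
  have : Fact (Nat.Prime 2) := ⟨Nat.prime_two⟩
  intro g
  obtain ⟨k, _, ν, hν, _, hloc⟩ := loc_main hH2 hHab hcl hIH g
  refine ⟨ν, hν, ?_⟩
  intro a ha b hb
  obtain ⟨h1, h2⟩ := hloc a ha b hb
  have hb' : ν * b * ν⁻¹ ∈ H := ((Subgroup.mem_normalizer_iff.1 hν) b).1 hb
  have hu : a * (ν * b * ν⁻¹) ∈ H := H.mul_mem ha hb'
  refine ⟨?_, ?_⟩
  · intro hne χ hχ
    obtain ⟨x, w, hw, hx⟩ := h1 hne
    have hcf := Cfsg.Agent.Lib.H24.isClassFunction_irr χ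
    have hord : ∃ n : ℕ, orderOf (a * (ν * b * ν⁻¹)) = 2 ^ n := by
      obtain ⟨n, hn⟩ := hH2 ⟨_, hu⟩
      have h3 : (a * (ν * b * ν⁻¹)) ^ 2 ^ n = 1 := by
        have := congrArg Subtype.val hn
        simpa using this
      obtain ⟨m, _, hm⟩ := (Nat.dvd_prime_pow Nat.prime_two).1 (orderOf_dvd_of_pow_eq_one h3)
      exact ⟨m, hm⟩
    have h4 := Cfsg.Agent.S0942.result 2 M hM (a * (ν * b * ν⁻¹)) hord w hw χ hχ
    rw [← hcf (a * (g * b * g⁻¹)) x, hx, h4]
  · intro heq hdvd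
    have hodd := h2 heq
    exact (Nat.not_even_iff_odd.2 hodd) (even_iff_two_dvd.2 hdvd)

end Cfsg.Agent.Lib.H9.SH
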