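import Mathlib
import Cfsg.Agent.Lib.H9.SqCommA
import Cfsg.Agent.Lib.H9.SylSymA

set_option autoImplicit false

/-!
# Generation by involutions: an abstract criterion

Let `S` be a set of involutions of a group `G`, closed under conjugation by its own elements, on
which a homomorphism `det` takes a constant value `z ≠ 1` with `z * z = 1`, and let `chi` be a
homomorphism into `ℤˣ`.  Every element of `closure S` killed by `det` and `chi` is a product of
pairs `s * t` with `chi s = chi t` (`mem_closure_pairs`).  With a subgroup `T` generated by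
involutions and lying in the common kernel `Om`, and a supply of commuting conjugates, this shows
that `(closure S ⊔ T) ⊓ Om` is generated by involutions (`genIn_of_data`).
-/

namespace Cfsg.Agent.Lib.H9.OmSyl

open Cfsg.Agent.Lib.H9.SylSym

variable {G M : Type*} [Group G] [Group M]

theorem units_ne_mul (a b : ℤˣ) (h : a ≠ b) : a * b ≠ 1 := by
  rcases Int.units_eq_one_or a with rfl | rfl <;> rcases Int.units_eq_one_or b with rfl | rfl
  · exact absurd rfl h
  · decide
  · decide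
  · exact absurd rfl h

theorem units_eq_mul (a b : ℤˣ) (h : a = b) : a * b = 1 := by
  subst h
  exact Int.units_mul_self a

theorem units_third : ∀ a b c : ℤˣ, a ≠ b → b ≠ c → a = c := by decide

/-- the pair subgroup -/
def pairSet (S : Set G) (chi : G →* ℤˣ) : Set G :=
  {x | ∃ s ∈ S, ∃ t ∈ S, chi s = chi t ∧ x = s * t}

theorem mem_closure_pairs (S : Set G) (det : G →* M) (chi : G →* ℤˣ) (z : M) (hz : z ≠ 1)
    (hz2 : z * z = 1)
    (hinv : ∀ s ∈ S, s * s = 1) (hdet : ∀ s ∈ S, det s = z)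
    (hconj : ∀ s ∈ S, ∀ t ∈ S, s * t * s⁻¹ ∈ S)
    (b : G) (hb : b ∈ Subgroup.closure S) (hb1 : det b = 1) (hb2 : chi b = 1) :
    b ∈ Subgroup.closure (pairSet S chi) := by
  have hinv' : ∀ s ∈ S, s⁻¹ = s := fun s hs => inv_eq_of_mul_eq_one_right (hinv s hs)
  have hchiconj : ∀ s t : G, chi (s * t * s⁻¹) = chi t := by
    intro s t
    rw [map_mul, map_mul, map_inv, mul_comm, ← mul_assoc, inv_mul_cancel, one_mul]
  -- the coset representatives
  let W : Set G := {w | w = 1 ∨ w ∈ S ∨ ∃ t ∈ S, ∃ s ∈ S, chi t ≠ chi s ∧ w = t * s}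
  have hpair : ∀ s ∈ S, ∀ t ∈ S, chi s = chi t → s * t ∈ Subgroup.closure (pairSet S chi) :=
    fun s hs t ht h => Subgroup.subset_closure ⟨s, hs, t, ht, h, rfl⟩
  have key : ∀ x ∈ Subgroup.closure S, ∃ e ∈ Subgroup.closure (pairSet S chi), ∃ w ∈ W,
      x = e * w := by
    intro x hx
    have step : ∀ x, (∃ e ∈ Subgroup.closure (pairSet S chi), ∃ w ∈ W, x = e * w) →
        ∀ y ∈ S, ∃ e ∈ Subgroup.closure (pairSet S chi), ∃ w ∈ W, x * y = e * w := by
      rintro x ⟨e, he, w, hw, rfl⟩ y hy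
      rcases hw with rfl | hw | ⟨t, ht, s, hs, hts, rfl⟩
      · exact ⟨e, he, y, Or.inr (Or.inl hy), by rw [mul_one]⟩
      · by_cases hc : chi w = chi y
        · exact ⟨e * (w * y), mul_mem he (hpair w hw y hy hc), 1, Or.inl rfl, by
            rw [mul_one, mul_assoc]⟩
        · exact ⟨e, he, w * y, Or.inr (Or.inr ⟨w, hw, y, hy, hc, rfl⟩), by rw [mul_assoc]⟩
      · by_cases hc : chi s = chi y
        · -- t s y = (t s y t⁻¹) t
          refine ⟨e * ((t * s * t⁻¹) * (t * y * t⁻¹)), mul_mem he (hpair _ (hconj t ht s hs) _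
            (hconj t ht y hy) ?_), t, Or.inr (Or.inl ht), ?_⟩
          · rw [hchiconj, hchiconj, hc]
          · group
        · -- chi y = chi t
          have hty : chi t = chi y := units_third _ _ _ hts hc
          refine ⟨e * (t * y), mul_mem he (hpair t ht y hy hty), y * s * y⁻¹,
            Or.inr (Or.inl (hconj y hy s hs)), ?_⟩
          have hyy : y * y = 1 := hinv y hy
          have : t * s * y = t * (y * y) * s * y := by rw [hyy, mul_one]
          rw [mul_assoc e, this, hinv' y hy]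
          group
    induction hx using Subgroup.closure_induction_right with
    | one => exact ⟨1, one_mem _, 1, Or.inl rfl, by rw [mul_one]⟩
    | mul_right x hx y hy ih => exact step x ih y hy
    | mul_inv_cancel x hx y hy ih =>
      rw [hinv' y hy]
      exact step x ih y hy
  obtain ⟨e, he, w, hw, rfl⟩ := key b hb
  have hdete : det e = 1 ∧ chi e = 1 := by
    have : Subgroup.closure (pairSet S chi) ≤ det.ker ⊓ chi.ker := by
      rw [Subgroup.closure_le]
      rintro x ⟨s, hs, t, ht, hst, rfl⟩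
      refine ⟨?_, ?_⟩
      · show det (s * t) = 1
        rw [map_mul, hdet s hs, hdet t ht, hz2]
      · show chi (s * t) = 1
        rw [map_mul]
        exact units_eq_mul _ _ hst
    exact this he
  rw [map_mul, hdete.1, one_mul] at hb1
  rw [map_mul, hdete.2, one_mul] at hb2
  rcases hw with rfl | hw | ⟨t, ht, s, hs, hts, rfl⟩
  · rwa [mul_one]
  · exfalso
    rw [hdet w hw] at hb1
    exact hz hb1
  · exfalso
    rw [map_mul] at hb2
    exact units_ne_mul _ _ hts hb2

theorem conj_mem_closure (S : Set G) (y : G) (h : ∀ s ∈ S, y * s * y⁻¹ ∈ S) (b : G)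
    (hb : b ∈ Subgroup.closure S) : y * b * y⁻¹ ∈ Subgroup.closure S := by
  induction hb using Subgroup.closure_induction with
  | mem x hx => exact Subgroup.subset_closure (h x hx)
  | one => simp
  | mul a c _ _ ha hc =>
    have : y * (a * c) * y⁻¹ = (y * a * y⁻¹) * (y * c * y⁻¹) := by group
    rw [this]
    exact mul_mem ha hc
  | inv a _ ha =>
    have : y * a⁻¹ * y⁻¹ = (y * a * y⁻¹)⁻¹ := by group
    rw [this]
    exact inv_mem ha

theorem mem_sup_decomp (S : Set G) (T : Subgroup G)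
    (hTS : ∀ τ ∈ T, ∀ s ∈ S, τ * s * τ⁻¹ ∈ S) (x : G) (hx : x ∈ Subgroup.closure S ⊔ T) :
    ∃ b ∈ Subgroup.closure S, ∃ τ ∈ T, x = b * τ := by
  rw [Subgroup.sup_eq_closure] at hx
  induction hx using Subgroup.closure_induction with
  | mem x hx =>
    rcases hx with hx | hx
    · exact ⟨x, hx, 1, one_mem _, by rw [mul_one]⟩
    · exact ⟨1, one_mem _, x, hx, by rw [one_mul]⟩
  | one => exact ⟨1, one_mem _, 1, one_mem _, by rw [mul_one]⟩
  | mul a c _ _ ha hc =>
    obtain ⟨b, hb, τ, hτ, rfl⟩ := ha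
    obtain ⟨b', hb', τ', hτ', rfl⟩ := hc
    refine ⟨b * (τ * b' * τ⁻¹), mul_mem hb (conj_mem_closure S τ (hTS τ hτ) b' hb'), τ * τ',
      mul_mem hτ hτ', ?_⟩
    group
  | inv a _ ha =>
    obtain ⟨b, hb, τ, hτ, rfl⟩ := ha
    refine ⟨τ⁻¹ * b⁻¹ * (τ⁻¹)⁻¹, conj_mem_closure S τ⁻¹ (hTS τ⁻¹ (inv_mem hτ)) b⁻¹ (inv_mem hb),
      τ⁻¹, inv_mem hτ, ?_⟩
    group

theorem genIn_of_data (S : Set G) (T Om : Subgroup G) (det : G →* M) (chi : G →* ℤˣ) (z : M)
    (hz : z ≠ 1) (hz2 : z * z = 1)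
    (hOm : ∀ g, g ∈ Om ↔ det g = 1 ∧ chi g = 1)
    (hinv : ∀ s ∈ S, s * s = 1) (hdet : ∀ s ∈ S, det s = z)
    (hconj : ∀ s ∈ S, ∀ t ∈ S, s * t * s⁻¹ ∈ S)
    (hT : T ≤ Om) (hTgen : GenIn 2 T)
    (hTS : ∀ τ ∈ T, ∀ s ∈ S, τ * s * τ⁻¹ ∈ S)
    (hpair : ∀ s ∈ S, ∀ t ∈ S, Commute s t ∨
      ∃ u ∈ S, chi u = chi s ∧ Commute u s ∧ Commute u t) :
    GenIn 2 ((Subgroup.closure S ⊔ T) ⊓ Om) := by
  apply genIn_of_le
  set P := (Subgroup.closure S ⊔ T) ⊓ Om with hP
  set I := Subgroup.closure {g : G | g ∈ P ∧ g ^ 2 = 1} with hI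
  have hTI : T ≤ I := by
    have h1 : T ≤ Subgroup.closure {g : G | g ∈ T ∧ g ^ 2 = 1} := le_of_eq hTgen.symm
    refine h1.trans ?_
    apply Subgroup.closure_mono
    rintro g ⟨hg, hg2⟩
    exact ⟨⟨Subgroup.mem_sup_right hg, hT hg⟩, hg2⟩
  -- products of two commuting elements of S with the same chi
  have hcomm : ∀ s ∈ S, ∀ t ∈ S, chi s = chi t → Commute s t → s * t ∈ I := by
    intro s hs t ht hst hc
    apply Subgroup.subset_closure
    refine ⟨⟨Subgroup.mem_sup_left (mul_mem (Subgroup.subset_closure hs)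
      (Subgroup.subset_closure ht)), ?_⟩, ?_⟩
    · refine (hOm _).2 ⟨?_, ?_⟩
      · rw [map_mul, hdet s hs, hdet t ht, hz2]
      · rw [map_mul]
        exact units_eq_mul _ _ hst
    · rw [pow_two, hc.symm.mul_mul_mul_comm, hinv s hs, hinv t ht, one_mul]
  have hEI : Subgroup.closure (pairSet S chi) ≤ I := by
    rw [Subgroup.closure_le]
    rintro x ⟨s, hs, t, ht, hst, rfl⟩
    rcases hpair s hs t ht with hc | ⟨u, hu, hus, hc1, hc2⟩
    · exact hcomm s hs t ht hst hc
    · have : s * t = (s * u) * (u * t) := by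
        rw [mul_assoc, ← mul_assoc u, hinv u hu, one_mul]
      rw [this]
      exact mul_mem (hcomm s hs u hu hus.symm hc1.symm) (hcomm u hu t ht (hus.trans hst) hc2)
  intro x hx
  obtain ⟨b, hb, τ, hτ, rfl⟩ := mem_sup_decomp S T hTS x hx.1
  have hbOm : b ∈ Om := by
    have h1 : b * τ ∈ Om := hx.2
    have h2 : b = (b * τ) * τ⁻¹ := by group
    rw [h2]
    exact mul_mem h1 (inv_mem (hT hτ))
  have hb' := (hOm b).1 hbOm
  exact mul_mem (hEI (mem_closure_pairs S det chi z hz hz2 hinv hdet hconj b hb hb'.1 hb'.2))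
    (hTI hτ)

end Cfsg.Agent.Lib.H9.OmSyl
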