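import Mathlib
import Cfsg.Agent.Lib.H9.SqCommA
import Cfsg.Agent.Lib.H9.SqCommB
import Cfsg.Agent.Lib.H9.SqCommE
import Cfsg.Agent.Lib.H12.CardSL

set_option autoImplicit false

/-!
# Further tools for Sylow 2-subgroups of linear groups

* `card_eq_card_inf_ker_mul`, `SqComm.of_map_injective`, `WrData.mem_sub_decomp`
* `sylow_sl2_sqComm`
* `sylow_perm_two_pow_transitive`
* `sylow_equiv_of_card_le`, Sylow 2-subgroup of `Fˣ`
-/

namespace Cfsg.Agent.Lib.H9.SqC

open Matrix Equiv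
open scoped commutatorElement

theorem card_eq_card_inf_ker_mul {G A : Type*} [Group G] [Group A] (f : G →* A) (H : Subgroup G)
    [Finite H] : Nat.card ↥H = Nat.card ↥(H ⊓ f.ker) * Nat.card ↥(H.map f) := by
  have h1 := Subgroup.card_mul_index (f.comp H.subtype).ker
  rw [Subgroup.index_ker, MonoidHom.range_comp, Subgroup.range_subtype] at h1
  rw [← h1]
  congr 1
  have h2 : (f.comp H.subtype).ker = f.ker.subgroupOf H := by
    ext x
    simp [MonoidHom.mem_ker, Subgroup.mem_subgroupOf]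
  rw [h2, ← Subgroup.inf_subgroupOf_right, inf_comm]
  exact Nat.card_congr (Subgroup.subgroupOfEquivOfLe inf_le_left).toEquiv

theorem SqComm.of_map_injective {G G' : Type*} [Group G] [Group G'] {H : Subgroup G}
    (f : G →* G') (hf : Function.Injective f) (h : SqComm (H.map f)) : SqComm H := by
  intro x hx
  have h1 := h (f x) (Subgroup.mem_map_of_mem f hx)
  rw [← Subgroup.map_commutator, ← map_pow] at h1
  obtain ⟨y, hy, hyx⟩ := h1
  rwa [← hf hyx]

namespace WrData

variable {A G : Type*} [Group A] [Group G] {n : ℕ} (D : WrData A G n)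

theorem mul_comm_rel (σ : Perm (Fin n)) (g : Fin n → A) :
    D.Ψ σ * D.Φ g = D.Φ (fun i => g (σ⁻¹ i)) * D.Ψ σ := by
  rw [← D.conj σ g]
  group

theorem mem_sub_decomp (Q : Subgroup A) (S : Subgroup (Perm (Fin n))) {w : G}
    (hw : w ∈ D.sub Q S) :
    ∃ g : Fin n → A, (∀ i, g i ∈ Q) ∧ ∃ σ ∈ S, w = D.Φ g * D.Ψ σ := by
  unfold sub at hw
  rw [Subgroup.sup_eq_closure] at hw
  induction hw using Subgroup.closure_induction with
  | mem x hx =>
    rcases hx with hx | hx
    · obtain ⟨σ, hσ, rfl⟩ := hx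
      exact ⟨1, fun i => one_mem _, σ, hσ, by rw [map_one, one_mul]⟩
    · obtain ⟨g, hg, rfl⟩ := hx
      exact ⟨g, fun i => hg i (Set.mem_univ i), 1, one_mem _, by rw [map_one, mul_one]⟩
  | one => exact ⟨1, fun i => one_mem _, 1, one_mem _, by simp⟩
  | mul x y _ _ hx hy =>
    obtain ⟨g, hg, σ, hσ, rfl⟩ := hx
    obtain ⟨g', hg', σ', hσ', rfl⟩ := hy
    refine ⟨g * (fun i => g' (σ⁻¹ i)), fun i => mul_mem (hg i) (hg' _), σ * σ', mul_mem hσ hσ', ?_⟩
    rw [map_mul, map_mul, mul_assoc, ← mul_assoc (D.Ψ σ), D.mul_comm_rel, mul_assoc, mul_assoc]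
  | inv x _ hx =>
    obtain ⟨g, hg, σ, hσ, rfl⟩ := hx
    refine ⟨fun i => (g (σ i))⁻¹, fun i => inv_mem (hg _), σ⁻¹, inv_mem hσ, ?_⟩
    rw [_root_.mul_inv_rev, ← map_inv, ← map_inv, D.mul_comm_rel]
    congr 2

end WrData


section sl2

variable {F : Type*} [Field F] [Fintype F]

theorem v2_card_SL2 (hq : Odd (Fintype.card F)) :
    padicValNat 2 (Nat.card (SL2 F)) =
      padicValNat 2 (Fintype.card F + 1) + padicValNat 2 (Fintype.card F - 1) := by
  have hq1 : 1 < Fintype.card F := Fintype.one_lt_card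
  have h2q : ¬ 2 ∣ Fintype.card F := by
    rcases hq with ⟨k, hk⟩
    omega
  have h1 : Fintype.card F ^ 2 - 1 = (Fintype.card F + 1) * (Fintype.card F - 1) := by
    obtain ⟨r, hr⟩ : ∃ r, Fintype.card F = r + 1 := ⟨Fintype.card F - 1, by omega⟩
    rw [hr, Nat.add_sub_cancel]
    have : (r + 1) ^ 2 = (r + 1 + 1) * r + 1 := by ring
    rw [this, Nat.add_sub_cancel]
  show padicValNat 2 (Nat.card (SpecialLinearGroup (Fin 2) F)) = _
  rw [Cfsg.Agent.Lib.H12.card_SL2, h1, padicValNat.mul (by omega) (by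
    apply mul_ne_zero <;> omega), padicValNat.eq_zero_of_not_dvd h2q, zero_add,
    padicValNat.mul (by omega) (by omega)]

/-- Sylow 2-subgroups of `SL2(q)`, `q` odd, have elementary abelian abelianisation. -/
theorem sylow_sl2_sqComm (hq : Odd (Fintype.card F)) (P : Sylow 2 (SL2 F)) :
    SqComm (P : Subgroup (SL2 F)) := by
  obtain ⟨Q, hQp, hQc, hQs⟩ := exists_quat (F := F) hq
  obtain ⟨P1, hP1⟩ := hQp.exists_le_sylow
  have hle : Nat.card ↥(P1 : Subgroup (SL2 F)) ≤ Nat.card ↥Q := by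
    rw [Sylow.card_eq_multiplicity, Nat.factorization_def _ Nat.prime_two, v2_card_SL2 hq]
    exact Nat.le_of_dvd Nat.card_pos hQc
  have heq : Q = (P1 : Subgroup (SL2 F)) := Subgroup.eq_of_le_of_card_ge hP1 hle
  rw [heq] at hQs
  exact sqComm_of_mulEquiv (Sylow.equiv P1 P) hQs


end sl2

/-- a Sylow 2-subgroup of `Sym(2^j)` is transitive -/
theorem sylow_perm_two_pow_transitive {n j : ℕ} (hn : n = 2 ^ j) (S : Sylow 2 (Perm (Fin n)))
    (x y : Fin n) : ∃ ρ ∈ (S : Subgroup (Perm (Fin n))), ρ x = y := by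
  have hnpos : 0 < n := by rw [hn]; positivity
  have hpv : padicValNat 2 n = j := by rw [hn, padicValNat.prime_pow]
  set R : Subgroup (Perm (Fin n)) := (S : Subgroup (Perm (Fin n))) with hR
  -- the full stabilizer
  have h0 : (MulAction.stabilizer (Perm (Fin n)) x).index = n := by
    rw [MulAction.index_stabilizer_of_transitive, Nat.card_fin]
  have h1 := Subgroup.card_mul_index (MulAction.stabilizer (Perm (Fin n)) x)
  rw [h0, Nat.card_perm, Nat.card_fin] at h1
  -- the stabilizer in R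
  set K : Subgroup ↥R := MulAction.stabilizer ↥R x with hK
  have hKp : IsPGroup 2 ↥K := S.isPGroup'.to_subgroup K
  obtain ⟨c, hc⟩ := hKp.exists_card_eq
  have hKle : K.map R.subtype ≤ MulAction.stabilizer (Perm (Fin n)) x := by
    rintro _ ⟨r, hr, rfl⟩
    exact hr
  have hdvd := Subgroup.card_dvd_of_le hKle
  rw [Subgroup.card_map_of_injective (Subgroup.subtype_injective _), hc] at hdvd
  have hRcard : Nat.card ↥R = 2 ^ padicValNat 2 n.factorial := by
    rw [hR, Sylow.card_eq_multiplicity, Nat.card_perm, Nat.card_fin,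
      Nat.factorization_def _ Nat.prime_two]
  have h2 := Subgroup.card_mul_index K
  rw [hc, hRcard, MulAction.index_stabilizer] at h2
  -- valuations
  have hN0 : Nat.card ↥(MulAction.stabilizer (Perm (Fin n)) x) ≠ 0 := Nat.card_pos.ne'
  have hval : padicValNat 2 n.factorial =
      padicValNat 2 (Nat.card ↥(MulAction.stabilizer (Perm (Fin n)) x)) + j := by
    rw [← h1, padicValNat.mul hN0 (by omega), hpv]
  have hcle : c ≤ padicValNat 2 (Nat.card ↥(MulAction.stabilizer (Perm (Fin n)) x)) :=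
    (padicValNat_dvd_iff_le hN0).1 hdvd
  -- the orbit has at least n elements
  have horb : n ≤ (MulAction.orbit ↥R x).ncard := by
    have h3 : 2 ^ c * n ≤ 2 ^ c * (MulAction.orbit ↥R x).ncard := by
      rw [h2, hval, pow_add, ← hn]
      exact Nat.mul_le_mul_right _ (Nat.pow_le_pow_right (by norm_num) hcle)
    exact Nat.le_of_mul_le_mul_left h3 (by positivity)
  have huniv : MulAction.orbit ↥R x = Set.univ := by
    rw [Set.eq_univ_iff_ncard, Nat.card_fin]
    apply le_antisymm _ horb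
    have := Set.ncard_le_card (MulAction.orbit ↥R x)
    rwa [Nat.card_fin] at this
  have hy : y ∈ MulAction.orbit ↥R x := by rw [huniv]; trivial
  obtain ⟨r, hr⟩ := hy
  exact ⟨r.1, r.2, hr⟩


/-- a large 2-subgroup of the image of an injective homomorphism is isomorphic to the Sylow
2-subgroups of the source -/
theorem sylow_equiv_of_card_le {G1 G2 : Type*} [Group G1] [Group G2] [Finite G1]
    (ι : G1 →* G2) (hι : Function.Injective ι) (H : Subgroup G2) (hH : IsPGroup 2 ↥H)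
    (hle : H ≤ ι.range) (hcard : 2 ^ padicValNat 2 (Nat.card G1) ≤ Nat.card ↥H)
    (P : Sylow 2 G1) : Nonempty (↥(P : Subgroup G1) ≃* ↥H) := by
  have hmap : (H.comap ι).map ι = H := by
    rw [Subgroup.map_comap_eq, inf_eq_right.2 hle]
  have hp : IsPGroup 2 ↥(H.comap ι) := hH.comap_of_injective ι hι
  obtain ⟨P1, hP1⟩ := hp.exists_le_sylow
  have hc : Nat.card ↥(H.comap ι) = Nat.card ↥H := by
    rw [← Subgroup.card_map_of_injective hι, hmap]
  have hle2 : Nat.card ↥(P1 : Subgroup G1) ≤ Nat.card ↥(H.comap ι) := by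
    rw [hc, Sylow.card_eq_multiplicity, Nat.factorization_def _ Nat.prime_two]
    exact hcard
  have heq : H.comap ι = (P1 : Subgroup G1) := Subgroup.eq_of_le_of_card_ge hP1 hle2
  have e1 : ↥(P : Subgroup G1) ≃* ↥(P1 : Subgroup G1) := Sylow.equiv P P1
  have e2 : ↥(P1 : Subgroup G1) ≃* ↥(H.comap ι) := MulEquiv.subgroupCongr heq.symm
  have e3 : ↥(H.comap ι) ≃* ↥((H.comap ι).map ι) := Subgroup.equivMapOfInjective _ ι hι
  have e4 : ↥((H.comap ι).map ι) ≃* ↥H := MulEquiv.subgroupCongr hmap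
  exact ⟨((e1.trans e2).trans e3).trans e4⟩

variable {F : Type*} [Field F] [Fintype F]

theorem units_two_subgroup_le (Z : Sylow 2 Fˣ) {H : Subgroup Fˣ} (hH : IsPGroup 2 ↥H) :
    H ≤ (Z : Subgroup Fˣ) := by
  obtain ⟨Z', hZ'⟩ := hH.exists_le_sylow
  obtain ⟨g, hg⟩ := MulAction.exists_smul_eq Fˣ Z' Z
  have : (Z' : Subgroup Fˣ).Normal := inferInstance
  rw [Sylow.smul_eq_of_normal] at hg
  rw [← hg]
  exact hZ'

theorem card_units_sylow (Z : Sylow 2 Fˣ) :
    Nat.card ↥(Z : Subgroup Fˣ) = 2 ^ padicValNat 2 (Fintype.card F - 1) := by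
  rw [Sylow.card_eq_multiplicity, Nat.factorization_def _ Nat.prime_two, Nat.card_units,
    Nat.card_eq_fintype_card]

theorem exists_units_sylow_generator (Z : Sylow 2 Fˣ) :
    ∃ ζ : Fˣ, Subgroup.zpowers ζ = (Z : Subgroup Fˣ) := by
  obtain ⟨⟨ζ, hζ⟩, hgen⟩ := IsCyclic.exists_generator (α := ↥(Z : Subgroup Fˣ))
  refine ⟨ζ, le_antisymm ?_ ?_⟩
  · rw [Subgroup.zpowers_le]; exact hζ
  · intro u hu
    obtain ⟨k, hk⟩ := Subgroup.mem_zpowers_iff.1 (hgen ⟨u, hu⟩)
    rw [Subgroup.mem_zpowers_iff]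
    refine ⟨k, ?_⟩
    have := congrArg Subtype.val hk
    simpa using this


end Cfsg.Agent.Lib.H9.SqC
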