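import Mathlib
import Cfsg.Agent.Lib.H9.OmSylA
import Cfsg.Agent.Lib.H9.SqCommE
import Cfsg.Agent.Lib.H9.SqCommH

set_option autoImplicit false

/-!
# Generation by involutions in a wreath-type subgroup

For wreath product data `D : WrData A G k`, a homomorphism `α : (Fin l → ℤˣ) →* G` commuting
with everything, and a generating, conjugation-closed set `A₀` of involutions of `A`, the
intersection of `D.sub ⊤ Tk ⊔ α.range` with the common kernel of two characters `det`, `chi`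
is generated by involutions, provided `det` is a constant `z ≠ 1` on the basic involutions and
the top group lies in the kernel.
-/

namespace Cfsg.Agent.Lib.H9.OmSyl

open Cfsg.Agent.Lib.H9.SqC Cfsg.Agent.Lib.H9.SylSym Equiv

variable {A G M : Type*} [Group A] [Group G] [Group M] {k l : ℕ} (D : WrData A G k)
  (α : (Fin l → ℤˣ) →* G)

/-- the basic involutions -/
def basicSet (A₀ : Set A) : Set G :=
  {x | (∃ i, ∃ a ∈ A₀, x = D.Φ (Pi.mulSingle i a)) ∨ ∃ j, x = α (Pi.mulSingle j (-1))}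

theorem mulSingle_comp_perm (σ : Perm (Fin k)) (i : Fin k) (a : A) :
    (fun x => (Pi.mulSingle i a : Fin k → A) (σ⁻¹ x)) = Pi.mulSingle (σ i) a := by
  funext x
  by_cases h : x = σ i
  · subst h
    simp
  · rw [Pi.mulSingle_apply, Pi.mulSingle_apply, if_neg h, if_neg]
    intro h'
    apply h
    rw [← h']
    simp

theorem conj_of_commute {s t : G} (h : Commute s t) : s * t * s⁻¹ = t := by
  rw [h.eq, mul_assoc, mul_inv_cancel, mul_one]

theorem closure_basicSet (A₀ : Set A) (hA3 : Subgroup.closure A₀ = ⊤) :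
    Subgroup.closure (basicSet D α A₀) = D.base ⊤ ⊔ α.range := by
  apply le_antisymm
  · rw [Subgroup.closure_le]
    rintro x (⟨i, a, ha, rfl⟩ | ⟨j, rfl⟩)
    · exact Subgroup.mem_sup_left ⟨_, fun _ _ => Subgroup.mem_top _, rfl⟩
    · exact Subgroup.mem_sup_right ⟨_, rfl⟩
  · rw [sup_le_iff]
    constructor
    · rintro _ ⟨g, -, rfl⟩
      have h1 : ∀ i : Fin k, ∀ a : A, D.Φ (Pi.mulSingle i a) ∈
          Subgroup.closure (basicSet D α A₀) := by
        intro i a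
        have ha : a ∈ Subgroup.closure A₀ := by rw [hA3]; exact Subgroup.mem_top _
        have h2 : (Subgroup.closure A₀).map (D.Φ.comp (MonoidHom.mulSingle (fun _ => A) i)) ≤
            Subgroup.closure (basicSet D α A₀) := by
          rw [MonoidHom.map_closure]
          apply Subgroup.closure_mono
          rintro _ ⟨b, hb, rfl⟩
          exact Or.inl ⟨i, b, hb, rfl⟩
        exact h2 ⟨a, ha, rfl⟩
      have h3 : g ∈ (Subgroup.closure (basicSet D α A₀)).comap D.Φ :=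
        Subgroup.pi_mem_of_mulSingle_mem g (fun i => h1 i (g i))
      exact h3
    · rintro _ ⟨ε, rfl⟩
      have h3 : ε ∈ (Subgroup.closure (basicSet D α A₀)).comap α := by
        apply Subgroup.pi_mem_of_mulSingle_mem
        intro j
        rcases Int.units_eq_one_or (ε j) with h | h
        · rw [h, Pi.mulSingle_one]
          exact one_mem _
        · rw [h]
          exact Subgroup.subset_closure (Or.inr ⟨j, rfl⟩)
      exact h3

theorem genIn_wr (A₀ : Set A) (hA1 : ∀ a ∈ A₀, a * a = 1)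
    (hA2 : ∀ a ∈ A₀, ∀ b ∈ A₀, a * b * a⁻¹ ∈ A₀) (hA3 : Subgroup.closure A₀ = ⊤)
    (hαΦ : ∀ ε g, Commute (α ε) (D.Φ g)) (hαΨ : ∀ ε σ, Commute (α ε) (D.Ψ σ))
    (det : G →* M) (chi : G →* ℤˣ) (z : M) (hz : z ≠ 1) (hz2 : z * z = 1)
    (Om : Subgroup G) (hOm : ∀ g, g ∈ Om ↔ det g = 1 ∧ chi g = 1)
    (hd1 : ∀ i, ∀ a ∈ A₀, det (D.Φ (Pi.mulSingle i a)) = z)
    (hd2 : ∀ j, det (α (Pi.mulSingle j (-1))) = z)
    (hΨ : ∀ σ, D.Ψ σ ∈ Om)
    (Tk : Subgroup (Perm (Fin k))) (hTk : GenIn 2 Tk) (hk : 2 ≤ k) :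
    GenIn 2 ((D.sub ⊤ Tk ⊔ α.range) ⊓ Om) := by
  have hK : D.sub ⊤ Tk ⊔ α.range = Subgroup.closure (basicSet D α A₀) ⊔ D.top Tk := by
    rw [closure_basicSet D α A₀ hA3, WrData.sub]
    rw [sup_assoc, sup_comm]
  rw [hK]
  have hαα : ∀ ε ε', Commute (α ε) (α ε') := by
    intro ε ε'
    show α ε * α ε' = α ε' * α ε
    rw [← map_mul, ← map_mul, mul_comm]
  have hΦΦ : ∀ i j : Fin k, i ≠ j → ∀ a b : A,
      Commute (D.Φ (Pi.mulSingle i a)) (D.Φ (Pi.mulSingle j b)) := by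
    intro i j hij a b
    exact (Pi.mulSingle_commute hij a b).map D.Φ
  apply genIn_of_data (basicSet D α A₀) (D.top Tk) Om det chi z hz hz2 hOm
  · -- involutions
    rintro s (⟨i, a, ha, rfl⟩ | ⟨j, rfl⟩)
    · rw [← map_mul, ← Pi.mulSingle_mul, hA1 a ha, Pi.mulSingle_one, map_one]
    · rw [← map_mul, ← Pi.mulSingle_mul, Int.units_mul_self, Pi.mulSingle_one, map_one]
  · -- det
    rintro s (⟨i, a, ha, rfl⟩ | ⟨j, rfl⟩)
    · exact hd1 i a ha
    · exact hd2 j
  · -- conjugation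
    rintro s (⟨i, a, ha, rfl⟩ | ⟨j, rfl⟩) t (⟨i', b, hb, rfl⟩ | ⟨j', rfl⟩)
    · by_cases hii : i = i'
      · subst hii
        refine Or.inl ⟨i, a * b * a⁻¹, hA2 a ha b hb, ?_⟩
        rw [← map_inv, ← map_mul, ← map_mul, ← Pi.mulSingle_inv, ← Pi.mulSingle_mul,
          ← Pi.mulSingle_mul]
      · rw [conj_of_commute (hΦΦ i i' hii a b)]
        exact Or.inl ⟨i', b, hb, rfl⟩
    · rw [conj_of_commute (hαΦ _ _).symm]
      exact Or.inr ⟨j', rfl⟩
    · rw [conj_of_commute (hαΦ _ _)]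
      exact Or.inl ⟨i', b, hb, rfl⟩
    · rw [conj_of_commute (hαα _ _)]
      exact Or.inr ⟨j', rfl⟩
  · -- T ≤ Om
    rintro _ ⟨σ, -, rfl⟩
    exact hΨ σ
  · exact hTk.map D.Ψ
  · -- T normalizes S
    rintro _ ⟨σ, -, rfl⟩ s (⟨i, a, ha, rfl⟩ | ⟨j, rfl⟩)
    · rw [D.conj, mulSingle_comp_perm]
      exact Or.inl ⟨σ i, a, ha, rfl⟩
    · rw [conj_of_commute (hαΨ _ _).symm]
      exact Or.inr ⟨j, rfl⟩
  · -- pairs
    rintro s (⟨i, a, ha, rfl⟩ | ⟨j, rfl⟩) t (⟨i', b, hb, rfl⟩ | ⟨j', rfl⟩)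
    · by_cases hii : i = i'
      · subst hii
        right
        have : Nontrivial (Fin k) := Fin.nontrivial_iff_two_le.2 hk
        obtain ⟨j, hj⟩ := exists_ne i
        refine ⟨D.Φ (Pi.mulSingle j a), Or.inl ⟨j, a, ha, rfl⟩, ?_, hΦΦ j i hj a a,
          hΦΦ j i hj a b⟩
        have h1 := D.conj (swap i j) (Pi.mulSingle i a)
        rw [mulSingle_comp_perm, swap_apply_left] at h1
        rw [← h1, map_mul, map_mul, map_inv, mul_comm, ← mul_assoc, inv_mul_cancel, one_mul]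
      · exact Or.inl (hΦΦ i i' hii a b)
    · exact Or.inl (hαΦ _ _).symm
    · exact Or.inl (hαΦ _ _)
    · exact Or.inl (hαα _ _)

end Cfsg.Agent.Lib.H9.OmSyl
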