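import Mathlib
import Cfsg.Agent.Lib.H9.SqCommA
import Cfsg.Agent.Lib.H9.SqCommH

set_option autoImplicit false

/-!
# From a large 2-subgroup to all Sylow 2-subgroups of the commutator subgroup

If `G₁ ≃* G`, the commutator subgroup of `G₁` has index 4, and `PO ≤ G` is a 2-group of order at
least the 2-part of `|G₁|` whose intersection with the commutator subgroup of `G` has the
property `SqComm`, then every Sylow 2-subgroup `P` of the commutator subgroup of `G₁` has
`P / P'` elementary abelian.
-/

namespace Cfsg.Agent.Lib.H9.OmSyl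

open Cfsg.Agent.Lib.H9.SqC

theorem index_commutator_eq {G₁ G : Type*} [Group G₁] [Group G] (Θ : G₁ ≃* G) :
    (commutator G₁).index = (commutator G).index := by
  rw [Subgroup.index_eq_card, Subgroup.index_eq_card]
  exact Nat.card_congr (MulEquiv.abelianizationCongr Θ).toEquiv

theorem map_commutator_eq {G₁ G : Type*} [Group G₁] [Group G] (Θ : G₁ ≃* G) :
    (commutator G₁).map Θ.toMonoidHom = commutator G := by
  rw [commutator_def, commutator_def, Subgroup.map_commutator]
  have : (⊤ : Subgroup G₁).map Θ.toMonoidHom = ⊤ := by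
    rw [← MonoidHom.range_eq_map, MonoidHom.range_eq_top]
    exact Θ.surjective
  rw [this]

theorem sqComm_sylow_of_large {G₁ G : Type*} [Group G₁] [Group G] [Finite G₁] [Finite G]
    (Θ : G₁ ≃* G) (hidx : (commutator G₁).index = 4) (PO : Subgroup G) (hPO : IsPGroup 2 ↥PO)
    (hcard : 2 ^ padicValNat 2 (Nat.card G₁) ≤ Nat.card ↥PO)
    (hsq : SqComm (PO ⊓ commutator G)) (P : Sylow 2 ↥(commutator G₁))
    (x : ↥(P : Subgroup ↥(commutator G₁))) :
    x ^ 2 ∈ commutator ↥(P : Subgroup ↥(commutator G₁)) := by
  let ι : ↥(commutator G₁) →* G := Θ.toMonoidHom.comp (commutator G₁).subtype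
  have hι : Function.Injective ι := Θ.injective.comp (Subgroup.subtype_injective _)
  have hrange : ι.range = commutator G := by
    rw [MonoidHom.range_comp, Subgroup.range_subtype, map_commutator_eq]
  have hH : IsPGroup 2 ↥(PO ⊓ commutator G) := hPO.to_le inf_le_left
  have hle : PO ⊓ commutator G ≤ ι.range := by
    rw [hrange]
    exact inf_le_right
  have hidx' : (commutator G).index = 4 := by rw [← index_commutator_eq Θ, hidx]
  have h1 : Nat.card ↥(commutator G₁) * 4 = Nat.card G₁ := by
    rw [← hidx]
    exact Subgroup.card_mul_index _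
  have hpos : Nat.card ↥(commutator G₁) ≠ 0 := Nat.card_pos.ne'
  have h2 : padicValNat 2 (Nat.card G₁) = padicValNat 2 (Nat.card ↥(commutator G₁)) + 2 := by
    rw [← h1, padicValNat.mul hpos (by norm_num)]
    congr 1
    have : (4 : ℕ) = 2 ^ 2 := by norm_num
    rw [this, padicValNat.prime_pow]
  have h3 : Nat.card ↥(PO ⊓ commutator G) * (commutator G).relIndex PO = Nat.card ↥PO := by
    have := Subgroup.relIndex_mul_relIndex (H := (⊥ : Subgroup G)) (K := commutator G ⊓ PO)
      (L := PO) bot_le inf_le_right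
    rw [Subgroup.relIndex_bot_left, Subgroup.relIndex_bot_left, Subgroup.inf_relIndex_right] at this
    rw [inf_comm]
    exact this
  have h4 : (commutator G).relIndex PO ≤ 4 := by
    have := Subgroup.relIndex_dvd_index_of_normal (commutator G) PO
    rw [hidx'] at this
    exact Nat.le_of_dvd (by norm_num) this
  have hc : 2 ^ padicValNat 2 (Nat.card ↥(commutator G₁)) ≤ Nat.card ↥(PO ⊓ commutator G) := by
    rw [h2, pow_add] at hcard
    have h5 : Nat.card ↥PO ≤ Nat.card ↥(PO ⊓ commutator G) * 4 := by
      rw [← h3]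
      exact Nat.mul_le_mul_left _ h4
    have h6 : 2 ^ padicValNat 2 (Nat.card ↥(commutator G₁)) * 2 ^ 2 ≤
        Nat.card ↥(PO ⊓ commutator G) * 4 := hcard.trans h5
    omega
  obtain ⟨e⟩ := sylow_equiv_of_card_le ι hι (PO ⊓ commutator G) hH hle hc P
  exact (sqComm_of_mulEquiv e.symm hsq).subtype x

end Cfsg.Agent.Lib.H9.OmSyl
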