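import Mathlib
import Cfsg.Agent.Lib.H9.SqCommB

set_option autoImplicit false

/-!
# Orthogonal matrices and the dihedral Sylow 2-subgroup of `O₂(x² + y²)`

* `orthoGL N F`: the invertible matrices `g` with `gᵀ g = 1`.
* `Dih F`: the dihedral 2-group generated by `diag(1,-1)` and the Sylow 2-subgroup of the
  rotation torus, of order at least `2 ^ (v₂|SO₂| + 1)`.
* `dihRefl F`: its elements of determinant `-1`, a generating set of involutions closed under
  conjugation.
-/

namespace Cfsg.Agent.Lib.H9.OmSyl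

open Matrix Cfsg.Agent.Lib.H9.SqC

section ortho

variable {F : Type*} [Field F] {N : Type*} [Fintype N] [DecidableEq N]

/-- invertible matrices with `gᵀ g = 1` -/
def orthoGL (N : Type*) [Fintype N] [DecidableEq N] (F : Type*) [Field F] :
    Subgroup (GL N F) where
  carrier := {g | (g : Matrix N N F)ᵀ * (g : Matrix N N F) = 1}
  mul_mem' := by
    intro a b ha hb
    show ((a * b : GL N F) : Matrix N N F)ᵀ * ((a * b : GL N F) : Matrix N N F) = 1
    have ha' : (a : Matrix N N F)ᵀ * (a : Matrix N N F) = 1 := ha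
    have hb' : (b : Matrix N N F)ᵀ * (b : Matrix N N F) = 1 := hb
    rw [Units.val_mul, transpose_mul, Matrix.mul_assoc, ← Matrix.mul_assoc (a : Matrix N N F)ᵀ,
      ha', Matrix.one_mul, hb']
  one_mem' := by
    show ((1 : GL N F) : Matrix N N F)ᵀ * ((1 : GL N F) : Matrix N N F) = 1
    simp
  inv_mem' := by
    intro a ha
    have ha' : (a : Matrix N N F)ᵀ * (a : Matrix N N F) = 1 := ha
    have h1 : ((a⁻¹ : GL N F) : Matrix N N F) = (a : Matrix N N F)ᵀ := by
      have h2 : (a : Matrix N N F) * ((a⁻¹ : GL N F) : Matrix N N F) = 1 := by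
        rw [← Units.val_mul, mul_inv_cancel, Units.val_one]
      calc ((a⁻¹ : GL N F) : Matrix N N F)
          = ((a : Matrix N N F)ᵀ * (a : Matrix N N F)) * ((a⁻¹ : GL N F) : Matrix N N F) := by
            rw [ha', Matrix.one_mul]
        _ = (a : Matrix N N F)ᵀ := by rw [Matrix.mul_assoc, h2, Matrix.mul_one]
    show ((a⁻¹ : GL N F) : Matrix N N F)ᵀ * ((a⁻¹ : GL N F) : Matrix N N F) = 1
    rw [h1, transpose_transpose]
    exact mul_eq_one_comm.1 ha'

theorem mem_orthoGL {g : GL N F} :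
    g ∈ orthoGL N F ↔ (g : Matrix N N F)ᵀ * (g : Matrix N N F) = 1 := Iff.rfl

theorem det_mul_self_of_mem {g : GL N F} (hg : g ∈ orthoGL N F) :
    Matrix.GeneralLinearGroup.det g * Matrix.GeneralLinearGroup.det g = 1 := by
  apply Units.ext
  have := congrArg det (mem_orthoGL.1 hg)
  rw [det_mul, det_transpose, det_one] at this
  rw [Units.val_mul, Matrix.GeneralLinearGroup.val_det_apply, Units.val_one]
  exact this

theorem det_eq_or_of_mem {g : GL N F} (hg : g ∈ orthoGL N F) :
    Matrix.GeneralLinearGroup.det g = 1 ∨ Matrix.GeneralLinearGroup.det g = -1 := by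
  have h := det_mul_self_of_mem hg
  have h1 := congrArg Units.val h
  rw [Units.val_mul, Units.val_one] at h1
  have h2 : ((Matrix.GeneralLinearGroup.det g : Fˣ) : F) = 1 ∨
      ((Matrix.GeneralLinearGroup.det g : Fˣ) : F) = -1 := by
    have h3 : (((Matrix.GeneralLinearGroup.det g : Fˣ) : F) - 1) *
        (((Matrix.GeneralLinearGroup.det g : Fˣ) : F) + 1) = 0 := by
      linear_combination h1
    rcases mul_eq_zero.1 h3 with h4 | h4
    · left; linear_combination h4
    · right; linear_combination h4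
  rcases h2 with h2 | h2
  · left; exact Units.ext h2
  · right; apply Units.ext; rw [h2]; simp

theorem dot_mulVec_of_mem {g : GL N F} (hg : g ∈ orthoGL N F) (x : N → F) :
    ((g : Matrix N N F) *ᵥ x) ⬝ᵥ ((g : Matrix N N F) *ᵥ x) = x ⬝ᵥ x := by
  rw [Matrix.dotProduct_mulVec, ← Matrix.mulVec_transpose, Matrix.mulVec_mulVec,
    mem_orthoGL.1 hg, Matrix.one_mulVec]

/-- a two-by-two orthogonal matrix of determinant `-1` is an involution -/
theorem ortho2_sq (g : Matrix (Fin 2) (Fin 2) F) (h : gᵀ * g = 1) (hd : det g = -1) :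
    g * g = 1 := by
  have e00 := congrFun (congrFun h 0) 0
  have e01 := congrFun (congrFun h 0) 1
  have e11 := congrFun (congrFun h 1) 1
  simp only [mul_apply, transpose_apply, Fin.sum_univ_two, one_apply_eq, ne_eq, zero_ne_one,
    not_false_eq_true, one_apply_ne] at e00 e01 e11
  rw [det_fin_two] at hd
  have hs : g 1 1 = - g 0 0 := by
    linear_combination (-(g 1 1)) * e00 + (g 0 0) * hd + (g 1 0) * e01
  have e01' : g 0 0 * (g 0 1 - g 1 0) = 0 := by
    rw [hs] at e01
    linear_combination e01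
  have hd' : g 1 0 * (g 0 1 - g 1 0) = 0 := by
    rw [hs] at hd
    linear_combination -hd - e00
  have hq : g 0 1 = g 1 0 := by
    linear_combination (g 0 0) * e01' + (g 1 0) * hd' - (g 0 1 - g 1 0) * e00
  ext i j
  fin_cases i <;> fin_cases j
  · simp only [Fin.zero_eta, mul_apply, Fin.sum_univ_two, one_apply_eq, hq]
    linear_combination e00
  · simp only [Fin.zero_eta, Fin.mk_one, mul_apply, Fin.sum_univ_two, ne_eq, zero_ne_one,
      not_false_eq_true, one_apply_ne, hs]
    ring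
  · simp only [Fin.zero_eta, Fin.mk_one, mul_apply, Fin.sum_univ_two, ne_eq, one_ne_zero,
      not_false_eq_true, one_apply_ne, hs]
    ring
  · simp only [Fin.mk_one, mul_apply, Fin.sum_univ_two, one_apply_eq, hq.symm]
    linear_combination e11

end ortho

section dihedral

variable {F : Type*} [Field F]

/-- the reflection `diag(1,-1)` -/
def s0 (F : Type*) [Field F] : GL (Fin 2) F :=
  ⟨!![1, 0; 0, -1], !![1, 0; 0, -1], by
    rw [Matrix.mul_fin_two, Matrix.one_fin_two]; simp, by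
    rw [Matrix.mul_fin_two, Matrix.one_fin_two]; simp⟩

theorem s0_val : ((s0 F : GL (Fin 2) F) : Matrix (Fin 2) (Fin 2) F) = !![1, 0; 0, -1] := rfl

theorem s0_mul_self : s0 F * s0 F = 1 := by
  apply Units.ext
  rw [Units.val_mul, s0_val, Units.val_one, Matrix.mul_fin_two, Matrix.one_fin_two]
  simp

theorem s0_inv : (s0 F)⁻¹ = s0 F := inv_eq_of_mul_eq_one_right s0_mul_self

theorem det_s0 : Matrix.GeneralLinearGroup.det (s0 F) = -1 := by
  apply Units.ext
  rw [Matrix.GeneralLinearGroup.val_det_apply, s0_val, det_fin_two_of]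
  simp

theorem s0_mem_ortho : s0 F ∈ orthoGL (Fin 2) F := by
  rw [mem_orthoGL, s0_val]
  have : (!![1, 0; 0, -1] : Matrix (Fin 2) (Fin 2) F)ᵀ = !![1, 0; 0, -1] := by
    ext i j
    fin_cases i <;> fin_cases j <;> simp
  rw [this, Matrix.mul_fin_two, Matrix.one_fin_two]
  simp

theorem toGL_rot_mem_ortho {t : SL2 F} (ht : t ∈ rotT F) :
    Matrix.SpecialLinearGroup.toGL t ∈ orthoGL (Fin 2) F := by
  rw [mem_orthoGL, Matrix.SpecialLinearGroup.coe_GL_coe_matrix]
  have hn := rotT_norm ht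
  obtain ⟨h1, h2⟩ := mem_rotT.1 ht
  ext i j
  fin_cases i <;> fin_cases j
  · simp only [Fin.zero_eta, mul_apply, transpose_apply, Fin.sum_univ_two, one_apply_eq, h1]
    linear_combination hn
  · simp only [Fin.zero_eta, Fin.mk_one, mul_apply, transpose_apply, Fin.sum_univ_two, ne_eq,
      zero_ne_one, not_false_eq_true, one_apply_ne, h1, h2]
    ring
  · simp only [Fin.zero_eta, Fin.mk_one, mul_apply, transpose_apply, Fin.sum_univ_two, ne_eq,
      one_ne_zero, not_false_eq_true, one_apply_ne, h1, h2]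
    ring
  · simp only [Fin.mk_one, mul_apply, transpose_apply, Fin.sum_univ_two, one_apply_eq, h2]
    linear_combination hn

theorem s0_conj_rot {t : SL2 F} (ht : t ∈ rotT F) :
    s0 F * Matrix.SpecialLinearGroup.toGL t * (s0 F)⁻¹ = Matrix.SpecialLinearGroup.toGL t⁻¹ := by
  rw [s0_inv]
  apply Units.ext
  rw [Units.val_mul, Units.val_mul, s0_val, Matrix.SpecialLinearGroup.coe_GL_coe_matrix,
    Matrix.SpecialLinearGroup.coe_GL_coe_matrix]
  have h3 : (t⁻¹ : SL2 F).1 = !![t.1 1 1, -t.1 0 1; -t.1 1 0, t.1 0 0] := sl2_inv_val t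
  obtain ⟨h1, h2⟩ := mem_rotT.1 ht
  show _ = (t⁻¹ : SL2 F).1
  rw [h3]
  ext i j
  fin_cases i <;> fin_cases j <;>
    simp only [Matrix.mul_apply, Fin.sum_univ_two, Fin.zero_eta, Fin.mk_one, Matrix.of_apply,
      Matrix.cons_val_zero, Matrix.cons_val_one, Matrix.cons_val', Matrix.cons_val_fin_one,
      h1, h2] <;> ring

variable [Fintype F]

/-- the Sylow 2-subgroup of the rotation torus, inside `GL₂` -/
noncomputable def rotG2 (F : Type*) [Field F] [Fintype F] : Subgroup (GL (Fin 2) F) :=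
  (rotT2 F).map Matrix.SpecialLinearGroup.toGL

theorem rotG2_le_ortho : rotG2 F ≤ orthoGL (Fin 2) F := by
  rintro _ ⟨t, ht, rfl⟩
  exact toGL_rot_mem_ortho (rotT2_le ht)

theorem card_rotG2 : Nat.card ↥(rotG2 F) = 2 ^ padicValNat 2 (Nat.card ↥(rotT F)) := by
  unfold rotG2
  rw [Subgroup.card_map_of_injective Matrix.SpecialLinearGroup.toGL_injective, card_rotT2]

theorem rotG2_isPGroup : IsPGroup 2 ↥(rotG2 F) := rotT2_isPGroup.map _

theorem det_of_mem_rotG2 {g : GL (Fin 2) F} (hg : g ∈ rotG2 F) :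
    Matrix.GeneralLinearGroup.det g = 1 := by
  obtain ⟨t, -, rfl⟩ := hg
  apply Units.ext
  rw [Matrix.GeneralLinearGroup.val_det_apply, Matrix.SpecialLinearGroup.coe_GL_coe_matrix,
    t.2, Units.val_one]

/-- the dihedral 2-group -/
noncomputable def Dih (F : Type*) [Field F] [Fintype F] : Subgroup (GL (Fin 2) F) :=
  Subgroup.zpowers (s0 F) ⊔ rotG2 F

theorem s0_mem_Dih : s0 F ∈ Dih F := Subgroup.mem_sup_left (Subgroup.mem_zpowers _)

theorem Dih_le_ortho : Dih F ≤ orthoGL (Fin 2) F := by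
  unfold Dih
  rw [sup_le_iff, Subgroup.zpowers_le]
  exact ⟨s0_mem_ortho, rotG2_le_ortho⟩

theorem zpowers_s0_isPGroup : IsPGroup 2 ↥(Subgroup.zpowers (s0 F)) := by
  intro g
  refine ⟨1, ?_⟩
  obtain ⟨k, hk⟩ := Subgroup.mem_zpowers_iff.1 g.2
  apply Subtype.ext
  rw [Subgroup.coe_pow, Subgroup.coe_one, ← hk, pow_one]
  show (s0 F ^ k) ^ 2 = 1
  rw [← zpow_natCast, ← _root_.zpow_mul, mul_comm, _root_.zpow_mul, zpow_natCast, pow_two,
    s0_mul_self, _root_.one_zpow]

theorem s0_mem_normalizer : s0 F ∈ Subgroup.normalizer (rotG2 F : Set (GL (Fin 2) F)) := by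
  apply Subgroup.mem_normalizer_fintype
  rintro _ ⟨t, ht, rfl⟩
  rw [s0_conj_rot (rotT2_le ht)]
  exact ⟨t⁻¹, inv_mem ht, rfl⟩

theorem Dih_isPGroup : IsPGroup 2 ↥(Dih F) := by
  apply IsPGroup.to_sup_of_normal_right' zpowers_s0_isPGroup rotG2_isPGroup
  rw [Subgroup.zpowers_le]
  exact s0_mem_normalizer

theorem neg_one_units_ne_one (h2 : (2 : F) ≠ 0) : (-1 : Fˣ) ≠ 1 := by
  intro h
  have h1 := congrArg Units.val h
  rw [Units.val_neg, Units.val_one] at h1
  apply h2
  linear_combination -h1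

theorem card_Dih (h2 : (2 : F) ≠ 0) :
    2 ^ (padicValNat 2 (Nat.card ↥(rotT F)) + 1) ∣ Nat.card ↥(Dih F) := by
  obtain ⟨j, hj⟩ := (Dih_isPGroup (F := F)).exists_card_eq
  have hle : rotG2 F ≤ Dih F := le_sup_right
  have hdvd := Subgroup.card_dvd_of_le hle
  rw [card_rotG2, hj] at hdvd
  have hmj : padicValNat 2 (Nat.card ↥(rotT F)) ≤ j :=
    (Nat.pow_dvd_pow_iff_le_right (by norm_num)).1 hdvd
  have hne : padicValNat 2 (Nat.card ↥(rotT F)) ≠ j := by
    intro heq
    have : rotG2 F = Dih F := by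
      apply Subgroup.eq_of_le_of_card_ge hle
      rw [hj, card_rotG2, heq]
    have hb : s0 F ∈ Dih F := s0_mem_Dih
    rw [← this] at hb
    have := det_of_mem_rotG2 hb
    rw [det_s0] at this
    exact neg_one_units_ne_one h2 this
  rw [hj]
  apply pow_dvd_pow
  omega

/-- the reflections of the dihedral group -/
def dihRefl (F : Type*) [Field F] [Fintype F] : Set ↥(Dih F) :=
  {g | Matrix.GeneralLinearGroup.det (g : GL (Fin 2) F) = -1}

theorem dihRefl_sq (a : ↥(Dih F)) (ha : a ∈ dihRefl F) : a * a = 1 := by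
  apply Subtype.ext
  apply Units.ext
  have h1 := mem_orthoGL.1 (Dih_le_ortho a.2)
  have h2 : det ((a : GL (Fin 2) F) : Matrix (Fin 2) (Fin 2) F) = -1 := by
    have := congrArg Units.val ha
    rw [Matrix.GeneralLinearGroup.val_det_apply] at this
    rw [this]; simp
  exact ortho2_sq _ h1 h2

theorem dihRefl_conj (a : ↥(Dih F)) (_ha : a ∈ dihRefl F) (b : ↥(Dih F)) (hb : b ∈ dihRefl F) :
    a * b * a⁻¹ ∈ dihRefl F := by
  show Matrix.GeneralLinearGroup.det ((a * b * a⁻¹ : ↥(Dih F)) : GL (Fin 2) F) = -1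
  rw [Subgroup.coe_mul, Subgroup.coe_mul, Subgroup.coe_inv, map_mul, map_mul, map_inv, mul_comm,
    ← mul_assoc, inv_mul_cancel, one_mul]
  exact hb

theorem closure_dihRefl : Subgroup.closure (dihRefl F) = ⊤ := by
  rw [eq_top_iff]
  intro x _
  let s : ↥(Dih F) := ⟨s0 F, s0_mem_Dih⟩
  have hs : s ∈ dihRefl F := det_s0
  rcases det_eq_or_of_mem (Dih_le_ortho x.2) with h | h
  · have hsx : s * x ∈ dihRefl F := by
      show Matrix.GeneralLinearGroup.det ((s * x : ↥(Dih F)) : GL (Fin 2) F) = -1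
      rw [Subgroup.coe_mul, map_mul, h, mul_one]
      exact det_s0
    have : x = s * (s * x) := by
      rw [← mul_assoc]
      have : s * s = 1 := Subtype.ext s0_mul_self
      rw [this, one_mul]
    rw [this]
    exact mul_mem (Subgroup.subset_closure hs) (Subgroup.subset_closure hsx)
  · exact Subgroup.subset_closure h

end dihedral

end Cfsg.Agent.Lib.H9.OmSyl
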