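import Mathlib
import Cfsg.Agent.Lib.H9.SqCommA
import Cfsg.Agent.Lib.H9.SqCommC
import Cfsg.Agent.Lib.H9.SqCommE
import Cfsg.Agent.Lib.H9.SqCommF

/-!
# Determinants of the block embeddings
-/

set_option autoImplicit false

namespace Cfsg.Agent.Lib.H9.SqC

open Matrix Equiv
open scoped commutatorElement

variable {F : Type*} [Field F] {m : ℕ}

/-- the reindexing `Fin m ⊕ Fin m ≃ Fin 2 × Fin m` -/
def sumEquivProd (m : ℕ) : Fin m ⊕ Fin m ≃ Fin 2 × Fin m where
  toFun x := Sum.elim (fun k => (0, k)) (fun k => (1, k)) x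
  invFun p := if p.1 = 0 then Sum.inl p.2 else Sum.inr p.2
  left_inv x := by rcases x with k | k <;> simp
  right_inv p := by
    obtain ⟨a, k⟩ := p
    fin_cases a <;> simp

theorem bigMat_eq_blockDiagonal (M : Fin m → Matrix (Fin 2) (Fin 2) F) :
    bigMat M = (blockDiagonal M).submatrix (sumEquivProd m) (sumEquivProd m) := by
  ext x y
  rcases x with i | i <;> rcases y with j | j <;>
  · simp only [bigMat, fromBlocks_apply₁₁, fromBlocks_apply₁₂, fromBlocks_apply₂₁,
      fromBlocks_apply₂₂, submatrix_apply, sumEquivProd, Equiv.coe_fn_mk, Sum.elim_inl,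
      Sum.elim_inr, blockDiagonal_apply, diagonal_apply]

theorem det_bigMat (M : Fin m → Matrix (Fin 2) (Fin 2) F) :
    det (bigMat M) = ∏ i, det (M i) := by
  rw [bigMat_eq_blockDiagonal, det_submatrix_equiv_self, det_blockDiagonal]

theorem det_pM_sq (σ : Perm (Fin m)) : det (pM (F := F) σ) * det (pM (F := F) σ) = 1 := by
  have := congrArg det (pM_transpose_mul (F := F) σ)
  rwa [det_mul, det_transpose, det_one] at this

theorem det_psiMat (σ : Perm (Fin m)) : det (psiMat (F := F) σ) = 1 := by
  rw [psiMat, det_fromBlocks_zero₁₂, det_pM_sq]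

theorem det_gPhi (g : Fin m → GL (Fin 2) F) :
    Matrix.GeneralLinearGroup.det (gPhi g) = ∏ i, Matrix.GeneralLinearGroup.det (g i) := by
  apply Units.ext
  rw [Matrix.GeneralLinearGroup.val_det_apply, gPhi_val, det_bigMat, Units.coe_prod]
  rfl

theorem det_gPsi (σ : Perm (Fin m)) :
    Matrix.GeneralLinearGroup.det (gPsi (F := F) σ) = 1 := by
  apply Units.ext
  rw [Matrix.GeneralLinearGroup.val_det_apply, gPsi_val, det_psiMat]
  rfl

/-- `ζ ↦ diag(ζ, 1)` -/
def dEl : Fˣ →* GL (Fin 2) F :=
  MonoidHom.toHomUnits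
    { toFun := fun z => diagonal ![(z : F), 1]
      map_one' := by
        rw [← diagonal_one]
        congr 1
        funext i
        fin_cases i <;> simp
      map_mul' := fun z w => by
        rw [diagonal_mul_diagonal]
        congr 1
        funext i
        fin_cases i <;> simp }

theorem dEl_val (z : Fˣ) :
    ((dEl z : GL (Fin 2) F) : Matrix (Fin 2) (Fin 2) F) = diagonal ![(z : F), 1] := rfl

theorem det_dEl (z : Fˣ) : Matrix.GeneralLinearGroup.det (dEl z) = z := by
  apply Units.ext
  rw [Matrix.GeneralLinearGroup.val_det_apply, dEl_val, det_diagonal, Fin.prod_univ_two]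
  simp

end Cfsg.Agent.Lib.H9.SqC
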