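import Mathlib
import Cfsg.Prelude.Def_Classical
import Cfsg.Agent.Lib.H9.OmSylD
import Cfsg.Agent.Lib.H9.SqCommF
import Cfsg.Agent.Lib.H9.SqCommH
import Cfsg.Agent.Lib.H9.SqCommI1
import Cfsg.Agent.Lib.H11.IsoReindex

set_option autoImplicit false

/-!
# A wreath-type 2-subgroup of the orthogonal group of a diagonal form

The form `Qd k c` on `(Fin k ⊕ Fin k) ⊕ Fin l → F` is `Σ (x_i² + y_i²) + Σ c_j z_j²`.
Its isometry group contains the block embedding `E1` of the orthogonal matrices on the first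
`2k` coordinates and the sign changes `E2` on the last `l` coordinates.  The wreath data
`DG c : WrData ↥(Dih F) ↥(isometryGroup F (Qd k c)) k` together with `αG c` span a 2-subgroup of
order at least `|Dih|^k |T| 2^l`.
-/

namespace Cfsg.Agent.Lib.H9.OmSyl

open Matrix Equiv Cfsg.Agent.Lib.H9.SqC

/-- the `2k` plane coordinates -/
abbrev Pl (k : ℕ) : Type := Fin k ⊕ Fin k

/-- the index type of the diagonal form -/
abbrev Idx (k l : ℕ) : Type := Pl k ⊕ Fin l

section general

variable {F : Type*} [Field F] {k l : ℕ}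

/-- the diagonal form `Σ (x_i² + y_i²) + Σ c_j z_j²` -/
def Qd (k : ℕ) {l : ℕ} (c : Fin l → F) (x : Idx k l → F) : F :=
  (x ∘ Sum.inl) ⬝ᵥ (x ∘ Sum.inl) + ∑ j : Fin l, c j * (x (Sum.inr j) * x (Sum.inr j))

/-- block embedding of `GL(2k)` -/
def E1 : GL (Pl k) F →* GL (Idx k l) F :=
  MonoidHom.toHomUnits
    { toFun := fun g => fromBlocks (g : Matrix (Pl k) (Pl k) F) 0 0 1
      map_one' := by rw [Units.val_one, fromBlocks_one]
      map_mul' := fun g h => by
        rw [Units.val_mul, fromBlocks_multiply]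
        simp }

theorem E1_val (g : GL (Pl k) F) :
    ((E1 g : GL (Idx k l) F) : Matrix (Idx k l) (Idx k l) F) =
      fromBlocks (g : Matrix (Pl k) (Pl k) F) 0 0 1 := rfl

theorem E1_injective : Function.Injective (E1 (F := F) (k := k) (l := l)) := by
  intro g h hgh
  have h1 := congrArg Units.val hgh
  rw [E1_val, E1_val, fromBlocks_inj] at h1
  exact Units.ext h1.1

/-- the cast `ℤˣ → F` -/
def sgn (u : ℤˣ) : F := ((u : ℤ) : F)

theorem sgn_one : sgn (F := F) 1 = 1 := by simp [sgn]

theorem sgn_neg_one : sgn (F := F) (-1) = -1 := by simp [sgn]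

theorem sgn_mul (u v : ℤˣ) : sgn (F := F) (u * v) = sgn u * sgn v := by simp [sgn]

theorem sgn_mul_self (u : ℤˣ) : sgn (F := F) u * sgn u = 1 := by
  rw [← sgn_mul, Int.units_mul_self, sgn_one]

theorem sgn_injective (h2 : (2 : F) ≠ 0) : Function.Injective (sgn (F := F)) := by
  intro u v huv
  rcases Int.units_eq_one_or u with rfl | rfl <;> rcases Int.units_eq_one_or v with rfl | rfl
  · rfl
  · exfalso
    rw [sgn_one, sgn_neg_one] at huv
    apply h2
    linear_combination huv
  · exfalso
    rw [sgn_one, sgn_neg_one] at huv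
    apply h2
    linear_combination -huv
  · rfl

/-- sign changes on the last `l` coordinates -/
def E2 : (Fin l → ℤˣ) →* GL (Idx k l) F :=
  MonoidHom.toHomUnits
    { toFun := fun ε => fromBlocks 1 0 0 (diagonal fun j => sgn (ε j))
      map_one' := by
        have : (diagonal fun j : Fin l => sgn (F := F) ((1 : Fin l → ℤˣ) j)) = 1 := by
          simp only [Pi.one_apply, sgn_one]
          exact diagonal_one
        rw [this, fromBlocks_one]
      map_mul' := fun ε ε' => by
        rw [fromBlocks_multiply]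
        simp only [Matrix.mul_one, Matrix.mul_zero, add_zero, Matrix.zero_mul, zero_add,
          diagonal_mul_diagonal, Pi.mul_apply, sgn_mul] }

theorem E2_val (ε : Fin l → ℤˣ) :
    ((E2 ε : GL (Idx k l) F) : Matrix (Idx k l) (Idx k l) F) =
      fromBlocks 1 0 0 (diagonal fun j => sgn (ε j)) := rfl

theorem E2_injective (h2 : (2 : F) ≠ 0) :
    Function.Injective (E2 (F := F) (k := k) (l := l)) := by
  intro ε ε' h
  have h1 := congrArg Units.val h
  rw [E2_val, E2_val, fromBlocks_inj] at h1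
  have h3 := diagonal_injective h1.2.2.2
  funext j
  exact sgn_injective h2 (congrFun h3 j)

theorem E1_E2_commute (g : GL (Pl k) F) (ε : Fin l → ℤˣ) :
    Commute (E1 (l := l) g) (E2 ε) := by
  apply Units.ext
  rw [Units.val_mul, Units.val_mul, E1_val, E2_val, fromBlocks_multiply, fromBlocks_multiply]
  simp

theorem E1_eq_E2 (h2 : (2 : F) ≠ 0) {g : GL (Pl k) F} {ε : Fin l → ℤˣ}
    (h : E1 (l := l) g = E2 ε) : g = 1 ∧ ε = 1 := by
  have h1 := congrArg Units.val h
  rw [E1_val, E2_val, fromBlocks_inj] at h1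
  refine ⟨Units.ext h1.1, ?_⟩
  have h3 : (diagonal fun j => sgn (F := F) (ε j)) = diagonal fun _ => 1 := by
    rw [← h1.2.2.2]; exact diagonal_one.symm
  have h4 := diagonal_injective h3
  funext j
  apply sgn_injective h2
  rw [Pi.one_apply, sgn_one]
  exact congrFun h4 j

theorem E1_mem (c : Fin l → F) {g : GL (Pl k) F} (hg : g ∈ orthoGL (Pl k) F) :
    E1 g ∈ Cfsg.isometryGroup F (Qd k c) := by
  rw [Cfsg.Agent.Lib.H11.IsoReindex.mem_iso_iff']
  intro x
  rw [E1_val, fromBlocks_mulVec]
  unfold Qd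
  simp only [Sum.elim_comp_inl, Sum.elim_inr, Matrix.zero_mulVec, add_zero, zero_add,
    Matrix.one_mulVec, Function.comp_apply]
  rw [dot_mulVec_of_mem hg]

theorem E2_mem (c : Fin l → F) (ε : Fin l → ℤˣ) :
    E2 ε ∈ Cfsg.isometryGroup F (Qd k c) := by
  rw [Cfsg.Agent.Lib.H11.IsoReindex.mem_iso_iff']
  intro x
  rw [E2_val, fromBlocks_mulVec]
  unfold Qd
  simp only [Sum.elim_comp_inl, Sum.elim_inr, Matrix.zero_mulVec, add_zero, zero_add,
    Matrix.one_mulVec, Function.comp_apply, mulVec_diagonal]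
  congr 1
  apply Finset.sum_congr rfl
  intro j _
  have := sgn_mul_self (F := F) (ε j)
  linear_combination (c j * (x (Sum.inr j) * x (Sum.inr j))) * this

theorem det_E1 (g : GL (Pl k) F) :
    Matrix.GeneralLinearGroup.det (E1 (l := l) g) = Matrix.GeneralLinearGroup.det g := by
  apply Units.ext
  rw [Matrix.GeneralLinearGroup.val_det_apply, Matrix.GeneralLinearGroup.val_det_apply, E1_val,
    det_fromBlocks_zero₁₂, det_one, mul_one]

theorem det_E2_single (j : Fin l) :
    Matrix.GeneralLinearGroup.det (E2 (F := F) (k := k) (Pi.mulSingle j (-1))) = -1 := by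
  apply Units.ext
  rw [Matrix.GeneralLinearGroup.val_det_apply, E2_val, det_fromBlocks_zero₁₂, det_one, one_mul,
    det_diagonal, Fintype.prod_eq_single j]
  · rw [Pi.mulSingle_eq_same, sgn_neg_one]; simp
  · intro x hx
    rw [Pi.mulSingle_eq_of_ne hx, sgn_one]

end general

end Cfsg.Agent.Lib.H9.OmSyl
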