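import Mathlib
import Cfsg.Agent.Lib.H9.OmSylE

set_option autoImplicit false

/-!
# The wreath data inside the orthogonal group of the diagonal form

`DG c : WrData ↥(Dih F) ↥(isometryGroup F (Qd k c)) k` and `αG c`, with determinants, the
vanishing of every character into `ℤˣ` on the top group, and the order of the subgroup spanned.
-/

namespace Cfsg.Agent.Lib.H9.OmSyl

open Matrix Equiv Cfsg.Agent.Lib.H9.SqC

section restrict

variable {A G : Type*} [Group A] [Group G] {n : ℕ}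

/-- restriction of wreath data to subgroups -/
def wrRestrict (D : WrData A G n) (A' : Subgroup A) (G' : Subgroup G)
    (hΦ : ∀ f : Fin n → A, (∀ i, f i ∈ A') → D.Φ f ∈ G') (hΨ : ∀ σ, D.Ψ σ ∈ G') :
    WrData ↥A' ↥G' n where
  Φ :=
    { toFun := fun f => ⟨D.Φ (fun i => (f i : A)), hΦ _ (fun i => (f i).2)⟩
      map_one' := by
        apply Subtype.ext
        show D.Φ (fun i => (((1 : Fin n → ↥A') i : ↥A') : A)) = 1
        have : (fun i => (((1 : Fin n → ↥A') i : ↥A') : A)) = 1 := by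
          funext i; rfl
        rw [this, map_one]
      map_mul' := fun f g => by
        apply Subtype.ext
        show D.Φ (fun i => (((f * g) i : ↥A') : A)) =
          D.Φ (fun i => (f i : A)) * D.Φ (fun i => (g i : A))
        rw [← map_mul]
        rfl }
  Ψ := D.Ψ.codRestrict G' hΨ
  inj := by
    intro f g h
    have h1 : D.Φ (fun i => (f i : A)) = D.Φ (fun i => (g i : A)) := congrArg Subtype.val h
    have h2 := D.inj h1
    funext i
    exact Subtype.ext (congrFun h2 i)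
  conj := by
    intro σ g
    apply Subtype.ext
    show D.Ψ σ * D.Φ (fun i => (g i : A)) * (D.Ψ σ)⁻¹ = D.Φ (fun i => (g (σ⁻¹ i) : A))
    rw [D.conj]
  disj := by
    intro g σ h
    have h1 : D.Φ (fun i => (g i : A)) = D.Ψ σ := congrArg Subtype.val h
    exact D.disj _ _ h1

theorem wrRestrict_Φ_val (D : WrData A G n) (A' : Subgroup A) (G' : Subgroup G)
    (hΦ : ∀ f : Fin n → A, (∀ i, f i ∈ A') → D.Φ f ∈ G') (hΨ : ∀ σ, D.Ψ σ ∈ G')
    (f : Fin n → ↥A') :
    (((wrRestrict D A' G' hΦ hΨ).Φ f : ↥G') : G) = D.Φ (fun i => (f i : A)) := rfl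

theorem wrRestrict_Ψ_val (D : WrData A G n) (A' : Subgroup A) (G' : Subgroup G)
    (hΦ : ∀ f : Fin n → A, (∀ i, f i ∈ A') → D.Φ f ∈ G') (hΨ : ∀ σ, D.Ψ σ ∈ G')
    (σ : Perm (Fin n)) :
    (((wrRestrict D A' G' hΦ hΨ).Ψ σ : ↥G') : G) = D.Ψ σ := rfl

end restrict

section ortho

variable {F : Type*} [Field F] {k l : ℕ}

theorem bigMat_transpose (M : Fin k → Matrix (Fin 2) (Fin 2) F) :
    (bigMat M)ᵀ = bigMat (fun i => (M i)ᵀ) := by
  simp only [bigMat, fromBlocks_transpose, diagonal_transpose, transpose_apply]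

theorem gPhi_mem_ortho (f : Fin k → GL (Fin 2) F) (hf : ∀ i, f i ∈ orthoGL (Fin 2) F) :
    gPhi f ∈ orthoGL (Pl k) F := by
  rw [mem_orthoGL, gPhi_val, bigMat_transpose, ← bigMat_mul]
  have : (fun i => ((f i : GL (Fin 2) F) : Matrix (Fin 2) (Fin 2) F)ᵀ *
      ((f i : GL (Fin 2) F) : Matrix (Fin 2) (Fin 2) F)) = fun _ => 1 := by
    funext i
    exact mem_orthoGL.1 (hf i)
  rw [this, bigMat_one]

theorem gPsi_mem_ortho (σ : Perm (Fin k)) : gPsi (F := F) σ ∈ orthoGL (Pl k) F := by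
  rw [mem_orthoGL, gPsi_val, psiMat, fromBlocks_transpose, fromBlocks_multiply]
  simp only [transpose_zero, Matrix.zero_mul, Matrix.mul_zero, add_zero, zero_add,
    pM_transpose_mul, fromBlocks_one]

/-- permutations of the first `k` coordinates only -/
def gPsi1 : Perm (Fin k) →* GL (Pl k) F :=
  MonoidHom.toHomUnits
    { toFun := fun σ => fromBlocks (pM σ) 0 0 1
      map_one' := by rw [pM_one, fromBlocks_one]
      map_mul' := fun σ τ => by
        rw [fromBlocks_multiply, pM_mul]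
        simp }

theorem gPsi1_val (σ : Perm (Fin k)) :
    ((gPsi1 σ : GL (Pl k) F) : Matrix (Pl k) (Pl k) F) = fromBlocks (pM σ) 0 0 1 := rfl

theorem gPsi1_mem_ortho (σ : Perm (Fin k)) : gPsi1 (F := F) σ ∈ orthoGL (Pl k) F := by
  rw [mem_orthoGL, gPsi1_val, fromBlocks_transpose, fromBlocks_multiply]
  simp only [transpose_zero, Matrix.zero_mul, Matrix.mul_zero, add_zero, zero_add,
    pM_transpose_mul, transpose_one, Matrix.mul_one, fromBlocks_one]

/-- the swap of the two halves -/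
def Jg : GL (Pl k) F :=
  ⟨fromBlocks 0 1 1 0, fromBlocks 0 1 1 0, by
    rw [fromBlocks_multiply]; simp [fromBlocks_one], by
    rw [fromBlocks_multiply]; simp [fromBlocks_one]⟩

theorem Jg_val : ((Jg : GL (Pl k) F) : Matrix (Pl k) (Pl k) F) = fromBlocks 0 1 1 0 := rfl

theorem Jg_inv : (Jg : GL (Pl k) F)⁻¹ = Jg := by
  apply inv_eq_of_mul_eq_one_right
  apply Units.ext
  rw [Units.val_mul, Jg_val, fromBlocks_multiply]
  simp [fromBlocks_one]

theorem Jg_mem_ortho : (Jg : GL (Pl k) F) ∈ orthoGL (Pl k) F := by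
  rw [mem_orthoGL, Jg_val, fromBlocks_transpose, fromBlocks_multiply]
  simp [fromBlocks_one]

theorem gPsi_eq_mul (σ : Perm (Fin k)) :
    gPsi (F := F) σ = gPsi1 σ * (Jg * gPsi1 σ * Jg⁻¹) := by
  rw [Jg_inv]
  apply Units.ext
  rw [Units.val_mul, Units.val_mul, Units.val_mul, gPsi_val, gPsi1_val, Jg_val, psiMat,
    fromBlocks_multiply, fromBlocks_multiply, fromBlocks_multiply]
  simp

end ortho

end Cfsg.Agent.Lib.H9.OmSyl
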