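import Mathlib
import Cfsg.Agent.Lib.H9.OmSylF

set_option autoImplicit false

/-!
# The 2-subgroup `PO` of the orthogonal group of the diagonal form

`PO c Tk = (DG c).sub ⊤ Tk ⊔ (αG c).range` is a 2-group of order at least `|Dih|^k |Tk| 2^l`;
determinants of the basic involutions; every character into `ℤˣ` kills the top group.
-/

namespace Cfsg.Agent.Lib.H9.OmSyl

open Matrix Equiv Cfsg.Agent.Lib.H9.SqC

variable {F : Type*} [Field F] [Fintype F] {k l : ℕ} (c : Fin l → F)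

/-- the ambient orthogonal group -/
abbrev OG (k : ℕ) {l : ℕ} (c : Fin l → F) : Type _ := ↥(Cfsg.isometryGroup F (Qd k c))

/-- wreath data in `GL` -/
noncomputable def D0 (F : Type*) [Field F] (k l : ℕ) :
    WrData (GL (Fin 2) F) (GL (Idx k l) F) k := (glWr F k).comp E1 E1_injective

theorem D0_Φ (f : Fin k → GL (Fin 2) F) : (D0 F k l).Φ f = E1 (gPhi f) := rfl

theorem D0_Ψ (σ : Perm (Fin k)) : (D0 F k l).Ψ σ = E1 (gPsi σ) := rfl

/-- wreath data in the orthogonal group -/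
noncomputable def DG : WrData ↥(Dih F) (OG k c) k :=
  wrRestrict (D0 F k l) (Dih F) (Cfsg.isometryGroup F (Qd k c))
    (fun f hf => E1_mem c (gPhi_mem_ortho f (fun i => Dih_le_ortho (hf i))))
    (fun σ => E1_mem c (gPsi_mem_ortho σ))

theorem DG_Φ_val (f : Fin k → ↥(Dih F)) :
    (((DG c).Φ f : OG k c) : GL (Idx k l) F) = E1 (gPhi (fun i => (f i : GL (Fin 2) F))) := rfl

theorem DG_Ψ_val (σ : Perm (Fin k)) :
    (((DG c).Ψ σ : OG k c) : GL (Idx k l) F) = E1 (gPsi σ) := rfl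

/-- the sign changes in the orthogonal group -/
noncomputable def αG : (Fin l → ℤˣ) →* OG k c := E2.codRestrict _ (E2_mem c)

theorem αG_val (ε : Fin l → ℤˣ) : ((αG (k := k) c ε : OG k c) : GL (Idx k l) F) = E2 ε := rfl

/-- the determinant on the orthogonal group -/
noncomputable def detG : OG k c →* Fˣ :=
  Matrix.GeneralLinearGroup.det.comp (Subgroup.subtype _)

theorem detG_apply (g : OG k c) :
    detG c g = Matrix.GeneralLinearGroup.det (g : GL (Idx k l) F) := rfl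

theorem αG_commute_Φ (ε : Fin l → ℤˣ) (g : Fin k → ↥(Dih F)) :
    Commute (αG c ε) ((DG c).Φ g) := by
  show αG c ε * (DG c).Φ g = (DG c).Φ g * αG c ε
  apply Subtype.ext
  rw [Subgroup.coe_mul, Subgroup.coe_mul, αG_val, DG_Φ_val]
  exact ((E1_E2_commute _ _).symm).eq

theorem αG_commute_Ψ (ε : Fin l → ℤˣ) (σ : Perm (Fin k)) :
    Commute (αG c ε) ((DG c).Ψ σ) := by
  show αG c ε * (DG c).Ψ σ = (DG c).Ψ σ * αG c ε
  apply Subtype.ext
  rw [Subgroup.coe_mul, Subgroup.coe_mul, αG_val, DG_Ψ_val]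
  exact ((E1_E2_commute _ _).symm).eq

theorem detG_Φ_single (i : Fin k) (a : ↥(Dih F)) :
    detG c ((DG c).Φ (Pi.mulSingle i a)) = Matrix.GeneralLinearGroup.det (a : GL (Fin 2) F) := by
  rw [detG_apply, DG_Φ_val, det_E1, det_gPhi, Fintype.prod_eq_single i]
  · rw [Pi.mulSingle_eq_same]
  · intro x hx
    rw [Pi.mulSingle_eq_of_ne hx, Subgroup.coe_one, map_one]

theorem detG_α_single (j : Fin l) : detG c (αG (k := k) c (Pi.mulSingle j (-1))) = -1 := by
  rw [detG_apply, αG_val]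
  exact det_E2_single j

theorem detG_Ψ (σ : Perm (Fin k)) : detG c ((DG c).Ψ σ) = 1 := by
  rw [detG_apply, DG_Ψ_val, det_E1, det_gPsi]

theorem chi_Ψ (chi : OG k c →* ℤˣ) (σ : Perm (Fin k)) : chi ((DG c).Ψ σ) = 1 := by
  let X : OG k c := ⟨E1 (gPsi1 σ), E1_mem c (gPsi1_mem_ortho σ)⟩
  let Y : OG k c := ⟨E1 Jg, E1_mem c Jg_mem_ortho⟩
  have h : (DG c).Ψ σ = X * (Y * X * Y⁻¹) := by
    apply Subtype.ext
    rw [DG_Ψ_val, Subgroup.coe_mul, Subgroup.coe_mul, Subgroup.coe_mul, Subgroup.coe_inv]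
    show E1 (gPsi σ) = E1 (gPsi1 σ) * (E1 Jg * E1 (gPsi1 σ) * (E1 Jg)⁻¹)
    rw [gPsi_eq_mul, map_mul, map_mul, map_mul, map_inv]
  rw [h, map_mul, map_mul, map_mul, map_inv, mul_comm (chi Y), mul_assoc, mul_inv_cancel,
    mul_one]
  exact Int.units_mul_self _

/-- the 2-subgroup -/
noncomputable def PO (Tk : Subgroup (Perm (Fin k))) : Subgroup (OG k c) :=
  (DG c).sub ⊤ Tk ⊔ (αG c).range

theorem range_αG_isPGroup : IsPGroup 2 ↥(αG (k := k) c).range := by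
  intro g
  refine ⟨1, ?_⟩
  obtain ⟨ε, hε⟩ := g.2
  apply Subtype.ext
  rw [Subgroup.coe_pow, Subgroup.coe_one, ← hε, pow_one, ← map_pow]
  have : ε ^ 2 = 1 := by
    funext j
    rw [Pi.pow_apply, pow_two, Int.units_mul_self, Pi.one_apply]
  rw [this, map_one]

theorem sub_le_centralizer (Tk : Subgroup (Perm (Fin k))) :
    (DG c).sub ⊤ Tk ≤ Subgroup.centralizer ((αG (k := k) c).range : Set (OG k c)) := by
  unfold WrData.sub
  rw [sup_le_iff]
  constructor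
  · rintro _ ⟨σ, -, rfl⟩
    rw [Subgroup.mem_centralizer_iff]
    rintro _ ⟨ε, rfl⟩
    exact (αG_commute_Ψ c ε σ).eq
  · rintro _ ⟨g, -, rfl⟩
    rw [Subgroup.mem_centralizer_iff]
    rintro _ ⟨ε, rfl⟩
    exact (αG_commute_Φ c ε g).eq

theorem PO_isPGroup (Tk : Subgroup (Perm (Fin k))) (hTk : IsPGroup 2 ↥Tk) :
    IsPGroup 2 ↥(PO c Tk) := by
  apply IsPGroup.to_sup_of_normal_right' _ (range_αG_isPGroup c)
  · exact (sub_le_centralizer c Tk).trans (Subgroup.centralizer_le_normalizer _)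
  · exact (DG c).sub_isPGroup ⊤ Tk (Dih_isPGroup.to_subgroup _) hTk

theorem sub_val (Tk : Subgroup (Perm (Fin k))) (w : OG k c) (hw : w ∈ (DG c).sub ⊤ Tk) :
    ∃ g : GL (Pl k) F, (w : GL (Idx k l) F) = E1 g := by
  obtain ⟨g, -, σ, -, rfl⟩ := (DG c).mem_sub_decomp ⊤ Tk hw
  refine ⟨gPhi (fun i => (g i : GL (Fin 2) F)) * gPsi σ, ?_⟩
  rw [Subgroup.coe_mul, DG_Φ_val, DG_Ψ_val, map_mul]

theorem card_signs (l : ℕ) : Nat.card (Fin l → ℤˣ) = 2 ^ l := by
  rw [Nat.card_fun, Nat.card_fin, Nat.card_eq_fintype_card, Fintype.card_units_int]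

theorem PO_card (h2 : (2 : F) ≠ 0) (Tk : Subgroup (Perm (Fin k))) :
    Nat.card ↥(Dih F) ^ k * Nat.card ↥Tk * 2 ^ l ≤ Nat.card ↥(PO c Tk) := by
  let J : ↥((DG c).sub ⊤ Tk) × (Fin l → ℤˣ) → ↥(PO c Tk) := fun x =>
    ⟨(x.1 : OG k c) * αG c x.2, mul_mem (Subgroup.mem_sup_left x.1.2)
      (Subgroup.mem_sup_right ⟨x.2, rfl⟩)⟩
  have hJ : Function.Injective J := by
    rintro ⟨h, ε⟩ ⟨h', ε'⟩ hx
    have h1 : (h : OG k c) * αG c ε = (h' : OG k c) * αG c ε' := congrArg Subtype.val hx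
    have h3 : ((h' : OG k c))⁻¹ * (h : OG k c) = αG c (ε' * ε⁻¹) := by
      rw [map_mul, map_inv, eq_mul_inv_iff_mul_eq, mul_assoc, h1, ← mul_assoc, inv_mul_cancel,
        one_mul]
    have h4 : ((h' : OG k c))⁻¹ * (h : OG k c) ∈ (DG c).sub ⊤ Tk := mul_mem (inv_mem h'.2) h.2
    obtain ⟨g, hg⟩ := sub_val c Tk _ h4
    rw [h3, αG_val] at hg
    have h5 := (E1_eq_E2 h2 hg.symm).2
    have hε : ε' = ε := by
      rw [mul_inv_eq_one] at h5
      exact h5
    subst hε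
    have h6 : (h : OG k c) = (h' : OG k c) := mul_right_cancel h1
    rw [Subtype.ext h6]
  have h1 := Nat.card_le_card_of_injective J hJ
  rw [Nat.card_prod, card_signs] at h1
  have h3 := (DG c).sub_card_le ⊤ Tk
  rw [Subgroup.card_top] at h3
  exact (Nat.mul_le_mul_right _ h3).trans h1

end Cfsg.Agent.Lib.H9.OmSyl
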