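import Mathlib
import Cfsg.Agent.Lib.H9.OmSylB
import Cfsg.Agent.Lib.H9.OmSylC
import Cfsg.Agent.Lib.H9.OmSylG
import Cfsg.Agent.Lib.H9.SylSymC

set_option autoImplicit false

/-!
# Sylow 2-subgroups of `Ω` of the diagonal form, and of any group isomorphic to its orthogonal group

Given a character `chi` cutting out the commutator subgroup of `O(Qd k c)` together with the
determinant, `PO c Tk ⊓ Ω` is generated by involutions (`PO_inf_sqComm`).  If moreover
`G₁ ≃* O(Qd k c)`, `|G₁ : G₁'| = 4` and the 2-part of `|G₁|` is at most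
`2 ^ (k (v₂|SO₂| + 1) + v₂(k!) + l)`, every Sylow 2-subgroup `P` of `G₁'` has `P / P'`
elementary abelian (`sylow_of_equiv`).
-/

namespace Cfsg.Agent.Lib.H9.OmSyl

open Matrix Equiv Cfsg.Agent.Lib.H9.SqC Cfsg.Agent.Lib.H9.SylSym

variable {F : Type*} [Field F] [Fintype F] {k l : ℕ} (c : Fin l → F)

theorem PO_inf_sqComm (h2 : (2 : F) ≠ 0) (hk : 2 ≤ k) (chi : OG k c →* ℤˣ)
    (hOm : ∀ g : OG k c, g ∈ commutator (OG k c) ↔ detG c g = 1 ∧ chi g = 1)
    (Tk : Subgroup (Perm (Fin k))) (hTk : GenIn 2 Tk) :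
    SqComm (PO c Tk ⊓ commutator (OG k c)) := by
  apply genIn_two_sqComm
  refine genIn_wr (DG c) (αG c) (dihRefl F) dihRefl_sq dihRefl_conj closure_dihRefl
    (αG_commute_Φ c) (αG_commute_Ψ c) (detG c) chi (-1) (neg_one_units_ne_one h2) (by simp)
    (commutator (OG k c)) hOm ?_ ?_ ?_ Tk hTk hk
  · intro i a ha
    rw [detG_Φ_single]
    exact ha
  · intro j
    exact detG_α_single c j
  · intro σ
    exact (hOm _).2 ⟨detG_Ψ c σ, chi_Ψ c chi σ⟩

theorem sylow_of_equiv (h2 : (2 : F) ≠ 0) (hk : 2 ≤ k) (chi : OG k c →* ℤˣ)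
    (hOm : ∀ g : OG k c, g ∈ commutator (OG k c) ↔ detG c g = 1 ∧ chi g = 1)
    {G₁ : Type*} [Group G₁] [Finite G₁] (Θ : G₁ ≃* OG k c)
    (hidx : (commutator G₁).index = 4)
    (hv : padicValNat 2 (Nat.card G₁) ≤
      k * (padicValNat 2 (Nat.card ↥(rotT F)) + 1) + padicValNat 2 k.factorial + l)
    (P : Sylow 2 ↥(commutator G₁)) (x : ↥(P : Subgroup ↥(commutator G₁))) :
    x ^ 2 ∈ commutator ↥(P : Subgroup ↥(commutator G₁)) := by
  obtain ⟨S, hS, -⟩ := exists_sylow_genIn (p := 2) k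
  have hScard : Nat.card ↥(S : Subgroup (Perm (Fin k))) = 2 ^ padicValNat 2 k.factorial := by
    rw [card_sylow_perm, Nat.factorization_def _ Nat.prime_two]
  have h1 := PO_card c h2 (S : Subgroup (Perm (Fin k)))
  have h3 : 2 ^ (padicValNat 2 (Nat.card ↥(rotT F)) + 1) ≤ Nat.card ↥(Dih F) :=
    Nat.le_of_dvd Nat.card_pos (card_Dih h2)
  have hcard : 2 ^ padicValNat 2 (Nat.card G₁) ≤ Nat.card ↥(PO c (S : Subgroup (Perm (Fin k)))) := by
    refine le_trans ?_ h1
    rw [hScard]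
    calc 2 ^ padicValNat 2 (Nat.card G₁)
        ≤ 2 ^ (k * (padicValNat 2 (Nat.card ↥(rotT F)) + 1) + padicValNat 2 k.factorial + l) :=
          Nat.pow_le_pow_right (by norm_num) hv
      _ = (2 ^ (padicValNat 2 (Nat.card ↥(rotT F)) + 1)) ^ k * 2 ^ padicValNat 2 k.factorial *
            2 ^ l := by
          rw [pow_add, pow_add, ← pow_mul, mul_comm k]
      _ ≤ Nat.card ↥(Dih F) ^ k * 2 ^ padicValNat 2 k.factorial * 2 ^ l := by
          apply Nat.mul_le_mul_right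
          apply Nat.mul_le_mul_right
          exact Nat.pow_le_pow_left h3 k
  exact sqComm_sylow_of_large Θ hidx (PO c (S : Subgroup (Perm (Fin k))))
    (PO_isPGroup c _ S.isPGroup') hcard (PO_inf_sqComm c h2 hk chi hOm _ hS) P x

end Cfsg.Agent.Lib.H9.OmSyl
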