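import Mathlib
import Cfsg.Agent.Lib.H9.OmSylH
import Cfsg.Agent.Lib.H11.OmPar2
import Cfsg.Agent.Lib.H11.SpinSign
import Cfsg.Agent.Lib.H11.OmegaRank3

set_option autoImplicit false

/-!
# Transport to the diagonal form

A non-degenerate quadratic form `Q` on `Fin n → F` (odd characteristic, finite field) with an
orthogonal family `u` indexed by `(Fin k ⊕ Fin k) ⊕ Fin l`, of values `1` on the first `2k`
members, has `O(Q) ≃* O(Qd k c)` with `c j = Q (u (inr j))`.  Consequently every Sylow 2-subgroup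
`P` of `Ω` of a group isomorphic to `O(Q)` whose 2-part is small enough has `P / P'` elementary
abelian (`sylow_fin`).
-/

namespace Cfsg.Agent.Lib.H9.OmSyl

open Matrix Cfsg.Agent.Lib.H9.SqC Cfsg.Agent.Lib.H11.OmPar Cfsg.Agent.Lib.H11.SpinSign
  Cfsg.Agent.Lib.H11.ORank

section equiv

variable {F : Type*} [Field F] {ι κ : Type} [Fintype ι] [DecidableEq ι] [Fintype κ]
  [DecidableEq κ]

theorem isoHom_val (φ : (ι → F) ≃ₗ[F] (κ → F)) (Q : (ι → F) → F) (Q' : (κ → F) → F)
    (hφ : ∀ x, Q' (φ x) = Q x) (g : ↥(Cfsg.isometryGroup F Q)) :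
    (((isoHom φ Q Q' hφ g : ↥(Cfsg.isometryGroup F Q')) : GL κ F) : Matrix κ κ F) =
      cmat φ * ((g : GL ι F) : Matrix ι ι F) * cmat φ.symm := rfl

theorem symm_preserves (φ : (ι → F) ≃ₗ[F] (κ → F)) (Q : (ι → F) → F) (Q' : (κ → F) → F)
    (hφ : ∀ x, Q' (φ x) = Q x) (y : κ → F) : Q (φ.symm y) = Q' y := by
  rw [← hφ (φ.symm y), φ.apply_symm_apply]

/-- a linear isometry of coordinate spaces induces an isomorphism of isometry groups -/
noncomputable def isoMulEquiv (φ : (ι → F) ≃ₗ[F] (κ → F)) (Q : (ι → F) → F) (Q' : (κ → F) → F)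
    (hφ : ∀ x, Q' (φ x) = Q x) :
    ↥(Cfsg.isometryGroup F Q) ≃* ↥(Cfsg.isometryGroup F Q') where
  toFun := isoHom φ Q Q' hφ
  invFun := isoHom φ.symm Q' Q (symm_preserves φ Q Q' hφ)
  left_inv g := by
    apply Subtype.ext
    apply Units.ext
    rw [isoHom_val, isoHom_val, LinearEquiv.symm_symm]
    simp only [Matrix.mul_assoc]
    rw [cmat_symm_mul, Matrix.mul_one, ← Matrix.mul_assoc, cmat_symm_mul, Matrix.one_mul]
  right_inv g := by
    apply Subtype.ext
    apply Units.ext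
    rw [isoHom_val, isoHom_val, LinearEquiv.symm_symm]
    simp only [Matrix.mul_assoc]
    rw [cmat_mul_symm, Matrix.mul_one, ← Matrix.mul_assoc, cmat_mul_symm, Matrix.one_mul]
  map_mul' := map_mul _

theorem isoMulEquiv_symm_val (φ : (ι → F) ≃ₗ[F] (κ → F)) (Q : (ι → F) → F) (Q' : (κ → F) → F)
    (hφ : ∀ x, Q' (φ x) = Q x) (g : ↥(Cfsg.isometryGroup F Q')) :
    ((((isoMulEquiv φ Q Q' hφ).symm g : ↥(Cfsg.isometryGroup F Q)) : GL ι F) : Matrix ι ι F) =
      cmat φ.symm * ((g : GL κ F) : Matrix κ κ F) * cmat φ := by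
  show (((isoHom φ.symm Q' Q (symm_preserves φ Q Q' hφ) g : ↥(Cfsg.isometryGroup F Q)) : GL ι F) :
    Matrix ι ι F) = _
  rw [isoHom_val, LinearEquiv.symm_symm]

theorem det_isoMulEquiv_symm (φ : (ι → F) ≃ₗ[F] (κ → F)) (Q : (ι → F) → F) (Q' : (κ → F) → F)
    (hφ : ∀ x, Q' (φ x) = Q x) (g : ↥(Cfsg.isometryGroup F Q')) :
    det ((((isoMulEquiv φ Q Q' hφ).symm g : ↥(Cfsg.isometryGroup F Q)) : GL ι F) :
      Matrix ι ι F) = det ((g : GL κ F) : Matrix κ κ F) := by
  rw [isoMulEquiv_symm_val]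
  exact Matrix.det_conj_of_mul_eq_one (cmat_symm_mul φ) (cmat_mul_symm φ)

theorem mem_commutator_equiv {G G' : Type*} [Group G] [Group G'] (Θ : G ≃* G') (g : G') :
    g ∈ commutator G' ↔ Θ.symm g ∈ commutator G := by
  rw [← map_commutator_eq Θ]
  constructor
  · rintro ⟨x, hx, rfl⟩
    have : Θ.symm (Θ.toMonoidHom x) = x := Θ.symm_apply_apply x
    rw [this]
    exact hx
  · intro h
    exact ⟨Θ.symm g, h, Θ.apply_symm_apply g⟩

end equiv

section main

variable {F : Type*} [Field F] [Fintype F] {n k l : ℕ} (Q : QuadraticForm F (Fin n → F))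

theorem Q_sum_orth {ι : Type*} (u : ι → Fin n → F)
    (horth : ∀ i j, i ≠ j → QuadraticMap.polar (⇑Q) (u i) (u j) = 0) (s : Finset ι)
    (y : ι → F) : Q (∑ i ∈ s, y i • u i) = ∑ i ∈ s, y i * y i * Q (u i) := by
  classical
  induction s using Finset.induction_on with
  | empty => simp
  | insert a s ha ih =>
    rw [Finset.sum_insert ha, Finset.sum_insert ha, QuadraticMap.map_add Q, ih,
      QuadraticMap.map_smul, smul_eq_mul]
    have h0 : QuadraticMap.polar (⇑Q) (y a • u a) (∑ i ∈ s, y i • u i) = 0 := by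
      have h1 : QuadraticMap.polar (⇑Q) (y a • u a) (∑ i ∈ s, y i • u i) =
          QuadraticMap.polarBilin Q (y a • u a) (∑ i ∈ s, y i • u i) := rfl
      rw [h1, map_sum]
      apply Finset.sum_eq_zero
      intro i hi
      have hai : a ≠ i := fun h => ha (h ▸ hi)
      rw [QuadraticMap.polarBilin_apply_apply, QuadraticMap.polar_smul_left,
        QuadraticMap.polar_smul_right, horth a i hai, smul_zero, smul_zero]
    rw [h0, add_zero]

/-- the linear equivalence defined by an orthogonal family of full size -/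
noncomputable def famEquiv (h2 : (2 : F) ≠ 0) (u : Idx k l → Fin n → F) (hu : IsOF Q u)
    (hcard : 2 * k + l = n) : (Fin n → F) ≃ₗ[F] (Idx k l → F) :=
  (basisOfLinearIndependentOfCardEqFinrank' u (isOF_li Q h2 u hu) (by
    rw [Module.finrank_fin_fun, ← hcard]
    simp
    ring)).equivFun

theorem famEquiv_symm_apply (h2 : (2 : F) ≠ 0) (u : Idx k l → Fin n → F) (hu : IsOF Q u)
    (hcard : 2 * k + l = n) (y : Idx k l → F) :
    (famEquiv Q h2 u hu hcard).symm y = ∑ i, y i • u i := by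
  unfold famEquiv
  rw [Module.Basis.equivFun_symm_apply]
  simp only [coe_basisOfLinearIndependentOfCardEqFinrank']

theorem Qd_famEquiv (h2 : (2 : F) ≠ 0) (u : Idx k l → Fin n → F) (hu : IsOF Q u)
    (hcard : 2 * k + l = n) (hu1 : ∀ p, Q (u (Sum.inl p)) = 1) (x : Fin n → F) :
    Qd k (fun j => Q (u (Sum.inr j))) (famEquiv Q h2 u hu hcard x) = Q x := by
  obtain ⟨y, rfl⟩ := (famEquiv Q h2 u hu hcard).symm.surjective x
  rw [LinearEquiv.apply_symm_apply, famEquiv_symm_apply, Q_sum_orth Q u hu.1, Fintype.sum_sum_type]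
  unfold Qd
  congr 1
  · rw [dotProduct]
    apply Finset.sum_congr rfl
    intro p _
    rw [hu1 p, mul_one]
    rfl
  · apply Finset.sum_congr rfl
    intro j _
    ring

theorem sylow_fin (hQ : (QuadraticMap.polarBilin Q).Nondegenerate) (h2 : (2 : F) ≠ 0)
    (hn : 2 ≤ n) (hk : 2 ≤ k) (hcard : 2 * k + l = n) (u : Idx k l → Fin n → F) (hu : IsOF Q u)
    (hu1 : ∀ p, Q (u (Sum.inl p)) = 1)
    {G₁ : Type*} [Group G₁] [Finite G₁] (Θ₀ : G₁ ≃* ↥(Cfsg.isometryGroup F ⇑Q))
    (hv : padicValNat 2 (Nat.card G₁) ≤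
      k * (padicValNat 2 (Nat.card ↥(rotT F)) + 1) + padicValNat 2 k.factorial + l)
    (P : Sylow 2 ↥(commutator G₁)) (x : ↥(P : Subgroup ↥(commutator G₁))) :
    x ^ 2 ∈ commutator ↥(P : Subgroup ↥(commutator G₁)) := by
  obtain ⟨hab, hmem⟩ := main Q hQ h2 hn 1 one_ne_zero
  set c : Fin l → F := fun j => Q (u (Sum.inr j)) with hc
  let Θ' : ↥(Cfsg.isometryGroup F ⇑Q) ≃* OG k c :=
    isoMulEquiv (famEquiv Q h2 u hu hcard) (⇑Q) (Qd k c) (Qd_famEquiv Q h2 u hu hcard hu1)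
  let chiG : OG k c →* ℤˣ := (chi Q 1).comp Θ'.symm.toMonoidHom
  have hOm : ∀ g : OG k c, g ∈ commutator (OG k c) ↔ detG c g = 1 ∧ chiG g = 1 := by
    intro g
    rw [mem_commutator_equiv Θ' g, hmem]
    have hdet : detHom Q (Θ'.symm g) = detG c g := by
      apply Units.ext
      rw [detHom_val, detG_apply, Matrix.GeneralLinearGroup.val_det_apply]
      exact det_isoMulEquiv_symm _ _ _ _ g
    rw [hdet]
    rfl
  have hidx : (commutator G₁).index = 4 := by
    rw [index_commutator_eq Θ₀, Subgroup.index_eq_card]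
    exact hab
  exact sylow_of_equiv c h2 hk chiG hOm (Θ₀.trans Θ') hidx hv P x

end main

end Cfsg.Agent.Lib.H9.OmSyl
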