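import Mathlib
import Cfsg.Agent.Lib.H9.OmSylI
import Cfsg.Agent.S2610

set_option autoImplicit false

/-!
# Orthogonal families adapted to the plane decomposition

* `exists_family_last`: a family indexed by `(Fin k ⊕ Fin k) ⊕ Fin l`, `l ≥ 1`, of values `1`
  on the first `2k` members (always exists).
* `exists_family_big`: in even dimension with square discriminant, a family of `2k` vectors of
  value `1`.
-/

namespace Cfsg.Agent.Lib.H9.OmSyl

open Matrix Cfsg.Agent.Lib.H9.SqC Cfsg.Agent.Lib.H11.SpinSign Cfsg.Agent.Lib.H11.ORank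

variable {F : Type*} [Field F] [Fintype F] {n k l : ℕ} (Q : QuadraticForm F (Fin n → F))

theorem card_Idx (k l : ℕ) : Fintype.card (Idx k l) = 2 * k + l := by
  simp
  ring

theorem exists_family_last (hQ : (QuadraticMap.polarBilin Q).Nondegenerate) (h2 : (2 : F) ≠ 0)
    (hl : 1 ≤ l) (hcard : 2 * k + l = n) :
    ∃ u : Idx k l → Fin n → F, IsOF Q u ∧ ∀ p, Q (u (Sum.inl p)) = 1 := by
  obtain ⟨v, hv, hvc⟩ := exists_isOF_val Q hQ h2 1 one_ne_zero
  let β₀ : Idx k l ≃ Fin n := Fintype.equivFinOfCardEq (by rw [card_Idx, hcard])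
  let x₀ : Idx k l := Sum.inr ⟨0, hl⟩
  let last : Fin n := ⟨n - 1, by omega⟩
  let β : Idx k l ≃ Fin n := β₀.trans (Equiv.swap (β₀ x₀) last)
  have hβx : β x₀ = last := by
    show Equiv.swap (β₀ x₀) last (β₀ x₀) = last
    exact Equiv.swap_apply_left _ _
  refine ⟨fun i => v (β i), ⟨fun i j hij => hv.1 (β i) (β j) (β.injective.ne hij),
    fun i => hv.2 (β i)⟩, ?_⟩
  intro p
  apply hvc
  have hne : β (Sum.inl p) ≠ last := by
    rw [← hβx]
    exact β.injective.ne (by simp [x₀])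
  have h1 : (β (Sum.inl p)).val ≠ n - 1 := fun h => hne (Fin.ext h)
  have h3 := (β (Sum.inl p)).isLt
  omega

theorem exists_family_big (hQ : (QuadraticMap.polarBilin Q).Nondegenerate) (h2 : (2 : F) ≠ 0)
    (hn : 2 ≤ n) (hcard : 2 * k + 0 = n)
    (hsq : IsSquare (Matrix.of (fun i j : Fin n =>
      QuadraticMap.polar ⇑Q (Pi.single i 1) (Pi.single j 1))).det) :
    ∃ u : Idx k 0 → Fin n → F, IsOF Q u ∧ ∀ p, Q (u (Sum.inl p)) = 1 := by
  have he : Even n := ⟨k, by omega⟩
  obtain ⟨g, hg, hg1⟩ := (Cfsg.Agent.S2610.result h2 hn he Q hQ).2 hsq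
  rw [eq_negOne Q g hg1] at hg
  obtain ⟨v, hv, hvs⟩ := exists_same_even Q hQ h2 hn he hg
  choose s hs using hvs
  let β : Idx k 0 ≃ Fin n := Fintype.equivFinOfCardEq (by rw [card_Idx, hcard])
  have hQu : ∀ i : Idx k 0, Q (s (β i) • v (β i)) = 1 := by
    intro i
    rw [QuadraticMap.map_smul, smul_eq_mul, mul_comm]
    exact hs (β i)
  refine ⟨fun i => s (β i) • v (β i), ⟨?_, ?_⟩, fun p => hQu _⟩
  · intro i j hij
    rw [QuadraticMap.polar_smul_left, QuadraticMap.polar_smul_right,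
      hv.1 (β i) (β j) (β.injective.ne hij), smul_zero, smul_zero]
  · intro i
    rw [hQu i]
    exact one_ne_zero

end Cfsg.Agent.Lib.H9.OmSyl
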