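import Mathlib
import Cfsg.Agent.Lib.H9.OmSylJ
import Cfsg.Agent.Lib.H11.IsoReindex

set_option autoImplicit false

/-!
# Front ends for forms on arbitrary coordinate types, and 2-adic arithmetic of the orders
-/

namespace Cfsg.Agent.Lib.H9.OmSyl

open Matrix Cfsg.Agent.Lib.H9.SqC Cfsg.Agent.Lib.H11.SpinSign Cfsg.Agent.Lib.H11.ORank
  Cfsg.Agent.Lib.H11.IsoReindex

section frontend

variable {F : Type*} [Field F] [Fintype F] {ι : Type} [Fintype ι] [DecidableEq ι]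

theorem sylow_general (Q : QuadraticForm F (ι → F)) (Qf : (ι → F) → F) (hQf : ⇑Q = Qf)
    (hQ : (QuadraticMap.polarBilin Q).Nondegenerate) (h2 : (2 : F) ≠ 0) {n k l : ℕ}
    (e : ι ≃ Fin n) (hn : 2 ≤ n) (hk : 2 ≤ k) (hcard : 2 * k + l = n)
    (hfam : ∃ u : Idx k l → Fin n → F, IsOF (trQF e Q) u ∧
      ∀ p, (trQF e Q) (u (Sum.inl p)) = 1)
    (hv : padicValNat 2 (Nat.card ↥(Cfsg.isometryGroup F Qf)) ≤
      k * (padicValNat 2 (Nat.card ↥(rotT F)) + 1) + padicValNat 2 k.factorial + l)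
    (P : Sylow 2 (Cfsg.Omega F Qf)) (x : ↥(P : Subgroup (Cfsg.Omega F Qf))) :
    x ^ 2 ∈ commutator ↥(P : Subgroup (Cfsg.Omega F Qf)) := by
  subst hQf
  obtain ⟨u, hu, hu1⟩ := hfam
  exact sylow_fin (trQF e Q) (nondeg_trQF e Q hQ) h2 hn hk hcard u hu hu1 (isoEquiv e ⇑Q) hv P x

/-- the case `l ≥ 1` -/
theorem sylow_general_last (Q : QuadraticForm F (ι → F)) (Qf : (ι → F) → F) (hQf : ⇑Q = Qf)
    (hQ : (QuadraticMap.polarBilin Q).Nondegenerate) (h2 : (2 : F) ≠ 0) {n k l : ℕ}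
    (e : ι ≃ Fin n) (hk : 2 ≤ k) (hl : 1 ≤ l) (hcard : 2 * k + l = n)
    (hv : padicValNat 2 (Nat.card ↥(Cfsg.isometryGroup F Qf)) ≤
      k * (padicValNat 2 (Nat.card ↥(rotT F)) + 1) + padicValNat 2 k.factorial + l)
    (P : Sylow 2 (Cfsg.Omega F Qf)) (x : ↥(P : Subgroup (Cfsg.Omega F Qf))) :
    x ^ 2 ∈ commutator ↥(P : Subgroup (Cfsg.Omega F Qf)) :=
  sylow_general Q Qf hQf hQ h2 e (by omega) hk hcard
    (exists_family_last (trQF e Q) (nondeg_trQF e Q hQ) h2 hl hcard) hv P x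

theorem single_comp_equiv {n : ℕ} (e : ι ≃ Fin n) (i : Fin n) :
    (Pi.single i (1 : F) : Fin n → F) ∘ e = Pi.single (e.symm i) 1 := by
  funext j
  simp only [Function.comp_apply, Pi.single_apply]
  by_cases h : e j = i
  · rw [if_pos h, if_pos]
    rw [← h, Equiv.symm_apply_apply]
  · rw [if_neg h, if_neg]
    intro h'
    apply h
    rw [h', Equiv.apply_symm_apply]

/-- the case `l = 0`, with square discriminant -/
theorem sylow_general_big (Q : QuadraticForm F (ι → F)) (Qf : (ι → F) → F) (hQf : ⇑Q = Qf)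
    (hQ : (QuadraticMap.polarBilin Q).Nondegenerate) (h2 : (2 : F) ≠ 0) {n k : ℕ}
    (e : ι ≃ Fin n) (hk : 2 ≤ k) (hcard : 2 * k + 0 = n)
    (hsq : ∀ b : Module.Basis (Fin n) F (ι → F),
      IsSquare (Matrix.of (fun i j : Fin n => QuadraticMap.polar Qf (b i) (b j))).det)
    (hv : padicValNat 2 (Nat.card ↥(Cfsg.isometryGroup F Qf)) ≤
      k * (padicValNat 2 (Nat.card ↥(rotT F)) + 1) + padicValNat 2 k.factorial + 0)
    (P : Sylow 2 (Cfsg.Omega F Qf)) (x : ↥(P : Subgroup (Cfsg.Omega F Qf))) :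
    x ^ 2 ∈ commutator ↥(P : Subgroup (Cfsg.Omega F Qf)) := by
  refine sylow_general Q Qf hQf hQ h2 e (by omega) hk hcard
    (exists_family_big (trQF e Q) (nondeg_trQF e Q hQ) h2 (by omega) hcard ?_) hv P x
  have h := hsq ((Pi.basisFun F ι).reindex e)
  convert h using 3
  ext i j
  rw [Module.Basis.reindex_apply, Module.Basis.reindex_apply,
    Pi.basisFun_apply, Pi.basisFun_apply, ← hQf, ← single_comp_equiv, ← single_comp_equiv]
  rfl

end frontend

section arith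

variable (q : ℕ) (hq : Odd q) (hq1 : 1 < q)

include hq hq1

theorem pow_sub_one_ne_zero (j : ℕ) (hj : j ≠ 0) : q ^ j - 1 ≠ 0 := by
  have : 1 < q ^ j := Nat.one_lt_pow hj hq1
  omega

theorem v2_pow_q (j : ℕ) : padicValNat 2 (q ^ j) = 0 := by
  have h2q : ¬ 2 ∣ q := by
    rcases hq with ⟨k, hk⟩
    omega
  rw [padicValNat.pow, padicValNat.eq_zero_of_not_dvd h2q, mul_zero]

theorem v2_prod_range (r : ℕ) :
    padicValNat 2 (∏ i ∈ Finset.range r, (q ^ (2 * (i + 1)) - 1)) =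
      r * (padicValNat 2 (q - 1) + padicValNat 2 (q + 1)) + padicValNat 2 r.factorial := by
  induction r with
  | zero => simp
  | succ r ih =>
    have h1 : ∏ i ∈ Finset.range r, (q ^ (2 * (i + 1)) - 1) ≠ 0 := by
      apply Finset.prod_ne_zero_iff.2
      intro i _
      exact pow_sub_one_ne_zero q hq hq1 _ (by omega)
    rw [Finset.prod_range_succ, padicValNat.mul h1 (pow_sub_one_ne_zero q hq hq1 _ (by omega)), ih,
      v2_pow_sub_one_even q hq hq1 (r + 1) (by omega), Nat.factorial_succ,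
      padicValNat.mul (by omega) (Nat.factorial_ne_zero r)]
    ring

theorem prod_range_ne_zero (r : ℕ) : ∏ i ∈ Finset.range r, (q ^ (2 * (i + 1)) - 1) ≠ 0 := by
  apply Finset.prod_ne_zero_iff.2
  intro i _
  exact pow_sub_one_ne_zero q hq hq1 _ (by omega)

theorem v2_order_odd (m : ℕ) :
    padicValNat 2 (2 * q ^ (m ^ 2) * ∏ i ∈ Finset.range m, (q ^ (2 * (i + 1)) - 1)) =
      m * (padicValNat 2 (q - 1) + padicValNat 2 (q + 1)) + padicValNat 2 m.factorial + 1 := by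
  have hqm : q ^ (m ^ 2) ≠ 0 := by positivity
  rw [padicValNat.mul (mul_ne_zero (by norm_num) hqm) (prod_range_ne_zero q hq hq1 m),
    padicValNat.mul (by norm_num) hqm, padicValNat_self, v2_pow_q q hq hq1,
    v2_prod_range q hq hq1]
  ring

theorem v2_order_plus (m : ℕ) (hm : 1 ≤ m) :
    padicValNat 2 (2 * q ^ (m * (m - 1)) * (q ^ m - 1) *
      ∏ i ∈ Finset.range (m - 1), (q ^ (2 * (i + 1)) - 1)) =
      (m - 1) * (padicValNat 2 (q - 1) + padicValNat 2 (q + 1)) +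
        padicValNat 2 (m - 1).factorial + padicValNat 2 (q ^ m - 1) + 1 := by
  have hqm : q ^ (m * (m - 1)) ≠ 0 := by positivity
  have h3 := pow_sub_one_ne_zero q hq hq1 m (by omega)
  rw [padicValNat.mul (mul_ne_zero (mul_ne_zero (by norm_num) hqm) h3)
      (prod_range_ne_zero q hq hq1 _),
    padicValNat.mul (mul_ne_zero (by norm_num) hqm) h3,
    padicValNat.mul (by norm_num) hqm, padicValNat_self, v2_pow_q q hq hq1,
    v2_prod_range q hq hq1]
  ring

theorem v2_order_minus (m : ℕ) :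
    padicValNat 2 (2 * q ^ (m * (m - 1)) * (q ^ m + 1) *
      ∏ i ∈ Finset.range (m - 1), (q ^ (2 * (i + 1)) - 1)) =
      (m - 1) * (padicValNat 2 (q - 1) + padicValNat 2 (q + 1)) +
        padicValNat 2 (m - 1).factorial + padicValNat 2 (q ^ m + 1) + 1 := by
  have hqm : q ^ (m * (m - 1)) ≠ 0 := by positivity
  have h3 : q ^ m + 1 ≠ 0 := by omega
  rw [padicValNat.mul (mul_ne_zero (mul_ne_zero (by norm_num) hqm) h3)
      (prod_range_ne_zero q hq hq1 _),
    padicValNat.mul (mul_ne_zero (by norm_num) hqm) h3,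
    padicValNat.mul (by norm_num) hqm, padicValNat_self, v2_pow_q q hq hq1,
    v2_prod_range q hq hq1]
  ring

theorem pow_mod_four_of_even (m : ℕ) (hm : Even m) : q ^ m % 4 = 1 := by
  obtain ⟨j, rfl⟩ := hm
  rw [← two_mul, pow_mul, Nat.pow_mod]
  have : q ^ 2 % 4 = 1 := by
    rcases hq with ⟨k, rfl⟩
    have : (2 * k + 1) ^ 2 = 4 * (k * k + k) + 1 := by ring
    rw [this]
    omega
  rw [this]
  simp

theorem pow_mod_four_of_one (m : ℕ) (h : q % 4 = 1) : q ^ m % 4 = 1 := by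
  rw [Nat.pow_mod, h]
  simp

theorem pow_mod_four_of_three (m : ℕ) (hm : Odd m) (h : q % 4 = 3) : q ^ m % 4 = 3 := by
  obtain ⟨j, rfl⟩ := hm
  rw [pow_succ, Nat.mul_mod, pow_mod_four_of_even q hq hq1 (2 * j) (even_two_mul j), h]

theorem v2_pow_add_one_of_mod (m : ℕ) (h : q ^ m % 4 = 1) : padicValNat 2 (q ^ m + 1) = 1 :=
  padicValNat_two_of_mod_four (by omega)

theorem v2_pow_add_one_odd (m : ℕ) (hm : Odd m) :
    padicValNat 2 (q ^ m + 1) = padicValNat 2 (q + 1) := by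
  have hm0 : m ≠ 0 := by
    rintro rfl
    exact absurd hm (by decide)
  have h1 := v2_pow_sub_one_even q hq hq1 m hm0
  have h2 := v2_pow_sub_one_odd q hq hq1 m hm
  have h3 : q ^ (2 * m) - 1 = (q ^ m - 1) * (q ^ m + 1) := by
    have hp : 1 ≤ q ^ m := Nat.one_le_pow _ _ (by omega)
    obtain ⟨b, hb⟩ : ∃ b, q ^ m = b + 1 := ⟨q ^ m - 1, by omega⟩
    rw [mul_comm 2 m, pow_mul, hb, Nat.add_sub_cancel]
    have : (b + 1) ^ 2 = b * (b + 1 + 1) + 1 := by ring
    rw [this, Nat.add_sub_cancel]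
  rw [h3, padicValNat.mul (pow_sub_one_ne_zero q hq hq1 m hm0) (by omega), h2] at h1
  have hmv : padicValNat 2 m = 0 := by
    apply padicValNat.eq_zero_of_not_dvd
    rcases hm with ⟨j, rfl⟩
    omega
  omega

theorem v2_factorial_pred (m : ℕ) (hm : 1 ≤ m) :
    padicValNat 2 m.factorial = padicValNat 2 m + padicValNat 2 (m - 1).factorial := by
  obtain ⟨j, rfl⟩ : ∃ j, m = j + 1 := ⟨m - 1, by omega⟩
  rw [Nat.factorial_succ, padicValNat.mul (by omega) (Nat.factorial_ne_zero j), Nat.add_sub_cancel]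

end arith

end Cfsg.Agent.Lib.H9.OmSyl
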