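import Mathlib
import Cfsg.Agent.Lib.H13.O7Defs
import Cfsg.Agent.Lib.H9.OmSylI
import Cfsg.Agent.Lib.H11.InvCls1

/-!
# S2647 piece IF (helper9): `O(quadFormOdd 3 F) ≃* O7 F` for every finite field of odd order

`x₀² + Σ xᵢ yᵢ = -(sum of seven squares)` after a linear change of coordinates, using `a² + b² = -1`.
-/

set_option autoImplicit false

namespace Cfsg.Agent.Lib.H13.O7

open Matrix Equiv Cfsg

variable {F : Type*} [Field F]

/-- forward change of coordinates -/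
def ifFwd (a b h : F) (v : Unit ⊕ (Fin 3 ⊕ Fin 3) → F) : Fin 7 → F :=
  ![h * (v (.inr (.inl 0)) - v (.inr (.inr 0))),
    h * (v (.inr (.inl 1)) - v (.inr (.inr 1))),
    h * (v (.inr (.inl 2)) - v (.inr (.inr 2))),
    a * v (.inl ()) + b * (h * (v (.inr (.inl 0)) + v (.inr (.inr 0)))),
    -b * v (.inl ()) + a * (h * (v (.inr (.inl 0)) + v (.inr (.inr 0)))),
    a * (h * (v (.inr (.inl 1)) + v (.inr (.inr 1)))) + b * (h * (v (.inr (.inl 2)) + v (.inr (.inr 2)))),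
    -b * (h * (v (.inr (.inl 1)) + v (.inr (.inr 1)))) + a * (h * (v (.inr (.inl 2)) + v (.inr (.inr 2))))]

/-- backward change of coordinates -/
def ifBwd (a b : F) (z : Fin 7 → F) : Unit ⊕ (Fin 3 ⊕ Fin 3) → F :=
  Sum.elim (fun _ => -a * z 3 + b * z 4)
    (Sum.elim
      ![(-b * z 3 - a * z 4) + z 0, (-a * z 5 + b * z 6) + z 1, (-b * z 5 - a * z 6) + z 2]
      ![(-b * z 3 - a * z 4) - z 0, (-a * z 5 + b * z 6) - z 1, (-b * z 5 - a * z 6) - z 2])

theorem ifBwd_ifFwd {a b h : F} (hab : a ^ 2 + b ^ 2 = -1) (hh : 2 * h = 1)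
    (v : Unit ⊕ (Fin 3 ⊕ Fin 3) → F) : ifBwd a b (ifFwd a b h v) = v := by
  funext i
  rcases i with ⟨⟩ | i | i
  · simp only [ifBwd, ifFwd, Sum.elim_inl]
    simp
    linear_combination (-v (Sum.inl ())) * hab
  · fin_cases i
    · simp [ifBwd, ifFwd]
      linear_combination (-(h * (v (.inr (.inl 0)) + v (.inr (.inr 0))))) * hab +
        (v (.inr (.inl 0))) * hh
    · simp [ifBwd, ifFwd]
      linear_combination (-(h * (v (.inr (.inl 1)) + v (.inr (.inr 1))))) * hab +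
        (v (.inr (.inl 1))) * hh
    · simp [ifBwd, ifFwd]
      linear_combination (-(h * (v (.inr (.inl 2)) + v (.inr (.inr 2))))) * hab +
        (v (.inr (.inl 2))) * hh
  · fin_cases i
    · simp [ifBwd, ifFwd]
      linear_combination (-(h * (v (.inr (.inl 0)) + v (.inr (.inr 0))))) * hab +
        (v (.inr (.inr 0))) * hh
    · simp [ifBwd, ifFwd]
      linear_combination (-(h * (v (.inr (.inl 1)) + v (.inr (.inr 1))))) * hab +
        (v (.inr (.inr 1))) * hh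
    · simp [ifBwd, ifFwd]
      linear_combination (-(h * (v (.inr (.inl 2)) + v (.inr (.inr 2))))) * hab +
        (v (.inr (.inr 2))) * hh

theorem ifFwd_ifBwd {a b h : F} (hab : a ^ 2 + b ^ 2 = -1) (hh : 2 * h = 1)
    (z : Fin 7 → F) : ifFwd a b h (ifBwd a b z) = z := by
  funext i
  fin_cases i
  · simp [ifBwd, ifFwd]
    linear_combination (z 0) * hh
  · simp [ifBwd, ifFwd]
    linear_combination (z 1) * hh
  · simp [ifBwd, ifFwd]
    linear_combination (z 2) * hh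
  · simp [ifBwd, ifFwd]
    linear_combination (-z 3) * hab + (b * (-b * z 3 - a * z 4)) * hh
  · simp [ifBwd, ifFwd]
    linear_combination (-z 4) * hab + (a * (-b * z 3 - a * z 4)) * hh
  · simp [ifBwd, ifFwd]
    linear_combination (-z 5) * hab + (a * (-a * z 5 + b * z 6) + b * (-b * z 5 - a * z 6)) * hh
  · simp [ifBwd, ifFwd]
    linear_combination (-z 6) * hab + (-b * (-a * z 5 + b * z 6) + a * (-b * z 5 - a * z 6)) * hh

/-- the change of coordinates as a linear equivalence -/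
def ifEquiv {a b h : F} (hab : a ^ 2 + b ^ 2 = -1) (hh : 2 * h = 1) :
    (Unit ⊕ (Fin 3 ⊕ Fin 3) → F) ≃ₗ[F] (Fin 7 → F) where
  toFun := ifFwd a b h
  invFun := ifBwd a b
  left_inv := ifBwd_ifFwd hab hh
  right_inv := ifFwd_ifBwd hab hh
  map_add' := by
    intro v w
    funext i
    fin_cases i <;> simp [ifFwd] <;> ring
  map_smul' := by
    intro c v
    funext i
    fin_cases i <;> simp [ifFwd] <;> ring

theorem Qn_ifEquiv {a b h : F} (hab : a ^ 2 + b ^ 2 = -1) (hh : 2 * h = 1)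
    (v : Unit ⊕ (Fin 3 ⊕ Fin 3) → F) :
    (Qn F) (ifEquiv hab hh v) = Cfsg.quadFormOdd 3 F v := by
  rw [Qn_apply]
  show - ∑ i, ifFwd a b h v i * ifFwd a b h v i = _
  rw [Fin.sum_univ_seven]
  unfold Cfsg.quadFormOdd
  rw [Fin.sum_univ_three]
  simp [ifFwd]
  linear_combination
    (-(v (.inl ()) ^ 2 + (h * (v (.inr (.inl 0)) + v (.inr (.inr 0)))) ^ 2 +
      (h * (v (.inr (.inl 1)) + v (.inr (.inr 1)))) ^ 2 +
      (h * (v (.inr (.inl 2)) + v (.inr (.inr 2)))) ^ 2)) * hab +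
    ((2 * h + 1) * (v (.inr (.inl 0)) * v (.inr (.inr 0)) + v (.inr (.inl 1)) * v (.inr (.inr 1)) +
      v (.inr (.inl 2)) * v (.inr (.inr 2)))) * hh

theorem exists_iso [Fintype F] (h2 : (2 : F) ≠ 0) :
    Nonempty (↥(Cfsg.isometryGroup F (Cfsg.quadFormOdd 3 F)) ≃* O7 F) := by
  obtain ⟨a, b, hab⟩ := Cfsg.Agent.Lib.H11.InvCls.exists_norm (-1 : F) (-1) (by simp)
  have hab' : a ^ 2 + b ^ 2 = -1 := by linear_combination hab
  have hh : 2 * (2 : F)⁻¹ = 1 := mul_inv_cancel₀ h2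
  exact ⟨Cfsg.Agent.Lib.H9.OmSyl.isoMulEquiv (ifEquiv hab' hh) (Cfsg.quadFormOdd 3 F) (⇑(Qn F))
    (Qn_ifEquiv hab' hh)⟩

end Cfsg.Agent.Lib.H13.O7
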