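import Mathlib
import Cfsg.Prelude.Def_Characters
import Cfsg.Agent.Lib.H9.SHLOCp
import Cfsg.Agent.Lib.L0.CharBasic

/-!
# S3016 (Shult, odd `p`), CASE B with `|H| = p` (in particular `q = 3`): piece Q3-PT (helper9)

`H` an abelian extremely closed subgroup of prime order `p`, `T_g = ⟨H, g H g⁻¹⟩ = K_g ⋊ H`.
* `mem_Kg_of_not_dvd` : a `p`-regular element of `T_g` lies in `K_g`;
* `coset_conj_eq`     : for `H = ⟨a⟩`, every element of the coset `a K_g` is `K_g`-conjugate to `a`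
  (`C_{K_g}(a) = C_{K_g}(H) ≤ K_g ⊓ N_G(H) = 1`);
* `qp_pointwise` / `q3_pointwise` : with the representation-theoretic lemma Q3-REP as a hypothesis,
  `2 Re χ(a) - χ(1) ≤ Re χ(a * g b g⁻¹)` whenever `a * g b g⁻¹` is `p`-regular.
-/

set_option autoImplicit false

namespace Cfsg.Agent.Lib.H9.SHp

open Cfsg

variable {G : Type*} [Group G] [Finite G] {H : Subgroup G} {p : ℕ} [hp : Fact p.Prime]

/-- a `p`-regular element of `T_g = K_g H` lies in `K_g` -/
theorem mem_Kg_of_not_dvd (hHp : IsPGroup p H) (hHab : IsMulCommutative H)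
    (hcl : IsExtremelyClosed H) (g : G) {y : G} (hy : y ∈ Tg H g)
    (hyp : ¬ p ∣ orderOf y) : y ∈ Kg p H g := by
  have hK' : (Nat.card (Cfsg.pPrimeCore p ↥(Tg H g))).Coprime p :=
    Cfsg.Agent.Lib.H22.card_pPrimeCore_coprime p
  have hH' : IsPGroup p (H.subgroupOf (Tg H g)) := hHp.comap_subtype
  have htop : (⟨y, hy⟩ : ↥(Tg H g)) ∈
      H.subgroupOf (Tg H g) ⊔ Cfsg.pPrimeCore p ↥(Tg H g) := by
    rw [subgroupOf_sup_pPrimeCore hHp hHab hcl g]
    exact Subgroup.mem_top _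
  obtain ⟨h', hh', u', hu', hhu⟩ := (Subgroup.mem_sup_of_normal_right).1 htop
  set m := orderOf y with hm
  obtain ⟨z, hz, hzm⟩ := pow_mul_mem (Cfsg.pPrimeCore p ↥(Tg H g)) h' u' hu' m
  have h1 : (h' * u') ^ m = 1 := by
    rw [hhu]
    apply Subtype.ext
    simp only [SubgroupClass.coe_pow, OneMemClass.coe_one]
    rw [hm]
    exact pow_orderOf_eq_one y
  have h2 : h' ^ m = z⁻¹ := by
    rw [h1] at hzm
    exact eq_inv_of_mul_eq_one_left hzm.symm
  have h3 : h' ^ m = 1 :=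
    eq_one_of_mem_of_mem hH' hK' (Subgroup.pow_mem _ hh' _)
      (h2 ▸ Subgroup.inv_mem _ hz)
  have h4 : orderOf h' ∣ m := orderOf_dvd_of_pow_eq_one h3
  obtain ⟨e, he⟩ := exists_pow_eq_one hH' hh'
  have h5 : orderOf h' ∣ p ^ e := orderOf_dvd_of_pow_eq_one he
  obtain ⟨i, _, hi⟩ := (Nat.dvd_prime_pow hp.out).1 h5
  have hi0 : i = 0 := by
    by_contra hne
    apply hyp
    refine dvd_trans ?_ h4
    rw [hi]
    exact dvd_pow_self p hne
  rw [hi0, pow_zero, orderOf_eq_one_iff] at hi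
  rw [hi, one_mul] at hhu
  refine ⟨u', hu', ?_⟩
  rw [hhu]
  rfl

/-- for `H = ⟨a⟩` every element of the coset `a K_g` is `K_g`-conjugate to `a` -/
theorem coset_conj_eq (hHp : IsPGroup p H) (hHab : IsMulCommutative H)
    (hcl : IsExtremelyClosed H) {a : G} (ha : a ∈ H)
    (hcyc : ∀ x ∈ H, x ∈ Subgroup.zpowers a) (g : G) {l : G} (hl : l ∈ Kg p H g) :
    ∃ k ∈ Kg p H g, k * (a * l) * k⁻¹ = a := by
  obtain ⟨k, hk, w, hw, hwa, hkw⟩ := coset_conj_Kg hHp hHab hcl g ha hl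
  refine ⟨k, hk, ?_⟩
  have hwcen : w ∈ Subgroup.centralizer (H : Set G) := by
    rw [Subgroup.mem_centralizer_iff]
    intro x hx
    obtain ⟨n, rfl⟩ := Subgroup.mem_zpowers_iff.1 (hcyc x hx)
    have hc : Commute w a := hwa
    exact ((hc.zpow_right n).eq).symm
  have hwN : w ∈ Subgroup.normalizer (H : Set G) := by
    rw [Subgroup.mem_normalizer_iff]
    intro z
    have hyz : ∀ z ∈ H, w * z * w⁻¹ = z := by
      intro z hz
      have := (Subgroup.mem_centralizer_iff.1 hwcen) z hz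
      calc w * z * w⁻¹ = (z * w) * w⁻¹ := by rw [this]
        _ = z := by group
    constructor
    · intro hz
      rw [hyz z hz]; exact hz
    · intro hz
      have h3 : w⁻¹ * (w * z * w⁻¹) * w = z := by group
      have h4 : w⁻¹ * (w * z * w⁻¹) * w = w * z * w⁻¹ := by
        have := (Subgroup.mem_centralizer_iff.1 hwcen) _ hz
        calc w⁻¹ * (w * z * w⁻¹) * w = w⁻¹ * ((w * z * w⁻¹) * w) := by group
          _ = w⁻¹ * (w * (w * z * w⁻¹)) := by rw [this]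
          _ = w * z * w⁻¹ := by group
      rw [← h3, h4]; exact hz
  have hw1 : w = 1 := by
    have h2 : w ∈ Kg p H g ⊓ Subgroup.normalizer (H : Set G) := ⟨hw, hwN⟩
    rw [Kg_inf_normalizer hHp hHab hcl g, Subgroup.mem_bot] at h2
    exact h2
  rw [hkw, hw1, mul_one]

/-- a group of prime order is generated by each of its nontrivial elements (elementwise form) -/
theorem mem_zpowers_of_card_eq_prime (hq : Nat.card H = p) {a : G} (ha : a ∈ H) (ha1 : a ≠ 1) :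
    ∀ x ∈ H, x ∈ Subgroup.zpowers a := by
  intro x hx
  have ha1' : (⟨a, ha⟩ : ↥H) ≠ 1 := fun h => ha1 (congrArg Subtype.val h)
  have htop : Subgroup.zpowers (⟨a, ha⟩ : ↥H) = ⊤ := zpowers_eq_top_of_prime_card hq ha1'
  have hx' : (⟨x, hx⟩ : ↥H) ∈ Subgroup.zpowers (⟨a, ha⟩ : ↥H) := by
    rw [htop]; exact Subgroup.mem_top _
  obtain ⟨n, hn⟩ := Subgroup.mem_zpowers_iff.1 hx'
  refine Subgroup.mem_zpowers_iff.2 ⟨n, ?_⟩
  have := congrArg Subtype.val hn
  simpa using this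

/-- **Q3-PT**, general prime: the pointwise bound on the `p`-regular products. -/
theorem qp_pointwise (hHp : IsPGroup p H) (hHab : IsMulCommutative H)
    (hcl : IsExtremelyClosed H) (hq : Nat.card H = p)
    (hrep : ∀ (χ : G → ℂ), Cfsg.IsCharacter G χ → ∀ (L : Subgroup G) (a : G),
      (∀ l ∈ L, a * l * a⁻¹ ∈ L) → (∀ l ∈ L, χ (a * l) = χ a) →
      ∀ y ∈ L, 2 * (χ a).re - (χ 1).re ≤ (χ y).re)
    (χ : G → ℂ) (hχ : Cfsg.IsCharacter G χ) (a b g : G) (ha : a ∈ H) (ha1 : a ≠ 1) (hb : b ∈ H)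
    (hcop : ¬ p ∣ orderOf (a * (g * b * g⁻¹))) :
    2 * (χ a).re - (χ 1).re ≤ (χ (a * (g * b * g⁻¹))).re := by
  have hyT : a * (g * b * g⁻¹) ∈ Tg H g :=
    (Tg H g).mul_mem (H_le_Tg H g ha) (conj_mem_Tg H g hb)
  have hyK := mem_Kg_of_not_dvd hHp hHab hcl g hyT hcop
  have hcyc := mem_zpowers_of_card_eq_prime hq ha ha1
  refine hrep χ hχ (Kg p H g) a ?_ ?_ _ hyK
  · intro l hl
    exact Kg_conj_mem p H g (H_le_Tg H g ha) hl
  · intro l hl
    obtain ⟨k, _, hk⟩ := coset_conj_eq hHp hHab hcl ha hcyc g hl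
    have hcf := Cfsg.Agent.Lib.L0.isClassFunction_of_isCharacter hχ
    calc χ (a * l) = χ (k * (a * l) * k⁻¹) := (hcf (a * l) k).symm
      _ = χ a := by rw [hk]

/-- **Q3-PT** in the shape of the architect's cut (`p = 3`). -/
theorem q3_pointwise {H : Subgroup G} (hH3 : IsPGroup 3 H) (hHab : IsMulCommutative H)
    (hcl : Cfsg.IsExtremelyClosed H) (hq : Nat.card H = 3)
    (hrep : ∀ (χ : G → ℂ), Cfsg.IsCharacter G χ → ∀ (L : Subgroup G) (a : G),
      (∀ l ∈ L, a * l * a⁻¹ ∈ L) → (∀ l ∈ L, χ (a * l) = χ a) →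
      ∀ y ∈ L, 2 * (χ a).re - (χ 1).re ≤ (χ y).re)
    (χ : G → ℂ) (hχ : Cfsg.IsCharacter G χ) (a b g : G) (ha : a ∈ H) (ha1 : a ≠ 1) (hb : b ∈ H)
    (hcop : ¬ 3 ∣ orderOf (a * (g * b * g⁻¹))) :
    2 * (χ a).re - (χ 1).re ≤ (χ (a * (g * b * g⁻¹))).re :=
  haveI : Fact (Nat.Prime 3) := ⟨Nat.prime_three⟩
  qp_pointwise hH3 hHab hcl hq hrep χ hχ a b g ha ha1 hb hcop

end Cfsg.Agent.Lib.H9.SHp
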