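import Cfsg.Agent.Lib.H14.FCDefs

/-!
# S4427 piece INJ (helper9): comparison of corners `e A e ↪ e_Q A e_R`
-/

set_option autoImplicit false

namespace Cfsg.Agent.Lib.H9.FC

open Cfsg MonoidAlgebra Cfsg.Agent.Lib.H23 Cfsg.Agent.Lib.H24 Cfsg.Agent.Lib.L0
open Cfsg.Agent.Lib.H14.FC
open scoped ComplexConjugate

section
variable {G : Type*} [Group G] [Fintype G]

theorem finrank_corner_le (e eQ eR E y : MonoidAlgebra ℂ G) (hE : E = eQ * eR * eQ)
    (hQ : eQ * eQ = eQ) (he : e = E * y) (hc : E * y = y * E) (hee : e * e = e) :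
    Module.finrank ℂ (LinearMap.range (cornerMap e e)) ≤
      Module.finrank ℂ (LinearMap.range (cornerMap eQ eR)) := by
  have h1 : eQ * e = e := by
    rw [he, hE]
    simp only [← mul_assoc, hQ]
  have h2 : e * eQ = e := by
    rw [he, hc, hE]
    simp only [mul_assoc, hQ]
  set f : LinearMap.range (cornerMap e e) →ₗ[ℂ] LinearMap.range (cornerMap eQ eR) :=
    (cornerMap eQ eR).rangeRestrict.comp (Submodule.subtype _) with hf
  apply LinearMap.finrank_le_finrank_of_injective (f := f)
  rw [← LinearMap.ker_eq_bot, LinearMap.ker_eq_bot']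
  rintro ⟨x, a, rfl⟩ hx
  have hx' : eQ * ((cornerMap e e a) * eR) = 0 := by
    have := congrArg Subtype.val hx
    simpa [hf, cornerMap_apply] using this
  rw [cornerMap_apply] at hx'
  ext1
  change cornerMap e e a = 0
  rw [cornerMap_apply]
  -- x = e * (a * e)
  have hxQ : eQ * (e * (a * e)) = e * (a * e) := by rw [← mul_assoc, h1]
  have hxe : e * (a * e) = (e * (a * e)) * e := by
    simp only [mul_assoc, hee]
  have hxeQ : (e * (a * e)) * eQ = e * (a * e) := by
    simp only [mul_assoc, h2]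
  have key : e * (a * e) = (eQ * ((e * (a * e)) * eR)) * (eQ * y) := by
    calc e * (a * e) = (e * (a * e)) * e := hxe
      _ = (e * (a * e)) * (eQ * eR * eQ * y) := by rw [he, hE]
      _ = ((e * (a * e)) * eQ) * (eR * (eQ * y)) := by simp only [mul_assoc]
      _ = (e * (a * e)) * (eR * (eQ * y)) := by rw [hxeQ]
      _ = (eQ * (e * (a * e))) * (eR * (eQ * y)) := by rw [hxQ]
      _ = (eQ * ((e * (a * e)) * eR)) * (eQ * y) := by simp only [mul_assoc]
  rw [key, hx', zero_mul]

end

end Cfsg.Agent.Lib.H9.FC
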