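import Cfsg.Agent.Lib.H14.SuzM.Cov3

set_option autoImplicit false
set_option maxRecDepth 100000

/-!
# S2048 piece P3 (helper9): facts on the presented triple cover `PC3` of `Suz`
-/

namespace Cfsg.Agent.Lib.H9.SuzM

open Cfsg.Agent.Lib.H14.SuzM
open Cfsg.Agent.Lib.H17.SuzGlue (gen idx rels relW)
open scoped commutatorElement

/-! ### Words in the free group -/

theorem mk_word (w : List ℕ) :
    (FreeGroup.mk (w.map fun x => (gen x, true)) : FreeGroup Cfsg.Spor.Suz.Gen) =
      (w.map fun x => FreeGroup.of (gen x)).prod := by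
  induction w with
  | nil => rfl
  | cons x w ih =>
    rw [List.map_cons, List.map_cons, List.prod_cons, ← ih]
    rfl

/-- the words of `covW3` are trivial in `PC3` -/
theorem wv_pc3_eq_one : ∀ w ∈ covW3, wv pc3 w = 1 := by
  intro w hw
  have h : PresentedGroup.mk covRels3 (FreeGroup.mk (w.map fun x => (gen x, true))) = 1 :=
    PresentedGroup.one_of_mem ⟨w, hw, rfl⟩
  rw [mk_word, map_list_prod, List.map_map] at h
  exact h

/-! ### Membership facts on the lists -/

theorem sq_mem : ∀ i < 7, [i, i] ∈ covW3 := by decide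

theorem comm_mem : ∀ x < 7, zw ++ [x] ++ zw.reverse ++ [x] ∈ covW3 := by decide

theorem cube_mem : zw ++ zw ++ zw ∈ covW3 := by decide

theorem relW_cases : ∀ w ∈ relW, w ∈ covW3 ∨ w = zw := by decide

theorem covW3_cases : ∀ w ∈ covW3, w ∈ relW ∨ (∃ x < 7, w = zw ++ [x] ++ zw.reverse ++ [x]) ∨
    w = zw ++ zw ++ zw := by decide

theorem zw_mem : zw ∈ relW := by decide

theorem zw_lt : ∀ x ∈ zw, x < 7 := by decide

/-! ### Involutions -/

section invol

variable {Γ : Type*} [Group Γ] (g : ℕ → Γ)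

/-- the reversed word gives the inverse when the letters are involutions -/
theorem wv_reverse (w : List ℕ) (hw : ∀ x ∈ w, g x * g x = 1) : wv g w.reverse = (wv g w)⁻¹ := by
  induction w with
  | nil => simp [wv]
  | cons x w ih =>
    have hx : (g x)⁻¹ = g x := by
      rw [inv_eq_iff_mul_eq_one]; exact hw x List.mem_cons_self
    have e1 : wv g [x] = g x := by simp [wv]
    rw [List.reverse_cons, wv_append, ih (fun y hy => hw y (List.mem_cons_of_mem _ hy)), e1,
      wv_cons g x w, mul_inv_rev, hx]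

end invol

theorem pc3_sq : ∀ i < 7, pc3 i * pc3 i = 1 := by
  intro i hi
  have h := wv_pc3_eq_one _ (sq_mem i hi)
  simpa [wv] using h

theorem z3_comm : ∀ x < 7, z3 * pc3 x = pc3 x * z3 := by
  intro x hx
  have h := wv_pc3_eq_one _ (comm_mem x hx)
  rw [wv_append, wv_append, wv_append, wv_reverse pc3 zw (fun y hy => pc3_sq y (zw_lt y hy))] at h
  have h1 : wv pc3 [x] = pc3 x := by simp [wv]
  rw [h1] at h
  have hx' : (pc3 x)⁻¹ = pc3 x := by
    rw [inv_eq_iff_mul_eq_one]; exact pc3_sq x hx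
  -- `z3 * x * z3⁻¹ * x = 1`
  have h2 : z3 * pc3 x * z3⁻¹ = (pc3 x)⁻¹ := by
    rw [eq_inv_iff_mul_eq_one]; exact h
  rw [hx'] at h2
  calc z3 * pc3 x = (z3 * pc3 x * z3⁻¹) * z3 := by group
    _ = pc3 x * z3 := by rw [h2]

theorem pc3_gen : Subgroup.closure {x : PC3 | ∃ i < 7, x = pc3 i} = ⊤ := by
  rw [eq_top_iff, ← PresentedGroup.closure_range_of]
  apply Subgroup.closure_mono
  rintro _ ⟨u, rfl⟩
  exact ⟨idx u, Cfsg.Agent.Lib.H17.SuzGlue.idx_lt u, by
    unfold pc3
    rw [Cfsg.Agent.Lib.H17.SuzGlue.gen_idx]⟩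

theorem z3_central : z3 ∈ Subgroup.center PC3 := by
  have hcen : Subgroup.centralizer {z3} = (⊤ : Subgroup PC3) := by
    rw [eq_top_iff, ← pc3_gen, Subgroup.closure_le]
    rintro _ ⟨i, hi, rfl⟩
    rw [SetLike.mem_coe, Subgroup.mem_centralizer_iff]
    intro h hh
    rw [Set.mem_singleton_iff] at hh
    subst hh
    exact z3_comm i hi
  rw [Subgroup.mem_center_iff]
  intro g
  have hg : g ∈ Subgroup.centralizer {z3} := by rw [hcen]; trivial
  rw [Subgroup.mem_centralizer_iff] at hg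
  exact (hg _ rfl).symm

theorem z3_cube : z3 ^ 3 = 1 := by
  have h := wv_pc3_eq_one _ cube_mem
  rw [wv_append, wv_append] at h
  rw [pow_succ, pow_two]
  exact h

/-! ### The covering map -/

theorem sg_sq : ∀ i < 7, sg i * sg i = 1 := by
  intro i _
  exact Cfsg.Agent.Lib.H17.SuzGlue.of_mul_self (gen i)

theorem wv_sg_relW : ∀ w ∈ relW, wv sg w = 1 := by
  intro w hw
  have h := Cfsg.Agent.Lib.H17.SuzGlue.relW_trivial w hw
  rw [List.map_map] at h
  exact h

theorem wv_sg_covW3 : ∀ w ∈ covW3, wv sg w = 1 := by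
  intro w hw
  have hz : wv sg zw = 1 := wv_sg_relW zw zw_mem
  rcases covW3_cases w hw with h | ⟨x, hx, rfl⟩ | rfl
  · exact wv_sg_relW w h
  · rw [wv_append, wv_append, wv_append, wv_reverse sg zw (fun y hy => sg_sq y (zw_lt y hy)), hz]
    have h1 : wv sg [x] = sg x := by simp [wv]
    rw [h1, inv_one, one_mul, mul_one]
    exact sg_sq x hx
  · rw [wv_append, wv_append, hz, one_mul, one_mul]

/-- the covering map -/
noncomputable def piC : PC3 →* G :=
  PresentedGroup.toGroup (f := fun u => (PresentedGroup.of u : G)) (by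
    rintro r ⟨w, hw, rfl⟩
    rw [mk_word, map_list_prod, List.map_map]
    have h := wv_sg_covW3 w hw
    unfold wv at h
    rw [← h]
    rfl)

theorem piC_pc3 (i : ℕ) : piC (pc3 i) = sg i :=
  PresentedGroup.toGroup.of _

theorem piC_wv (w : List ℕ) : piC (wv pc3 w) = wv sg w :=
  (map_wv pc3 piC w).trans rfl

/-! ### Perfectness -/

section perfect

variable {A : Type*} [CommGroup A] (a : ℕ → A)

theorem cancel_pair (h : ∀ i, a i * a i = 1) (i : ℕ) (t : A) : a i * (a i * t) = t := by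
  rw [← mul_assoc, h, one_mul]

/-- in an abelian group generated by involutions satisfying the words of `covW3` all letters are trivial -/
theorem ab_trivial (hsq : ∀ i, a i * a i = 1) (hrel : ∀ w ∈ covW3, wv a w = 1) : ∀ i < 7, a i = 1 := by
  have hc := cancel_pair a hsq
  have inv_eq : ∀ i, (a i)⁻¹ = a i := fun i => by
    rw [inv_eq_iff_mul_eq_one]; exact hsq i
  have eq_of_mul : ∀ i j, a i * a j = 1 → a i = a j := by
    intro i j h
    rw [← inv_eq j]
    exact eq_inv_of_mul_eq_one_left h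
  -- `a = b`
  have h01 : a 0 = a 1 := by
    have h := hrel [0, 1, 0, 1, 0, 1, 0, 1, 0, 1] (by decide)
    simp only [wv, List.map_cons, List.map_nil, List.prod_cons, List.prod_nil, mul_one] at h
    apply eq_of_mul
    have e : a 0 * (a 1 * (a 0 * (a 1 * (a 0 * (a 1 * (a 0 * (a 1 * (a 0 * a 1)))))))) =
        a 0 * (a 0 * (a 0 * (a 0 * (a 1 * (a 1 * (a 1 * (a 1 * (a 0 * a 1)))))))) := by
      ac_rfl
    rw [e, hc, hc, hc, hc] at h
    exact h
  have braid3 : ∀ i j, wv a [i, j, i, j, i, j] = 1 → a i = a j := by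
    intro i j h
    simp only [wv, List.map_cons, List.map_nil, List.prod_cons, List.prod_nil, mul_one] at h
    apply eq_of_mul
    have e : a i * (a j * (a i * (a j * (a i * a j)))) =
        a i * (a i * (a j * (a j * (a i * a j)))) := by
      ac_rfl
    rw [e, hc, hc] at h
    exact h
  have h12 : a 1 = a 2 := braid3 1 2 (hrel _ (by decide))
  have h15 : a 1 = a 5 := braid3 1 5 (hrel _ (by decide))
  have h16 : a 1 = a 6 := braid3 1 6 (hrel _ (by decide))
  have h34 : a 3 = a 4 := braid3 3 4 (hrel _ (by decide))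
  -- `a = (c d)^4`
  have h0 : a 0 = 1 := by
    have h := hrel [0, 3, 2, 3, 2, 3, 2, 3, 2] (by decide)
    simp only [wv, List.map_cons, List.map_nil, List.prod_cons, List.prod_nil, mul_one] at h
    have e : a 0 * (a 3 * (a 2 * (a 3 * (a 2 * (a 3 * (a 2 * (a 3 * a 2))))))) =
        a 3 * (a 3 * (a 3 * (a 3 * (a 2 * (a 2 * (a 2 * (a 2 * a 0))))))) := by
      ac_rfl
    rw [e, hc, hc, hc, hc] at h
    exact h
  have h1 : a 1 = 1 := by rw [← h01]; exact h0
  have h2 : a 2 = 1 := by rw [← h12]; exact h1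
  have h5 : a 5 = 1 := by rw [← h15]; exact h1
  have h6 : a 6 = 1 := by rw [← h16]; exact h1
  -- `e = ((b c d c d)^5 e)^3`
  have h4 : a 4 = 1 := by
    have h := hrel (relW.getD 25 []) (by decide)
    have hw : relW.getD 25 [] = [1, 2, 3, 2, 3, 1, 2, 3, 2, 3, 1, 2, 3, 2, 3, 1, 2, 3, 2, 3, 1, 2, 3, 2, 3, 4,
        1, 2, 3, 2, 3, 1, 2, 3, 2, 3, 1, 2, 3, 2, 3, 1, 2, 3, 2, 3, 1, 2, 3, 2, 3, 4,
        1, 2, 3, 2, 3, 1, 2, 3, 2, 3, 1, 2, 3, 2, 3, 1, 2, 3, 2, 3, 1, 2, 3, 2, 3, 4] := by decide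
    rw [hw] at h
    simp only [wv, List.map_cons, List.map_nil, List.prod_cons, List.prod_nil, mul_one, h1, h2, one_mul,
      h34, hc] at h
    simpa [hsq] using h
  have h3 : a 3 = 1 := by rw [h34]; exact h4
  intro i hi
  interval_cases i
  · exact h0
  · exact h1
  · exact h2
  · exact h3
  · exact h4
  · exact h5
  · exact h6

end perfect

theorem pc3_perfect : commutator PC3 = ⊤ := by
  let φ : PC3 →* Abelianization PC3 := Abelianization.of
  have hall := ab_trivial (fun i => φ (pc3 i))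
    (fun i => by
      by_cases hi : i < 7
      · rw [← map_mul, pc3_sq i hi, map_one]
      · -- letters `≥ 7` are the letter `g`
        have : pc3 i = pc3 6 := by
          unfold pc3
          have : gen i = gen 6 := by
            unfold gen
            rcases i with _ | _ | _ | _ | _ | _ | _ | i <;> first | omega | rfl
          rw [this]
        rw [this, ← map_mul, pc3_sq 6 (by norm_num), map_one])
    (fun w hw => by
      have h := wv_pc3_eq_one w hw
      have h2 := congrArg φ h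
      rw [map_wv, map_one] at h2
      exact h2)
  rw [eq_top_iff, ← pc3_gen, Subgroup.closure_le]
  rintro _ ⟨i, hi, rfl⟩
  have h := hall i hi
  rw [SetLike.mem_coe, ← Abelianization.ker_of, MonoidHom.mem_ker]
  exact h

/-! ### The statement -/

/-- **P3** (the presented triple cover `PC3`): everything `stem_of_cover` needs except `z3 ≠ 1`. -/
theorem cover3_facts :
    Subgroup.closure {x : PC3 | ∃ i < 7, x = pc3 i} = ⊤ ∧
    z3 ∈ Subgroup.center PC3 ∧ z3 ^ 3 = 1 ∧
    (∃ π : PC3 →* G, (∀ i < 7, π (pc3 i) = sg i) ∧ π z3 = 1) ∧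
    (∀ i < 7, pc3 i * pc3 i ∈ Subgroup.zpowers z3) ∧
    (∀ w ∈ Cfsg.Agent.Lib.H17.SuzGlue.relW, wv pc3 w ∈ Subgroup.zpowers z3) ∧
    commutator PC3 = ⊤ := by
  refine ⟨pc3_gen, z3_central, z3_cube, ⟨piC, fun i _ => piC_pc3 i, ?_⟩, ?_, ?_, pc3_perfect⟩
  · unfold z3
    rw [piC_wv]
    exact wv_sg_relW zw zw_mem
  · intro i hi
    rw [pc3_sq i hi]
    exact one_mem _
  · intro w hw
    rcases relW_cases w hw with h | rfl
    · rw [wv_pc3_eq_one w h]
      exact one_mem _
    · exact Subgroup.mem_zpowers _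

end Cfsg.Agent.Lib.H9.SuzM
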