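import Mathlib
import Cfsg.Agent.Lib.H1.JordanB

/-! # S4484, part (X3): the scalar case (helper9)

A nontrivial homomorphism from a simple group is injective; an element of a nonabelian simple group
acting by a scalar in a nontrivial isometric representation is trivial.  Also: an irreducible
representation on which the group acts trivially is one-dimensional (so its character is `1`). -/

set_option autoImplicit false

namespace Cfsg.Agent.Lib.H9.B60

open Cfsg.Agent.Lib.H1.Jordan Module.End

variable {E : Type*} [NormedAddCommGroup E] [InnerProductSpace ℂ E]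
variable {G : Type*} [Group G]

/-- A nontrivial homomorphism from a simple group is injective. -/
theorem injective_of_simple [IsSimpleGroup G] {H : Type*} [Group H] (R : G →* H)
    (hR : ∃ g, R g ≠ 1) : Function.Injective R := by
  rcases (MonoidHom.normal_ker R).eq_bot_or_eq_top with h | h
  · exact (MonoidHom.ker_eq_bot_iff R).1 h
  · exfalso
    obtain ⟨g, hg⟩ := hR
    exact hg (MonoidHom.mem_ker.1 (h ▸ Subgroup.mem_top g))

/-- The `ε`-eigenspace of `T` is everything iff `T` is the scalar `ε`. -/
theorem eigenspace_eq_top_iff (T : E ≃ₗᵢ[ℂ] E) (ε : ℂ) :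
    eigenspace (lin T) ε = ⊤ ↔ ∀ v, T v = ε • v := by
  constructor
  · intro h v
    have hv : v ∈ eigenspace (lin T) ε := h ▸ Submodule.mem_top
    simpa [lin_apply] using mem_eigenspace_iff.1 hv
  · intro h
    rw [eq_top_iff]
    intro v _
    exact mem_eigenspace_iff.2 (by simpa [lin_apply] using h v)

/-- **(X3)** In a nonabelian simple group, an element acting as a scalar in a nontrivial isometric
representation is the identity. -/
theorem eq_one_of_scalar [IsSimpleGroup G] (hna : ∃ a b : G, a * b ≠ b * a)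
    (R : G →* (E ≃ₗᵢ[ℂ] E)) (hR : ∃ g, R g ≠ 1) (y : G) (ε : ℂ)
    (hy : ∀ v, R y v = ε • v) : y = 1 := by
  have hinj := injective_of_simple R hR
  have hc : y ∈ Subgroup.center G := by
    rw [Subgroup.mem_center_iff]
    intro g
    apply hinj
    rw [map_mul, map_mul]
    ext v
    show R g (R y v) = R y (R g v)
    rw [hy, hy, map_smul]
  rcases (Subgroup.center G).normal_of_characteristic.eq_bot_or_eq_top with h | h
  · rw [h] at hc
    exact Subgroup.mem_bot.1 hc
  · exfalso
    obtain ⟨a, b, hab⟩ := hna
    have hb : b ∈ Subgroup.center G := h ▸ Subgroup.mem_top b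
    exact hab (Subgroup.mem_center_iff.1 hb a)

/-- **(X3), eigenspace form.**  If the `ε`-eigenspace of `R y` is everything then `y = 1`. -/
theorem eq_one_of_eigenspace_eq_top [IsSimpleGroup G] (hna : ∃ a b : G, a * b ≠ b * a)
    (R : G →* (E ≃ₗᵢ[ℂ] E)) (hR : ∃ g, R g ≠ 1) (y : G) (ε : ℂ)
    (hy : eigenspace (lin (R y)) ε = ⊤) : y = 1 :=
  eq_one_of_scalar hna R hR y ε ((eigenspace_eq_top_iff (R y) ε).1 hy)

/-- A representation that is irreducible (in the invariant-subspace sense) on a nonzero space and
whose character is not constantly `1` is nontrivial. -/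
theorem exists_ne_one_of_irr [FiniteDimensional ℂ E] [Nontrivial E] (R : G →* (E ≃ₗᵢ[ℂ] E))
    (hirr : ∀ W : Submodule ℂ E, (∀ g, W.map (lin (R g)) ≤ W) → W = ⊥ ∨ W = ⊤)
    (χ : G → ℂ) (hχ : ∀ g, LinearMap.trace ℂ E (lin (R g)) = χ g) (hnt : ∃ g, χ g ≠ 1) :
    ∃ g, R g ≠ 1 := by
  by_contra hcon
  push Not at hcon
  obtain ⟨v, hv⟩ := exists_ne (0 : E)
  have hinv : ∀ g, (Submodule.span ℂ {v}).map (lin (R g)) ≤ Submodule.span ℂ {v} := by
    intro g
    rw [hcon g]
    intro w hw
    obtain ⟨u, hu, rfl⟩ := Submodule.mem_map.1 hw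
    exact hu
  have hfr : Module.finrank ℂ E = 1 := by
    rcases hirr _ hinv with h | h
    · exact absurd (Submodule.span_singleton_eq_bot.1 h) hv
    · have h1 := finrank_span_singleton (K := ℂ) hv
      rw [h, finrank_top] at h1
      exact h1
  obtain ⟨g, hg⟩ := hnt
  apply hg
  rw [← hχ g, hcon g]
  show LinearMap.trace ℂ E 1 = 1
  rw [LinearMap.trace_one, hfr]
  simp

end Cfsg.Agent.Lib.H9.B60
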