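import Cfsg.Agent.Lib.H15.S3814C2Defs
import Cfsg.Agent.Lib.H28.S3814End
import Cfsg.Agent.Lib.H28.S3814CentGood
import Cfsg.Agent.Lib.H24.S3814R2Idx

/-!
# S3814, Case 2', piece (13) DiagFromE of helper15's sub-cut
-/

set_option autoImplicit false

namespace Cfsg.Agent.Lib.H9.S3814C2DiagFromE

open Cfsg.Agent.H7.S3814Defs Cfsg.Agent.H15.S3814C2

universe u

/-- `Rank2` of a Sylow-sized subgroup `P` of `N`, from a rank-2 pair inside `N` -/
theorem rank2_sylow_sized {G : Type u} [Group G] [Finite G] {c : ℕ} (hc : c.Prime)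
    (N : Subgroup G) (e₁ e₂ : G) (h1N : e₁ ∈ N) (h2N : e₂ ∈ N) (ho1 : orderOf e₁ = c)
    (ho2 : orderOf e₂ = c) (hcomm : e₁ * e₂ = e₂ * e₁) (hnot : e₂ ∉ Subgroup.zpowers e₁)
    (P : Subgroup G) (hPN : P ≤ N) (hcard : Nat.card P = c ^ (Nat.card N).factorization c) :
    ∃ z ∈ P, ∃ z' ∈ P, orderOf z = c ∧ orderOf z' = c ∧ z * z' = z' * z ∧
      z' ∉ Subgroup.zpowers z := by
  have hR : Rank2 (⊤ : Subgroup ↥N) c := by
    refine ⟨⟨e₁, h1N⟩, Subgroup.mem_top _, ⟨e₂, h2N⟩, Subgroup.mem_top _, ?_, ?_, ?_, ?_⟩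
    · rw [← Subgroup.orderOf_coe]; exact ho1
    · rw [← Subgroup.orderOf_coe]; exact ho2
    · exact Subtype.ext hcomm
    · intro hmem
      obtain ⟨k, hk⟩ := Subgroup.mem_zpowers_iff.mp hmem
      apply hnot
      rw [Subgroup.mem_zpowers_iff]
      refine ⟨k, ?_⟩
      have := congrArg Subtype.val hk
      simpa using this
  have hidx : ¬ c ∣ (P.subgroupOf N).index := by
    have hmul := (P.subgroupOf N).card_mul_index
    have hcP : Nat.card (P.subgroupOf N) = Nat.card P :=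
      Nat.card_congr (Subgroup.subgroupOfEquivOfLe hPN).toEquiv
    rw [hcP, hcard] at hmul
    have hN0 : Nat.card N ≠ 0 := Nat.card_pos.ne'
    have hnd := Nat.not_dvd_ordCompl hc hN0
    have hidx_eq : (P.subgroupOf N).index = Nat.card N / c ^ (Nat.card N).factorization c :=
      (Nat.div_eq_of_eq_mul_right (pow_pos hc.pos _) hmul.symm).symm
    rw [hidx_eq]
    exact hnd
  obtain ⟨z, hz, z', hz', hoz, hoz', hzz', hnz⟩ :=
    Cfsg.Agent.Lib.H24.S3814R2Idx.rank2Index ↥N (P.subgroupOf N) c hc hR hidx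
  refine ⟨(z : G), Subgroup.mem_subgroupOf.mp hz, (z' : G), Subgroup.mem_subgroupOf.mp hz', ?_, ?_,
    ?_, ?_⟩
  · rw [Subgroup.orderOf_coe]; exact hoz
  · rw [Subgroup.orderOf_coe]; exact hoz'
  · have := congrArg Subtype.val hzz'
    simpa using this
  · intro hmem
    obtain ⟨k, hk⟩ := Subgroup.mem_zpowers_iff.mp hmem
    apply hnz
    rw [Subgroup.mem_zpowers_iff]
    refine ⟨k, ?_⟩
    apply Subtype.ext
    simpa using hk

theorem diagFromE : DiagFromEStmt.{u} := by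
  intro G _ σ p V K ctx a b c mb mc ts N E u1 hN hE
  have := ctx.cex.fin
  by_contra hcon
  obtain ⟨hEK, hEcomm, hEnc, hEcard, hu1E, hu1o, hu1mc, hEmc⟩ := hE
  obtain ⟨hNK, hKN, hNa, hNall⟩ := hN
  have hap : a.Prime := ctx.cex.prime a ts.ha.1
  have hcp : c.Prime := ts.npc.1
  have hpp : p.Prime := ctx.cex.prime p ctx.shape.hp
  have : Fact a.Prime := ⟨hap⟩
  -- a second generator of `E`
  have hex : ∃ u2 ∈ E, u2 ∉ Subgroup.zpowers u1 := by
    by_contra hno
    have hle : E ≤ Subgroup.zpowers u1 := by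
      intro x hx
      by_contra hx'
      exact hno ⟨x, hx, hx'⟩
    have h1 := Subgroup.card_le_of_le hle
    rw [Nat.card_zpowers, hu1o, hEcard] at h1
    have : a < a ^ 2 := by
      have := hap.one_lt
      nlinarith
    omega
  obtain ⟨u2, hu2E, hu2n⟩ := hex
  have hu12 : Commute u1 u2 := hEcomm u1 hu1E u2 hu2E
  have hu1a : u1 ^ a = 1 := by rw [← hu1o]; exact pow_orderOf_eq_one u1
  have hu2a : u2 ^ a = 1 := by
    have hdvd : orderOf (⟨u2, hu2E⟩ : E) ∣ a ^ 2 := by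
      rw [← hEcard]; exact orderOf_dvd_natCard _
    obtain ⟨k, hk, hk'⟩ := (Nat.dvd_prime_pow hap).mp hdvd
    have hk2 : k ≠ 2 := by
      rintro rfl
      apply hEnc
      apply isCyclic_of_orderOf_eq_card (⟨u2, hu2E⟩ : E)
      rw [hk', hEcard]
    have hk1 : k ≤ 1 := by omega
    have ho : orderOf u2 ∣ a := by
      have : orderOf u2 = a ^ k := by
        rw [← hk', Subgroup.orderOf_mk]
      rw [this]
      interval_cases k
      · simp
      · simp
    exact orderOf_dvd_iff_pow_eq_one.mp ho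
  -- the elements `u1 ^ i * u2`
  have hline : ∀ i : ℕ, u1 ^ i * u2 ∈ K ∧ orderOf (u1 ^ i * u2) = a ∧ ¬ Commute (u1 ^ i * u2) mc := by
    intro i
    have hmemE : u1 ^ i * u2 ∈ E := E.mul_mem (E.pow_mem hu1E i) hu2E
    have hne : ¬ u1 ^ i * u2 ∈ Subgroup.zpowers u1 := by
      intro h
      apply hu2n
      have h2 : (u1 ^ i)⁻¹ * (u1 ^ i * u2) ∈ Subgroup.zpowers u1 :=
        (Subgroup.zpowers u1).mul_mem
          ((Subgroup.zpowers u1).inv_mem ((Subgroup.zpowers u1).pow_mem (Subgroup.mem_zpowers u1) i)) h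
      simpa using h2
    refine ⟨hEK hmemE, ?_, fun hcm => hne (hEmc _ hmemE hcm)⟩
    have hpow : (u1 ^ i * u2) ^ a = 1 := by
      rw [(hu12.pow_left i).mul_pow, ← pow_mul, mul_comm i a, pow_mul, hu1a, one_pow, hu2a, one_mul]
    have hne1 : u1 ^ i * u2 ≠ 1 := by
      intro h
      apply hne
      rw [h]
      exact (Subgroup.zpowers u1).one_mem
    exact orderOf_eq_prime hpow hne1
  have hnormN : ∀ x ∈ E, x ∈ Subgroup.normalizer (N : Set G) := fun x hx => hKN (hEK hx)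
  have hcop : (Nat.card N).Coprime a := by
    rw [Nat.coprime_comm, Nat.Prime.coprime_iff_not_dvd hap]
    intro hdvd
    obtain ⟨x, hx⟩ := exists_prime_orderOf_dvd_card' (G := N) a hdvd
    apply hNa (x : G) x.2
    rw [Subgroup.orderOf_coe]; exact hx
  -- rank 2 of the Sylow `c`-subgroups of `N`
  obtain ⟨e₁, he₁K, e₂, he₂K, ho1, ho2, hcomm12, hnot12⟩ := ctx.facts.f2 c ts.hc.1 ts.hc.2
  have hac' : ¬ a ∣ c := by
    intro h
    exact ts.hac ((Nat.prime_dvd_prime_iff_eq hap hcp).mp h)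
  have he₁N : e₁ ∈ N := hNall e₁ he₁K (by rw [ho1]; exact hac')
  have he₂N : e₂ ∈ N := hNall e₂ he₂K (by rw [ho2]; exact hac')
  have hVp : IsPGroup p V := by
    intro v
    refine ⟨1, ?_⟩
    apply Subtype.ext
    rw [pow_one]
    simpa using ctx.shape.elem.2 v v.2
  have hVn : ∀ x : G, x ∈ Subgroup.normalizer (V : Set G) := by
    intro x
    have := ctx.shape.normal
    rw [Subgroup.normalizer_eq_top V]
    exact Subgroup.mem_top x
  have hgood : V ⊓ Subgroup.centralizer {u1} ≠ ⊥ := by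
    have hg := ts.goodc u1 (hEK hu1E) hu1o hu1mc
    intro hbot
    apply hg
    intro v hv hcm
    have hmem : v ∈ V ⊓ Subgroup.centralizer {u1} := by
      refine Subgroup.mem_inf.mpr ⟨hv, ?_⟩
      rw [Subgroup.mem_centralizer_iff]
      intro y hy
      rw [Set.mem_singleton_iff] at hy
      rw [hy]
      exact hcm
    rw [hbot] at hmem
    exact Subgroup.mem_bot.mp hmem
  have hNt : ∀ x : G, orderOf x ≠ p * a * c :=
    ctx.cex.notriple p ctx.shape.hp a ts.ha.1 c ts.hc.1 (Ne.symm ts.ha.2) ts.hac (Ne.symm ts.hc.2)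
  exact Cfsg.Agent.Lib.H28.S3814End.end_block hap hcp ts.hac N u1 u2 hu1a hu2a hu12
    (hnormN u1 hu1E) (hnormN u2 hu2E) hcop
    (fun P hPN hcard => rank2_sylow_sized hcp N e₁ e₂ he₁N he₂N ho1 ho2 hcomm12 hnot12 P hPN hcard)
    (fun i z hzN hzo hcm => by
      obtain ⟨h1, h2, h3⟩ := hline i
      exact hcon ⟨u1 ^ i * u2, h1, z, hNK hzN, h2, hzo, hcm, h3⟩)
    (fun z hzN z' hz'N hzo hz'o hzz' hcz hcz' =>
      Cfsg.Agent.Lib.H28.S3814CentGood.mem_zpowers hpp hap hcp (Ne.symm ts.ha.2) (Ne.symm ts.hc.2)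
        ts.hac V hVp u1 z z' hu1o hzo hz'o hcz hcz' hzz' (hVn z) (hVn z') hgood hNt)

example : DiagFromEStmt.{0} := diagFromE

end Cfsg.Agent.Lib.H9.S3814C2DiagFromE
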