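import Mathlib
import Cfsg.Agent.Lib.H16.SZ8Defs
import Cfsg.Agent.Lib.H2.Sz23

/-!
# S2112, piece FC (helper9): the Frobenius cocycle of `Sz(8)` on the ovoid with values in the
Borel model `BGrp F`.
-/

set_option autoImplicit false

namespace Cfsg.Agent.Lib.H9.SZ8

open Matrix Cfsg Projectivization MulAction
open Cfsg.Agent.Lib.H16.SZ8 Cfsg.Agent.Lib.H2.Sz

universe u

section FC

variable {F : Type u} [Field F] [Fintype F] [CharP F 2]

set_option linter.unusedSectionVars false

/-- the Borel model inside `Sz F 1` -/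
noncomputable def toG (h : Fld F 1) (x : BGrp F) : Sz F 1 := tt h x.a x.c * dd h x.k

theorem toG_one (h : Fld F 1) : toG h (1 : BGrp F) = 1 := by
  show tt h (0 : F) 0 * dd h (1 : Fˣ) = 1
  rw [tt_zero, dd_one, one_mul]

theorem toG_mul (h : Fld F 1) (hF : Fintype.card F = 2 ^ (2 * 1 + 1)) (x y : BGrp F) :
    toG h (x * y) = toG h x * toG h y := by
  have e1 : toG h x * toG h y =
      tt h x.a x.c * (dd h x.k * tt h y.a y.c) * dd h y.k := by
    unfold toG; group
  rw [e1, dd_mul_tt h le_rfl hF, ← mul_assoc, tt_mul, mul_assoc, ← dd_mul]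
  unfold toG
  have h4 : ∀ t : F, θ 1 t = t ^ 4 := fun t => by unfold θ; norm_num
  have ea : (x * y).a = x.a + (x.k : F) * y.a := rfl
  have ec : (x * y).c = x.c + (x.k : F) * θ 1 (x.k : F) * y.c + θ 1 x.a * ((x.k : F) * y.a) := by
    rw [h4, h4]
    show x.c + (x.k : F) ^ 5 * y.c + x.a ^ 4 * (x.k * y.a) = _
    ring
  have ek : (x * y).k = x.k * y.k := rfl
  rw [ea, ec, ek]

theorem toG_injective (h : Fld F 1) : Function.Injective (toG h : BGrp F → Sz F 1) := by
  intro x y e
  obtain ⟨h1, h2, h3⟩ := tt_dd_injective h e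
  exact BGrp.ext' h1 h2 h3

/-- the points of the orbit are `∞` or affine -/
theorem orbit_cases (h : Fld F 1)
    (p : orbit (Sz F 1) (pinf : Projectivization F (Fin 4 → F))) :
    (p : Projectivization F (Fin 4 → F)) = pinf ∨
      ∃ xy : F × F, (p : Projectivization F (Fin 4 → F)) = pt 1 xy.1 xy.2 := by
  have hp : (p : Projectivization F (Fin 4 → F)) ∈ suzukiOvoid F 1 := by
    rw [← orbit_pinf h]; exact p.2
  rcases (mem_ovoid_iff _).1 hp with h1 | ⟨x, y, h1⟩
  · exact Or.inl h1
  · exact Or.inr ⟨(x, y), h1⟩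

open Classical in
/-- the section `r ∞ = 1`, `r (pt x y) = tt x y * ww` -/
noncomputable def sec (h : Fld F 1)
    (p : orbit (Sz F 1) (pinf : Projectivization F (Fin 4 → F))) : Sz F 1 :=
  if hp : (p : Projectivization F (Fin 4 → F)) = pinf then 1
  else
    tt h (Classical.choose ((orbit_cases h p).resolve_left hp)).1
      (Classical.choose ((orbit_cases h p).resolve_left hp)).2 * ww h

theorem sec_pinf (h : Fld F 1)
    (p : orbit (Sz F 1) (pinf : Projectivization F (Fin 4 → F)))
    (hp : (p : Projectivization F (Fin 4 → F)) = pinf) : sec h p = 1 := by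
  unfold sec
  rw [dif_pos hp]

theorem sec_pt (h : Fld F 1)
    (p : orbit (Sz F 1) (pinf : Projectivization F (Fin 4 → F))) (x y : F)
    (hp : (p : Projectivization F (Fin 4 → F)) = pt 1 x y) : sec h p = tt h x y * ww h := by
  have hne : (p : Projectivization F (Fin 4 → F)) ≠ pinf := by
    rw [hp]; exact pt_ne_pinf x y
  unfold sec
  rw [dif_neg hne]
  have hs := Classical.choose_spec ((orbit_cases h p).resolve_left hne)
  obtain ⟨h1, h2⟩ := pt_injective (hp.symm.trans hs)
  rw [← h1, ← h2]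

theorem sec_smul (h : Fld F 1)
    (p : orbit (Sz F 1) (pinf : Projectivization F (Fin 4 → F))) :
    sec h p • (pinf : Projectivization F (Fin 4 → F)) = p := by
  rcases orbit_cases h p with hp | ⟨⟨x, y⟩, hp⟩
  · rw [sec_pinf h p hp, one_smul, hp]
  · rw [sec_pt h p x y hp, mul_smul, ww_smul_pinf, tt_smul_zero, hp]

theorem exists_coord (h : Fld F 1) (hF : Fintype.card F = 2 ^ (2 * 1 + 1)) (g : Sz F 1)
    (p : orbit (Sz F 1) (pinf : Projectivization F (Fin 4 → F))) :
    ∃ x : BGrp F, toG h x = (sec h (g • p))⁻¹ * g * sec h p := by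
  have hfix : ((sec h (g • p))⁻¹ * g * sec h p) • (pinf : Projectivization F (Fin 4 → F)) =
      pinf := by
    rw [mul_smul, mul_smul, sec_smul, inv_smul_eq_iff, sec_smul]
    rfl
  obtain ⟨a, b, c, e⟩ := exists_tt_dd h le_rfl hF hfix
  exact ⟨⟨a, b, c⟩, e.symm⟩

/-- the cocycle -/
noncomputable def cfun (h : Fld F 1) (hF : Fintype.card F = 2 ^ (2 * 1 + 1)) (g : Sz F 1)
    (p : orbit (Sz F 1) (pinf : Projectivization F (Fin 4 → F))) : BGrp F :=
  Classical.choose (exists_coord h hF g p)

theorem toG_cfun (h : Fld F 1) (hF : Fintype.card F = 2 ^ (2 * 1 + 1)) (g : Sz F 1)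
    (p : orbit (Sz F 1) (pinf : Projectivization F (Fin 4 → F))) :
    toG h (cfun h hF g p) = (sec h (g • p))⁻¹ * g * sec h p :=
  Classical.choose_spec (exists_coord h hF g p)

/-- **FC**: the Frobenius cocycle of `Sz F 1` on the ovoid (= orbit of `pinf`) with values in the Borel model.
Section: `r pinf = 1`, `r (pt x y) = tt x y * ww`; `c g p = coordinates of (r (g • p))⁻¹ * g * r p`
(`exists_tt_dd`, `tt_dd_injective`, `dd_mul_tt`, `tt_mul`); `(tt a b) * r (pt x y) = r (tt a b • pt x y)`. -/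
theorem exists_fcoc (h : Fld F 1) (hF : Fintype.card F = 2 ^ (2 * 1 + 1)) :
    ∃ (c : FCoc (Sz F 1) (orbit (Sz F 1) (pinf : Projectivization F (Fin 4 → F))) (BGrp F))
      (p₀ : orbit (Sz F 1) (pinf : Projectivization F (Fin 4 → F))),
      (∀ a b : F, tt h a b • p₀ = p₀) ∧
      (∀ a b : F, c.c (tt h a b) p₀ = ⟨a, b, 1⟩) ∧
      (∀ (a b : F) (p : orbit (Sz F 1) (pinf : Projectivization F (Fin 4 → F))),
        p ≠ p₀ → c.c (tt h a b) p = 1) := by
  refine ⟨⟨cfun h hF, ?_⟩, ⟨pinf, mem_orbit_self _⟩, ?_, ?_, ?_⟩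
  · intro g g' p
    apply toG_injective h
    rw [toG_mul h hF, toG_cfun, toG_cfun, toG_cfun, mul_smul]
    group
  · intro a b
    apply Subtype.ext
    show tt h a b • (pinf : Projectivization F (Fin 4 → F)) = pinf
    exact tt_smul_pinf h a b
  · intro a b
    have hfix : tt h a b • (⟨pinf, mem_orbit_self _⟩ :
        orbit (Sz F 1) (pinf : Projectivization F (Fin 4 → F))) = ⟨pinf, mem_orbit_self _⟩ := by
      apply Subtype.ext
      show tt h a b • (pinf : Projectivization F (Fin 4 → F)) = pinf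
      exact tt_smul_pinf h a b
    apply toG_injective h
    show toG h (cfun h hF (tt h a b) _) = _
    rw [toG_cfun, hfix, sec_pinf h _ rfl]
    show _ = tt h a b * dd h (1 : Fˣ)
    rw [dd_one]
    group
  · intro a b p hp
    have hne : (p : Projectivization F (Fin 4 → F)) ≠ pinf := by
      intro e
      exact hp (Subtype.ext e)
    obtain ⟨⟨x, y⟩, hxy⟩ := (orbit_cases h p).resolve_left hne
    have hgp : ((tt h a b • p : orbit (Sz F 1) (pinf : Projectivization F (Fin 4 → F))) :
        Projectivization F (Fin 4 → F)) = pt 1 (x + a) (y + b + θ 1 a * x) := by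
      show tt h a b • (p : Projectivization F (Fin 4 → F)) = _
      rw [hxy]
      exact T_smul_pt h a b x y
    apply toG_injective h
    show toG h (cfun h hF (tt h a b) p) = _
    rw [toG_cfun, sec_pt h p x y hxy, sec_pt h _ _ _ hgp, toG_one]
    have e : tt h (x + a) (y + b + θ 1 a * x) = tt h a b * tt h x y := by
      rw [tt_mul]
      congr 1
      · ring
      · ring
    rw [e]
    group

end FC

end Cfsg.Agent.Lib.H9.SZ8
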