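import Mathlib
import Cfsg.Agent.Lib.H2.SzMult4

/-!
# S2112, piece QUOT, generic half (helper9): modulo `K₀ = ⟨cc (tt x 0) (t0 y)⟩` a stem extension of
`Sz F m` satisfies the hypothesis of MULTB; hence, given MULTB (as a hypothesis here), `ker σ ≤ K₀`.
-/

set_option autoImplicit false

namespace Cfsg.Agent.Lib.H9.SZ8

open scoped commutatorElement
open Matrix Cfsg Projectivization MulAction
open Cfsg.Agent.Lib.H2.Sz Cfsg.Agent.Lib.H2.Stem

universe v

theorem ker_le_closure_cc_of {F : Type*} [Field F] [Fintype F] {m : ℕ} (h : Fld F m)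
    {Γ : Type v} [Group Γ] [Finite Γ] (σ : Γ →* Sz F m) (hσ : Function.Surjective σ)
    (hK : σ.ker ≤ Subgroup.center Γ) (hK' : σ.ker ≤ commutator Γ)
    (hM : ∀ {Γ' : Type v} [Group Γ'] [Finite Γ'] (σ' : Γ' →* Sz F m)
      (hσ' : Function.Surjective σ'), σ'.ker ≤ Subgroup.center Γ' → σ'.ker ≤ commutator Γ' →
      (∀ x y : F, cc σ' hσ' (tt h x 0) (t0 h y) = 1) → σ'.ker = ⊥) :
    σ.ker ≤ Subgroup.closure {z : Γ | ∃ x y : F, z = cc σ hσ (tt h x 0) (t0 h y)} := by
  set K₀ : Subgroup Γ := Subgroup.closure {z : Γ | ∃ x y : F, z = cc σ hσ (tt h x 0) (t0 h y)}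
    with hK₀
  have hcen : K₀ ≤ Subgroup.center Γ := by
    rw [hK₀, Subgroup.closure_le]
    rintro z ⟨x, y, rfl⟩
    exact cc_central σ hσ hK (tt_t0_comm h x 0 y)
  have hker : K₀ ≤ σ.ker := by
    rw [hK₀, Subgroup.closure_le]
    rintro z ⟨x, y, rfl⟩
    show cc σ hσ (tt h x 0) (t0 h y) ∈ σ.ker
    rw [MonoidHom.mem_ker, map_cc, commutatorElement_eq_one_iff_mul_comm]
    exact tt_t0_comm h x 0 y
  have hnorm : K₀.Normal := by
    refine ⟨fun n hn g => ?_⟩
    have := Subgroup.mem_center_iff.1 (hcen hn) g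
    rw [this, mul_inv_cancel_right]
    exact hn
  let σ' : Γ ⧸ K₀ →* Sz F m := QuotientGroup.lift K₀ σ (fun x hx => hker hx)
  have hσ' : Function.Surjective σ' := by
    intro g
    obtain ⟨γ, rfl⟩ := hσ g
    exact ⟨QuotientGroup.mk γ, rfl⟩
  have hmk : ∀ γ : Γ, σ' (QuotientGroup.mk γ) = σ γ := fun γ => rfl
  have hKc : σ'.ker ≤ Subgroup.center (Γ ⧸ K₀) := by
    intro y hy
    obtain ⟨γ, rfl⟩ := QuotientGroup.mk_surjective y
    rw [MonoidHom.mem_ker, hmk] at hy
    have hc := hK (MonoidHom.mem_ker.2 hy)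
    rw [Subgroup.mem_center_iff]
    intro z
    obtain ⟨δ, rfl⟩ := QuotientGroup.mk_surjective z
    rw [← QuotientGroup.mk_mul, ← QuotientGroup.mk_mul, Subgroup.mem_center_iff.1 hc δ]
  have hKd : σ'.ker ≤ commutator (Γ ⧸ K₀) := by
    intro y hy
    obtain ⟨γ, rfl⟩ := QuotientGroup.mk_surjective y
    rw [MonoidHom.mem_ker, hmk] at hy
    have hc : γ ∈ commutator Γ := hK' (MonoidHom.mem_ker.2 hy)
    have hle : (commutator Γ).map (QuotientGroup.mk' K₀) ≤ commutator (Γ ⧸ K₀) := by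
      rw [commutator_def, Subgroup.map_commutator, commutator_def]
      exact Subgroup.commutator_mono le_top le_top
    exact hle (Subgroup.mem_map_of_mem _ hc)
  have hB : ∀ x y : F, cc σ' hσ' (tt h x 0) (t0 h y) = 1 := by
    intro x y
    have e1 : σ' (QuotientGroup.mk (Function.surjInv hσ (tt h x 0))) = tt h x 0 := by
      rw [hmk, Function.surjInv_eq hσ]
    have e2 : σ' (QuotientGroup.mk (Function.surjInv hσ (t0 h y))) = t0 h y := by
      rw [hmk, Function.surjInv_eq hσ]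
    rw [← cc_spec σ' hσ' hKc e1 e2]
    have e3 : ⁅(QuotientGroup.mk (Function.surjInv hσ (tt h x 0)) : Γ ⧸ K₀),
        (QuotientGroup.mk (Function.surjInv hσ (t0 h y)) : Γ ⧸ K₀)⁆ =
        QuotientGroup.mk (cc σ hσ (tt h x 0) (t0 h y)) := by
      unfold cc
      rw [commutatorElement_def, commutatorElement_def]
      rfl
    rw [e3, QuotientGroup.eq_one_iff, hK₀]
    exact Subgroup.subset_closure ⟨x, y, rfl⟩
  have hbot := hM σ' hσ' hKc hKd hB
  intro z hz
  have : (QuotientGroup.mk z : Γ ⧸ K₀) ∈ σ'.ker := by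
    rw [MonoidHom.mem_ker, hmk]
    exact MonoidHom.mem_ker.1 hz
  rw [hbot, Subgroup.mem_bot, QuotientGroup.eq_one_iff] at this
  exact this

end Cfsg.Agent.Lib.H9.SZ8
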