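import Mathlib
import Cfsg.Agent.Lib.H9.A5FactsA

/-!
# Concrete facts about `A5 = alternatingGroup (Fin 5)` (part B: F1, F2, F3)
-/

namespace Cfsg.Agent.Lib.H9.A5Facts

open Equiv

local notation "A5" => alternatingGroup (Fin 5)

set_option maxRecDepth 100000 in
theorem gen3_dec : ∀ a b : A5, a * a * a = 1 → a ≠ 1 → b * b * b = 1 → b ≠ 1 →
    (Inv a.1 b.1 ∨ ((a * b) ^ 5 = 1 ∧ a * b ≠ 1 ∧
      (a * b * a * b⁻¹) * (a * b * a * b⁻¹) = 1 ∧ a * b * a * b⁻¹ ≠ 1)) := by
  decide

set_option maxRecDepth 100000 in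
theorem gen2_dec : ∀ a j : A5, a * a * a = 1 → a ≠ 1 → j * j = 1 → j ≠ 1 →
    (Inv a.1 j.1 ∨ ((a * j) ^ 5 = 1 ∧ a * j ≠ 1)) := by
  decide

set_option maxRecDepth 100000 in
theorem count3_dec : ∀ a : A5, a * a * a = 1 → a ≠ 1 →
    Fintype.card {b : A5 // (b * b * b = 1 ∧ b ≠ 1) ∧ ¬ Inv a.1 b.1} = 6 := by
  decide

set_option maxRecDepth 100000 in
theorem count2_dec : ∀ a : A5, a * a * a = 1 → a ≠ 1 →
    Fintype.card {j : A5 // (j * j = 1 ∧ j ≠ 1) ∧ ¬ Inv a.1 j.1} = 6 := by
  decide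

theorem pow_pos_of_three {x : A5} (h : x * x * x = 1) : ∃ n : ℕ, 0 < n ∧ x ^ n = 1 :=
  ⟨3, by norm_num, by rw [pow_succ, pow_two]; exact h⟩

theorem pow_pos_of_two {x : A5} (h : x * x = 1) : ∃ n : ℕ, 0 < n ∧ x ^ n = 1 :=
  ⟨2, by norm_num, by rw [pow_two]; exact h⟩

/-- for elements of order three: generation ⟺ no common invariant proper subset -/
theorem closure3_eq_top_iff (a b : A5) (ha : orderOf a = 3) (hb : orderOf b = 3) :
    Subgroup.closure {a, b} = ⊤ ↔ ¬ Inv a.1 b.1 := by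
  have ha' := (orderOf_eq_three_iff' a).mp ha
  have hb' := (orderOf_eq_three_iff' b).mp hb
  constructor
  · intro h hinv
    exact closure_ne_top_of_inv a b (pow_pos_of_three ha'.1) (pow_pos_of_three hb'.1) hinv h
  · intro h
    rcases gen3_dec a b ha'.1 ha'.2 hb'.1 hb'.2 with h1 | ⟨h5, h5', h2, h2'⟩
    · exact absurd h1 h
    · have hamem : a ∈ Subgroup.closure ({a, b} : Set A5) :=
        Subgroup.subset_closure (by simp)
      have hbmem : b ∈ Subgroup.closure ({a, b} : Set A5) :=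
        Subgroup.subset_closure (by simp)
      refine eq_top_of_orders _ (a * b * a * b⁻¹) a (a * b) ?_ hamem ?_ ?_ ha ?_
      · exact Subgroup.mul_mem _ (Subgroup.mul_mem _ (Subgroup.mul_mem _ hamem hbmem) hamem)
          (Subgroup.inv_mem _ hbmem)
      · exact Subgroup.mul_mem _ hamem hbmem
      · exact (orderOf_eq_two_iff' _).mpr ⟨h2, h2'⟩
      · exact orderOf_eq_five_of _ h5 h5'

/-- for `a` of order three and `j` of order two: generation ⟺ no common invariant proper subset -/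
theorem closure2_eq_top_iff (a j : A5) (ha : orderOf a = 3) (hj : orderOf j = 2) :
    Subgroup.closure {a, j} = ⊤ ↔ ¬ Inv a.1 j.1 := by
  have ha' := (orderOf_eq_three_iff' a).mp ha
  have hj' := (orderOf_eq_two_iff' j).mp hj
  constructor
  · intro h hinv
    exact closure_ne_top_of_inv a j (pow_pos_of_three ha'.1) (pow_pos_of_two hj'.1) hinv h
  · intro h
    rcases gen2_dec a j ha'.1 ha'.2 hj'.1 hj'.2 with h1 | ⟨h5, h5'⟩
    · exact absurd h1 h
    · have hamem : a ∈ Subgroup.closure ({a, j} : Set A5) :=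
        Subgroup.subset_closure (by simp)
      have hjmem : j ∈ Subgroup.closure ({a, j} : Set A5) :=
        Subgroup.subset_closure (by simp)
      exact eq_top_of_orders _ j a (a * j) hjmem hamem (Subgroup.mul_mem _ hamem hjmem) hj ha
        (orderOf_eq_five_of _ h5 h5')

/-- (F1) -/
theorem a5_gen_three (a : A5) (ha : orderOf a = 3) :
    Nat.card {b : A5 // orderOf b = 3 ∧ Subgroup.closure {a, b} = ⊤} = 6 := by
  have ha' := (orderOf_eq_three_iff' a).mp ha
  have e : {b : A5 // orderOf b = 3 ∧ Subgroup.closure {a, b} = ⊤} ≃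
      {b : A5 // (b * b * b = 1 ∧ b ≠ 1) ∧ ¬ Inv a.1 b.1} :=
    Equiv.subtypeEquivRight (fun b => by
      constructor
      · rintro ⟨h1, h2⟩
        exact ⟨(orderOf_eq_three_iff' b).mp h1, (closure3_eq_top_iff a b ha h1).mp h2⟩
      · rintro ⟨h1, h2⟩
        have hb := (orderOf_eq_three_iff' b).mpr h1
        exact ⟨hb, (closure3_eq_top_iff a b ha hb).mpr h2⟩)
  rw [Nat.card_congr e, Nat.card_eq_fintype_card]
  exact count3_dec a ha'.1 ha'.2

/-- (F2) -/
theorem a5_gen_two (a : A5) (ha : orderOf a = 3) :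
    Nat.card {j : A5 // orderOf j = 2 ∧ Subgroup.closure {a, j} = ⊤} = 6 := by
  have ha' := (orderOf_eq_three_iff' a).mp ha
  have e : {j : A5 // orderOf j = 2 ∧ Subgroup.closure {a, j} = ⊤} ≃
      {j : A5 // (j * j = 1 ∧ j ≠ 1) ∧ ¬ Inv a.1 j.1} :=
    Equiv.subtypeEquivRight (fun j => by
      constructor
      · rintro ⟨h1, h2⟩
        exact ⟨(orderOf_eq_two_iff' j).mp h1, (closure2_eq_top_iff a j ha h1).mp h2⟩
      · rintro ⟨h1, h2⟩
        have hj := (orderOf_eq_two_iff' j).mpr h1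
        exact ⟨hj, (closure2_eq_top_iff a j ha hj).mpr h2⟩)
  rw [Nat.card_congr e, Nat.card_eq_fintype_card]
  exact count2_dec a ha'.1 ha'.2

set_option maxRecDepth 100000 in
theorem card2_dec : Fintype.card {j : A5 // j * j = 1 ∧ j ≠ 1} = 15 := by decide

set_option maxRecDepth 100000 in
theorem card3_dec : Fintype.card {b : A5 // b * b * b = 1 ∧ b ≠ 1} = 20 := by decide

/-- (F3a) -/
theorem a5_card_order_two : Nat.card {j : A5 // orderOf j = 2} = 15 := by
  rw [Nat.card_congr (Equiv.subtypeEquivRight (fun j => orderOf_eq_two_iff' j)),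
    Nat.card_eq_fintype_card]
  exact card2_dec

/-- (F3b) -/
theorem a5_card_order_three : Nat.card {b : A5 // orderOf b = 3} = 20 := by
  rw [Nat.card_congr (Equiv.subtypeEquivRight (fun j => orderOf_eq_three_iff' j)),
    Nat.card_eq_fintype_card]
  exact card3_dec

end Cfsg.Agent.Lib.H9.A5Facts
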