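import Mathlib

/-!
# S5664 (Sp_{2m/r}(q^r) < Sp_2m(q)): abstract set-up

`F ⊆ K` fields, `V` a `K`-space (hence an `F`-space), `B` a non-degenerate alternating `K`-bilinear
form, `lam : K → F` a non-zero `F`-linear functional, `f = lam ∘ B` the `F`-form.
`M` is a group of `F`-linear automorphisms of `V` preserving `f` and containing every `K`-linear
isometry of `f`.  All statements of the farm-out are phrased with these definitions.
-/

set_option autoImplicit false

namespace Cfsg.Agent.Lib.H9.ExtSp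

open Module

/-- the `K`-point `K v`, as an `F`-subspace -/
def kpt (F K : Type*) {V : Type*} [Field F] [Field K] [Algebra F K] [AddCommGroup V] [Module F V]
    [Module K V] [IsScalarTower F K V] (v : V) : Submodule F V :=
  (Submodule.span K {v}).restrictScalars F

variable {F K V : Type*} [Field F] [Field K] [Algebra F K] [AddCommGroup V] [Module F V]
  [Module K V] [IsScalarTower F K V]

theorem mem_kpt {v x : V} : x ∈ kpt F K v ↔ ∃ k : K, k • v = x := by
  unfold kpt
  rw [Submodule.restrictScalars_mem, Submodule.mem_span_singleton]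

theorem smul_mem_kpt (k : K) (v : V) : k • v ∈ kpt F K v := mem_kpt.2 ⟨k, rfl⟩

theorem self_mem_kpt (v : V) : v ∈ kpt F K v := mem_kpt.2 ⟨1, one_smul K v⟩

/-- standing hypotheses on `(B, lam, M)` -/
structure Setup (B : LinearMap.BilinForm K V) (lam : K →ₗ[F] F) (M : Subgroup (V ≃ₗ[F] V)) :
    Prop where
  alt : ∀ x, B x x = 0
  nondeg : ∀ x, (∀ y, B x y = 0) → x = 0
  lam_ne : lam ≠ 0
  sp : ∀ g ∈ M, ∀ x y, lam (B (g x) (g y)) = lam (B x y)
  cent : ∀ g : V ≃ₗ[F] V, (∀ (k : K) (x : V), g (k • x) = k • g x) →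
    (∀ x y, lam (B (g x) (g y)) = lam (B x y)) → g ∈ M

/-- `L` is the image of a `K`-point under an element of `M` -/
def IsPt (K : Type*) {F V : Type*} [Field F] [Field K] [Algebra F K] [AddCommGroup V] [Module F V]
    [Module K V] [IsScalarTower F K V] (M : Subgroup (V ≃ₗ[F] V)) (L : Submodule F V) : Prop :=
  ∃ g ∈ M, ∃ w : V, w ≠ 0 ∧ L = (kpt F K w).map (g : V →ₗ[F] V)

/-- a "good pair": the `K`-point `K v` and a different member `L'` of the orbit, not perpendicular -/
def GP (B : LinearMap.BilinForm K V) (M : Subgroup (V ≃ₗ[F] V)) (v : V) (L' : Submodule F V) :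
    Prop :=
  v ≠ 0 ∧ IsPt K M L' ∧ L' ≠ kpt F K v ∧ ∃ x ∈ L', B x v ≠ 0

/-- property (*): `M` induces on the `K`-point `K w₀ ≅ K` all `F`-transvections
`k ↦ k + θ(k) c`, `c ∈ ker θ` -/
def Star (M : Subgroup (V ≃ₗ[F] V)) (w₀ : V) (θ : K →ₗ[F] F) : Prop :=
  ∀ c : K, θ c = 0 → ∃ u ∈ M, ∀ k : K, u (k • w₀) = (k + θ k • c) • w₀

/-- `M` contains a non-trivial `F`-transvection of `f = lam ∘ B` -/
def HasFtv (B : LinearMap.BilinForm K V) (lam : K →ₗ[F] F) (M : Subgroup (V ≃ₗ[F] V)) : Prop :=
  ∃ g ∈ M, ∃ c : V, c ≠ 0 ∧ ∃ h : F, h ≠ 0 ∧ ∀ x, g x = x + (h * lam (B x c)) • c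

theorem B_smul_left_F (B : LinearMap.BilinForm K V) (a : F) (x y : V) :
    B (a • x) y = a • B x y := by
  rw [← algebraMap_smul K a x, map_smul, LinearMap.smul_apply, smul_eq_mul, Algebra.smul_def]

theorem B_smul_right_F (B : LinearMap.BilinForm K V) (a : F) (x y : V) :
    B x (a • y) = a • B x y := by
  rw [← algebraMap_smul K a y, map_smul, smul_eq_mul, Algebra.smul_def]

theorem B_skew (B : LinearMap.BilinForm K V) (hB : ∀ x, B x x = 0) (x y : V) :
    B x y = - B y x := by
  have h := hB (x + y)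
  simp only [map_add, LinearMap.add_apply, hB, zero_add, add_zero] at h
  exact eq_neg_of_add_eq_zero_left (by rw [add_comm]; exact h)

/-- the `K`-transvection `x ↦ x + b B(x,z) z`, as an `F`-linear automorphism -/
def ktv (B : LinearMap.BilinForm K V) (hB : ∀ x, B x x = 0) (z : V) (b : K) : V ≃ₗ[F] V where
  toFun x := x + (b * B x z) • z
  invFun x := x - (b * B x z) • z
  map_add' x y := by
    simp only [map_add, LinearMap.add_apply, mul_add, add_smul]; abel
  map_smul' a x := by
    simp only [RingHom.id_apply, B_smul_left_F, smul_add, mul_smul_comm, smul_assoc]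
  left_inv x := by
    simp only [map_add, LinearMap.add_apply, map_smul, LinearMap.smul_apply, hB, smul_eq_mul,
      mul_zero, add_zero, add_sub_cancel_right]
  right_inv x := by
    simp only [map_sub, LinearMap.sub_apply, map_smul, LinearMap.smul_apply, hB, smul_eq_mul,
      mul_zero, sub_zero, sub_add_cancel]

@[simp] theorem ktv_apply (B : LinearMap.BilinForm K V) (hB : ∀ x, B x x = 0) (z : V) (b : K)
    (x : V) : (ktv (F := F) B hB z b) x = x + (b * B x z) • z := rfl

theorem ktv_klin (B : LinearMap.BilinForm K V) (hB : ∀ x, B x x = 0) (z : V) (b : K) (k : K)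
    (x : V) : (ktv (F := F) B hB z b) (k • x) = k • (ktv (F := F) B hB z b) x := by
  simp only [ktv_apply, map_smul, LinearMap.smul_apply, smul_eq_mul, smul_add, smul_smul]
  congr 2; ring

theorem ktv_B (B : LinearMap.BilinForm K V) (hB : ∀ x, B x x = 0) (z : V) (b : K) (x y : V) :
    B ((ktv (F := F) B hB z b) x) ((ktv (F := F) B hB z b) y) = B x y := by
  simp only [ktv_apply, map_add, LinearMap.add_apply, map_smul, LinearMap.smul_apply, hB,
    smul_eq_mul, mul_zero, add_zero]
  rw [B_skew B hB z y]; ring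

theorem ktv_mem {B : LinearMap.BilinForm K V} {lam : K →ₗ[F] F} {M : Subgroup (V ≃ₗ[F] V)}
    (S : Setup B lam M) (z : V) (b : K) : ktv (F := F) B S.alt z b ∈ M :=
  S.cent _ (ktv_klin B S.alt z b) (fun x y => by rw [ktv_B])

/-- the `F`-transvection `x ↦ x + h f(x,c) c` of `f = lam ∘ B` -/
def ftv (B : LinearMap.BilinForm K V) (lam : K →ₗ[F] F) (hB : ∀ x, B x x = 0) (c : V) (h : F) :
    V ≃ₗ[F] V where
  toFun x := x + (h * lam (B x c)) • c
  invFun x := x - (h * lam (B x c)) • c
  map_add' x y := by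
    simp only [map_add, LinearMap.add_apply, mul_add, add_smul]; abel
  map_smul' a x := by
    simp only [RingHom.id_apply, B_smul_left_F, map_smul, smul_add, smul_eq_mul, smul_smul]
    congr 2; ring
  left_inv x := by
    have h1 : B ((h * lam (B x c)) • c) c = 0 := by rw [B_smul_left_F, hB, smul_zero]
    simp only [map_add, LinearMap.add_apply, h1, map_zero, add_zero, add_sub_cancel_right]
  right_inv x := by
    have h1 : B ((h * lam (B x c)) • c) c = 0 := by rw [B_smul_left_F, hB, smul_zero]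
    simp only [map_sub, LinearMap.sub_apply, h1, map_zero, sub_zero, sub_add_cancel]

@[simp] theorem ftv_apply (B : LinearMap.BilinForm K V) (lam : K →ₗ[F] F) (hB : ∀ x, B x x = 0)
    (c : V) (h : F) (x : V) : (ftv B lam hB c h) x = x + (h * lam (B x c)) • c := rfl

/-- (only used for `|F| = 2`) `x ~ y` iff the product of the `F`-transvections `t_x t_y` lies in `M` -/
def Rel (B : LinearMap.BilinForm K V) (lam : K →ₗ[F] F) (hB : ∀ x, B x x = 0)
    (M : Subgroup (V ≃ₗ[F] V)) (x y : V) : Prop :=
  ftv B lam hB x 1 * ftv B lam hB y 1 ∈ M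

end Cfsg.Agent.Lib.H9.ExtSp
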