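import Mathlib
import Cfsg.Prelude.Def_Sporadic_a
import Cfsg.Prelude.Def_SporadicCombinatorics
import Cfsg.Agent.Lib.H27.Co0Mod2
import Cfsg.Agent.Lib.H27.Leech32Shapes
import Cfsg.Agent.Lib.H18.NXDefs

/-!
S1572 step (3), piece (CNTA): the class `TA p q` of minimal vectors `(4_p, 0_q, ±4_j)`,
`(0_p, 4_q, ±4_j)` has 88 elements.  Sigs: tools/blueprints/S1572_step3_sigs.lean (helper18).
-/

set_option autoImplicit false

namespace Cfsg.Agent.Lib.H9.NX

open Cfsg Finset Cfsg.Agent.Lib.H27 Cfsg.Agent.Lib.H28 Cfsg.Agent.Lib.H18.NX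

theorem vecA_apply (i j : GolayPt) (s t : ℤ) (k : GolayPt) :
    vecA i j s t k = (if k = i then s else 0) + (if k = j then t else 0) := by
  simp only [vecA, Pi.add_apply, Pi.single_apply]

theorem dotInt_comm_h9 (x y : GolayPt → ℤ) : dotInt x y = dotInt y x := by
  unfold dotInt
  apply Finset.sum_congr rfl
  intro i _
  ring

/-- the parametrisation of `TA p q` -/
def famA (p q : GolayPt) (_hpq : p ≠ q) :
    Bool × {j : GolayPt // j ≠ p ∧ j ≠ q} × Bool → leechLattice := fun x =>
  ⟨vecA (if x.1 then p else q) x.2.1.1 4 (if x.2.2 then 4 else -4),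
    vecA_mem (by
      rcases x with ⟨b, ⟨j, hj1, hj2⟩, s⟩
      cases b
      · exact fun h => hj2 h.symm
      · exact fun h => hj1 h.symm) (Or.inl rfl) (by
      rcases x with ⟨b, j, s⟩
      cases s
      · exact Or.inr rfl
      · exact Or.inl rfl)⟩

theorem famA_apply (p q : GolayPt) (hpq : p ≠ q)
    (x : Bool × {j : GolayPt // j ≠ p ∧ j ≠ q} × Bool) (k : GolayPt) :
    ((famA p q hpq x : leechLattice) : GolayPt → ℤ) k =
      (if k = (if x.1 then p else q) then 4 else 0) +
        (if k = x.2.1.1 then (if x.2.2 then 4 else -4) else 0) := by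
  show vecA _ _ _ _ k = _
  rw [vecA_apply]

theorem famA_injective (p q : GolayPt) (hpq : p ≠ q) : Function.Injective (famA p q hpq) := by
  rintro ⟨b, ⟨j, hj1, hj2⟩, s⟩ ⟨b', ⟨j', hj1', hj2'⟩, s'⟩ h
  have hk : ∀ k, ((famA p q hpq ⟨b, ⟨j, hj1, hj2⟩, s⟩ : leechLattice) : GolayPt → ℤ) k =
      ((famA p q hpq ⟨b', ⟨j', hj1', hj2'⟩, s'⟩ : leechLattice) : GolayPt → ℤ) k := by
    intro k; rw [h]
  simp only [famA_apply] at hk
  have hb : b = b' := by
    have := hk p
    cases b <;> cases b' <;> simp [hpq, hj1.symm, hj1'.symm] at this ⊢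
  subst hb
  have hj : j = j' := by
    have := hk j
    by_contra hne
    cases b <;> cases s <;> simp [hj1, hj2, hne] at this
  subst hj
  have hs : s = s' := by
    have := hk j
    cases b <;> cases s <;> cases s' <;> simp [hj1, hj2] at this ⊢
  subst hs
  rfl

theorem abs_cases {a : ℤ} (h : |a| = 4 ∨ |a| = 0) : a = 4 ∨ a = -4 ∨ a = 0 := by
  rcases h with h | h
  · rcases abs_eq (by norm_num : (0 : ℤ) ≤ 4) |>.1 h with h | h
    · exact Or.inl h
    · exact Or.inr (Or.inl h)
  · exact Or.inr (Or.inr (abs_eq_zero.1 h))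

theorem TA_eq_range (p q : GolayPt) (hpq : p ≠ q) : TA p q = Set.range (famA p q hpq) := by
  classical
  ext w
  constructor
  · rintro ⟨⟨i, j, hij, habs⟩, hdot⟩
    rw [dotInt_comm_h9, dotInt_vecA] at hdot
    have hcase : ∀ k, (w : GolayPt → ℤ) k = 4 ∨ (w : GolayPt → ℤ) k = -4 ∨
        (w : GolayPt → ℤ) k = 0 := by
      intro k
      apply abs_cases
      rw [habs k]
      split_ifs
      · exact Or.inl rfl
      · exact Or.inr rfl
    have hzero : ∀ k, k ≠ i → k ≠ j → (w : GolayPt → ℤ) k = 0 := by
      intro k h1 h2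
      have := habs k
      rw [if_neg (by tauto)] at this
      exact abs_eq_zero.1 this
    have hnz : ∀ k, (k = i ∨ k = j) → (w : GolayPt → ℤ) k ≠ 0 := by
      intro k hk h0
      have := habs k
      rw [if_pos hk, h0] at this
      norm_num at this
    -- the general construction: support `{a, c}` with `a ∈ {p, q}` carrying `4`
    have build : ∀ (b : Bool) (c : GolayPt), c ≠ p → c ≠ q →
        (w : GolayPt → ℤ) (if b then p else q) = 4 →
        ((w : GolayPt → ℤ) c = 4 ∨ (w : GolayPt → ℤ) c = -4) →
        (∀ k, k ≠ (if b then p else q) → k ≠ c → (w : GolayPt → ℤ) k = 0) →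
        w ∈ Set.range (famA p q hpq) := by
      intro b c hc1 hc2 h4 hc hz
      refine ⟨⟨b, ⟨c, hc1, hc2⟩, decide ((w : GolayPt → ℤ) c = 4)⟩, ?_⟩
      apply Subtype.ext
      funext k
      rw [famA_apply]
      by_cases hk1 : k = (if b then p else q)
      · have hkc : k ≠ c := by
          rw [hk1]; cases b
          · exact fun h => hc2 h.symm
          · exact fun h => hc1 h.symm
        simp only [if_pos hk1, if_neg hkc, add_zero]
        rw [hk1, h4]
      · by_cases hk2 : k = c
        · subst hk2
          simp only [if_neg hk1, if_true, zero_add]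
          rcases hc with hc | hc
          · simp [hc]
          · simp [hc]
        · simp only [if_neg hk1, if_neg hk2, add_zero]
          exact (hz k hk1 hk2).symm
    rcases hcase p with hp | hp | hp <;> rcases hcase q with hq | hq | hq <;>
      try (exfalso; rw [hp, hq] at hdot; norm_num at hdot; done)
    · -- `w p = 4`, `w q = 0`
      have hp_in : p = i ∨ p = j := by
        by_contra hcon
        have hcon := not_or.1 hcon
        have := hzero p hcon.1 hcon.2
        rw [hp] at this; norm_num at this
      have hq_out : q ≠ i ∧ q ≠ j := by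
        constructor
        · intro h; exact hnz q (Or.inl h) hq
        · intro h; exact hnz q (Or.inr h) hq
      rcases hp_in with rfl | rfl
      · -- other support point `j`
        have hjc : (w : GolayPt → ℤ) j = 4 ∨ (w : GolayPt → ℤ) j = -4 := by
          rcases hcase j with h | h | h
          · exact Or.inl h
          · exact Or.inr h
          · exact absurd h (hnz j (Or.inr rfl))
        exact build true j (Ne.symm hij) (Ne.symm hq_out.2) hp hjc
          (fun k h1 h2 => hzero k h1 h2)
      · have hic : (w : GolayPt → ℤ) i = 4 ∨ (w : GolayPt → ℤ) i = -4 := by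
          rcases hcase i with h | h | h
          · exact Or.inl h
          · exact Or.inr h
          · exact absurd h (hnz i (Or.inl rfl))
        exact build true i hij (Ne.symm hq_out.1) hp hic
          (fun k h1 h2 => hzero k h2 h1)
    · -- `w p = 0`, `w q = 4`
      have hq_in : q = i ∨ q = j := by
        by_contra hcon
        have hcon := not_or.1 hcon
        have := hzero q hcon.1 hcon.2
        rw [hq] at this; norm_num at this
      have hp_out : p ≠ i ∧ p ≠ j := by
        constructor
        · intro h; exact hnz p (Or.inl h) hp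
        · intro h; exact hnz p (Or.inr h) hp
      rcases hq_in with rfl | rfl
      · have hjc : (w : GolayPt → ℤ) j = 4 ∨ (w : GolayPt → ℤ) j = -4 := by
          rcases hcase j with h | h | h
          · exact Or.inl h
          · exact Or.inr h
          · exact absurd h (hnz j (Or.inr rfl))
        exact build false j (Ne.symm hp_out.2) (Ne.symm hij) hq hjc
          (fun k h1 h2 => hzero k h1 h2)
      · have hic : (w : GolayPt → ℤ) i = 4 ∨ (w : GolayPt → ℤ) i = -4 := by
          rcases hcase i with h | h | h
          · exact Or.inl h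
          · exact Or.inr h
          · exact absurd h (hnz i (Or.inl rfl))
        exact build false i (Ne.symm hp_out.1) hij hq hic
          (fun k h1 h2 => hzero k h2 h1)
  · rintro ⟨⟨b, ⟨j, hj1, hj2⟩, s⟩, rfl⟩
    refine ⟨⟨(if b then p else q), j, ?_, ?_⟩, ?_⟩
    · cases b
      · exact fun h => hj2 h.symm
      · exact fun h => hj1 h.symm
    · intro k
      rw [famA_apply]
      have hne : (if b then p else q) ≠ j := by
        cases b
        · exact fun h => hj2 h.symm
        · exact fun h => hj1 h.symm
      by_cases hk1 : k = (if b then p else q)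
      · have hkc : k ≠ j := by rw [hk1]; exact hne
        rw [if_pos hk1, if_neg hkc, if_pos (Or.inl hk1)]
        norm_num
      · by_cases hk2 : k = j
        · rw [if_neg hk1, if_pos hk2, if_pos (Or.inr hk2)]
          cases s <;> norm_num
        · rw [if_neg hk1, if_neg hk2, if_neg (by tauto)]
          norm_num
    · rw [dotInt_comm_h9, dotInt_vecA, famA_apply, famA_apply]
      cases b <;> simp [hpq, hpq.symm, hj1.symm, hj2.symm]

/-- (CNTA) 2 * 22 * 2 vectors `(4_p, 0_q, ±4_j)`, `(0_p, 4_q, ±4_j)`. -/
theorem ncard_TA (p q : GolayPt) (hpq : p ≠ q) : (TA p q).ncard = 88 := by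
  classical
  rw [TA_eq_range p q hpq, ← Nat.card_coe_set_eq,
    Nat.card_range_of_injective (famA_injective p q hpq), Nat.card_prod, Nat.card_prod]
  have h22 : Nat.card {j : GolayPt // j ≠ p ∧ j ≠ q} = 22 := by
    rw [Nat.card_eq_fintype_card]
    revert p q
    decide
  rw [h22]
  simp

end Cfsg.Agent.Lib.H9.NX
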