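import Mathlib
import Cfsg.Prelude.Def_CaseTheorems
import Cfsg.Agent.Lib.H15.SymF5

/-!
# S2928 (overgroups of a Sylow 2-subgroup of `A_n` with quasisimple `F*`): shared definitions

Architect: helper9.  Blueprint `tools/blueprints/S2928.md`, exact signatures `tools/blueprints/S2928_sigs.lean`.
-/

set_option autoImplicit false

namespace Cfsg.Agent.Lib.H9.S28

open Equiv

variable {β : Type*} [Fintype β] [DecidableEq β]

/-- `S` is a *Klein set* for `G`: `S` has exactly 4 points and every double transposition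
`(a b)(c d)` on the four points of `S` lies in `G` (so the Klein four-group on `S` is inside `G`). -/
def IsKlein (G : Subgroup (Perm β)) (S : Finset β) : Prop :=
  S.card = 4 ∧ ∀ a b c d : β, a ∈ S → b ∈ S → c ∈ S → d ∈ S →
    a ≠ b → a ≠ c → a ≠ d → b ≠ c → b ≠ d → c ≠ d → swap a b * swap c d ∈ G

/-- The standing hypotheses of the core theorem: `L` is a quasisimple subgroup of `G ≤ Perm β`,
normalized by `G`, moving every point. -/
structure Core (G L : Subgroup (Perm β)) : Prop where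
  le : L ≤ G
  normal : ∀ g ∈ G, ∀ x ∈ L, g * x * g⁻¹ ∈ L
  qs : Cfsg.IsQuasisimple ↥L
  moved : ∀ b : β, ∃ x ∈ L, x b ≠ b

open Classical in
/-- The family of all Klein sets of `G`. -/
noncomputable def kleinSets (G : Subgroup (Perm β)) : Finset (Finset β) :=
  Finset.univ.filter (fun S => IsKlein G S)

theorem mem_kleinSets {G : Subgroup (Perm β)} {S : Finset β} : S ∈ kleinSets G ↔ IsKlein G S := by
  classical
  simp [kleinSets]

/-- The group induced on the finset `s` by those elements of `H` that map `s` into itself: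
`σ ∈ res H s ↔ ∃ h ∈ H, ∀ x : {x // x ∈ s}, h x = σ x`. -/
def res {α : Type*} (H : Subgroup (Perm α)) (s : Finset α) : Subgroup (Perm {x // x ∈ s}) where
  carrier := {σ | ∃ h ∈ H, ∀ x : {x // x ∈ s}, h (x : α) = ((σ x : {x // x ∈ s}) : α)}
  one_mem' := ⟨1, H.one_mem, fun _ => rfl⟩
  mul_mem' := by
    rintro σ τ ⟨h, hh, hσ⟩ ⟨k, hk, hτ⟩
    refine ⟨h * k, H.mul_mem hh hk, fun x => ?_⟩
    rw [Perm.mul_apply, hτ x, hσ (τ x), Perm.mul_apply]
  inv_mem' := by
    rintro σ ⟨h, hh, hσ⟩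
    refine ⟨h⁻¹, H.inv_mem hh, fun x => ?_⟩
    rw [Perm.inv_eq_iff_eq, hσ (σ⁻¹ x)]
    simp

theorem mem_res {α : Type*} {H : Subgroup (Perm α)} {s : Finset α} {σ : Perm {x // x ∈ s}} :
    σ ∈ res H s ↔ ∃ h ∈ H, ∀ x : {x // x ∈ s}, h (x : α) = ((σ x : {x // x ∈ s}) : α) := Iff.rfl

/-- A group normalizing `L` preserves the set of points moved by `L`. -/
theorem preserves_mvd {α : Type*} [Fintype α] [DecidableEq α] {H L : Subgroup (Perm α)}
    (hHN : ∀ h ∈ H, ∀ x ∈ L, h * x * h⁻¹ ∈ L) :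
    ∀ h ∈ H, ∀ x ∈ Cfsg.Agent.Lib.H15.SymF.mvd L, h x ∈ Cfsg.Agent.Lib.H15.SymF.mvd L := by
  intro h hh x hx
  obtain ⟨d, hd, hdx⟩ := Cfsg.Agent.Lib.H15.SymF.mem_mvd.1 hx
  refine Cfsg.Agent.Lib.H15.SymF.mem_mvd.2 ⟨h * d * h⁻¹, hHN h hh d hd, ?_⟩
  intro hcon
  apply hdx
  apply h.injective
  simpa [Perm.mul_apply] using hcon

end Cfsg.Agent.Lib.H9.S28
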