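import Mathlib

/-!
# `π`-elements of finite groups

`IsPi π x`: every prime dividing the order of `x` lies in `π`.  Decomposition of an element
into commuting `π`- and `π'`-parts (existence and uniqueness), and the inequality
`k_π(G) ≤ k_π(N) k_π(G/N)` for the numbers of conjugacy classes of `π`-elements.
-/

set_option autoImplicit false

namespace Cfsg.Agent.Lib.H9.PiElements

/-- every prime dividing the order of `x` lies in `π`. -/
def IsPi (π : Set ℕ) {H : Type*} [Monoid H] (x : H) : Prop :=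
  ∀ q : ℕ, q.Prime → q ∣ orderOf x → q ∈ π

section basic

variable {π : Set ℕ} {H : Type*} [Group H]

theorem IsPi.of_dvd {x y : H} (hx : IsPi π x) (h : orderOf y ∣ orderOf x) : IsPi π y :=
  fun q hq hqy => hx q hq (hqy.trans h)

theorem IsPi.of_mem_zpowers {x y : H} (hx : IsPi π x) (h : y ∈ Subgroup.zpowers x) : IsPi π y :=
  hx.of_dvd (orderOf_dvd_of_mem_zpowers h)

theorem IsPi.map {K : Type*} [Group K] (f : H →* K) {x : H} (hx : IsPi π x) : IsPi π (f x) :=
  fun q hq hqy => hx q hq (hqy.trans (orderOf_map_dvd f x))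

theorem IsPi.inv {x : H} (hx : IsPi π x) : IsPi π x⁻¹ :=
  hx.of_dvd (by rw [orderOf_inv])

theorem IsPi.mul {a b : H} (hab : Commute a b) (ha : IsPi π a) (hb : IsPi π b) :
    IsPi π (a * b) := by
  intro q hq hqab
  have h1 : q ∣ orderOf a * orderOf b :=
    (hqab.trans hab.orderOf_mul_dvd_lcm).trans (Nat.lcm_dvd_mul _ _)
  rcases (Nat.Prime.dvd_mul hq).mp h1 with h2 | h2
  · exact ha q hq h2
  · exact hb q hq h2

theorem eq_one_of_isPi_of_isPi_compl {x : H} (h1 : IsPi π x) (h2 : IsPi πᶜ x) : x = 1 := by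
  rw [← orderOf_eq_one_iff]
  by_contra hne
  obtain ⟨q, hq, hqd⟩ := Nat.exists_prime_and_dvd hne
  exact h2 q hq hqd (h1 q hq hqd)

theorem coprime_orderOf {a b : H} (ha : IsPi π a) (hb : IsPi πᶜ b) :
    (orderOf a).Coprime (orderOf b) := by
  by_contra hnc
  obtain ⟨q, hq, hqa, hqb⟩ := Nat.Prime.not_coprime_iff_dvd.mp hnc
  exact hb q hq hqb (ha q hq hqa)

theorem isPi_conj {x g : H} (hx : IsPi π x) : IsPi π (g * x * g⁻¹) := by
  have : orderOf (g * x * g⁻¹) = orderOf x := by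
    have := MulEquiv.orderOf_eq (MulAut.conj g) x
    simpa [MulAut.conj_apply] using this
  exact hx.of_dvd (by rw [this])

end basic

/-- splitting of a positive integer into its `π`-part and `π'`-part. -/
theorem exists_split (π : Set ℕ) : ∀ m : ℕ, 0 < m → ∃ m₁ m₂ : ℕ, m = m₁ * m₂ ∧
    Nat.Coprime m₁ m₂ ∧ (∀ q : ℕ, q.Prime → q ∣ m₁ → q ∈ π) ∧
    (∀ q : ℕ, q.Prime → q ∣ m₂ → q ∉ π) := by
  intro m
  induction m using Nat.strong_induction_on with
  | _ m ih =>
  intro hm
  by_cases h1 : m = 1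
  · subst h1
    refine ⟨1, 1, rfl, Nat.coprime_one_left 1, ?_, ?_⟩
    · intro q hq hq1; exact absurd (Nat.dvd_one.mp hq1) hq.ne_one
    · intro q hq hq1; exact absurd (Nat.dvd_one.mp hq1) hq.ne_one
  · obtain ⟨p, hp, hpm⟩ := Nat.exists_prime_and_dvd h1
    obtain ⟨e, m', hpm', hm'⟩ := Nat.exists_eq_pow_mul_and_not_dvd hm.ne' p hp.ne_one
    have he : e ≠ 0 := by
      rintro rfl
      rw [pow_zero, one_mul] at hm'
      exact hpm' (hm' ▸ hpm)
    have hm'pos : 0 < m' := by
      rcases Nat.eq_zero_or_pos m' with h0 | h0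
      · rw [h0, mul_zero] at hm'; omega
      · exact h0
    have hlt : m' < m := by
      rw [hm']
      have : 2 ≤ p ^ e := by
        calc 2 ≤ p := hp.two_le
          _ = p ^ 1 := (pow_one p).symm
          _ ≤ p ^ e := Nat.pow_le_pow_right hp.pos (Nat.one_le_iff_ne_zero.mpr he)
      nlinarith
    obtain ⟨m₁, m₂, hmm, hcop, hπ1, hπ2⟩ := ih m' hlt hm'pos
    have hpm₁ : ¬ p ∣ m₁ := fun hd => hpm' (hmm ▸ Dvd.dvd.mul_right hd m₂)
    have hpm₂ : ¬ p ∣ m₂ := fun hd => hpm' (hmm ▸ Dvd.dvd.mul_left hd m₁)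
    have hc1 : Nat.Coprime (p ^ e) m₁ := Nat.Coprime.pow_left e ((Nat.Prime.coprime_iff_not_dvd hp).mpr hpm₁)
    have hc2 : Nat.Coprime (p ^ e) m₂ := Nat.Coprime.pow_left e ((Nat.Prime.coprime_iff_not_dvd hp).mpr hpm₂)
    by_cases hpπ : p ∈ π
    · refine ⟨p ^ e * m₁, m₂, by rw [hm', hmm, mul_assoc], Nat.Coprime.mul_left hc2 hcop, ?_, hπ2⟩
      intro q hq hqd
      rcases (Nat.Prime.dvd_mul hq).mp hqd with h2 | h2
      · have := (Nat.prime_dvd_prime_iff_eq hq hp).mp (hq.dvd_of_dvd_pow h2)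
        rw [this]; exact hpπ
      · exact hπ1 q hq h2
    · refine ⟨m₁, p ^ e * m₂, by rw [hm', hmm]; ring, Nat.Coprime.mul_right hc1.symm hcop, hπ1, ?_⟩
      intro q hq hqd
      rcases (Nat.Prime.dvd_mul hq).mp hqd with h2 | h2
      · have := (Nat.prime_dvd_prime_iff_eq hq hp).mp (hq.dvd_of_dvd_pow h2)
        rw [this]; exact hpπ
      · exact hπ2 q hq h2

section decomp

variable {π : Set ℕ} {H : Type*} [Group H]

/-- existence of the decomposition into `π`- and `π'`-parts. -/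
theorem exists_decomp (π : Set ℕ) (x : H) (hx : IsOfFinOrder x) :
    ∃ p : H × H, p.1 ∈ Subgroup.zpowers x ∧ p.2 ∈ Subgroup.zpowers x ∧ x = p.1 * p.2 ∧
      IsPi π p.1 ∧ IsPi πᶜ p.2 := by
  have hpos : 0 < orderOf x := hx.orderOf_pos
  obtain ⟨m₁, m₂, hm, hcop, h1, h2⟩ := exists_split π (orderOf x) hpos
  obtain ⟨e, he1, he2⟩ := Nat.chineseRemainder hcop 1 0
  obtain ⟨f, hf1, hf2⟩ := Nat.chineseRemainder hcop 0 1
  refine ⟨(x ^ e, x ^ f), Subgroup.pow_mem _ (Subgroup.mem_zpowers x) e,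
    Subgroup.pow_mem _ (Subgroup.mem_zpowers x) f, ?_, ?_, ?_⟩
  · show x = x ^ e * x ^ f
    rw [← pow_add]
    conv_lhs => rw [← pow_one x]
    rw [pow_eq_pow_iff_modEq, hm]
    apply (Nat.modEq_and_modEq_iff_modEq_mul hcop).mp
    constructor
    · have := he1.add hf1
      simpa using this.symm
    · have := he2.add hf2
      simpa using this.symm
  · have hdvd : orderOf (x ^ e) ∣ m₁ := by
      apply orderOf_dvd_of_pow_eq_one
      rw [← pow_mul]
      apply orderOf_dvd_iff_pow_eq_one.mp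
      rw [hm, mul_comm e m₁]
      exact Nat.mul_dvd_mul_left m₁ ((Nat.modEq_zero_iff_dvd).mp he2)
    intro q hq hqd
    exact h1 q hq (hqd.trans hdvd)
  · have hdvd : orderOf (x ^ f) ∣ m₂ := by
      apply orderOf_dvd_of_pow_eq_one
      rw [← pow_mul]
      apply orderOf_dvd_iff_pow_eq_one.mp
      rw [hm]
      exact Nat.mul_dvd_mul ((Nat.modEq_zero_iff_dvd).mp hf1) (dvd_refl m₂)
    intro q hq hqd
    exact h2 q hq (hqd.trans hdvd)

/-- the `π`-part of a commuting product of a `π`-element and a `π'`-element is a power of the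
product. -/
theorem mem_zpowers_mul_of_isPi {a b : H} (hab : Commute a b) (ha : IsPi π a) (hb : IsPi πᶜ b) :
    a ∈ Subgroup.zpowers (a * b) := by
  have hcop := coprime_orderOf ha hb
  obtain ⟨e, he1, he2⟩ := Nat.chineseRemainder hcop 1 0
  have h1 : (a * b) ^ e = a := by
    rw [hab.mul_pow]
    have e1 : a ^ e = a := by
      conv_rhs => rw [← pow_one a]
      exact (pow_eq_pow_iff_modEq (x := a) (n := e) (m := 1)).mpr he1
    have e2 : b ^ e = 1 := orderOf_dvd_iff_pow_eq_one.mp ((Nat.modEq_zero_iff_dvd).mp he2)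
    rw [e1, e2, mul_one]
  have key := Subgroup.pow_mem _ (Subgroup.mem_zpowers (a * b)) e
  rwa [h1] at key

/-- uniqueness of the decomposition into commuting `π`- and `π'`-parts. -/
theorem decomp_unique {a b a' b' : H} (hab : Commute a b) (hab' : Commute a' b')
    (ha : IsPi π a) (hb : IsPi πᶜ b) (ha' : IsPi π a') (hb' : IsPi πᶜ b')
    (h : a * b = a' * b') : a = a' ∧ b = b' := by
  have h1 : a ∈ Subgroup.zpowers (a * b) := mem_zpowers_mul_of_isPi hab ha hb
  have h2 : a' ∈ Subgroup.zpowers (a * b) := by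
    rw [h]; exact mem_zpowers_mul_of_isPi hab' ha' hb'
  have h3 : b ∈ Subgroup.zpowers (a * b) := by
    have key : a⁻¹ * (a * b) ∈ Subgroup.zpowers (a * b) :=
      Subgroup.mul_mem _ (Subgroup.inv_mem _ h1) (Subgroup.mem_zpowers _)
    rwa [inv_mul_cancel_left] at key
  have h4 : b' ∈ Subgroup.zpowers (a * b) := by
    have key : a'⁻¹ * (a * b) ∈ Subgroup.zpowers (a * b) :=
      Subgroup.mul_mem _ (Subgroup.inv_mem _ h2) (Subgroup.mem_zpowers _)
    have e : a'⁻¹ * (a * b) = b' := by rw [h, inv_mul_cancel_left]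
    rwa [e] at key
  have comm : ∀ {u v : H}, u ∈ Subgroup.zpowers (a * b) → v ∈ Subgroup.zpowers (a * b) →
      Commute u v := by
    intro u v hu hv
    obtain ⟨i, rfl⟩ := Subgroup.mem_zpowers_iff.mp hu
    obtain ⟨j, rfl⟩ := Subgroup.mem_zpowers_iff.mp hv
    exact (Commute.refl (a * b)).zpow_zpow i j
  have hc : a'⁻¹ * a = b' * b⁻¹ := by
    have : a'⁻¹ * a = a'⁻¹ * (a * b) * b⁻¹ := by group
    rw [this, h]; group
  have hπ : IsPi π (a'⁻¹ * a) := IsPi.mul (comm (Subgroup.inv_mem _ h2) h1) ha'.inv ha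
  have hπ' : IsPi πᶜ (a'⁻¹ * a) := by
    rw [hc]
    exact IsPi.mul (comm h4 (Subgroup.inv_mem _ h3)) hb' hb.inv
  have hone := eq_one_of_isPi_of_isPi_compl hπ hπ'
  have haa : a = a' := by
    have : a = a' * (a'⁻¹ * a) := by group
    rw [this, hone, mul_one]
  refine ⟨haa, ?_⟩
  rw [haa] at h
  exact mul_left_cancel h

end decomp

section main

variable {G : Type*} [Group G] [Finite G] (N : Subgroup G) [N.Normal] (π : Set ℕ)

/-- commuting pairs whose first coordinate is a `π`-element. -/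
abbrev CP (π : Set ℕ) (H : Type*) [Group H] : Type _ :=
  {p : H × H // IsPi π p.1 ∧ p.1 * p.2 = p.2 * p.1}

/-- intermediate set of triples. -/
abbrev TE : Type _ :=
  {t : G × G × (G ⧸ N) // IsPi π t.1 ∧ t.2.1 ∈ N ∧ t.1 * t.2.1 = t.2.1 * t.1 ∧
    (t.1 : G ⧸ N) * t.2.2 = t.2.2 * (t.1 : G ⧸ N)}

open Classical in
/-- a chosen element of the coset `h` commuting with `x`, if there is one. -/
noncomputable def lift (x : G) (h : G ⧸ N) : G :=
  if hh : ∃ z : G, (z : G ⧸ N) = h ∧ x * z = z * x then Classical.choose hh else 1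

theorem lift_spec {x : G} {h : G ⧸ N} (hh : ∃ z : G, (z : G ⧸ N) = h ∧ x * z = z * x) :
    ((lift N x h : G) : G ⧸ N) = h ∧ x * lift N x h = lift N x h * x := by
  unfold lift
  rw [dif_pos hh]
  exact Classical.choose_spec hh

/-- the chosen `π`- and `π'`-parts. -/
noncomputable def parts (n : G) : G × G :=
  Classical.choose (exists_decomp π n (isOfFinOrder_of_finite n))

theorem parts_spec (n : G) : (parts π n).1 ∈ Subgroup.zpowers n ∧
    (parts π n).2 ∈ Subgroup.zpowers n ∧ n = (parts π n).1 * (parts π n).2 ∧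
    IsPi π (parts π n).1 ∧ IsPi πᶜ (parts π n).2 :=
  Classical.choose_spec (exists_decomp π n (isOfFinOrder_of_finite n))

omit [Finite G] in
theorem commute_of_mem_zpowers {x n u : G} (hxn : x * n = n * x) (hu : u ∈ Subgroup.zpowers n) :
    x * u = u * x := by
  obtain ⟨i, rfl⟩ := Subgroup.mem_zpowers_iff.mp hu
  exact ((show Commute x n from hxn).zpow_right i).eq

theorem phi1_mem {x z : G} (hx : IsPi π x) (hxz : x * z = z * x) :
    IsPi π x ∧ (lift N x (z : G ⧸ N))⁻¹ * z ∈ N ∧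
      x * ((lift N x (z : G ⧸ N))⁻¹ * z) = (lift N x (z : G ⧸ N))⁻¹ * z * x ∧
      (x : G ⧸ N) * (z : G ⧸ N) = (z : G ⧸ N) * (x : G ⧸ N) := by
  obtain ⟨h1, h2⟩ := lift_spec N (x := x) (h := (z : G ⧸ N)) ⟨z, rfl, hxz⟩
  refine ⟨hx, ?_, ?_, ?_⟩
  · rw [← QuotientGroup.eq_one_iff, QuotientGroup.mk_mul, QuotientGroup.mk_inv, h1, inv_mul_cancel]
  · have c1 : Commute x (lift N x (z : G ⧸ N)) := h2
    have c2 : Commute x z := hxz
    exact ((c1.inv_right.mul_right c2).eq)
  · rw [← QuotientGroup.mk_mul, ← QuotientGroup.mk_mul, hxz]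

theorem card_CP_le_card_TE : Nat.card (CP π G) ≤ Nat.card (TE N π) := by
  apply Nat.card_le_card_of_injective
    (fun p : CP π G => (⟨(p.1.1, (lift N p.1.1 (p.1.2 : G ⧸ N))⁻¹ * p.1.2, (p.1.2 : G ⧸ N)),
      phi1_mem N π p.2.1 p.2.2⟩ : TE N π))
  intro p q h
  have h' := congrArg Subtype.val h
  simp only [Prod.mk.injEq] at h'
  obtain ⟨h1, h2, h3⟩ := h'
  apply Subtype.ext
  apply Prod.ext h1
  rw [h1, h3] at h2
  exact mul_left_cancel h2

theorem phi2_mem {x n : G} (hn : n ∈ N) (hxn : x * n = n * x) :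
    (parts π n).1 ∈ N ∧ (lift N (parts π n).1 (x : G ⧸ N))⁻¹ * (x * (parts π n).2) ∈ N ∧
      (parts π n).1 * ((lift N (parts π n).1 (x : G ⧸ N))⁻¹ * (x * (parts π n).2)) =
        (lift N (parts π n).1 (x : G ⧸ N))⁻¹ * (x * (parts π n).2) * (parts π n).1 := by
  obtain ⟨ha, hb, hab, haπ, hbπ⟩ := parts_spec π n
  have hle : Subgroup.zpowers n ≤ N := Subgroup.zpowers_le.mpr hn
  have hbN : (parts π n).2 ∈ N := hle hb
  have hxa : x * (parts π n).1 = (parts π n).1 * x := commute_of_mem_zpowers hxn ha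
  have hab' : (parts π n).1 * (parts π n).2 = (parts π n).2 * (parts π n).1 := by
    obtain ⟨i, hi⟩ := Subgroup.mem_zpowers_iff.mp ha
    obtain ⟨j, hj⟩ := Subgroup.mem_zpowers_iff.mp hb
    rw [← hi, ← hj]
    exact ((Commute.refl n).zpow_zpow i j).eq
  have hy : (parts π n).1 * (x * (parts π n).2) = (x * (parts π n).2) * (parts π n).1 := by
    have c1 : Commute (parts π n).1 x := hxa.symm
    have c2 : Commute (parts π n).1 (parts π n).2 := hab'
    exact (c1.mul_right c2).eq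
  have hex : ∃ z : G, (z : G ⧸ N) = (x : G ⧸ N) ∧ (parts π n).1 * z = z * (parts π n).1 := by
    refine ⟨x * (parts π n).2, ?_, hy⟩
    rw [QuotientGroup.mk_mul, (QuotientGroup.eq_one_iff _).mpr hbN, mul_one]
  obtain ⟨h1, h2⟩ := lift_spec N hex
  refine ⟨hle ha, ?_, ?_⟩
  · rw [← QuotientGroup.eq_one_iff, QuotientGroup.mk_mul, QuotientGroup.mk_inv, h1,
      QuotientGroup.mk_mul, (QuotientGroup.eq_one_iff _).mpr hbN, mul_one, inv_mul_cancel]
  · have c1 : Commute (parts π n).1 (lift N (parts π n).1 (x : G ⧸ N)) := h2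
    have c2 : Commute (parts π n).1 (x * (parts π n).2) := hy
    exact (c1.inv_right.mul_right c2).eq

theorem isPi_mk {H : Subgroup G} {a : G} (ha : a ∈ H) (h : IsPi π a) : IsPi π (⟨a, ha⟩ : H) := by
  intro q hq hqd
  rw [Subgroup.orderOf_mk] at hqd
  exact h q hq hqd

theorem card_TE_le : Nat.card (TE N π) ≤ Nat.card (CP π N) * Nat.card (CP π (G ⧸ N)) := by
  rw [← Nat.card_prod]
  apply Nat.card_le_card_of_injective
    (fun t : TE N π =>
      ((⟨(⟨(parts π t.1.2.1).1, (phi2_mem N π t.2.2.1 t.2.2.2.1).1⟩,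
          ⟨(lift N (parts π t.1.2.1).1 (t.1.1 : G ⧸ N))⁻¹ * (t.1.1 * (parts π t.1.2.1).2),
            (phi2_mem N π t.2.2.1 t.2.2.2.1).2.1⟩),
          isPi_mk π _ (parts_spec π t.1.2.1).2.2.2.1,
          Subtype.ext (phi2_mem N π t.2.2.1 t.2.2.2.1).2.2⟩ : CP π N),
       (⟨((t.1.1 : G ⧸ N), t.1.2.2), (t.2.1.map (QuotientGroup.mk' N)), t.2.2.2.2⟩ :
          CP π (G ⧸ N))))
  intro t t' h
  obtain ⟨⟨x, n, hb⟩, hx, hn, hxn, hxh⟩ := t
  obtain ⟨⟨x', n', hb'⟩, hx', hn', hxn', hxh'⟩ := t'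
  have h1 := congrArg (fun r => ((r.1.1.1 : N) : G)) h
  have h2 := congrArg (fun r => ((r.1.1.2 : N) : G)) h
  have h3 := congrArg (fun r => r.2.1.1) h
  have h4 := congrArg (fun r => r.2.1.2) h
  dsimp only at h1 h2 h3 h4
  rw [h1, h3] at h2
  have h5 : x * (parts π n).2 = x' * (parts π n').2 := mul_left_cancel h2
  obtain ⟨ha, hbz, hab, haπ, hbπ⟩ := parts_spec π n
  obtain ⟨ha', hbz', hab', haπ', hbπ'⟩ := parts_spec π n'
  have c1 : Commute x (parts π n).2 := commute_of_mem_zpowers hxn hbz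
  have c2 : Commute x' (parts π n').2 := commute_of_mem_zpowers hxn' hbz'
  obtain ⟨e1, e2⟩ := decomp_unique c1 c2 hx hbπ hx' hbπ' h5
  have e3 : n = n' := by rw [hab, hab', h1, e2]
  subst e1 e3
  subst h4
  rfl

theorem card_CP_le : Nat.card (CP π G) ≤ Nat.card (CP π N) * Nat.card (CP π (G ⧸ N)) :=
  (card_CP_le_card_TE N π).trans (card_TE_le N π)

end main

section burnside

variable (π : Set ℕ) (H : Type*) [Group H]

/-- the set of `π`-elements, invariant under conjugation. -/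
def piSub : SubMulAction (ConjAct H) H where
  carrier := {x | IsPi π x}
  smul_mem' := by
    intro g x hx
    rw [ConjAct.smul_def]
    exact isPi_conj hx

theorem mem_piSub {x : H} : x ∈ piSub π H ↔ IsPi π x := Iff.rfl

/-- the class predicate of the statement, at a representative. -/
theorem class_pred_iff (x : H) :
    (∀ q : ℕ, q.Prime → (∃ g : H, ConjClasses.mk g = ConjClasses.mk x ∧ q ∣ orderOf g) → q ∈ π) ↔
      IsPi π x := by
  constructor
  · intro h q hq hqd
    exact h q hq ⟨x, rfl, hqd⟩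
  · rintro h q hq ⟨g, hg, hqd⟩
    rw [ConjClasses.mk_eq_mk_iff_isConj, isConj_iff] at hg
    obtain ⟨c, hc⟩ := hg
    have h2 : IsPi π x := h
    have : IsPi π g := by
      have e : g = c⁻¹ * x * c⁻¹⁻¹ := by rw [← hc]; group
      rw [e]; exact isPi_conj h2
    exact this q hq hqd

/-- orbits of conjugation on `π`-elements are the conjugacy classes of `π`-elements. -/
noncomputable def orbitsEquiv :
    Quotient (MulAction.orbitRel (ConjAct H) (piSub π H)) ≃
      {C : ConjClasses H // ∀ q : ℕ, q.Prime →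
        (∃ g : H, ConjClasses.mk g = C ∧ q ∣ orderOf g) → q ∈ π} := by
  refine Equiv.ofBijective
    (Quotient.lift (fun x : piSub π H =>
      (⟨ConjClasses.mk x.1, (class_pred_iff π H x.1).mpr x.2⟩ :
        {C : ConjClasses H // ∀ q : ℕ, q.Prime →
          (∃ g : H, ConjClasses.mk g = C ∧ q ∣ orderOf g) → q ∈ π})) ?_) ⟨?_, ?_⟩
  · intro x y hxy
    apply Subtype.ext
    show ConjClasses.mk x.1 = ConjClasses.mk y.1
    rw [ConjClasses.mk_eq_mk_iff_isConj, isConj_comm, isConj_iff]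
    obtain ⟨g, hg⟩ := hxy
    refine ⟨ConjAct.ofConjAct g, ?_⟩
    have := congrArg Subtype.val hg
    simpa [ConjAct.smul_def] using this
  · intro a b
    induction a using Quotient.inductionOn with
    | _ x =>
    induction b using Quotient.inductionOn with
    | _ y =>
    intro h
    have h1 : ConjClasses.mk x.1 = ConjClasses.mk y.1 := congrArg Subtype.val h
    rw [ConjClasses.mk_eq_mk_iff_isConj, isConj_comm, isConj_iff] at h1
    obtain ⟨c, hc⟩ := h1
    apply Quotient.sound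
    refine ⟨ConjAct.toConjAct c, ?_⟩
    apply Subtype.ext
    simpa [ConjAct.smul_def] using hc
  · rintro ⟨C, hC⟩
    obtain ⟨x, rfl⟩ := ConjClasses.exists_rep C
    have hx : IsPi π x := (class_pred_iff π H x).mp hC
    exact ⟨Quotient.mk _ ⟨x, hx⟩, rfl⟩

/-- commuting pairs as fixed points. -/
def pairsEquiv : CP π H ≃ Σ g : ConjAct H, MulAction.fixedBy (piSub π H) g where
  toFun p := ⟨ConjAct.toConjAct p.1.2, ⟨⟨p.1.1, p.2.1⟩, by
    apply Subtype.ext
    show ConjAct.toConjAct p.1.2 • p.1.1 = p.1.1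
    rw [ConjAct.smul_def, ConjAct.ofConjAct_toConjAct, ← p.2.2]
    group⟩⟩
  invFun s := ⟨(s.2.1.1, ConjAct.ofConjAct s.1), s.2.1.2, by
    have h := congrArg Subtype.val s.2.2
    have h' : ConjAct.ofConjAct s.1 * s.2.1.1 * (ConjAct.ofConjAct s.1)⁻¹ = s.2.1.1 := by
      simpa [ConjAct.smul_def] using h
    show s.2.1.1 * ConjAct.ofConjAct s.1 = ConjAct.ofConjAct s.1 * s.2.1.1
    conv_lhs => rw [← h']
    group⟩
  left_inv p := by
    apply Subtype.ext
    rfl
  right_inv s := by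
    rfl

theorem card_CP_eq [Finite H] :
    Nat.card (CP π H) = Nat.card {C : ConjClasses H // ∀ q : ℕ, q.Prime →
        (∃ g : H, ConjClasses.mk g = C ∧ q ∣ orderOf g) → q ∈ π} * Nat.card H := by
  classical
  have := Fintype.ofFinite H
  have hb := MulAction.sum_card_fixedBy_eq_card_orbits_mul_card_group (ConjAct H) (piSub π H)
  calc Nat.card (CP π H)
      = Nat.card (Σ g : ConjAct H, MulAction.fixedBy (piSub π H) g) :=
        Nat.card_congr (pairsEquiv π H)
    _ = ∑ g : ConjAct H, Nat.card (MulAction.fixedBy (piSub π H) g) := Nat.card_sigma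
    _ = ∑ g : ConjAct H, Fintype.card (MulAction.fixedBy (piSub π H) g) := by
        simp only [Nat.card_eq_fintype_card]
    _ = Fintype.card (Quotient (MulAction.orbitRel (ConjAct H) (piSub π H))) *
          Fintype.card (ConjAct H) := hb
    _ = _ := by
        rw [← Nat.card_eq_fintype_card, ← Nat.card_eq_fintype_card,
          Nat.card_congr (orbitsEquiv π H)]
        rfl

end burnside


/-- **`k_π(G) ≤ k_π(N) k_π(G/N)`** for the numbers of conjugacy classes of `π`-elements. -/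
theorem card_piClasses_le {G : Type*} [Group G] [Finite G] (N : Subgroup G) [N.Normal]
    (π : Set ℕ) :
    Nat.card {C : ConjClasses G // ∀ q : ℕ, q.Prime →
        (∃ g : G, ConjClasses.mk g = C ∧ q ∣ orderOf g) → q ∈ π} ≤
      Nat.card {C : ConjClasses N // ∀ q : ℕ, q.Prime →
        (∃ g : N, ConjClasses.mk g = C ∧ q ∣ orderOf g) → q ∈ π} *
      Nat.card {C : ConjClasses (G ⧸ N) // ∀ q : ℕ, q.Prime →
        (∃ g : (G ⧸ N), ConjClasses.mk g = C ∧ q ∣ orderOf g) → q ∈ π} := by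
  have h1 := card_CP_eq π G
  have h2 := card_CP_eq π N
  have h3 := card_CP_eq π (G ⧸ N)
  have h4 := card_CP_le N π
  rw [h1, h2, h3] at h4
  have h5 : Nat.card N * Nat.card (G ⧸ N) = Nat.card G := by
    rw [mul_comm]; exact (Subgroup.card_eq_card_quotient_mul_card_subgroup N).symm
  have hpos : 0 < Nat.card G := Nat.card_pos
  apply Nat.le_of_mul_le_mul_right _ hpos
  calc _ ≤ _ := h4
    _ = _ := by rw [← h5]; ring

end Cfsg.Agent.Lib.H9.PiElements
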