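import Mathlib
import Cfsg.Agent.Lib.H19.AlpDefs
import Cfsg.Agent.Lib.H16.SolvableCore
import Cfsg.Agent.Lib.H1.PCore
import Cfsg.Agent.Lib.H1.PGroupBasic
import Cfsg.Agent.Lib.H9.FrattiniAction
import Cfsg.Agent.S3780

set_option autoImplicit false

/-!
# S3782 piece SD3 (helper9), core: with trivial `p'`-core, the index of `O_p(G)` is bounded

The inputs FIXR and FIXQ are taken as hypotheses `hR`, `hQ` here.
-/

namespace Cfsg.Agent.Lib.H9.ALP

open Cfsg.Agent.Lib.H19.ALP
open scoped commutatorElement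

universe u

/-! ### Elementary abelian groups generated by few elements -/

/-- in a commutative group of exponent `p` a subgroup generated by a finite set `S` has at most
`p ^ |S|` elements -/
theorem card_closure_le_pow {V : Type*} [CommGroup V] [Finite V] {p : ℕ} (hp : 0 < p)
    (hexp : ∀ v : V, v ^ p = 1) (S : Finset V) :
    Nat.card (Subgroup.closure (S : Set V)) ≤ p ^ S.card := by
  classical
  induction S using Finset.induction_on with
  | empty => simp
  | insert a S ha ih =>
    rw [Finset.card_insert_of_notMem ha, Finset.coe_insert, Set.insert_eq, Subgroup.closure_union]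
    have hH : Nat.card (Subgroup.closure ({a} : Set V)) ≤ p := by
      rw [← Subgroup.zpowers_eq_closure, Nat.card_zpowers]
      exact Nat.le_of_dvd hp (orderOf_dvd_of_pow_eq_one (hexp a))
    set H := Subgroup.closure ({a} : Set V)
    set K := Subgroup.closure (S : Set V)
    -- the product map `H × K → H ⊔ K` is surjective
    let f : H × K → ↥(H ⊔ K) := fun x =>
      ⟨(x.1 : V) * (x.2 : V), Subgroup.mul_mem_sup x.1.2 x.2.2⟩
    have hf : Function.Surjective f := by
      rintro ⟨x, hx⟩
      obtain ⟨y, hy, z, hz, rfl⟩ := Subgroup.mem_sup.mp hx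
      exact ⟨(⟨y, hy⟩, ⟨z, hz⟩), rfl⟩
    calc Nat.card ↥(H ⊔ K) ≤ Nat.card (H × K) := Nat.card_le_card_of_surjective f hf
      _ = Nat.card H * Nat.card K := Nat.card_prod _ _
      _ ≤ p * p ^ S.card := Nat.mul_le_mul hH ih
      _ = p ^ (S.card + 1) := by rw [pow_succ, mul_comm]

/-- an abelian group of exponent `p` with an automorphism `γ`, `γ ^ p = 1`, with at most `p ^ n` fixed points
has at most `p ^ (p * n)` elements -/
theorem card_le_of_fixCard_le {V : Type*} [CommGroup V] [Finite V] {p : ℕ} [hp : Fact p.Prime]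
    (hexp : ∀ v : V, v ^ p = 1) (γ : MulAut V) (hγ : γ ^ p = 1) (n : ℕ) (hfix : fixCard γ ≤ p ^ n) :
    Nat.card V ≤ p ^ (p * n) := by
  have hp0 : 0 < p := hp.out.pos
  have hV : IsPGroup p V := fun v => ⟨1, by rw [pow_one]; exact hexp v⟩
  by_cases h1 : γ = 1
  · -- everything is fixed
    have e : Nat.card {v : V // γ v = v} = Nat.card V := by
      apply Nat.card_congr
      exact
        { toFun := fun x => x.1
          invFun := fun v => ⟨v, by rw [h1]; rfl⟩
          left_inv := fun x => rfl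
          right_inv := fun v => rfl }
    unfold fixCard at hfix
    rw [e] at hfix
    calc Nat.card V ≤ p ^ n := hfix
      _ ≤ p ^ (p * n) := Nat.pow_le_pow_right hp0 (Nat.le_mul_of_pos_left n hp0)
  · have ho : orderOf γ = p := orderOf_eq_prime hγ h1
    -- the fixed points form a subgroup, of order `p ^ m`
    let F : Subgroup V :=
      { carrier := {v | γ v = v}
        mul_mem' := fun {a b} ha hb => by
          show γ (a * b) = a * b
          rw [map_mul, ha, hb]
        one_mem' := map_one γ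
        inv_mem' := fun {a} ha => by
          show γ a⁻¹ = a⁻¹
          rw [map_inv, ha] }
    obtain ⟨m, hm⟩ := IsPGroup.iff_card.mp (hV.to_subgroup F)
    have hFfix : Nat.card {v : V // γ v = v} = p ^ m := hm
    have hmn : m ≤ n := by
      unfold fixCard at hfix
      rw [hFfix] at hfix
      exact (Nat.pow_le_pow_iff_right hp.out.one_lt).mp hfix
    obtain ⟨S, hS, hgen⟩ := Cfsg.Agent.S3780.result hV γ ho m hFfix
    have h2 := card_closure_le_pow hp0 hexp S
    rw [hgen, Subgroup.card_top] at h2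
    calc Nat.card V ≤ p ^ S.card := h2
      _ ≤ p ^ (p * n) := Nat.pow_le_pow_right hp0 (le_trans hS (Nat.mul_le_mul_left p hmn))

/-! ### The induced action on the Frattini quotient -/

section action

variable {Q : Type*} [Group Q]

/-- the automorphism of `Q/Φ(Q)` induced by an automorphism of `Q` -/
noncomputable def frAut (a : MulAut Q) : MulAut (Q ⧸ frattini Q) :=
  qAut a (frattini Q) (inv_of_characteristic a (frattini Q))

theorem frAut_mk (a : MulAut Q) (x : Q) : frAut a (x : Q ⧸ frattini Q) = ((a x : Q) : Q ⧸ frattini Q) :=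
  rfl

theorem frAut_mul (a b : MulAut Q) : frAut (a * b) = frAut a * frAut b := by
  ext v
  induction v using QuotientGroup.induction_on with
  | H x => rw [MulAut.mul_apply, frAut_mk, frAut_mk, frAut_mk, MulAut.mul_apply]

/-- the induced action as a homomorphism -/
noncomputable def frHom : MulAut Q →* MulAut (Q ⧸ frattini Q) :=
  MonoidHom.mk' frAut frAut_mul

theorem frHom_apply (a : MulAut Q) : frHom a = frAut a := rfl

end action

/-! ### The bound -/

section main

variable {p : ℕ} [hp : Fact p.Prime] {G : Type u} [Group G]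

/-- **SD3** with FIXR and FIXQ as hypotheses -/
theorem index_pCore_le_of [Finite G] (hs : Group.IsSolvable G) (hO : Cfsg.pPrimeCore p G = ⊥)
    (α : MulAut G) (hα : α ^ p = 1) (n : ℕ) (hfix : fixCard α ≤ p ^ n)
    (hR : ∀ (N : Subgroup G) (h : Inv α N), fixCard (rAut α N h) ≤ fixCard α)
    (hQ : ∀ (N : Subgroup G) (β : MulAut ↥N) (K : Subgroup ↥N) [K.Normal] (h : Inv β K),
      fixCard (qAut β K h) ≤ fixCard β) :
    (Cfsg.pCore p G).index ≤ (p ^ (p * n)).factorial := by
  set Q : Subgroup G := Cfsg.pCore p G with hQdef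
  have hQp : IsPGroup p ↥Q := Cfsg.Agent.Lib.H1.pCore_isPGroup p G
  haveI hQn : Q.Normal := Cfsg.Agent.Lib.H1.pCore_normal p G
  haveI hQc : Q.Characteristic := Cfsg.Agent.Lib.H1.pCore_characteristic p G
  have hCQ : Subgroup.centralizer (Q : Set G) ≤ Q :=
    Cfsg.Agent.Lib.H16.centralizer_pCore_le_of_isSolvable p hs hO
  -- the Frattini quotient
  set V := ↥Q ⧸ frattini ↥Q with hVdef
  have hcommV : ∀ a b : V, a * b = b * a := by
    intro a b
    induction a using QuotientGroup.induction_on with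
    | H x =>
      induction b using QuotientGroup.induction_on with
      | H y =>
        rw [← QuotientGroup.mk_mul, ← QuotientGroup.mk_mul, QuotientGroup.eq]
        have h1 : ⁅x⁻¹, y⁻¹⁆ ∈ commutator ↥Q := by
          rw [commutator_def]
          exact Subgroup.commutator_mem_commutator (Subgroup.mem_top _) (Subgroup.mem_top _)
        have h2 := Cfsg.Agent.Lib.H1.isPGroup_commutator_le_frattini hQp h1
        have e : (x * y)⁻¹ * (y * x) = ⁅y⁻¹, x⁻¹⁆ := by
          rw [commutatorElement_def]; group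
        rw [e]
        have h1' : ⁅y⁻¹, x⁻¹⁆ ∈ commutator ↥Q := by
          rw [commutator_def]
          exact Subgroup.commutator_mem_commutator (Subgroup.mem_top _) (Subgroup.mem_top _)
        exact Cfsg.Agent.Lib.H1.isPGroup_commutator_le_frattini hQp h1'
  letI instV : CommGroup V := { (inferInstance : Group V) with mul_comm := hcommV }
  have hexpV : ∀ v : V, v ^ p = 1 := by
    intro v
    induction v using QuotientGroup.induction_on with
    | H x =>
      rw [← QuotientGroup.mk_pow, QuotientGroup.eq_one_iff]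
      exact Cfsg.Agent.Lib.H1.isPGroup_pow_mem_frattini hQp x
  -- the induced automorphism
  set β : MulAut ↥Q := rAut α Q (inv_of_characteristic α Q) with hβ
  have hβp : β ^ p = 1 := rAut_pow_eq_one α Q _ hα
  set γ : MulAut V := qAut β (frattini ↥Q) (inv_of_characteristic β (frattini ↥Q)) with hγ
  have hγp : γ ^ p = 1 := qAut_pow_eq_one β (frattini ↥Q) _ hβp
  have hγfix : fixCard γ ≤ p ^ n :=
    le_trans (hQ Q β (frattini ↥Q) _) (le_trans (hR Q _) hfix)
  have hcardV : Nat.card V ≤ p ^ (p * n) := card_le_of_fixCard_le hexpV γ hγp n hγfix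
  -- the action of `G` on `V`
  let Θ : G →* MulAut V := (frHom (Q := ↥Q)).comp (MulAut.conjNormal (H := Q))
  have hΘ : ∀ (g : G) (x : ↥Q), Θ g (x : V) = ((MulAut.conjNormal g x : ↥Q) : V) := fun g x => rfl
  -- the kernel is a `p`-group
  have hker1 : ∀ y ∈ Θ.ker, (orderOf y).Coprime p → y = 1 := by
    intro y hy hyp
    have hcent : ∀ q ∈ Q, y * q = q * y := by
      apply Cfsg.Agent.Lib.H9.commute_of_commutator_mem_frattini hQp
        (by rw [Subgroup.normalizer_eq_top]; exact Subgroup.mem_top y) hyp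
      intro a ha q hq
      have haK : a ∈ Θ.ker := (Subgroup.zpowers_le.mpr hy) ha
      have h1 : Θ a ((⟨q, hq⟩ : ↥Q) : V) = ((⟨q, hq⟩ : ↥Q) : V) := by
        rw [MonoidHom.mem_ker.mp haK]; rfl
      rw [hΘ, QuotientGroup.eq] at h1
      -- `(a q a⁻¹)⁻¹ q ∈ Φ(Q)`
      have h2 : (MulAut.conjNormal a (⟨q, hq⟩ : ↥Q)) * (⟨q, hq⟩ : ↥Q)⁻¹ ∈ frattini ↥Q := by
        have h3 := (frattini ↥Q).inv_mem h1
        have hn : (frattini ↥Q).Normal := inferInstance
        have h4 := hn.conj_mem _ h3 (MulAut.conjNormal a (⟨q, hq⟩ : ↥Q))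
        have e : MulAut.conjNormal a (⟨q, hq⟩ : ↥Q) *
            ((MulAut.conjNormal a (⟨q, hq⟩ : ↥Q))⁻¹ * (⟨q, hq⟩ : ↥Q))⁻¹ *
            (MulAut.conjNormal a (⟨q, hq⟩ : ↥Q))⁻¹ =
            (MulAut.conjNormal a (⟨q, hq⟩ : ↥Q)) * (⟨q, hq⟩ : ↥Q)⁻¹ := by group
        rw [e] at h4
        exact h4
      refine ⟨_, h2, ?_⟩
      show ((MulAut.conjNormal a (⟨q, hq⟩ : ↥Q) * (⟨q, hq⟩ : ↥Q)⁻¹ : ↥Q) : G) = a * q * a⁻¹ * q⁻¹
      rw [Subgroup.coe_mul, MulAut.conjNormal_apply, Subgroup.coe_inv]
    have hyC : y ∈ Subgroup.centralizer (Q : Set G) := by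
      rw [Subgroup.mem_centralizer_iff]
      intro q hq
      exact (hcent q hq).symm
    have hyQ : y ∈ Q := hCQ hyC
    obtain ⟨k, hk⟩ := hQp ⟨y, hyQ⟩
    have hk' : y ^ p ^ k = 1 := by
      have := congrArg Subtype.val hk
      simpa using this
    have hdvd : orderOf y ∣ p ^ k := orderOf_dvd_of_pow_eq_one hk'
    have h1 : orderOf y = 1 := Nat.Coprime.eq_one_of_dvd (hyp.pow_right k) hdvd
    exact orderOf_eq_one_iff.mp h1
  have hCp : IsPGroup p ↥Θ.ker := by
    rintro ⟨g, hg⟩
    set k := (orderOf g).factorization p with hk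
    refine ⟨k, ?_⟩
    apply Subtype.ext
    rw [Subgroup.coe_pow, Subgroup.coe_one]
    show g ^ p ^ k = 1
    apply hker1 _ (Θ.ker.pow_mem hg _)
    have hpos : 0 < orderOf g := orderOf_pos g
    have hdvd : p ^ k ∣ orderOf g := Nat.ordProj_dvd (orderOf g) p
    rw [orderOf_pow, Nat.gcd_eq_right hdvd]
    exact (Nat.coprime_ordCompl hp.out hpos.ne').symm
  have hCn : (Θ.ker).Normal := MonoidHom.normal_ker Θ
  have hCle : Θ.ker ≤ Q := Cfsg.Agent.Lib.H1.le_pCore hCn hCp
  -- counting
  have h1 : Q.index ≤ Θ.ker.index :=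
    Nat.le_of_dvd (Nat.pos_of_ne_zero Subgroup.index_ne_zero_of_finite) (Subgroup.index_dvd_of_le hCle)
  have hfinA : Finite (MulAut V) :=
    Finite.of_injective (fun e : MulAut V => e.toEquiv) MulEquiv.toEquiv_injective
  have h2 : Θ.ker.index ≤ Nat.card (MulAut V) := by
    rw [Subgroup.index_ker]
    exact Subgroup.card_le_card_group _
  have h3 : Nat.card (MulAut V) ≤ (Nat.card V).factorial := by
    rw [← Nat.card_perm]
    exact Nat.card_le_card_of_injective (fun e : MulAut V => e.toEquiv) MulEquiv.toEquiv_injective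
  calc Q.index ≤ Θ.ker.index := h1
    _ ≤ Nat.card (MulAut V) := h2
    _ ≤ (Nat.card V).factorial := h3
    _ ≤ (p ^ (p * n)).factorial := Nat.factorial_le hcardV

end main

end Cfsg.Agent.Lib.H9.ALP
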