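import Mathlib
import Cfsg.Agent.Lib.H19.AlpDefs
import Cfsg.Agent.Lib.H9.AlpSD3of
import Cfsg.Agent.Lib.H10.AlpFIXR
import Cfsg.Agent.Lib.H10.AlpFIXQ

set_option autoImplicit false

/-!
# S3782 piece SD3 (helper9): with trivial `p'`-core, the index of `O_p(G)` is bounded (exact signature)
-/

namespace Cfsg.Agent.Lib.H9.ALP

open Cfsg.Agent.Lib.H19.ALP

universe u

variable {p : ℕ} [hp : Fact p.Prime] {G : Type u} [Group G]

/-- **SD3** (inputs FIXR, FIXQ, S3780, H16.centralizer_pCore_le_of_isSolvable, Burnside):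
with trivial `p'`-core, the index of `O_p(G)` is bounded. -/
theorem index_pCore_le [Finite G] (hs : Group.IsSolvable G) (hO : Cfsg.pPrimeCore p G = ⊥)
    (α : MulAut G) (hα : α ^ p = 1) (n : ℕ) (hfix : fixCard α ≤ p ^ n) :
    (Cfsg.pCore p G).index ≤ (p ^ (p * n)).factorial :=
  index_pCore_le_of hs hO α hα n hfix
    (fun N h => Cfsg.Agent.Lib.H10.ALP.fixCard_rAut_le α N h)
    (fun N β K _ h => Cfsg.Agent.Lib.H10.ALP.fixCard_qAut_le β K h)

end Cfsg.Agent.Lib.H9.ALP
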