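import Mathlib
import Cfsg.Prelude.Def_Solvable
import Cfsg.Prelude.Def_Perm
import Cfsg.Agent.Lib.H22.PPrimeCore

/-!
# S4025 piece AFF (helper9): Schur–Zassenhaus complement + coset action into the semiaffine group
-/

set_option autoImplicit false

namespace Cfsg.Agent.Lib.H9.EOC

theorem aff {X : Type*} [Group X] [Finite X] {p : ℕ} [Fact p.Prime]
    (Q : Subgroup X) [Q.Normal] (hQp : IsPGroup p Q) (hQidx : ¬ p ∣ Q.index)
    (hQab : ∀ a ∈ Q, ∀ b ∈ Q, a * b = b * a)
    {F : Type*} [Field F]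
    (ε : ↥Q ≃ F) (hε : ∀ x y : ↥Q, ε (x * y) = ε x + ε y)
    (hsl : ∀ g : X, ∃ (a : F) (σ : F ≃+* F), ∀ x : ↥Q,
      ε (MulAut.conjNormal g x) = a * σ (ε x)) :
    ∃ Φ : X →* Equiv.Perm F,
      Φ.ker = Cfsg.pPrimeCore p X ∧
      (∀ g, Φ g ∈ Cfsg.semiaffineGroup F) ∧
      (∀ b : F, ∃ g, ∀ y, Φ g y = y + b) ∧
      (∀ g : X, ∃ g' : X, ∀ y, Φ g' y = ε (MulAut.conjNormal g (ε.symm y))) := by
  classical
  have hp : p.Prime := Fact.out
  obtain ⟨n, hn⟩ := hQp.exists_card_eq
  have hcopp : Nat.Coprime p Q.index := (Nat.Prime.coprime_iff_not_dvd hp).2 hQidx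
  have hcop : Nat.Coprime (Nat.card Q) Q.index := by
    rw [hn]
    exact Nat.Coprime.pow_left n hcopp
  obtain ⟨L, hL⟩ := Subgroup.exists_right_complement'_of_coprime hcop
  have hdisj : Disjoint Q L := hL.disjoint
  have hcardL : Q.index = Nat.card L := hL.symm.index_eq_card
  have hcardX : Nat.card Q * Nat.card L = Nat.card X := hL.card_mul_card
  -- the bijection `Q ≃ X ⧸ L`
  have hinj : Function.Injective (fun q : ↥Q => (QuotientGroup.mk (q : X) : X ⧸ L)) := by
    intro q₁ q₂ h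
    have h1 : (q₁ : X)⁻¹ * (q₂ : X) ∈ L := QuotientGroup.eq.1 h
    have h2 : (q₁ : X)⁻¹ * (q₂ : X) ∈ Q := Q.mul_mem (Q.inv_mem q₁.2) q₂.2
    have h3 : (q₁ : X)⁻¹ * (q₂ : X) = 1 := by
      have : (q₁ : X)⁻¹ * (q₂ : X) ∈ Q ⊓ L := ⟨h2, h1⟩
      rw [hdisj.eq_bot] at this
      exact (Subgroup.mem_bot).1 this
    apply Subtype.ext
    exact (inv_mul_eq_one.1 h3)
  have hsurj : Function.Surjective (fun q : ↥Q => (QuotientGroup.mk (q : X) : X ⧸ L)) := by
    intro y
    obtain ⟨x, rfl⟩ := QuotientGroup.mk_surjective y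
    obtain ⟨⟨q, l⟩, hql, -⟩ := (Subgroup.isComplement_iff_existsUnique.1 hL x)
    refine ⟨⟨q.1, q.2⟩, ?_⟩
    show (QuotientGroup.mk (q : X) : X ⧸ L) = QuotientGroup.mk x
    rw [QuotientGroup.eq]
    have : x = (q : X) * (l : X) := hql.symm
    rw [this, ← mul_assoc, inv_mul_cancel, one_mul]
    exact l.2
  let e : ↥Q ≃ X ⧸ L := Equiv.ofBijective _ ⟨hinj, hsurj⟩
  have he : ∀ q : ↥Q, e q = (QuotientGroup.mk (q : X) : X ⧸ L) := fun q => rfl
  -- the key formula
  have hkey : ∀ (g : X) (q : ↥Q),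
      g • e q = e (MulAut.conjNormal g q * e.symm (QuotientGroup.mk g)) := by
    intro g q
    set u : ↥Q := e.symm (QuotientGroup.mk g) with hu
    have hu' : (QuotientGroup.mk (u : X) : X ⧸ L) = QuotientGroup.mk g := by
      rw [← he, hu, Equiv.apply_symm_apply]
    have hu'' : (u : X)⁻¹ * g ∈ L := QuotientGroup.eq.1 hu'
    rw [he, he]
    show (QuotientGroup.mk (g * (q : X)) : X ⧸ L) = _
    rw [QuotientGroup.eq]
    have : ((MulAut.conjNormal g q * u : ↥Q) : X) = g * (q : X) * g⁻¹ * (u : X) := by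
      simp [MulAut.conjNormal_apply]
    rw [this]
    have h2 : (g * (q : X))⁻¹ * (g * (q : X) * g⁻¹ * (u : X)) = ((u : X)⁻¹ * g)⁻¹ := by
      group
    rw [h2]
    exact L.inv_mem hu''
  let c : X ⧸ L ≃ F := e.symm.trans ε
  let Φ : X →* Equiv.Perm F :=
    (c.permCongrHom.toMonoidHom).comp (MulAction.toPermHom X (X ⧸ L))
  have hΦ : ∀ (g : X) (y : F),
      Φ g y = ε (MulAut.conjNormal g (ε.symm y) * e.symm (QuotientGroup.mk g)) := by
    intro g y
    show ε (e.symm (g • e (ε.symm y))) = _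
    rw [hkey, Equiv.symm_apply_apply]
  refine ⟨Φ, ?_, ?_, ?_, ?_⟩
  · -- kernel
    have hker : Φ.ker = L.normalCore := by
      rw [Subgroup.normalCore_eq_ker]
      ext g
      rw [MonoidHom.mem_ker, MonoidHom.mem_ker]
      show c.permCongrHom (MulAction.toPermHom X (X ⧸ L) g) = 1 ↔ _
      exact MulEquiv.map_eq_one_iff _
    rw [hker]
    have hNn : (Cfsg.pPrimeCore p X).Normal := Cfsg.Agent.Lib.H22.pPrimeCore_normal p
    apply le_antisymm
    · apply Cfsg.Agent.Lib.H22.le_pPrimeCore p _ (Subgroup.normalCore_normal L)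
      have h1 : Nat.card L.normalCore ∣ Nat.card L :=
        Subgroup.card_dvd_of_le (Subgroup.normalCore_le L)
      rw [← hcardL] at h1
      exact (Nat.Coprime.coprime_dvd_left h1 hcopp.symm)
    · rw [Subgroup.normal_le_normalCore]
      set N := Cfsg.pPrimeCore p X with hN
      have hNc : (Nat.card N).Coprime p := Cfsg.Agent.Lib.H22.card_pPrimeCore_coprime p
      have h1 : Nat.card (L ⊔ N : Subgroup X) ∣ Nat.card L * Nat.card N :=
        Cfsg.Agent.Lib.H22.card_sup_dvd_mul L N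
      have h2 : (Nat.card L * Nat.card N).Coprime p := by
        apply Nat.Coprime.mul_left _ hNc
        rw [← hcardL]; exact hcopp.symm
      have h3 : (Nat.card (L ⊔ N : Subgroup X)).Coprime (Nat.card Q) := by
        rw [hn]
        exact Nat.Coprime.pow_right n (Nat.Coprime.coprime_dvd_left h1 h2)
      have h4 : Nat.card (L ⊔ N : Subgroup X) ∣ Nat.card Q * Nat.card L := by
        rw [hcardX]; exact Subgroup.card_subgroup_dvd_card _
      have h5 : Nat.card (L ⊔ N : Subgroup X) ∣ Nat.card L := h3.dvd_of_dvd_mul_left h4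
      have h6 : L = L ⊔ N :=
        Subgroup.eq_of_le_of_card_ge le_sup_left (Nat.le_of_dvd Nat.card_pos h5)
      rw [h6]
      exact le_sup_right
  · -- semiaffine
    intro g
    obtain ⟨a, σ, haσ⟩ := hsl g
    have ha : a ≠ 0 := by
      intro h0
      have h1 := haσ ((MulAut.conjNormal g).symm (ε.symm 1))
      rw [MulEquiv.apply_symm_apply, Equiv.apply_symm_apply, h0, zero_mul] at h1
      exact one_ne_zero h1
    refine ⟨Units.mk0 a ha, ε (e.symm (QuotientGroup.mk g)), σ, fun y => ?_⟩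
    rw [hΦ, hε, haσ, Equiv.apply_symm_apply]
    rfl
  · -- translations
    intro b
    refine ⟨((ε.symm b : ↥Q) : X), fun y => ?_⟩
    rw [hΦ]
    have h1 : e.symm (QuotientGroup.mk ((ε.symm b : ↥Q) : X)) = ε.symm b := by
      rw [← he, Equiv.symm_apply_apply]
    have h2 : MulAut.conjNormal ((ε.symm b : ↥Q) : X) (ε.symm y) = ε.symm y := by
      apply Subtype.ext
      rw [MulAut.conjNormal_apply]
      rw [hQab _ (ε.symm b).2 _ (ε.symm y).2, mul_inv_cancel_right]
    rw [h1, h2, hε, Equiv.apply_symm_apply, Equiv.apply_symm_apply]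
  · -- point stabilizer realises conjugation
    intro g
    set u : ↥Q := e.symm (QuotientGroup.mk g) with hu
    have hu' : (QuotientGroup.mk (u : X) : X ⧸ L) = QuotientGroup.mk g := by
      rw [← he, hu, Equiv.apply_symm_apply]
    have hu'' : (u : X)⁻¹ * g ∈ L := QuotientGroup.eq.1 hu'
    refine ⟨(u : X)⁻¹ * g, fun y => ?_⟩
    rw [hΦ]
    have h1 : e.symm (QuotientGroup.mk ((u : X)⁻¹ * g)) = 1 := by
      rw [Equiv.symm_apply_eq, he]
      show (QuotientGroup.mk ((u : X)⁻¹ * g) : X ⧸ L) = QuotientGroup.mk ((1 : ↥Q) : X)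
      rw [eq_comm, QuotientGroup.eq]
      simpa using hu''
    have h2 : MulAut.conjNormal ((u : X)⁻¹ * g) (ε.symm y) = MulAut.conjNormal g (ε.symm y) := by
      rw [map_mul, MulAut.mul_apply]
      apply Subtype.ext
      rw [MulAut.conjNormal_apply]
      have hm : ((MulAut.conjNormal g (ε.symm y) : ↥Q) : X) ∈ Q := (MulAut.conjNormal g (ε.symm y)).2
      rw [hQab _ (Q.inv_mem u.2) _ hm, mul_inv_cancel_right]
    rw [h1, h2, mul_one]

end Cfsg.Agent.Lib.H9.EOC
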