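import Mathlib

/-!
# S4025 piece EXC81B (helper9): `X / C_X(Q)` is solvable of order divisible by `130`
-/

set_option autoImplicit false

namespace Cfsg.Agent.Lib.H9.EOC

theorem exc81b {X : Type*} [Group X] [Finite X]
    (Q : Subgroup X) [Q.Normal]
    (K : Subgroup X) [K.Normal] (hKQ : ∀ k ∈ K, ∀ a ∈ Q, k * a = a * k)
    (hsolv : Group.IsSolvable (X ⧸ K))
    (hlc : Nat.card {A : Subgroup X // A ≤ Q ∧ Nat.card A = 9} = 130)
    (htr : ∀ A B : Subgroup X, A ≤ Q → B ≤ Q → Nat.card A = 9 → Nat.card B = 9 →
      ∃ g : X, B = A.map (MulAut.conj g).toMonoidHom) :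
    Group.IsSolvable (X ⧸ (MulAut.conjNormal : X →* MulAut ↥Q).ker) ∧
    130 ∣ Nat.card (X ⧸ (MulAut.conjNormal : X →* MulAut ↥Q).ker) := by
  classical
  set C : Subgroup X := (MulAut.conjNormal : X →* MulAut ↥Q).ker with hC
  have hmemC : ∀ c : X, c ∈ C ↔ ∀ a ∈ Q, c * a * c⁻¹ = a := by
    intro c
    rw [hC, MonoidHom.mem_ker]
    constructor
    · intro h a ha
      have := congrArg (fun φ : MulAut ↥Q => ((φ ⟨a, ha⟩ : ↥Q) : X)) h
      simpa [MulAut.conjNormal_apply] using this
    · intro h
      ext a
      simp only [MulAut.conjNormal_apply, MulAut.one_apply]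
      exact h a a.2
  have hKC : K ≤ C := by
    intro k hk
    rw [hmemC]
    intro a ha
    rw [hKQ k hk a ha, mul_inv_cancel_right]
  constructor
  · have hsurj : Function.Surjective
        (QuotientGroup.map K C (MonoidHom.id X) (fun x hx => hKC hx)) := by
      intro y
      obtain ⟨x, rfl⟩ := QuotientGroup.mk_surjective y
      exact ⟨QuotientGroup.mk x, rfl⟩
    exact Group.isSolvable_of_surjective hsurj
  · let act : MulAction X (Subgroup X) :=
      { smul := fun g A => A.map (MulAut.conj g).toMonoidHom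
        one_smul := by
          intro A
          show A.map (MulAut.conj (1 : X)).toMonoidHom = A
          rw [map_one]
          ext y
          simp
        mul_smul := by
          intro g h A
          show A.map (MulAut.conj (g * h)).toMonoidHom
            = (A.map (MulAut.conj h).toMonoidHom).map (MulAut.conj g).toMonoidHom
          rw [Subgroup.map_map, map_mul]
          rfl }
    have hsmul : ∀ (g : X) (A : Subgroup X), g • A = A.map (MulAut.conj g).toMonoidHom :=
      fun g A => rfl
    have hne : Nonempty {A : Subgroup X // A ≤ Q ∧ Nat.card A = 9} := by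
      have : 0 < Nat.card {A : Subgroup X // A ≤ Q ∧ Nat.card A = 9} := by rw [hlc]; norm_num
      exact (Nat.card_pos_iff.1 this).1
    obtain ⟨⟨A₀, hA₀Q, hA₀c⟩⟩ := hne
    have horb : ∀ B : Subgroup X, B ∈ MulAction.orbit X A₀ ↔ (B ≤ Q ∧ Nat.card B = 9) := by
      intro B
      constructor
      · rintro ⟨g, rfl⟩
        show g • A₀ ≤ Q ∧ Nat.card ↥(g • A₀) = 9
        rw [hsmul]
        constructor
        · rintro _ ⟨x, hx, rfl⟩
          exact (inferInstance : Q.Normal).conj_mem x (hA₀Q hx) g
        · rw [Subgroup.card_map_of_injective (MulAut.conj g).injective, hA₀c]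
      · rintro ⟨hBQ, hBc⟩
        obtain ⟨g, hg⟩ := htr A₀ B hA₀Q hBQ hA₀c hBc
        exact ⟨g, by show g • A₀ = B; rw [hsmul, hg]⟩
    have hcard : (MulAction.orbit X A₀).ncard = 130 := by
      rw [← Nat.card_coe_set_eq, ← hlc]
      exact Nat.card_congr (Equiv.subtypeEquivRight horb)
    have hidx : (MulAction.stabilizer X A₀).index = 130 := by
      rw [MulAction.index_stabilizer, hcard]
    have hCS : C ≤ MulAction.stabilizer X A₀ := by
      intro c hc
      rw [MulAction.mem_stabilizer_iff, hsmul]
      ext y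
      constructor
      · rintro ⟨x, hx, rfl⟩
        show c * x * c⁻¹ ∈ A₀
        rw [(hmemC c).1 hc x (hA₀Q hx)]
        exact hx
      · intro hy
        refine ⟨y, hy, ?_⟩
        show c * y * c⁻¹ = y
        exact (hmemC c).1 hc y (hA₀Q hy)
    have := Subgroup.index_dvd_of_le hCS
    rw [hidx] at this
    rwa [← Subgroup.index_eq_card]

end Cfsg.Agent.Lib.H9.EOC
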