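import Mathlib
import Cfsg.Agent.S4023
import Cfsg.Agent.S0215

/-!
# S4020 piece TWO (architect helper19): the prime 2

`m ∈ ⟨x, y⟩` with `x ^ p = y ^ p = 1`, `p` odd, and `m²` inverting `z ≠ 1` of order `p` is impossible
when the conjugacy hypothesis holds at the primes `2` and `p`.
-/

set_option autoImplicit false

namespace Cfsg.Agent.Lib.H9.EQC

/-- In `Q8` every square is `1` or the central involution. -/
theorem q8_sq (g : QuaternionGroup 2) : g * g = 1 ∨ g * g = QuaternionGroup.a 2 := by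
  revert g; decide

/-- The only involution of `Q8`. -/
theorem q8_invol (g : QuaternionGroup 2) (h1 : g ≠ 1) (h2 : g * g = 1) :
    g = QuaternionGroup.a 2 := by
  revert g; decide

theorem q8_a2_sq : (QuaternionGroup.a 2 : QuaternionGroup 2) * QuaternionGroup.a 2 = 1 := by
  decide

/-- An element of `2`-power order in a subgroup of odd order is trivial. -/
theorem eq_one_of_two_pow_of_odd {G : Type*} [Group G] (N : Subgroup G)
    (hN : Odd (Nat.card N)) (g : G) (hg : g ∈ N) (s : ℕ) (hs : g ^ (2 ^ s) = 1) : g = 1 := by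
  have h1 : orderOf g ∣ 2 ^ s := orderOf_dvd_of_pow_eq_one hs
  have h2 : orderOf g ∣ Nat.card N := by
    have := orderOf_dvd_natCard (⟨g, hg⟩ : N)
    rwa [Subgroup.orderOf_mk] at this
  have h3 : orderOf g ∣ Nat.gcd (2 ^ s) (Nat.card N) := Nat.dvd_gcd h1 h2
  have h4 : Nat.Coprime (2 ^ s) (Nat.card N) :=
    Nat.Coprime.pow_left s (Nat.coprime_two_left.mpr hN)
  rw [h4.gcd_eq_one] at h3
  exact orderOf_eq_one_iff.mp (Nat.dvd_one.mp h3)

/-- Conjugation by an odd power of an inverting element inverts. -/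
theorem conj_odd_pow {G : Type*} [Group G] (w z : G) (h : w * z * w⁻¹ = z⁻¹) (k : ℕ) :
    w ^ (2 * k + 1) * z * (w ^ (2 * k + 1))⁻¹ = z⁻¹ := by
  induction k with
  | zero => simpa using h
  | succ k ih =>
    have e : w ^ (2 * (k + 1) + 1) = w ^ (2 * k + 1) * w * w := by
      rw [show 2 * (k + 1) + 1 = (2 * k + 1) + 1 + 1 by ring, pow_succ, pow_succ]
    have h' : w * z⁻¹ * w⁻¹ = z := by
      have := congrArg (·⁻¹) h
      simpa [mul_assoc] using this
    rw [e]
    calc w ^ (2 * k + 1) * w * w * z * (w ^ (2 * k + 1) * w * w)⁻¹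
        = w ^ (2 * k + 1) * (w * (w * z * w⁻¹) * w⁻¹) * (w ^ (2 * k + 1))⁻¹ := by group
      _ = w ^ (2 * k + 1) * (w * z⁻¹ * w⁻¹) * (w ^ (2 * k + 1))⁻¹ := by rw [h]
      _ = w ^ (2 * k + 1) * z * (w ^ (2 * k + 1))⁻¹ := by rw [h']
      _ = z⁻¹ := ih

/-- **TWO**. -/
theorem two_contra {G : Type*} [Group G] [Finite G] {p : ℕ} [Fact p.Prime] (hp2 : p ≠ 2)
    (hC2 : ∀ H K : Subgroup G, IsPGroup 2 H → IsPGroup 2 K → Nat.card H = Nat.card K →
      ∃ g : G, K = H.map (MulAut.conj g).toMonoidHom)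
    (hCp : ∀ H K : Subgroup G, IsPGroup p H → IsPGroup p K → Nat.card H = Nat.card K →
      ∃ g : G, K = H.map (MulAut.conj g).toMonoidHom)
    (x y z m : G) (hx : x ^ p = 1) (hy : y ^ p = 1) (hz1 : z ≠ 1) (hz : z ^ p = 1)
    (hm : m ∈ Subgroup.closure ({x, y} : Set G))
    (hmz : (m * m) * z * (m * m)⁻¹ = z⁻¹) : False := by
  have hp : p.Prime := Fact.out
  have hpodd : Odd p := hp.odd_of_ne_two hp2
  -- `z⁻¹ ≠ z`
  have hzz : z⁻¹ ≠ z := by
    intro h
    have h2 : z ^ 2 = 1 := by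
      rw [pow_two]; nth_rewrite 1 [← h]; exact inv_mul_cancel z
    have h3 : orderOf z ∣ Nat.gcd p 2 :=
      Nat.dvd_gcd (orderOf_dvd_of_pow_eq_one hz) (orderOf_dvd_of_pow_eq_one h2)
    have hg : Nat.Coprime p 2 := Nat.coprime_two_right.mpr hpodd
    rw [hg.gcd_eq_one] at h3
    exact hz1 (orderOf_eq_one_iff.mp (Nat.dvd_one.mp h3))
  -- the 2-part of `m`
  obtain ⟨s, r, hr, hn⟩ := Nat.exists_eq_two_pow_mul_odd (orderOf_pos m).ne'
  obtain ⟨k, hk⟩ := hr
  have hm's : (m ^ r) ^ (2 ^ s) = 1 := by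
    rw [← pow_mul, mul_comm, ← hn]; exact pow_orderOf_eq_one m
  have hu : ((m ^ r) * (m ^ r)) * z * ((m ^ r) * (m ^ r))⁻¹ = z⁻¹ := by
    have e : (m ^ r) * (m ^ r) = (m * m) ^ (2 * k + 1) := by
      rw [hk, ← pow_two, ← pow_two, ← pow_mul, ← pow_mul, mul_comm]
    rw [e]; exact conj_odd_pow (m * m) z hmz k
  have hu1 : (m ^ r) * (m ^ r) ≠ 1 := by
    intro h
    rw [h] at hu
    simp at hu
    exact hzz hu.symm
  have hm'1 : m ^ r ≠ 1 := by
    intro h; apply hu1; rw [h, mul_one]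
  have hm'cl : m ^ r ∈ Subgroup.closure ({x, y} : Set G) := Subgroup.pow_mem _ hm r
  generalize m ^ r = m' at hm's hu hu1 hm'1 hm'cl
  have hZ2 : IsPGroup 2 (Subgroup.zpowers m') := by
    have hcard : Nat.card (Subgroup.zpowers m') ∣ 2 ^ s := by
      rw [Nat.card_zpowers]; exact orderOf_dvd_of_pow_eq_one hm's
    obtain ⟨j, -, hj⟩ := (Nat.dvd_prime_pow Nat.prime_two).mp hcard
    exact IsPGroup.of_card hj
  obtain ⟨S, hS⟩ := hZ2.exists_le_sylow
  have hm'S : m' ∈ (S : Subgroup G) := hS (Subgroup.mem_zpowers m')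
  rcases Cfsg.Agent.S4023.result hC2 S with hcyc | hel | ⟨-, ⟨e⟩⟩ | ⟨h22, -⟩
  · -- cyclic: normal 2-complement
    have h2G : 2 ∣ Nat.card G := by
      have h1 : orderOf m' ∣ 2 ^ s := orderOf_dvd_of_pow_eq_one hm's
      obtain ⟨j, -, hj⟩ := (Nat.dvd_prime_pow Nat.prime_two).mp h1
      have hj0 : j ≠ 0 := by
        rintro rfl
        exact hm'1 (orderOf_eq_one_iff.mp (by simpa using hj))
      have h2 : 2 ∣ orderOf m' := by rw [hj]; exact dvd_pow_self 2 hj0
      exact h2.trans (orderOf_dvd_natCard m')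
    have hmin : (Nat.card G).minFac = 2 := (Nat.minFac_eq_two_iff _).mpr h2G
    have hNC := hcyc.normalizer_le_centralizer hmin
    have hKodd : Odd (Nat.card (MonoidHom.transferSylow S hNC).ker) := by
      have := MonoidHom.not_dvd_card_ker_transferSylow S hNC
      exact Nat.odd_iff.mpr (Nat.two_dvd_ne_zero.mp this)
    have hker : ∀ v : G, v ^ p = 1 → v ∈ (MonoidHom.transferSylow S hNC).ker := by
      intro v hv
      rw [MonoidHom.mem_ker]
      have h1 : (MonoidHom.transferSylow S hNC v) ^ p = 1 := by rw [← map_pow, hv, map_one]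
      obtain ⟨j, hj⟩ := S.isPGroup' (MonoidHom.transferSylow S hNC v)
      have h3 : orderOf (MonoidHom.transferSylow S hNC v) ∣ Nat.gcd p (2 ^ j) :=
        Nat.dvd_gcd (orderOf_dvd_of_pow_eq_one h1) (orderOf_dvd_of_pow_eq_one hj)
      have h4 : Nat.Coprime p (2 ^ j) := Nat.Coprime.pow_right j (Nat.coprime_two_right.mpr hpodd)
      rw [h4.gcd_eq_one] at h3
      exact orderOf_eq_one_iff.mp (Nat.dvd_one.mp h3)
    have hle : Subgroup.closure ({x, y} : Set G) ≤ (MonoidHom.transferSylow S hNC).ker := by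
      rw [Subgroup.closure_le]
      rintro v (rfl | rfl)
      · exact hker _ hx
      · exact hker _ hy
    exact hm'1 (eq_one_of_two_pow_of_odd _ hKodd m' (hle hm'cl) s hm's)
  · -- elementary abelian
    have h1 := hel.2 m' hm'S
    exact hu1 (by rw [← pow_two]; exact h1)
  · -- `Q8`: Glauberman's `Z*`
    have huS : m' * m' ∈ (S : Subgroup G) := Subgroup.mul_mem _ hm'S hm'S
    have heu : e ⟨m' * m', huS⟩ = QuaternionGroup.a 2 := by
      have h1 : e ⟨m' * m', huS⟩ = e ⟨m', hm'S⟩ * e ⟨m', hm'S⟩ := by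
        rw [← map_mul]; rfl
      rcases q8_sq (e ⟨m', hm'S⟩) with h | h
      · exfalso
        rw [h] at h1
        have h2 : (⟨m' * m', huS⟩ : (S : Subgroup G)) = 1 := e.injective (by rw [h1, map_one])
        exact hu1 (congrArg Subtype.val h2)
      · rw [h1, h]
    have huu : (m' * m') * (m' * m') = 1 := by
      have h1 : e (⟨m' * m', huS⟩ * ⟨m' * m', huS⟩) = 1 := by
        rw [map_mul, heu]; exact q8_a2_sq
      have h2 : (⟨m' * m', huS⟩ * ⟨m' * m', huS⟩ : (S : Subgroup G)) = 1 :=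
        e.injective (by rw [h1, map_one])
      exact congrArg Subtype.val h2
    have hordu : orderOf (m' * m') = 2 :=
      orderOf_eq_prime (by rw [pow_two]; exact huu) hu1
    have hiso : ∀ g : G, g * (m' * m') * g⁻¹ ∈ S → g * (m' * m') * g⁻¹ = m' * m' := by
      intro g hg
      have hv1 : (⟨g * (m' * m') * g⁻¹, hg⟩ : (S : Subgroup G)) ≠ 1 := by
        intro h
        have h1 : g * (m' * m') * g⁻¹ = 1 := congrArg Subtype.val h
        apply hu1
        have h2 : m' * m' = g⁻¹ * (g * (m' * m') * g⁻¹) * g := by group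
        rw [h2, h1]; group
      have hv2 : (⟨g * (m' * m') * g⁻¹, hg⟩ * ⟨g * (m' * m') * g⁻¹, hg⟩ : (S : Subgroup G)) = 1 := by
        apply Subtype.ext
        show g * (m' * m') * g⁻¹ * (g * (m' * m') * g⁻¹) = 1
        calc g * (m' * m') * g⁻¹ * (g * (m' * m') * g⁻¹)
            = g * ((m' * m') * (m' * m')) * g⁻¹ := by group
          _ = 1 := by rw [huu]; group
      have h3 := q8_invol (e ⟨g * (m' * m') * g⁻¹, hg⟩)
        (fun h => hv1 (e.injective (by rw [h, map_one])))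
        (by rw [← map_mul, hv2, map_one])
      have h4 : (⟨g * (m' * m') * g⁻¹, hg⟩ : (S : Subgroup G)) = ⟨m' * m', huS⟩ :=
        e.injective (by rw [h3, heu])
      exact congrArg Subtype.val h4
    obtain ⟨N, hNn, hNodd, hN⟩ := Cfsg.Agent.S0215.result S (m' * m') hordu huS hiso
    have hzN : z ∈ N := by
      have h1 : z⁻¹ * z⁻¹ ∈ N := by
        have := hN z
        rwa [hu] at this
      obtain ⟨k', hk'⟩ := hpodd
      have h2 : z = (z⁻¹ * z⁻¹) ^ k' := by
        have h3 : z ^ (2 * k') * z = 1 := by rw [← pow_succ, ← hk']; exact hz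
        have h4 : (z⁻¹ * z⁻¹) ^ k' = (z ^ (2 * k'))⁻¹ := by
          rw [← pow_two, ← pow_mul, inv_pow]
        rw [h4]; exact (inv_eq_of_mul_eq_one_right h3).symm
      rw [h2]; exact Subgroup.pow_mem _ h1 _
    have hNp : ∀ v : G, v ^ p = 1 → v ∈ N := by
      intro v hv
      by_cases hv1 : v = 1
      · rw [hv1]; exact N.one_mem
      have hov : orderOf v = p := orderOf_eq_prime hv hv1
      have hoz : orderOf z = p := orderOf_eq_prime hz hz1
      have hPv : IsPGroup p (Subgroup.zpowers v) :=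
        IsPGroup.of_card (n := 1) (by rw [Nat.card_zpowers, hov, pow_one])
      have hPz : IsPGroup p (Subgroup.zpowers z) :=
        IsPGroup.of_card (n := 1) (by rw [Nat.card_zpowers, hoz, pow_one])
      obtain ⟨g, hg⟩ := hCp (Subgroup.zpowers z) (Subgroup.zpowers v) hPz hPv
        (by rw [Nat.card_zpowers, Nat.card_zpowers, hov, hoz])
      have hvm : v ∈ (Subgroup.zpowers z).map (MulAut.conj g).toMonoidHom := by
        rw [← hg]; exact Subgroup.mem_zpowers v
      obtain ⟨t, ht, htv⟩ := Subgroup.mem_map.mp hvm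
      have htN : t ∈ N := by
        obtain ⟨j, rfl⟩ := Subgroup.mem_zpowers_iff.mp ht
        exact Subgroup.zpow_mem _ hzN j
      rw [← htv]
      exact hNn.conj_mem t htN g
    have hle : Subgroup.closure ({x, y} : Set G) ≤ N := by
      rw [Subgroup.closure_le]
      rintro v (rfl | rfl)
      · exact hNp _ hx
      · exact hNp _ hy
    exact hm'1 (eq_one_of_two_pow_of_odd N hNodd m' (hle hm'cl) s hm's)
  · exact h22 rfl

end Cfsg.Agent.Lib.H9.EQC
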