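import Mathlib
import Cfsg.Agent.Lib.H19.SGTDefs

/-!
# S3795 piece WT, part a: generic lemmas on weights (helper9)

* `tw_mem_wtS` : a twisted operator permutes the weight spaces of an invariant subgroup.
* `exists_weight` : commuting semisimple operators on a nontrivial space have a weight.
* `stab_aux` : a fixed point free operator of `2`-power order: the involution stabilizes every
  weight (local copy of the piece STAB).
-/

set_option autoImplicit false
set_option linter.unusedSectionVars false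
set_option linter.unusedVariables false
set_option linter.style.haveILetI false

namespace Cfsg.Agent.Lib.H9.SGT

open Module Cfsg.Agent.Lib.H19.SG Cfsg.Agent.Lib.H19.SGT Cfsg.Agent.Lib.H19.ModRep
  Cfsg.Agent.Lib.H19.Ward

variable {k : Type*} [Field k] {W : Type*} [AddCommGroup W] [Module k W]
  {E : Type*} [Group E]

/-- a twisted operator maps weight spaces to weight spaces -/
theorem tw_mem_wtS {ρ : Representation k E W} {α : MulAut E} {A : Module.End k W}
    (htw : ∀ u, A * ρ u = ρ (α u) * A) {B : Subgroup E} (hB : ∀ b, α b ∈ B ↔ b ∈ B) {χ : E → k}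
    {w : W} (hw : w ∈ wtS ρ B χ) : A w ∈ wtS ρ B (fun b => χ (α⁻¹ b)) := by
  rw [mem_wtS] at hw ⊢
  intro b hb
  have h1 := htw (α⁻¹ b)
  rw [MulAut.apply_inv_self] at h1
  have h2 := congrArg (fun f : Module.End k W => f w) h1
  simp only [Module.End.mul_apply] at h2
  have hb' : α⁻¹ b ∈ B := by
    rw [← hB, MulAut.apply_inv_self]
    exact hb
  rw [← h2, hw _ hb', map_smul]

/-- commuting semisimple operators on a nontrivial space have a common eigenvector -/
theorem exists_weight [IsAlgClosed k] [FiniteDimensional k W] [Nontrivial W] [Finite E]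
    (hk : (Nat.card E : k) ≠ 0) (ρ : Representation k E W) (B : Subgroup E)
    (hcomm : ∀ b ∈ B, ∀ b' ∈ B, Commute (ρ b) (ρ b')) : ∃ χ : E → k, wtS ρ B χ ≠ ⊥ := by
  by_contra hcon
  push Not at hcon
  have hss : ∀ b : B, Module.End.IsSemisimple (ρ (b : E)) := fun b => isSemisimple_apply hk ρ b
  have hcomm' : ∀ b b' : B, Commute (ρ (b : E)) (ρ (b' : E)) := fun b b' => hcomm b b.2 b' b'.2
  have h1 : (1 : Module.End k W) = 0 := by
    apply ext_of_wtF hss hcomm'
    intro χ' m hm
    rw [← wtS_ext0, hcon, Submodule.mem_bot] at hm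
    rw [hm, map_zero, map_zero]
  obtain ⟨w, hw⟩ := exists_ne (0 : W)
  apply hw
  have := congrArg (fun f : Module.End k W => f w) h1
  simpa using this

/-- local copy of STAB -/
theorem stab_aux [FiniteDimensional k W] [Finite E]
    (hQ : (Nat.card E : k) ≠ 0) {ρ : Representation k E W} {φ : MulAut E} {T : Module.End k W}
    {m : ℕ} (hm : 0 < m) (h : Tw ρ φ T (2 ^ m)) {B : Subgroup E} (hB : ∀ b, φ b ∈ B ↔ b ∈ B)
    (hcomm : ∀ b ∈ B, ∀ b' ∈ B, Commute (ρ b) (ρ b')) (χ : E → k) (hχ : wtS ρ B χ ≠ ⊥)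
    (hfpf : ∀ w, T w = w → w = 0) : ∀ b ∈ B, χ ((φ ^ 2 ^ (m - 1)) b) = χ b := by
  classical
  obtain ⟨w, hw, hw0⟩ := Submodule.exists_mem_ne_zero_of_ne_bot hχ
  have hex : ∃ i, ∀ b ∈ B, χ ((φ ^ (2 ^ i)) b) = χ b := by
    refine ⟨m, fun b _ => ?_⟩
    rw [h.hφ, MulAut.one_apply]
  have hi₀s := Nat.find_spec hex
  have hi₀m : ∀ l < Nat.find hex, ∃ b ∈ B, χ ((φ ^ (2 ^ l)) b) ≠ χ b := by
    intro l hl
    have := Nat.find_min hex hl
    push Not at this
    exact this
  have hi₀le : Nat.find hex ≤ m := Nat.find_min' hex (by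
    intro b _
    rw [h.hφ, MulAut.one_apply])
  have hfw := fpf_on_weight hQ h hB hcomm χ Nat.prime_two hi₀s hi₀m hfpf w hw
  have hi₀lt : Nat.find hex < m := by
    rcases Nat.lt_or_ge (Nat.find hex) m with hlt | hge
    · exact hlt
    · exfalso
      have heq : Nat.find hex = m := le_antisymm hi₀le hge
      apply hw0
      apply hfw
      rw [heq, h.hT, Module.End.one_apply]
  have hper : ∀ (e : ℕ), ∀ b ∈ B, χ (((φ ^ (2 ^ Nat.find hex)) ^ e) b) = χ b := by
    intro e
    induction e with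
    | zero => intro b _; simp
    | succ e ih =>
      intro b hb
      rw [pow_succ, MulAut.mul_apply, ih _ ((pow_mem_iff hB _ b).mpr hb), hi₀s b hb]
  intro b hb
  have e1 : φ ^ 2 ^ (m - 1) = (φ ^ (2 ^ Nat.find hex)) ^ (2 ^ (m - 1 - Nat.find hex)) := by
    rw [← pow_mul, ← pow_add]
    congr 2
    omega
  rw [e1]
  exact hper _ b hb

end Cfsg.Agent.Lib.H9.SGT
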