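import Mathlib
import Cfsg.Agent.Lib.H9.SGTWTa

/-!
# S3795 piece WT, part b: the two-stage weight analysis for an abstract group (helper9)

`wt_type` : `E` a finite group whose commutators are central, `ρ` a faithful representation,
`T` a fixed point free operator with `T ^ (2 ^ n) = 1` inducing `φ` on `E`.  Two-stage weight
analysis: a weight `lam` of `Z(E)`, its radical `N`, a weight `μ` of `N` on the `lam`-space.
-/

set_option autoImplicit false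
set_option linter.unusedSectionVars false
set_option linter.unusedVariables false
set_option linter.style.haveILetI false
set_option maxHeartbeats 1000000

namespace Cfsg.Agent.Lib.H9.SGT

open Module Cfsg.Agent.Lib.H19.SG Cfsg.Agent.Lib.H19.SGT Cfsg.Agent.Lib.H19.ModRep
  Cfsg.Agent.Lib.H19.Ward

variable {k : Type*} [Field k] {W : Type*} [AddCommGroup W] [Module k W]
  {E : Type*} [Group E]

theorem wt_type [IsAlgClosed k] [FiniteDimensional k W] [Finite E]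
    (hk : (Nat.card E : k) ≠ 0) {ρ : Representation k E W} {φ : MulAut E} {T : Module.End k W}
    {n : ℕ} (hn : 0 < n) (h : Tw ρ φ T (2 ^ n)) (hfpf : ∀ w, T w = w → w = 0)
    (hfaith : ∀ u, ρ u = 1 → u = 1)
    (hcomZ : ∀ u v : E, u * v * u⁻¹ * v⁻¹ ∈ Subgroup.center E)
    (hna : Subgroup.center E ≠ ⊤) :
    ∃ (N : Subgroup E) (j : ℕ) (W' : Submodule k W) (μ : E → k),
      j < n ∧ Subgroup.center E ≤ N ∧ N ≠ ⊤ ∧
      (∀ u, (φ ^ 2 ^ j) u ∈ N ↔ u ∈ N) ∧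
      (∀ α : MulAut E, (∀ z ∈ Subgroup.center E, α z = z) → ∀ u, α u ∈ N ↔ u ∈ N) ∧
      W' ≠ ⊥ ∧ (∀ q : E, ∀ w ∈ W', ρ q w ∈ W') ∧
      (∀ w ∈ W', (T ^ 2 ^ j) w ∈ W') ∧
      (∀ z ∈ N, ∀ w ∈ W', ρ z w = μ z • w) ∧
      (∀ a : E, (∀ b : E, μ (b * a * b⁻¹ * a⁻¹) = 1) → a ∈ N) ∧
      (∀ w ∈ W', (T ^ 2 ^ j) w = w → w = 0) ∧
      (∀ (α : MulAut E) (A A' : Module.End k W), (∀ z ∈ Subgroup.center E, α z = z) →
        (∀ u, A * ρ u = ρ (α u) * A) → (∀ u, A' * ρ u = ρ (α⁻¹ u) * A') →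
        ∀ w ∈ W', (A' * T ^ 2 ^ (n - 1) * A * T ^ 2 ^ (n - 1)) w ∈ W') := by
  classical
  have hp : Nat.Prime 2 := Nat.prime_two
  obtain ⟨Z, hZdef⟩ : ∃ Z : Subgroup E, Z = Subgroup.center E := ⟨_, rfl⟩
  rw [← hZdef] at hna hcomZ ⊢
  have hcz : ∀ z ∈ Z, ∀ g : E, g * z = z * g := by
    intro z hz g
    rw [hZdef] at hz
    exact Subgroup.mem_center_iff.mp hz g
  have hZinvA : ∀ α : MulAut E, ∀ u, α u ∈ Z ↔ u ∈ Z := by
    intro α
    rw [hZdef]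
    exact MinHyp.center_inv α
  have hZinv : ∀ u, φ u ∈ Z ↔ u ∈ Z := hZinvA φ
  have hcommZ : ∀ b ∈ Z, ∀ b' ∈ Z, Commute (ρ b) (ρ b') := by
    intro b hb b' _
    show ρ b * ρ b' = ρ b' * ρ b
    rw [← map_mul, ← map_mul, hcz b hb b']
  have hssZ : ∀ b : Z, Module.End.IsSemisimple (ρ (b : E)) := fun b => isSemisimple_apply hk ρ b
  have hcommZ' : ∀ b b' : Z, Commute (ρ (b : E)) (ρ (b' : E)) :=
    fun b b' => hcommZ b b.2 b' b'.2
  -- (B1) a weight which is nontrivial on a commutator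
  obtain ⟨lam, hW, u₀, v₀, hc₀⟩ : ∃ lam : E → k, wtS ρ Z lam ≠ ⊥ ∧
      ∃ u v : E, lam (u * v * u⁻¹ * v⁻¹) ≠ 1 := by
    by_contra hcon
    push Not at hcon
    apply hna
    rw [eq_top_iff]
    intro v _
    rw [hZdef, Subgroup.mem_center_iff]
    intro u
    have h1 : ρ (u * v * u⁻¹ * v⁻¹) = 1 := by
      apply ext_of_wtF hssZ hcommZ'
      intro χ' m hm
      rw [Module.End.one_apply]
      by_cases hm0 : m = 0
      · rw [hm0, map_zero]
      rw [← wtS_ext0] at hm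
      have hne : wtS ρ Z (ext0 χ') ≠ ⊥ := by
        intro hbot
        rw [hbot, Submodule.mem_bot] at hm
        exact hm0 hm
      rw [mem_wtS.mp hm _ (hcomZ u v), hcon _ hne u v, one_smul]
    have h2 := hfaith _ h1
    calc u * v = (u * v * u⁻¹ * v⁻¹) * (v * u) := by group
      _ = v * u := by rw [h2, one_mul]
  -- (B2) the stabilizer of `lam`
  have hstabZ : ∀ b ∈ Z, lam ((φ ^ 2 ^ (n - 1)) b) = lam b :=
    stab_aux hk hn h hZinv hcommZ lam hW hfpf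
  have hex : ∃ i, ∀ b ∈ Z, lam ((φ ^ (2 ^ i)) b) = lam b := ⟨n - 1, hstabZ⟩
  obtain ⟨j₁, hj₁def⟩ : ∃ j, j = Nat.find hex := ⟨_, rfl⟩
  have hstab : ∀ b ∈ Z, lam ((φ ^ (2 ^ j₁)) b) = lam b := by
    rw [hj₁def]
    exact Nat.find_spec hex
  have hmin : ∀ l < j₁, ∃ b ∈ Z, lam ((φ ^ (2 ^ l)) b) ≠ lam b := by
    intro l hl
    rw [hj₁def] at hl
    have := Nat.find_min hex hl
    push Not at this
    exact this
  have hj₁n : j₁ < n := by
    have : j₁ ≤ n - 1 := by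
      rw [hj₁def]
      exact Nat.find_min' hex hstabZ
    omega
  -- the weight space
  obtain ⟨Wl, hWldef⟩ : ∃ Wl : Submodule k W, Wl = wtS ρ Z lam := ⟨_, rfl⟩
  rw [← hWldef] at hW
  have hlam : ∀ z ∈ Z, ∀ w ∈ Wl, ρ z w = lam z • w := by
    intro z hz w hw
    rw [hWldef, mem_wtS] at hw
    exact hw z hz
  have hWinv : Inv ρ Wl := by
    intro u w hw
    rw [hWldef, mem_wtS]
    intro z hz
    have h1 : ρ z (ρ u w) = ρ u (ρ z w) := by
      rw [← Module.End.mul_apply, ← Module.End.mul_apply, ← map_mul, ← map_mul, hcz z hz u]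
    rw [h1, hlam z hz w hw, map_smul]
  obtain ⟨φ₁, hφ₁def⟩ : ∃ φ₁ : MulAut E, φ₁ = φ ^ (2 ^ j₁) := ⟨_, rfl⟩
  obtain ⟨T₁, hT₁def⟩ : ∃ T₁ : Module.End k W, T₁ = T ^ (2 ^ j₁) := ⟨_, rfl⟩
  rw [← hφ₁def] at hstab
  have hZinv₁ : ∀ u, φ₁ u ∈ Z ↔ u ∈ Z := hZinvA φ₁
  have hstab' : ∀ b ∈ Z, lam (φ₁⁻¹ b) = lam b := by
    intro b hb
    have h1 : φ₁⁻¹ b ∈ Z := by
      rw [← hZinv₁, MulAut.apply_inv_self]
      exact hb
    have h2 := hstab _ h1
    rw [MulAut.apply_inv_self] at h2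
    exact h2.symm
  have hT₁maps : ∀ w ∈ Wl, T₁ w ∈ Wl := by
    intro w hw
    rw [hWldef] at hw ⊢
    have h1 := pow_mem_wtS h hZinv hw (2 ^ j₁)
    rw [mem_wtS] at h1 ⊢
    intro b hb
    rw [hT₁def, h1 b hb, ← hφ₁def, hstab' b hb]
  have hT₁fpf : ∀ w ∈ Wl, T₁ w = w → w = 0 := by
    rw [hWldef, hT₁def]
    rw [hφ₁def] at hstab
    exact fpf_on_weight hk h hZinv hcommZ lam hp hstab hmin hfpf
  -- the restricted situation
  obtain ⟨P₁, hP₁def⟩ : ∃ P₁ : ℕ, P₁ = 2 ^ (n - j₁) := ⟨_, rfl⟩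
  have hPP : 2 ^ j₁ * P₁ = 2 ^ n := by
    rw [hP₁def, ← pow_add]
    congr 1
    omega
  have hTw₁ : Tw ρ φ₁ T₁ P₁ := by
    rw [hφ₁def, hT₁def]
    exact h.pow hPP
  obtain ⟨ρl, hρldef⟩ : ∃ ρl : Representation k E Wl, ρl = Cfsg.Agent.Lib.H19.ModRep.sub ρ Wl hWinv := ⟨_, rfl⟩
  have hρl : ∀ (u : E) (w : Wl), ((ρl u w : Wl) : W) = ρ u (w : W) := by
    intro u w
    rw [hρldef]
    rfl
  obtain ⟨Tl, hTldef⟩ : ∃ Tl : Module.End k Wl, Tl = T₁.restrict hT₁maps := ⟨_, rfl⟩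
  have hTl : ∀ w : Wl, ((Tl w : Wl) : W) = T₁ (w : W) := by
    intro w
    rw [hTldef]
    rfl
  have hTlpow : ∀ (m : ℕ) (w : Wl), (((Tl ^ m) w : Wl) : W) = (T₁ ^ m) (w : W) := by
    intro m w
    rw [hTldef]
    exact restrict_pow_coe hT₁maps m w
  have hTwl : Tw ρl φ₁ Tl P₁ :=
    { hT := by
        apply LinearMap.ext
        intro w
        apply Subtype.ext
        rw [hTlpow, hTw₁.hT]
        rfl
      hφ := hTw₁.hφ
      htw := by
        intro u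
        apply LinearMap.ext
        intro w
        apply Subtype.ext
        rw [Module.End.mul_apply, Module.End.mul_apply, hTl, hρl, hρl, hTl]
        have := congrArg (fun f : Module.End k W => f (w : W)) (hTw₁.htw u)
        simpa using this }
  have hTlfpf : ∀ w : Wl, Tl w = w → w = 0 := by
    intro w hw
    apply Subtype.ext
    apply hT₁fpf _ w.2
    rw [← hTl, hw]
  haveI : Nontrivial Wl := Submodule.nontrivial_iff_ne_bot.mpr hW
  have hρlZ : ∀ z ∈ Z, ρl z = lam z • (1 : Module.End k Wl) := by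
    intro z hz
    apply LinearMap.ext
    intro w
    apply Subtype.ext
    rw [hρl, hlam z hz _ w.2]
    rfl
  have hrel : ∀ v u : E, ρl v * ρl u = lam (v * u * v⁻¹ * u⁻¹) • (ρl u * ρl v) := by
    intro v u
    have h2 : ρl v * ρl u = ρl (v * u * v⁻¹ * u⁻¹) * (ρl u * ρl v) := by
      rw [← map_mul, ← map_mul, ← map_mul]
      congr 1
      group
    rw [h2, hρlZ _ (hcomZ v u), smul_mul_assoc, one_mul]
  -- the radical
  let N : Subgroup E :=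
    { carrier := {u | ∀ v : E, ρl v * ρl u = ρl u * ρl v}
      one_mem' := by
        intro v
        rw [map_one, mul_one, one_mul]
      mul_mem' := by
        intro a b ha hb v
        rw [map_mul, ← mul_assoc, ha v, mul_assoc, hb v, mul_assoc]
      inv_mem' := by
        intro a ha v
        have h1 := ha v
        calc ρl v * ρl a⁻¹ = ρl a⁻¹ * (ρl a * ρl v) * ρl a⁻¹ := by
              rw [← mul_assoc, apply_inv_mul, one_mul]
          _ = ρl a⁻¹ * (ρl v * ρl a) * ρl a⁻¹ := by rw [h1]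
          _ = ρl a⁻¹ * ρl v := by
              rw [mul_assoc, mul_assoc, apply_mul_inv, mul_one] }
  have hNmem : ∀ u, u ∈ N ↔ ∀ v : E, ρl v * ρl u = ρl u * ρl v := fun u => Iff.rfl
  have hNchar : ∀ u, u ∈ N ↔ ∀ v : E, lam (v * u * v⁻¹ * u⁻¹) = 1 := by
    intro u
    rw [hNmem]
    constructor
    · intro hu v
      have h1 := hrel v u
      rw [hu v] at h1
      have hne0 : ρl u * ρl v ≠ 0 := by
        rw [← map_mul]
        exact apply_ne_zero ρl _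
      have h2 : (1 : k) • (ρl u * ρl v) = lam (v * u * v⁻¹ * u⁻¹) • (ρl u * ρl v) := by
        rw [one_smul]
        exact h1
      exact (smul_left_injective k hne0 h2).symm
    · intro hu v
      rw [hrel v u, hu v, one_smul]
  have hZN : Z ≤ N := by
    intro z hz
    rw [hNmem]
    intro v
    rw [hρlZ z hz, mul_smul_comm, mul_one, smul_mul_assoc, one_mul]
  have hNne : N ≠ ⊤ := by
    intro htop
    apply hc₀
    have : v₀ ∈ N := by
      rw [htop]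
      exact Subgroup.mem_top v₀
    exact (hNchar v₀).mp this u₀
  -- invariance of the radical under automorphisms stabilizing `lam` on commutators
  have hNaut : ∀ α : MulAut E, (∀ z ∈ Z, lam (α z) = lam z) → ∀ u, α u ∈ N ↔ u ∈ N := by
    intro α hα u
    rw [hNchar, hNchar]
    constructor
    · intro hu v
      have h1 := hu (α v)
      rw [← map_inv, ← map_inv, ← map_mul, ← map_mul, ← map_mul, hα _ (hcomZ v u)] at h1
      exact h1
    · intro hu v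
      have h1 := hu (α⁻¹ v)
      have h2 := hα _ (hcomZ (α⁻¹ v) u)
      rw [map_mul, map_mul, map_mul, map_inv, map_inv, MulAut.apply_inv_self] at h2
      rw [h2]
      exact h1
  have hNφ₁ : ∀ u, φ₁ u ∈ N ↔ u ∈ N := hNaut φ₁ hstab
  have hcommN : ∀ b ∈ N, ∀ b' ∈ N, Commute (ρl b) (ρl b') := by
    intro b _ b' hb'
    exact (hb' b)
  -- the second weight
  obtain ⟨μ, hμ⟩ := exists_weight hk ρl N hcommN
  have hnj₁ : 0 < n - j₁ := by omega
  have hstabN : ∀ χ : E → k, wtS ρl N χ ≠ ⊥ →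
      ∀ b ∈ N, χ ((φ₁ ^ 2 ^ (n - j₁ - 1)) b) = χ b := by
    intro χ hχ
    exact stab_aux hk hnj₁ (hP₁def ▸ hTwl) hNφ₁ hcommN χ hχ hTlfpf
  have hex₂ : ∃ i, ∀ b ∈ N, μ ((φ₁ ^ (2 ^ i)) b) = μ b := ⟨n - j₁ - 1, hstabN μ hμ⟩
  obtain ⟨j₂, hj₂def⟩ : ∃ j, j = Nat.find hex₂ := ⟨_, rfl⟩
  have hstab₂ : ∀ b ∈ N, μ ((φ₁ ^ (2 ^ j₂)) b) = μ b := by
    rw [hj₂def]
    exact Nat.find_spec hex₂
  have hmin₂ : ∀ l < j₂, ∃ b ∈ N, μ ((φ₁ ^ (2 ^ l)) b) ≠ μ b := by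
    intro l hl
    rw [hj₂def] at hl
    have := Nat.find_min hex₂ hl
    push Not at this
    exact this
  have hj₂n : j₂ ≤ n - j₁ - 1 := by
    rw [hj₂def]
    exact Nat.find_min' hex₂ (hstabN μ hμ)
  have hfw₂ : ∀ w ∈ wtS ρl N μ, (Tl ^ (2 ^ j₂)) w = w → w = 0 :=
    fpf_on_weight hk hTwl hNφ₁ hcommN μ hp hstab₂ hmin₂ hTlfpf
  -- weight spaces of `N` on `Wl`, as subspaces of `W`
  obtain ⟨V, hVdef⟩ : ∃ V : (E → k) → Submodule k W, V = fun χ => Wl ⊓ wtS ρ N χ := ⟨_, rfl⟩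
  have hVmem : ∀ (χ : E → k) (w : W), w ∈ V χ ↔ w ∈ Wl ∧ ∀ b ∈ N, ρ b w = χ b • w := by
    intro χ w
    rw [hVdef]
    show w ∈ Wl ⊓ wtS ρ N χ ↔ _
    rw [Submodule.mem_inf, mem_wtS]
  have hlink : ∀ (χ : E → k) (w' : Wl), w' ∈ wtS ρl N χ ↔ (w' : W) ∈ V χ := by
    intro χ w'
    rw [mem_wtS, hVmem]
    constructor
    · intro hh
      refine ⟨w'.2, fun b hb => ?_⟩
      have h1 := congrArg Subtype.val (hh b hb)
      rw [hρl] at h1
      exact h1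
    · intro hh b hb
      apply Subtype.ext
      rw [hρl, hh.2 b hb]
      rfl
  have hVne : ∀ χ : E → k, V χ ≠ ⊥ → wtS ρl N χ ≠ ⊥ := by
    intro χ hχ
    obtain ⟨w, hw, hw0⟩ := Submodule.exists_mem_ne_zero_of_ne_bot hχ
    have hwl : w ∈ Wl := ((hVmem χ w).mp hw).1
    intro hbot
    have h1 : (⟨w, hwl⟩ : Wl) ∈ wtS ρl N χ := (hlink χ ⟨w, hwl⟩).mpr hw
    rw [hbot, Submodule.mem_bot] at h1
    exact hw0 (congrArg Subtype.val h1)
  have hVcongr : ∀ χ χ' : E → k, (∀ b ∈ N, χ b = χ' b) → V χ ≤ V χ' := by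
    intro χ χ' hχ w hw
    rw [hVmem] at hw ⊢
    exact ⟨hw.1, fun b hb => by rw [hw.2 b hb, hχ b hb]⟩
  obtain ⟨W', hW'def⟩ : ∃ W' : Submodule k W, W' = V μ := ⟨_, rfl⟩
  have hW'ne : W' ≠ ⊥ := by
    obtain ⟨w', hw', hw'0⟩ := Submodule.exists_mem_ne_zero_of_ne_bot hμ
    intro hbot
    have h1 : (w' : W) ∈ W' := by
      rw [hW'def]
      exact (hlink μ w').mp hw'
    rw [hbot, Submodule.mem_bot] at h1
    exact hw'0 (Subtype.ext h1)
  -- `N` commutes with `E` on `Wl`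
  have hNcomm : ∀ b ∈ N, ∀ (q : E), ∀ w ∈ Wl, ρ b (ρ q w) = ρ q (ρ b w) := by
    intro b hb q w hw
    have h1 := (hNmem b).mp hb q
    have h2 := congrArg (fun f : Module.End k Wl => ((f ⟨w, hw⟩ : Wl) : W)) h1
    simp only [Module.End.mul_apply, hρl] at h2
    exact h2.symm
  -- moving weight spaces with twisted operators
  have hmove : ∀ (β : MulAut E) (C : Module.End k W), (∀ u, C * ρ u = ρ (β u) * C) →
      (∀ b, β b ∈ N ↔ b ∈ N) → (∀ w ∈ Wl, C w ∈ Wl) → ∀ (χ : E → k) (w : W), w ∈ V χ →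
      C w ∈ V (fun b => χ (β⁻¹ b)) := by
    intro β C hC hβN hCW χ w hw
    rw [hVdef] at hw ⊢
    exact ⟨hCW w hw.1, tw_mem_wtS hC hβN hw.2⟩
  -- twisted operators fixing `Z` pointwise preserve `Wl`
  have hWlA : ∀ (α : MulAut E) (A : Module.End k W), (∀ z ∈ Z, α z = z) →
      (∀ u, A * ρ u = ρ (α u) * A) → ∀ w ∈ Wl, A w ∈ Wl := by
    intro α A hαZ hA w hw
    rw [hWldef] at hw ⊢
    have h1 := tw_mem_wtS hA (hZinvA α) hw
    rw [mem_wtS] at h1 ⊢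
    intro b hb
    rw [h1 b hb]
    have h2 : α⁻¹ b = b := by
      have h3 := hαZ b hb
      calc α⁻¹ b = α⁻¹ (α b) := by rw [h3]
        _ = b := MulAut.inv_apply_self _ _ _
    rw [h2]
  -- `ψ` and `Tτ`
  obtain ⟨ψ, hψdef⟩ : ∃ ψ : MulAut E, ψ = φ ^ 2 ^ (n - 1) := ⟨_, rfl⟩
  obtain ⟨Tτ, hTτdef⟩ : ∃ Tτ : Module.End k W, Tτ = T ^ 2 ^ (n - 1) := ⟨_, rfl⟩
  have hnj : n - 1 = j₁ + (n - j₁ - 1) := by omega
  have hψ₁ : ψ = φ₁ ^ (2 ^ (n - j₁ - 1)) := by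
    rw [hψdef, hφ₁def, ← pow_mul, ← pow_add, ← hnj]
  have hTτ₁ : Tτ = T₁ ^ (2 ^ (n - j₁ - 1)) := by
    rw [hTτdef, hT₁def, ← pow_mul, ← pow_add, ← hnj]
  have hNψ : ∀ u, ψ u ∈ N ↔ u ∈ N := by
    intro u
    rw [hψ₁]
    exact pow_mem_iff hNφ₁ _ u
  have hT₁pow : ∀ (m : ℕ), ∀ w ∈ Wl, (T₁ ^ m) w ∈ Wl := by
    intro m w hw
    have := hTlpow m ⟨w, hw⟩
    rw [← this]
    exact Subtype.property _
  have hTτW : ∀ w ∈ Wl, Tτ w ∈ Wl := by
    intro w hw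
    rw [hTτ₁]
    exact hT₁pow _ w hw
  have hTτtw : ∀ u, Tτ * ρ u = ρ (ψ u) * Tτ := by
    intro u
    rw [hTτdef, hψdef]
    exact h.pow_tw _ u
  have hψstab : ∀ χ : E → k, V χ ≠ ⊥ → ∀ b ∈ N, χ (ψ⁻¹ b) = χ b := by
    intro χ hχ b hb
    have hb' : ψ⁻¹ b ∈ N := by
      rw [← hNψ, MulAut.apply_inv_self]
      exact hb
    have h1 := hstabN χ (hVne χ hχ) _ hb'
    rw [← hψ₁, MulAut.apply_inv_self] at h1
    exact h1.symm
  have hTτV : ∀ (χ : E → k) (w : W), w ∈ V χ → Tτ w ∈ V χ := by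
    intro χ w hw
    by_cases hw0 : w = 0
    · rw [hw0, map_zero]
      exact Submodule.zero_mem _
    have hχ : V χ ≠ ⊥ := by
      intro hbot
      rw [hbot, Submodule.mem_bot] at hw
      exact hw0 hw
    have h1 := hmove ψ Tτ hTτtw hNψ hTτW χ w hw
    exact hVcongr _ _ (hψstab χ hχ) h1
  -- the total exponent
  have hjj : 2 ^ (j₁ + j₂) = 2 ^ j₁ * 2 ^ j₂ := pow_add 2 j₁ j₂
  have hφj : φ ^ 2 ^ (j₁ + j₂) = φ₁ ^ 2 ^ j₂ := by
    rw [hφ₁def, ← pow_mul, hjj]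
  have hTj : T ^ 2 ^ (j₁ + j₂) = T₁ ^ 2 ^ j₂ := by
    rw [hT₁def, ← pow_mul, hjj]
  have hstab₂' : ∀ b ∈ N, μ ((φ₁ ^ 2 ^ j₂)⁻¹ b) = μ b := by
    intro b hb
    have hb' : (φ₁ ^ 2 ^ j₂)⁻¹ b ∈ N := (pow_inv_mem_iff hNφ₁ _ b).mpr hb
    have h1 := hstab₂ _ hb'
    rw [MulAut.apply_inv_self] at h1
    exact h1.symm
  have hμZ : ∀ z ∈ Z, μ z = lam z := by
    intro z hz
    obtain ⟨w, hw, hw0⟩ := Submodule.exists_mem_ne_zero_of_ne_bot hW'ne
    rw [hW'def, hVmem] at hw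
    have h1 := hw.2 z (hZN hz)
    rw [hlam z hz w hw.1] at h1
    exact (smul_left_injective k hw0 h1).symm
  refine ⟨N, j₁ + j₂, W', μ, by omega, hZN, hNne, ?_, ?_, hW'ne, ?_, ?_, ?_, ?_, ?_, ?_⟩
  · -- invariance of `N` under `φ ^ 2 ^ j`
    intro u
    rw [hφj]
    exact pow_mem_iff hNφ₁ _ u
  · -- invariance of `N` under automorphisms fixing `Z`
    intro α hα u
    apply hNaut α
    intro z hz
    rw [hα z hz]
  · -- `E` preserves `W'`
    intro q w hw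
    rw [hW'def, hVmem] at hw ⊢
    refine ⟨hWinv q w hw.1, fun b hb => ?_⟩
    rw [hNcomm b hb q w hw.1, hw.2 b hb, map_smul]
  · -- `T ^ 2 ^ j` preserves `W'`
    intro w hw
    rw [hW'def] at hw ⊢
    have hwl : w ∈ Wl := ((hVmem μ w).mp hw).1
    have h1 : (⟨w, hwl⟩ : Wl) ∈ wtS ρl N μ := (hlink μ ⟨w, hwl⟩).mpr hw
    have h2 := pow_mem_wtS hTwl hNφ₁ h1 (2 ^ j₂)
    have h3 : (Tl ^ 2 ^ j₂) ⟨w, hwl⟩ ∈ wtS ρl N μ := by
      rw [mem_wtS] at h2 ⊢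
      intro b hb
      rw [h2 b hb, hstab₂' b hb]
    have h4 := (hlink μ _).mp h3
    rw [hTlpow] at h4
    rw [hTj]
    exact h4
  · -- `μ` on `W'`
    intro z hz w hw
    rw [hW'def, hVmem] at hw
    exact hw.2 z hz
  · -- nondegeneracy
    intro a ha
    rw [hNchar]
    intro v
    rw [← hμZ _ (hcomZ v a)]
    exact ha v
  · -- fixed point freeness
    intro w hw hTw
    rw [hW'def] at hw
    have hwl : w ∈ Wl := ((hVmem μ w).mp hw).1
    have h1 : (⟨w, hwl⟩ : Wl) ∈ wtS ρl N μ := (hlink μ ⟨w, hwl⟩).mpr hw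
    have h2 : (Tl ^ 2 ^ j₂) ⟨w, hwl⟩ = ⟨w, hwl⟩ := by
      apply Subtype.ext
      rw [hTlpow, ← hTj]
      exact hTw
    have h3 := hfw₂ _ h1 h2
    exact congrArg Subtype.val h3
  · -- the commutators `[x, τ]` preserve `W'`
    intro α A A' hαZ hA hA' w hw
    rw [← hTτdef]
    rw [hW'def] at hw ⊢
    have hαN : ∀ u, α u ∈ N ↔ u ∈ N := by
      apply hNaut α
      intro z hz
      rw [hαZ z hz]
    have hαN' : ∀ u, α⁻¹ u ∈ N ↔ u ∈ N := by
      intro u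
      rw [← hαN (α⁻¹ u), MulAut.apply_inv_self]
    have hαZ' : ∀ z ∈ Z, α⁻¹ z = z := by
      intro z hz
      have h3 := hαZ z hz
      calc α⁻¹ z = α⁻¹ (α z) := by rw [h3]
        _ = z := MulAut.inv_apply_self _ _ _
    have hAW := hWlA α A hαZ hA
    have hA'W := hWlA α⁻¹ A' hαZ' hA'
    have h1 := hTτV μ w hw
    have h2 := hmove α A hA hαN hAW μ _ h1
    have h3 := hTτV _ _ h2
    have h4 := hmove α⁻¹ A' hA' hαN' hA'W _ _ h3
    have e : (fun b => (fun b => μ (α⁻¹ b)) ((α⁻¹)⁻¹ b)) = μ := by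
      funext b
      show μ (α⁻¹ ((α⁻¹)⁻¹ b)) = μ b
      rw [MulAut.apply_inv_self]
    rw [e] at h4
    simp only [Module.End.mul_apply]
    exact h4

end Cfsg.Agent.Lib.H9.SGT
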