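import Mathlib
import Cfsg.Agent.Lib.H19.SGTDefs
import Cfsg.Agent.Lib.H19.FittingCrit
import Cfsg.Agent.Lib.H19.Fpf4Main
import Cfsg.Agent.Lib.H9.SGTWTb

/-!
# S3795 piece WT, part c: transfer of the two-stage weight analysis to the ambient group (helper9)

`exists_wdata_of` : the statement of WT (`exists_wdata`) with the conclusion of MIN3
(`min_comm_central`: commutators of `Q` are central in `Q`) as a hypothesis.
-/

set_option autoImplicit false
set_option linter.unusedSectionVars false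
set_option linter.unusedVariables false
set_option maxHeartbeats 1000000

namespace Cfsg.Agent.Lib.H9.SGT

open Module Cfsg Cfsg.Agent.Lib.H19.SG Cfsg.Agent.Lib.H19.SGT Cfsg.Agent.Lib.H19.ModRep
  Cfsg.Agent.Lib.H1 Cfsg.Agent.Lib.H1.QuadMul

universe u uΓ

variable {k : Type*} [Field k] {Γ : Type uΓ} [Group Γ] {W : Type*} [AddCommGroup W] [Module k W]

variable {ρ : Representation k Γ W} {s : Γ} {n : ℕ} {Q R : Subgroup Γ} {t u : ℕ}

theorem exists_wdata_of [IsAlgClosed k] [FiniteDimensional k W] [Finite Γ] [Fact t.Prime]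
    [Fact u.Prime] (htu : t ≠ u) (htk : (t : k) ≠ 0) (hn : 0 < n)
    (h : Cfg ρ s n Q R t u) (hm : IsMin s Q R) (hna : ¬ ∀ a ∈ Q, ∀ b ∈ Q, a * b = b * a)
    (hcc : ∀ a ∈ Q, ∀ b ∈ Q, ∀ q ∈ Q,
      (a * b * a⁻¹ * b⁻¹) * q = q * (a * b * a⁻¹ * b⁻¹)) :
    ∃ (N : Subgroup Γ) (j : ℕ) (W' : Submodule k W) (μ : Γ → k), WData ρ s n Q R N j W' μ := by
  classical
  -- `s` normalizes `Q`
  have hsinv : s⁻¹ = s ^ (2 ^ n - 1) := by
    have h1 : s ^ (2 ^ n - 1) * s = 1 := by
      rw [← pow_succ, Nat.sub_add_cancel Nat.one_le_two_pow, h.hs]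
    exact (eq_inv_of_mul_eq_one_left h1).symm
  have hspow : ∀ (i : ℕ), ∀ q ∈ Q, s ^ i * q * (s ^ i)⁻¹ ∈ Q := by
    intro i
    induction i with
    | zero =>
      intro q hq
      simpa using hq
    | succ i ih =>
      intro q hq
      have e : s ^ (i + 1) * q * (s ^ (i + 1))⁻¹ = s * (s ^ i * q * (s ^ i)⁻¹) * s⁻¹ := by
        rw [pow_succ']
        group
      rw [e]
      exact h.hsQ _ (ih q hq)
  have hsQ' : ∀ q ∈ Q, s⁻¹ * q * s ∈ Q := by
    intro q hq
    have := hspow (2 ^ n - 1) q hq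
    rw [← hsinv, inv_inv] at this
    exact this
  have hsN : s ∈ Subgroup.normalizer (Q : Set Γ) := by
    rw [Subgroup.mem_normalizer_iff]
    intro q
    constructor
    · exact h.hsQ q
    · intro hq
      have := hsQ' _ hq
      have e : s⁻¹ * (s * q * s⁻¹) * s = q := by group
      rwa [e] at this
  have hRN' : ∀ x ∈ R, x ∈ Subgroup.normalizer (Q : Set Γ) := by
    intro x hx
    rw [Subgroup.mem_normalizer_iff]
    intro q
    constructor
    · exact h.hRQ x hx q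
    · intro hq
      have := h.hRQ x⁻¹ (R.inv_mem hx) _ hq
      have e : x⁻¹ * (x * q * x⁻¹) * x⁻¹⁻¹ = q := by group
      rwa [e] at this
  -- the type level data
  obtain ⟨ρQ, hρQdef⟩ : ∃ ρQ : Representation k ↥Q W, ρQ = ρ.comp Q.subtype := ⟨_, rfl⟩
  have hρQ : ∀ a : ↥Q, ρQ a = ρ (a : Γ) := by
    intro a
    rw [hρQdef]
    rfl
  obtain ⟨φ, hφdef⟩ : ∃ φ : MulAut ↥Q, φ = conjAut s Q hsN := ⟨_, rfl⟩
  have hφpow : ∀ (i : ℕ) (a : ↥Q), (((φ ^ i) a : ↥Q) : Γ) = s ^ i * a * (s ^ i)⁻¹ := by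
    intro i a
    rw [hφdef]
    exact conjAut_pow_coe s Q hsN i a
  obtain ⟨T, hTdef⟩ : ∃ T : Module.End k W, T = ρ s := ⟨_, rfl⟩
  have hTpow : ∀ i : ℕ, T ^ i = ρ (s ^ i) := by
    intro i
    rw [hTdef, map_pow]
  have hTw : Tw ρQ φ T (2 ^ n) :=
    { hT := by rw [hTpow, h.hs, map_one]
      hφ := by
        apply MulEquiv.ext
        intro a
        apply Subtype.ext
        rw [hφpow, h.hs, one_mul, inv_one, mul_one]
        rfl
      htw := by
        intro a
        rw [hρQ, hρQ, hTdef, ← map_mul, ← map_mul]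
        congr 1
        have : ((φ a : ↥Q) : Γ) = s * a * s⁻¹ := by
          rw [hφdef]
          rfl
        rw [this]
        group }
  have hQk : (Nat.card ↥Q : k) ≠ 0 := by
    obtain ⟨b, hb⟩ := IsPGroup.iff_card.mp h.hQ
    rw [hb, Nat.cast_pow]
    exact pow_ne_zero b htk
  have hfpfT : ∀ w, T w = w → w = 0 := by
    rw [hTdef]
    exact h.hfpf
  have hfaithQ : ∀ a : ↥Q, ρQ a = 1 → a = 1 := by
    intro a ha
    rw [hρQ] at ha
    exact Subtype.ext (h.hfaith _ a.2 ha)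
  have hcomZ : ∀ a b : ↥Q, a * b * a⁻¹ * b⁻¹ ∈ Subgroup.center ↥Q := by
    intro a b
    rw [Subgroup.mem_center_iff]
    intro g
    apply Subtype.ext
    exact (hcc a a.2 b b.2 g g.2).symm
  have hnaZ : Subgroup.center ↥Q ≠ ⊤ := by
    intro htop
    apply hna
    intro a ha b hb
    have h1 : (⟨b, hb⟩ : ↥Q) ∈ Subgroup.center ↥Q := by
      rw [htop]
      exact Subgroup.mem_top _
    have h2 := Subgroup.mem_center_iff.mp h1 ⟨a, ha⟩
    exact congrArg Subtype.val h2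
  obtain ⟨N', j, W', μ', hj, hZN', hN'ne, hN'φ, hN'α, hW', hQW, hTW, hμ', hnd', hfpf', hcomm'⟩ :=
    wt_type hQk hn hTw hfpfT hfaithQ hcomZ hnaZ
  -- `R` centralizes the centre of `Q`
  obtain ⟨ZΓ, hZΓdef⟩ : ∃ ZΓ : Subgroup Γ, ZΓ = (Subgroup.center ↥Q).map Q.subtype := ⟨_, rfl⟩
  have hZΓmem : ∀ z, z ∈ ZΓ ↔ z ∈ Q ∧ ∀ q ∈ Q, q * z = z * q := by
    intro z
    rw [hZΓdef, Subgroup.mem_map]
    constructor
    · rintro ⟨x, hx, rfl⟩
      refine ⟨x.2, fun q hq => ?_⟩
      have := Subgroup.mem_center_iff.mp hx ⟨q, hq⟩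
      exact congrArg Subtype.val this
    · rintro ⟨hz, hzc⟩
      refine ⟨⟨z, hz⟩, ?_, rfl⟩
      rw [Subgroup.mem_center_iff]
      intro g
      apply Subtype.ext
      exact hzc g g.2
  have hZΓQ : ZΓ ≤ Q := fun z hz => ((hZΓmem z).mp hz).1
  have hZΓne : ZΓ ≠ Q := by
    intro heq
    apply hna
    intro a ha b hb
    have : b ∈ ZΓ := by
      rw [heq]
      exact hb
    exact ((hZΓmem b).mp this).2 a ha
  have hZΓconj : ∀ γ : Γ, (∀ q ∈ Q, γ * q * γ⁻¹ ∈ Q) → (∀ q ∈ Q, γ⁻¹ * q * γ ∈ Q) →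
      ∀ z ∈ ZΓ, γ * z * γ⁻¹ ∈ ZΓ := by
    intro γ h1 h2 z hz
    rw [hZΓmem] at hz ⊢
    refine ⟨h1 z hz.1, fun q hq => ?_⟩
    have h3 := hz.2 _ (h2 q hq)
    calc q * (γ * z * γ⁻¹) = γ * ((γ⁻¹ * q * γ) * z) * γ⁻¹ := by group
      _ = γ * (z * (γ⁻¹ * q * γ)) * γ⁻¹ := by rw [h3]
      _ = γ * z * γ⁻¹ * q := by group
  have hRZ : Cent R ZΓ := by
    apply hm.2 ZΓ hZΓQ hZΓne
    · exact hZΓconj s h.hsQ hsQ'
    · intro x hx
      apply hZΓconj x (h.hRQ x hx)
      intro q hq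
      have := h.hRQ x⁻¹ (R.inv_mem hx) q hq
      rwa [inv_inv] at this
  have hαx : ∀ x (hx : x ∈ R), ∀ z ∈ Subgroup.center ↥Q, conjAut x Q (hRN' x hx) z = z := by
    intro x hx z hz
    apply Subtype.ext
    show x * (z : Γ) * x⁻¹ = z
    have hzΓ : (z : Γ) ∈ ZΓ := by
      rw [hZΓdef]
      exact Subgroup.mem_map_of_mem Q.subtype hz
    rw [hRZ x hx _ hzΓ]
    group
  -- the subgroup `N` and the function `μ`
  obtain ⟨N, hNdef⟩ : ∃ N : Subgroup Γ, N = N'.map Q.subtype := ⟨_, rfl⟩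
  have hNmem : ∀ z, z ∈ N ↔ ∃ hz : z ∈ Q, (⟨z, hz⟩ : ↥Q) ∈ N' := by
    intro z
    rw [hNdef, Subgroup.mem_map]
    constructor
    · rintro ⟨x, hx, rfl⟩
      exact ⟨x.2, hx⟩
    · rintro ⟨hz, hzN⟩
      exact ⟨⟨z, hz⟩, hzN, rfl⟩
  obtain ⟨μ, hμdef⟩ : ∃ μ : Γ → k, μ = fun γ => if hγ : γ ∈ Q then μ' ⟨γ, hγ⟩ else 0 :=
    ⟨_, rfl⟩
  have hμapp : ∀ x : ↥Q, μ (x : Γ) = μ' x := by
    intro x
    rw [hμdef]
    show (if hγ : (x : Γ) ∈ Q then μ' ⟨x, hγ⟩ else 0) = μ' x
    rw [dif_pos x.2]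
  -- `τ`
  have hτdef : tau s n = s ^ 2 ^ (n - 1) := rfl
  have hτ2 : tau s n * tau s n = 1 := by
    rw [hτdef, ← pow_add, ← two_mul, ← pow_succ', Nat.sub_add_cancel hn, h.hs]
  have hτinv : (tau s n)⁻¹ = tau s n := (eq_inv_of_mul_eq_one_left hτ2).symm
  -- `R` preserves `W'`
  have hRW : ∀ x ∈ R, ∀ w ∈ W', ρ x w ∈ W' := by
    have hgen : ∀ y ∈ commSet R (tau s n), ∀ w ∈ W', ρ y w ∈ W' := by
      rintro y ⟨x, hx, rfl⟩ w hw
      have hxN := hRN' x hx
      have hA : ∀ a : ↥Q, ρ x * ρQ a = ρQ (conjAut x Q hxN a) * ρ x := by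
        intro a
        rw [hρQ, hρQ, ← map_mul, ← map_mul]
        congr 1
        show x * (a : Γ) = x * a * x⁻¹ * x
        group
      have hA' : ∀ a : ↥Q, ρ x⁻¹ * ρQ a = ρQ ((conjAut x Q hxN)⁻¹ a) * ρ x⁻¹ := by
        intro a
        rw [hρQ, hρQ, ← map_mul, ← map_mul]
        congr 1
        show x⁻¹ * (a : Γ) = x⁻¹ * a * x * x⁻¹
        group
      have := hcomm' (conjAut x Q hxN) (ρ x) (ρ x⁻¹) (hαx x hx) hA hA' w hw
      rw [hTpow, ← hτdef] at this
      rw [hτinv, map_mul, map_mul, map_mul]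
      exact this
    have hS : ∀ y ∈ Subgroup.closure (commSet R (tau s n)), ∀ w ∈ W', ρ y w ∈ W' := by
      intro y hy
      induction hy using Subgroup.closure_induction with
      | mem y hy => exact hgen y hy
      | one =>
        intro w hw
        rw [map_one]
        exact hw
      | mul a b _ _ iha ihb =>
        intro w hw
        rw [map_mul]
        exact iha _ (ihb w hw)
      | inv a _ iha =>
        intro w hw
        have hpw : ∀ i : ℕ, ρ (a ^ i) w ∈ W' := by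
          intro i
          induction i with
          | zero =>
            rw [pow_zero, map_one]
            exact hw
          | succ i ih =>
            rw [pow_succ', map_mul]
            exact iha _ ih
        have hainv : a⁻¹ = a ^ (orderOf a - 1) := by
          have h1 : a ^ (orderOf a - 1) * a = 1 := by
            rw [← pow_succ, Nat.sub_add_cancel (orderOf_pos a), pow_orderOf_eq_one]
          exact (eq_inv_of_mul_eq_one_left h1).symm
        rw [hainv]
        exact hpw _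
    intro x hx
    exact hS x (h.hgen hx)
  refine ⟨N, j, W', μ, ?_⟩
  exact
    { hj := hj
      hZN := by
        intro z hz hzc
        rw [hNmem]
        refine ⟨hz, hZN' ?_⟩
        rw [Subgroup.mem_center_iff]
        intro g
        apply Subtype.ext
        exact (hzc g g.2).symm
      hNQ := by
        intro z hz
        obtain ⟨hzQ, -⟩ := (hNmem z).mp hz
        exact hzQ
      hNne := by
        intro heq
        apply hN'ne
        rw [eq_top_iff]
        intro a _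
        have h1 : (a : Γ) ∈ N := by
          rw [heq]
          exact a.2
        obtain ⟨_, h2⟩ := (hNmem _).mp h1
        exact h2
      hgN := by
        intro z hz
        obtain ⟨hzQ, hzN⟩ := (hNmem z).mp hz
        rw [hNmem]
        have h1 := (hN'φ ⟨z, hzQ⟩).mpr hzN
        have h2 := hφpow (2 ^ j) ⟨z, hzQ⟩
        have hmem : s ^ 2 ^ j * z * (s ^ 2 ^ j)⁻¹ ∈ Q := hspow _ z hzQ
        refine ⟨hmem, ?_⟩
        have e : (⟨s ^ 2 ^ j * z * (s ^ 2 ^ j)⁻¹, hmem⟩ : ↥Q) = (φ ^ 2 ^ j) ⟨z, hzQ⟩ :=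
          Subtype.ext h2.symm
        rw [e]
        exact h1
      hRN := by
        intro x hx z hz
        obtain ⟨hzQ, hzN⟩ := (hNmem z).mp hz
        rw [hNmem]
        have h1 := (hN'α (conjAut x Q (hRN' x hx)) (hαx x hx) ⟨z, hzQ⟩).mpr hzN
        exact ⟨h.hRQ x hx z hzQ, h1⟩
      hW' := hW'
      hQW := by
        intro q hq w hw
        have := hQW ⟨q, hq⟩ w hw
        rwa [hρQ] at this
      hRW := hRW
      hgW := by
        intro w hw
        have := hTW w hw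
        rwa [hTpow] at this
      hμ := by
        intro z hz w hw
        obtain ⟨hzQ, hzN⟩ := (hNmem z).mp hz
        have := hμ' ⟨z, hzQ⟩ hzN w hw
        rw [hρQ] at this
        rw [this, ← hμapp ⟨z, hzQ⟩]
      hnd := by
        intro a ha hab
        rw [hNmem]
        refine ⟨ha, hnd' ⟨a, ha⟩ ?_⟩
        intro b
        have := hab b b.2
        rw [← hμapp]
        exact this
      hfpf' := by
        intro w hw hfix
        apply hfpf' w hw
        rw [hTpow]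
        exact hfix }

end Cfsg.Agent.Lib.H9.SGT
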