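import Mathlib
import Cfsg.Agent.Lib.H19.SGTDefs
import Cfsg.Agent.Lib.H19.FittingCrit
import Cfsg.Agent.Lib.H19.Fpf4Main
import Cfsg.Agent.Lib.H9.SGTWTc
import Cfsg.Agent.Lib.H27.SGTMIN

/-!
# S3795 piece WT (helper9): `exists_wdata`, exact signature of `tools/blueprints/S3795_sigs.lean`
-/

set_option autoImplicit false
set_option linter.unusedSectionVars false
set_option linter.unusedVariables false

namespace Cfsg.Agent.Lib.H9.SGT

open Module Cfsg Cfsg.Agent.Lib.H19.SG Cfsg.Agent.Lib.H19.SGT Cfsg.Agent.Lib.H19.ModRep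
  Cfsg.Agent.Lib.H1 Cfsg.Agent.Lib.H1.QuadMul

universe u uΓ

section ambient

variable {k : Type*} [Field k] {Γ : Type uΓ} [Group Γ] {W : Type*} [AddCommGroup W] [Module k W]

variable {ρ : Representation k Γ W} {s : Γ} {n : ℕ} {Q R : Subgroup Γ} {t u : ℕ}

/-- **WT**: the two-stage weight analysis in the nonabelian minimal case. -/
theorem exists_wdata [IsAlgClosed k] [FiniteDimensional k W] [Finite Γ] [Fact t.Prime]
    [Fact u.Prime] (htu : t ≠ u) (htk : (t : k) ≠ 0) (hn : 0 < n)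
    (h : Cfg ρ s n Q R t u) (hm : IsMin s Q R) (hna : ¬ ∀ a ∈ Q, ∀ b ∈ Q, a * b = b * a) :
    ∃ (N : Subgroup Γ) (j : ℕ) (W' : Submodule k W) (μ : Γ → k), WData ρ s n Q R N j W' μ :=
  exists_wdata_of htu htk hn h hm hna (Cfsg.Agent.Lib.H27.SGT.min_comm_central htu h hm)

end ambient

end Cfsg.Agent.Lib.H9.SGT
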