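import Mathlib
import Cfsg.Prelude.Def_Local
import Cfsg.Agent.Lib.H7.Components
import Cfsg.Agent.Lib.H1.Fitting

/-!
# helper9 library: small general lemmas

* involutions in cyclic groups are unique;
* a join of a conjugation-invariant family of subgroups is normal; the layer and the generalized Fitting
  subgroup are normal;
* a nontrivial element of 2-power order has a power of order 2.
-/

set_option autoImplicit false

namespace Cfsg.Agent.Lib.H9

open Cfsg

/-- In a finite cyclic group there is at most one element of order 2. -/
theorem eq_of_orderOf_two_of_isCyclic {H : Type*} [Group H] [Finite H] [IsCyclic H] {x y : H}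
    (hx : orderOf x = 2) (hy : orderOf y = 2) : x = y := by
  classical
  have := Fintype.ofFinite H
  by_contra hne
  have h := IsCyclic.card_pow_eq_one_le (α := H) (n := 2) (by norm_num)
  have hsub : ({1, x, y} : Finset H) ⊆ Finset.univ.filter (fun a => a ^ 2 = 1) := by
    intro a ha
    simp only [Finset.mem_insert, Finset.mem_singleton] at ha
    rw [Finset.mem_filter]
    refine ⟨Finset.mem_univ _, ?_⟩
    rcases ha with rfl | rfl | rfl
    · simp
    · rw [← hx]; exact pow_orderOf_eq_one _
    · rw [← hy]; exact pow_orderOf_eq_one _
  have hcard : ({1, x, y} : Finset H).card = 3 := by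
    have h1x : (1 : H) ≠ x := by rintro rfl; simp at hx
    have h1y : (1 : H) ≠ y := by rintro rfl; simp at hy
    rw [Finset.card_insert_of_notMem, Finset.card_insert_of_notMem, Finset.card_singleton]
    · simpa using hne
    · simp [h1x, h1y]
  have := Finset.card_le_card hsub
  omega

/-- The join of a family of subgroups that is closed under conjugation is a normal subgroup. -/
theorem sSup_normal_of_conj_invariant {G : Type*} [Group G] (S : Set (Subgroup G))
    (hS : ∀ K ∈ S, ∀ g : G, K.map (MulAut.conj g).toMonoidHom ∈ S) : (sSup S).Normal := by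
  have key : ∀ g : G, (sSup S).map (MulAut.conj g).toMonoidHom ≤ sSup S := by
    intro g
    rw [Subgroup.map_le_iff_le_comap]
    apply sSup_le
    intro K hK
    rw [← Subgroup.map_le_iff_le_comap]
    exact le_sSup (hS K hK g)
  constructor
  intro n hn g
  exact key g ⟨n, hn, rfl⟩

/-- The layer `E(G)` is a normal subgroup. -/
theorem layer_normal (G : Type*) [Group G] : (layer G).Normal :=
  sSup_normal_of_conj_invariant _ (fun _ hK g => Cfsg.Agent.Lib.H7.isComponent_map_conj g hK)

/-- The generalized Fitting subgroup `F*(G)` is a normal subgroup. -/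
theorem generalizedFittingSubgroup_normal (G : Type*) [Group G] :
    (generalizedFittingSubgroup G).Normal := by
  have := layer_normal G
  have := Cfsg.Agent.Lib.H1.fittingSubgroup_normal G
  exact Subgroup.sup_normal _ _

/-- A non-identity element whose order is a power of 2 has a power of order exactly 2. -/
theorem exists_pow_orderOf_two {G : Type*} [Group G] {x : G} (hx1 : x ≠ 1) {m : ℕ}
    (hm : orderOf x = 2 ^ m) : ∃ n : ℕ, orderOf (x ^ n) = 2 := by
  have hm0 : m ≠ 0 := by
    rintro rfl
    rw [pow_zero, orderOf_eq_one_iff] at hm
    exact hx1 hm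
  obtain ⟨k, rfl⟩ := Nat.exists_eq_succ_of_ne_zero hm0
  refine ⟨2 ^ k, ?_⟩
  rw [orderOf_pow_of_dvd (by positivity) (by rw [hm]; exact pow_dvd_pow 2 (Nat.le_succ k)), hm,
    pow_succ, Nat.mul_div_cancel_left _ (by positivity)]

end Cfsg.Agent.Lib.H9
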