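import Cfsg.Agent.Lib.H20.MinIdxD4Defs

/-!
# S2140-D4-5a (helper9): `exists_comm_five`

For `n ≥ 5`: every `b ∈ ker δ₁ ∩ ker δ₂` admits `ψ ∈ A \ 0`, `ψ b = 0`, with `T(b, ψ)` a commutator of two
elements of `fr.N`.
-/

set_option autoImplicit false

namespace Cfsg.Agent.Lib.H9.MinIdx

open Module Cfsg.Agent.Lib.H26.MinIdx Cfsg.Agent.Lib.H20.MinIdx

variable {F V : Type*} [Field F] [AddCommGroup V] [Module F V]

/-- a span of a finset of fewer than `finrank` vectors is a proper subspace -/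
theorem span_finset_lt_top [Module.Finite F V] (s : Finset V) (hs : s.card < finrank F V) :
    Submodule.span F (s : Set V) < ⊤ := by
  rw [lt_top_iff_ne_top]
  intro h
  have h1 : finrank F (Submodule.span F (s : Set V)) ≤ s.card := finrank_span_finset_le_card s
  rw [h, finrank_top] at h1
  omega

/-- a transvection `T(v, f)` with `f d₁ = f d₂ = 0`, `δ₂ v = 0` lies in `fr.N` -/
theorem tv_mem_N (fr : Frame F V) (f : Dual F V) (v : V) (h : f v = 0) (h1 : f fr.d₁ = 0)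
    (h2 : f fr.d₂ = 0) (hv : fr.δ₂ v = 0) : tv f v h ∈ fr.N := by
  rw [Frame.mem_N]
  refine ⟨?_, ?_, fun x => ?_⟩
  · rw [tv_apply, h1, zero_smul, add_zero]
  · rw [tv_apply, h2, zero_smul, add_zero]
  · rw [tv_apply, map_add, map_smul, hv, smul_zero, add_zero]

/-- **S2140-D4-5a** (n ≥ 5). -/
theorem exists_comm_five [Module.Finite F V] (hn : 5 ≤ finrank F V) (fr : Frame F V) (b : V)
    (hb1 : fr.δ₁ b = 0) (hb2 : fr.δ₂ b = 0) :
    ∃ (ψ : Dual F V) (hψb : ψ b = 0), ψ ∈ fr.A ∧ ψ ≠ 0 ∧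
      ∃ g ∈ fr.N, ∃ g' ∈ fr.N, tv ψ b hψb = g * g' * g⁻¹ * g'⁻¹ := by
  classical
  -- W = span {d₁, d₂, b}
  have hW : Submodule.span F ((({fr.d₁, fr.d₂, b} : Finset V)) : Set V) < ⊤ := by
    apply span_finset_lt_top
    have : ({fr.d₁, fr.d₂, b} : Finset V).card ≤ 3 := Finset.card_le_three
    omega
  obtain ⟨x, -, hx⟩ := SetLike.exists_of_lt hW
  set W := Submodule.span F ((({fr.d₁, fr.d₂, b} : Finset V)) : Set V) with hWdef
  have hd1W : fr.d₁ ∈ W := Submodule.subset_span (by simp)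
  have hd2W : fr.d₂ ∈ W := Submodule.subset_span (by simp)
  have hbW : b ∈ W := Submodule.subset_span (by simp)
  set b' : V := x - fr.δ₁ x • fr.d₁ - fr.δ₂ x • fr.d₂ with hb'def
  have hb'W : b' ∉ W := by
    intro h
    apply hx
    have : x = b' + fr.δ₁ x • fr.d₁ + fr.δ₂ x • fr.d₂ := by rw [hb'def]; abel
    rw [this]
    exact W.add_mem (W.add_mem h (W.smul_mem _ hd1W)) (W.smul_mem _ hd2W)
  have hδ2b' : fr.δ₂ b' = 0 := by
    rw [hb'def]
    simp [fr.h21, fr.h22]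
  -- ψ' kills W, ψ' b' = 1
  obtain ⟨f, hfb', hfW⟩ := Submodule.exists_le_ker_of_notMem hb'W
  set ψ' : Dual F V := (f b')⁻¹ • f with hψ'def
  have hψ'W : ∀ w ∈ W, ψ' w = 0 := by
    intro w hw
    have : f w = 0 := hfW hw
    rw [hψ'def, LinearMap.smul_apply, this, smul_zero]
  have hψ'b' : ψ' b' = 1 := by
    rw [hψ'def, LinearMap.smul_apply, smul_eq_mul, inv_mul_cancel₀ hfb']
  -- ψ ≠ 0 kills W2 = span {d₁, d₂, b, b'}
  have hW2 : Submodule.span F ((({fr.d₁, fr.d₂, b, b'} : Finset V)) : Set V) < ⊤ := by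
    apply span_finset_lt_top
    have : ({fr.d₁, fr.d₂, b, b'} : Finset V).card ≤ 4 := Finset.card_le_four
    omega
  obtain ⟨ψ, hψ0, hψW2⟩ := Submodule.exists_le_ker_of_lt_top _ hW2
  have hψd1 : ψ fr.d₁ = 0 := hψW2 (Submodule.subset_span (by simp))
  have hψd2 : ψ fr.d₂ = 0 := hψW2 (Submodule.subset_span (by simp))
  have hψb : ψ b = 0 := hψW2 (Submodule.subset_span (by simp))
  have hψb' : ψ b' = 0 := hψW2 (Submodule.subset_span (by simp))
  refine ⟨ψ, hψb, ⟨hψd1, hψd2⟩, hψ0, tv ψ' b (hψ'W b hbW),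
    tv_mem_N fr ψ' b _ (hψ'W _ hd1W) (hψ'W _ hd2W) hb2, tv ψ b' hψb',
    tv_mem_N fr ψ b' _ hψd1 hψd2 hδ2b', ?_⟩
  rw [tv_commutator ψ' ψ b b' (hψ'W b hbW) hψb' hψb]
  congr 1
  rw [hψ'b', one_smul]

end Cfsg.Agent.Lib.H9.MinIdx
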