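import Mathlib
import Cfsg.Agent.Lib.H26.NGPDefs
import Cfsg.Agent.Lib.H26.NGPNU
import Cfsg.Agent.Lib.H26.NGPF1
import Cfsg.Agent.Lib.H8.NGPODD
import Cfsg.Agent.Lib.H2.NGPKEY

set_option autoImplicit false

/-!
# S1904, piece AR: `A` acts on `X/B` through `⟨ρ⟩`; `X = [X,ρ] B`; `ρ³` is trivial on `X/B`.
-/

open Cfsg.Agent.Lib.H26.NGP

namespace Cfsg.Agent.Lib.H9.NGP

universe u

variable {X : Type u} [Group X]

/-- An automorphism of odd order cannot swap two distinct points. -/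
theorem no_swap_of_odd (σ : MulAut X) (m : ℕ) (hm : Odd m) (hσ : σ ^ m = 1) (p q : X)
    (h1 : σ p = q) (h2 : σ q = p) : p = q := by
  obtain ⟨k, rfl⟩ := hm
  have h3 : ∀ j : ℕ, (σ ^ (2 * j)) p = p := by
    intro j
    induction j with
    | zero => simp
    | succ j ih =>
      rw [mul_add, mul_one, pow_add, MulAut.mul_apply, pow_two, MulAut.mul_apply, h1, h2, ih]
  have h4 : (σ ^ (2 * k + 1)) p = q := by
    rw [pow_succ', MulAut.mul_apply, h3 k, h1]
  rw [hσ, MulAut.one_apply] at h4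
  exact h4

/-- An automorphism fixing a self-centralizing normal subgroup pointwise is trivial modulo it. -/
theorem twist_mem_of_fix {B : Subgroup X} (hBn : B.Normal)
    (hcent : ∀ x : X, (∀ b ∈ B, x * b = b * x) → x ∈ B)
    (σ : MulAut X) (hσ : ∀ b ∈ B, σ b = b) (x : X) : x⁻¹ * σ x ∈ B := by
  apply hcent
  intro b hb
  have h1 : x * b * x⁻¹ ∈ B := hBn.conj_mem b hb x
  have h2 : σ (x * b * x⁻¹) = x * b * x⁻¹ := hσ _ h1
  rw [map_mul, map_mul, map_inv, hσ b hb] at h2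
  calc x⁻¹ * σ x * b = x⁻¹ * (σ x * b * (σ x)⁻¹) * σ x := by group
    _ = x⁻¹ * (x * b * x⁻¹) * σ x := by rw [h2]
    _ = b * (x⁻¹ * σ x) := by group

theorem pow_twist_mem {ρ : MulAut X} (N : Subgroup X) (hN : ∀ x : X, x⁻¹ * ρ x ∈ N) (i : ℕ) :
    ∀ x : X, x⁻¹ * (ρ ^ i) x ∈ N := by
  induction i with
  | zero => intro x; simp
  | succ i ih =>
    intro x
    have h : x⁻¹ * (ρ ^ (i + 1)) x = (x⁻¹ * ρ x) * ((ρ x)⁻¹ * (ρ ^ i) (ρ x)) := by
      rw [pow_succ, MulAut.mul_apply]; group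
    rw [h]
    exact N.mul_mem (hN x) (ih (ρ x))

variable [Finite X]

theorem act_via_rho {A : Subgroup (MulAut X)} (hC : Ctx A) {ρ : MulAut X} {z : X} {U B : Subgroup X}
    {n : ℕ} (hU : USetup A ρ z U) (hB : BSetup A U B n) :
    ∀ a ∈ A, ∃ i : ℕ, ∀ x : X, ((ρ ^ i) x)⁻¹ * a x ∈ B := by
  intro a ha
  obtain ⟨d1, d2, d3, d4, d5, d6⟩ := hU.distinct
  have hzU : z ∈ U := (hU.memU z).mpr (Or.inr (Or.inl rfl))
  have hρzU : ρ z ∈ U := (hU.memU _).mpr (Or.inr (Or.inr (Or.inl rfl)))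
  have hρρzU : ρ (ρ z) ∈ U := (hU.memU _).mpr (Or.inr (Or.inr (Or.inr rfl)))
  -- choose i with a z = ρ^i z
  have hi : ∃ i : ℕ, a z = (ρ ^ i) z := by
    rcases (hU.memU (a z)).mp (hU.ainv a ha z hzU) with h | h | h | h
    · exact absurd ((map_eq_one_iff a a.injective).mp h) hU.z1
    · exact ⟨0, by rw [h, pow_zero, MulAut.one_apply]⟩
    · exact ⟨1, by rw [h, pow_one]⟩
    · exact ⟨2, by rw [h, pow_two, MulAut.mul_apply]⟩
  obtain ⟨i, hi⟩ := hi
  refine ⟨i, ?_⟩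
  set a' : MulAut X := (ρ ^ i)⁻¹ * a with ha'def
  have ha' : a' ∈ A := A.mul_mem (A.inv_mem (A.pow_mem hU.mem i)) ha
  have haz : a' z = z := by
    rw [ha'def, MulAut.mul_apply, hi, MulAut.inv_apply_self]
  have hpow : a' ^ Nat.card A = 1 := by
    have h := pow_card_eq_one' (G := A) (x := ⟨a', ha'⟩)
    have h2 : (((⟨a', ha'⟩ : A) ^ Nat.card A : A) : MulAut X) = ((1 : A) : MulAut X) :=
      congrArg Subtype.val h
    rw [Subgroup.coe_pow, Subgroup.coe_one] at h2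
    exact h2
  have hswap := no_swap_of_odd a' (Nat.card A) hC.odd hpow
  have hinj := a'.injective
  -- a' fixes ρ z
  have haρz : a' (ρ z) = ρ z := by
    rcases (hU.memU (a' (ρ z))).mp (hU.ainv a' ha' _ hρzU) with h | h | h | h
    · exact absurd ((map_eq_one_iff a' a'.injective).mp h) d2
    · exact absurd (hinj (h.trans haz.symm)) d4
    · exact h
    · rcases (hU.memU (a' (ρ (ρ z)))).mp (hU.ainv a' ha' _ hρρzU) with h' | h' | h' | h'
      · exact absurd ((map_eq_one_iff a' a'.injective).mp h') d3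
      · exact absurd (hinj (h'.trans haz.symm)) d5
      · exact absurd (hswap (ρ z) (ρ (ρ z)) h h').symm d6
      · exact absurd (hinj (h'.trans h.symm)) d6
  have haρρz : a' (ρ (ρ z)) = ρ (ρ z) := by
    rcases (hU.memU (a' (ρ (ρ z)))).mp (hU.ainv a' ha' _ hρρzU) with h | h | h | h
    · exact absurd ((map_eq_one_iff a' a'.injective).mp h) d3
    · exact absurd (hinj (h.trans haz.symm)) d5
    · exact absurd (hinj (h.trans haρz.symm)) d6
    · exact h
  have hfixU : ∀ u ∈ U, a' u = u := by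
    intro u hu
    rcases (hU.memU u).mp hu with rfl | rfl | rfl | rfl
    · exact map_one a'
    · exact haz
    · exact haρz
    · exact haρρz
  have hfixB : ∀ b ∈ B, a' b = b :=
    Cfsg.Agent.Lib.H8.NGP.odd_aut_trivial hC.pg a' (Nat.card A) hC.odd hpow B hB.homo.ab
      (fun b hb => hB.ainv a' ha' b hb) (fun b hb hbb => hfixU b (hB.invol b hb hbb))
  intro x
  have h1 : x⁻¹ * a' x ∈ B := twist_mem_of_fix hB.normal hB.cent a' hfixB x
  have h2 : a x = (ρ ^ i) (a' x) := by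
    rw [ha'def, MulAut.mul_apply, MulAut.apply_inv_self]
  have h3 : ((ρ ^ i) x)⁻¹ * a x = (ρ ^ i) (x⁻¹ * a' x) := by
    rw [h2, map_mul, map_inv]
  rw [h3]
  exact Cfsg.Agent.Lib.H2.NGP.pow_mem_of_inv (fun y hy => hB.ainv ρ hU.mem y hy) i _ h1

theorem top_of_rho_twist {A : Subgroup (MulAut X)} (hC : Ctx A) {ρ : MulAut X} {z : X}
    {U B : Subgroup X} {n : ℕ} (hU : USetup A ρ z U) (hB : BSetup A U B n)
    (N : Subgroup X) (hBN : B ≤ N) (hN : ∀ x : X, x⁻¹ * ρ x ∈ N) : N = ⊤ := by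
  apply Cfsg.Agent.Lib.H26.NGP.eq_top_of_twist_mem hC.gen N
  intro a ha x
  obtain ⟨i, hi⟩ := act_via_rho hC hU hB a ha
  have h : x⁻¹ * a x = (x⁻¹ * (ρ ^ i) x) * (((ρ ^ i) x)⁻¹ * a x) := by group
  rw [h]
  exact N.mul_mem (pow_twist_mem N hN i x) (hBN (hi x))

theorem rho_cube_mod {A : Subgroup (MulAut X)} (hC : Ctx A) {ρ : MulAut X} {z : X}
    {U B : Subgroup X} {n : ℕ} (hU : USetup A ρ z U) (hB : BSetup A U B n) :
    ∀ x : X, x⁻¹ * ρ (ρ (ρ x)) ∈ B := by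
  have hk := (Cfsg.Agent.Lib.H2.NGP.key hC.pg hU B hB.UB (fun y hy => hB.ainv ρ hU.mem y hy)
    hB.invol).1
  intro x
  have h := twist_mem_of_fix hB.normal hB.cent (ρ * ρ * ρ)
    (fun b hb => by rw [MulAut.mul_apply, MulAut.mul_apply]; exact hk b hb) x
  rw [MulAut.mul_apply, MulAut.mul_apply] at h
  exact h

end Cfsg.Agent.Lib.H9.NGP
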