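import Mathlib
import Cfsg.Prelude.Def_SolvableStructure
import Cfsg.Agent.Lib.H3.Supersolvable
import Cfsg.Agent.Lib.H3.Supersolvable3
import Cfsg.Agent.Lib.H3.Supersolvable4
import Cfsg.Agent.Lib.H8.PGroup
import Cfsg.Agent.S0660

/-!
# Huppert's theorem: all maximal subgroups of prime index implies supersolvable

Helper lemmas and the main induction.
-/

set_option autoImplicit false

namespace Cfsg.Agent.Lib.H9.Huppert

open Cfsg.Agent.Lib Cfsg.Agent.Lib.H3
open scoped Pointwise

theorem ssReach_inf_normal {G : Type*} [Group G] {K : Subgroup G} (h : SSReach K)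
    (A : Subgroup G) [hA : A.Normal] : SSReach (K ⊓ A) := by
  induction h with
  | bot => rw [bot_inf_eq]; exact SSReach.bot
  | step K g hK hn ih =>
    have hKn := hK.normal
    obtain ⟨u, hu, -, he⟩ := exists_inf_sup_zpowers K g A
    rw [he]
    apply SSReach.step _ u ih
    rw [← he]
    infer_instance

/-- a nontrivial normal subgroup of a supersolvable group contains a nontrivial cyclic normal
subgroup of the whole group. -/
theorem exists_normal_zpowers_le {G : Type*} [Group G] (hss : SSReach (⊤ : Subgroup G))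
    (A : Subgroup G) [hA : A.Normal] (hAne : A ≠ ⊥) :
    ∃ c : G, c ≠ 1 ∧ (Subgroup.zpowers c).Normal ∧ Subgroup.zpowers c ≤ A := by
  have h1 := ssReach_inf_normal hss A
  rw [top_inf_eq] at h1
  exact h1.exists_normal_zpowers hAne

/-- A normal subgroup of order `p` in a finite `p`-group is central. -/
theorem central_of_normal_card_prime' {p : ℕ} [hp : Fact p.Prime] {G : Type*} [Group G] [Finite G]
    (hG : IsPGroup p G) (N : Subgroup G) [N.Normal]
    (hN : Nat.card N = p) : ∀ g ∈ N, ∀ s : G, s * g = g * s := by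
  have hNne : N ≠ ⊥ := by
    intro h
    rw [h, Subgroup.card_bot] at hN
    exact hp.out.one_lt.ne hN
  obtain ⟨y, hyN, hyc, hy1⟩ := H8.exists_central_mem_of_normal hG N hNne
  intro g hg s
  have hmem := mem_zpowers_of_prime_card hN (g := (⟨y, hyN⟩ : N)) (g' := ⟨g, hg⟩)
    (fun e1 => hy1 (by simpa using congrArg Subtype.val e1))
  obtain ⟨j, hj⟩ := Subgroup.mem_zpowers_iff.mp hmem
  have hj' : y ^ j = g := by simpa using congrArg Subtype.val hj
  rw [← hj']
  rw [Subgroup.mem_center_iff] at hyc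
  exact ((show Commute s y from hyc s).zpow_right j).eq

/-- a `p`-element centralizes a normal subgroup of order `p`. -/
theorem commute_of_normal_zpowers_prime {p : ℕ} [hp : Fact p.Prime] {G : Type*} [Group G]
    [Finite G] {c u : G} (hc : orderOf c = p) (hn : (Subgroup.zpowers c).Normal)
    (hu : ∃ k : ℕ, u ^ (p ^ k) = 1) : u * c = c * u := by
  have h1 : IsPGroup p (Subgroup.zpowers c) := by
    apply IsPGroup.of_card (n := 1)
    rw [Nat.card_zpowers, hc, pow_one]
  have h2 : IsPGroup p (Subgroup.zpowers u) := by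
    obtain ⟨k, hk⟩ := hu
    obtain ⟨j, -, hj⟩ := (Nat.dvd_prime_pow hp.out).mp (orderOf_dvd_of_pow_eq_one hk)
    apply IsPGroup.of_card (n := j)
    rw [Nat.card_zpowers, hj]
  have hK : IsPGroup p ↥(Subgroup.zpowers c ⊔ Subgroup.zpowers u) :=
    IsPGroup.to_sup_of_normal_left h1 h2
  have hcK : c ∈ Subgroup.zpowers c ⊔ Subgroup.zpowers u :=
    (le_sup_left : Subgroup.zpowers c ≤ _) (Subgroup.mem_zpowers c)
  have huK : u ∈ Subgroup.zpowers c ⊔ Subgroup.zpowers u :=
    (le_sup_right : Subgroup.zpowers u ≤ _) (Subgroup.mem_zpowers u)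
  have hcard : Nat.card ((Subgroup.zpowers c).subgroupOf (Subgroup.zpowers c ⊔ Subgroup.zpowers u))
      = p := by
    rw [Nat.card_congr (Subgroup.subgroupOfEquivOfLe le_sup_left).toEquiv, Nat.card_zpowers, hc]
  have := central_of_normal_card_prime' hK
    ((Subgroup.zpowers c).subgroupOf (Subgroup.zpowers c ⊔ Subgroup.zpowers u)) hcard
    ⟨c, hcK⟩ (by rw [Subgroup.mem_subgroupOf]; exact Subgroup.mem_zpowers c) ⟨u, huK⟩
  exact congrArg Subtype.val this

theorem index_modEq_one_of_normalizer_le {G : Type*} [Group G] [Finite G] {p : ℕ}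
    [Fact p.Prime] (P : Sylow p G) (M : Subgroup G)
    (hM : Subgroup.normalizer ((P : Subgroup G) : Set G) ≤ M) : M.index ≡ 1 [MOD p] := by
  have hPM : (P : Subgroup G) ≤ M := Subgroup.le_normalizer.trans hM
  have h1 : (Subgroup.normalizer ((P : Subgroup G) : Set G)).index ≡ 1 [MOD p] := by
    have := card_sylow_modEq_one p G
    rw [Sylow.card_eq_index_normalizer P] at this
    exact this
  have h2 : (Subgroup.normalizer ((P : Subgroup G) : Set G)).relIndex M ≡ 1 [MOD p] := by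
    have := card_sylow_modEq_one p M
    rw [Sylow.card_eq_index_normalizer (P.subtype hPM)] at this
    rw [Subgroup.relIndex, Subgroup.subgroupOf_normalizer_eq hPM]
    exact this
  have h4 : (Subgroup.normalizer ((P : Subgroup G) : Set G)).relIndex M * M.index =
      (Subgroup.normalizer ((P : Subgroup G) : Set G)).index := Subgroup.relIndex_mul_index hM
  have h5 : 1 * M.index ≡ 1 [MOD p] := by
    have := (h2.symm.mul_right M.index)
    exact this.trans (h4 ▸ h1)
  simpa using h5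

theorem coatom_index_prime_quotient {G : Type*} [Group G]
    (h : ∀ M : Subgroup G, IsCoatom M → M.index.Prime) (K : Subgroup G) [K.Normal] :
    ∀ M : Subgroup (G ⧸ K), IsCoatom M → M.index.Prime := by
  intro M hM
  have h1 := Subgroup.isCoatom_comap_of_surjective (QuotientGroup.mk'_surjective K) hM
  have h2 := h _ h1
  rwa [Subgroup.index_comap_of_surjective _ (QuotientGroup.mk'_surjective K)] at h2

theorem exists_normal_sylow_largest {G : Type*} [Group G] [Finite G] [Nontrivial G]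
    (h : ∀ M : Subgroup G, IsCoatom M → M.index.Prime) :
    ∃ (p : ℕ) (_ : p.Prime) (P : Subgroup G), P.Normal ∧ IsPGroup p P ∧
      (Nat.card P).Coprime P.index ∧ P ≠ ⊥ := by
  have hcard : 1 < Nat.card G := Finite.one_lt_card
  have hne : (Nat.card G).primeFactors.Nonempty := Nat.nonempty_primeFactors.mpr hcard
  obtain ⟨p, hpmem, hmax⟩ : ∃ p, p ∈ (Nat.card G).primeFactors ∧
      ∀ q ∈ (Nat.card G).primeFactors, q ≤ p :=
    ⟨_, Finset.max'_mem _ hne, fun q hq => Finset.le_max' _ q hq⟩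
  rw [Nat.mem_primeFactors] at hpmem
  have hfact : Fact p.Prime := ⟨hpmem.1⟩
  obtain ⟨P⟩ : Nonempty (Sylow p G) := inferInstance
  refine ⟨p, hpmem.1, (P : Subgroup G), ?_, P.isPGroup', P.card_coprime_index,
    P.ne_bot_of_dvd_card hpmem.2.1⟩
  by_contra hPn
  have hN : Subgroup.normalizer ((P : Subgroup G) : Set G) ≠ ⊤ :=
    fun e => hPn (Subgroup.normalizer_eq_top_iff.mp e)
  obtain ⟨M, hM, hle⟩ := (eq_top_or_exists_le_coatom _).resolve_left hN
  have hq := h M hM
  have hmod := index_modEq_one_of_normalizer_le P M hle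
  have hqdvd : M.index ∣ Nat.card G := Subgroup.index_dvd_card M
  have hqle : M.index ≤ p := hmax _ (Nat.mem_primeFactors.mpr ⟨hq, hqdvd, hpmem.2.2⟩)
  have h1 : 1 < M.index := hq.one_lt
  have h2 : M.index % p = 1 % p := hmod
  rw [Nat.mod_eq_of_lt (hpmem.1.one_lt)] at h2
  rcases hqle.lt_or_eq with hlt | heq
  · rw [Nat.mod_eq_of_lt hlt] at h2; omega
  · rw [heq, Nat.mod_self] at h2; omega

/-- `N` is minimal among the nontrivial normal subgroups of `G` contained in `P`. -/
def MinNormalIn {G : Type*} [Group G] (P N : Subgroup G) : Prop :=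
  Minimal (fun K : Subgroup G => K.Normal ∧ K ≠ ⊥ ∧ K ≤ P) N

theorem MinNormalIn.central {G : Type*} [Group G] [Finite G] {p : ℕ} [Fact p.Prime]
    {P N : Subgroup G} (hPn : P.Normal) (hPp : IsPGroup p P) (hN : MinNormalIn P N) :
    ∀ n ∈ N, ∀ u ∈ P, u * n = n * u := by
  obtain ⟨hNn, hNne, hNP⟩ := hN.prop
  have hKn : (N ⊓ Subgroup.centralizer (P : Set G)).Normal := inferInstance
  have hsub : N.subgroupOf P ≠ ⊥ := by
    intro e
    rw [Subgroup.subgroupOf_eq_bot, disjoint_iff, inf_eq_left.mpr hNP] at e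
    exact hNne e
  obtain ⟨z, hzN, hzc, hz1⟩ := H8.exists_central_mem_of_normal hPp (N.subgroupOf P) hsub
  have hKne : N ⊓ Subgroup.centralizer (P : Set G) ≠ ⊥ := by
    intro e
    apply hz1
    have hz : (z : G) ∈ N ⊓ Subgroup.centralizer (P : Set G) := by
      rw [Subgroup.mem_inf]
      refine ⟨Subgroup.mem_subgroupOf.mp hzN, ?_⟩
      rw [Subgroup.mem_centralizer_iff]
      intro u hu
      rw [Subgroup.mem_center_iff] at hzc
      exact congrArg Subtype.val (hzc ⟨u, hu⟩)
    rw [e, Subgroup.mem_bot] at hz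
    exact Subtype.ext hz
  have hle := hN.le_of_le ⟨hKn, hKne, inf_le_left.trans hNP⟩ inf_le_left
  intro n hn u hu
  have := (Subgroup.mem_inf.mp (hle hn)).2
  rw [Subgroup.mem_centralizer_iff] at this
  exact this u hu

theorem MinNormalIn.pow_eq_one {G : Type*} [Group G] [Finite G] {p : ℕ} [hp : Fact p.Prime]
    {P N : Subgroup G} (hPn : P.Normal) (hPp : IsPGroup p P) (hN : MinNormalIn P N) :
    ∀ n ∈ N, n ^ p = 1 := by
  obtain ⟨hNn, hNne, hNP⟩ := hN.prop
  have hcen := hN.central hPn hPp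
  let K : Subgroup G :=
    { carrier := {n | n ∈ N ∧ n ^ p = 1}
      mul_mem' := by
        rintro a b ⟨ha, hap⟩ ⟨hb, hbp⟩
        refine ⟨N.mul_mem ha hb, ?_⟩
        have hc : Commute a b := hcen b hb a (hNP ha)
        rw [hc.mul_pow, hap, hbp, one_mul]
      one_mem' := ⟨N.one_mem, one_pow p⟩
      inv_mem' := by
        rintro a ⟨ha, hap⟩
        exact ⟨N.inv_mem ha, by rw [inv_pow, hap, inv_one]⟩ }
  have hKmem : ∀ n, n ∈ K ↔ n ∈ N ∧ n ^ p = 1 := fun n => Iff.rfl
  have hKn : K.Normal := by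
    constructor
    intro n hn g
    rw [hKmem] at hn ⊢
    refine ⟨hNn.conj_mem n hn.1 g, ?_⟩
    rw [conj_pow, hn.2]; group
  have hKle : K ≤ N := fun n hn => ((hKmem n).mp hn).1
  have hKne : K ≠ ⊥ := by
    have hNp : IsPGroup p N := hPp.to_le hNP
    have hnt : Nontrivial N := (Subgroup.nontrivial_iff_ne_bot N).mpr hNne
    obtain ⟨k, hk0, hk⟩ := hNp.nontrivial_iff_card.mp hnt
    have hdvd : p ∣ Nat.card N := hk.symm ▸ dvd_pow_self _ (ne_of_gt hk0)
    obtain ⟨x, hx⟩ := exists_prime_orderOf_dvd_card' p hdvd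
    intro e
    have hxK : (x : G) ∈ K := by
      rw [hKmem]
      refine ⟨x.2, ?_⟩
      have : x ^ p = 1 := by rw [← hx]; exact pow_orderOf_eq_one x
      simpa using congrArg Subtype.val this
    rw [e, Subgroup.mem_bot] at hxK
    have hx1 : x = 1 := Subtype.ext hxK
    rw [hx1, orderOf_one] at hx
    exact hp.out.one_lt.ne hx
  have hle := hN.le_of_le ⟨hKn, hKne, hKle.trans hNP⟩ hKle
  intro n hn
  exact ((hKmem n).mp (hle hn)).2

theorem MinNormalIn.le_coatom {G : Type*} [Group G] [Finite G] {p : ℕ} [hp : Fact p.Prime]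
    {P N : Subgroup G} (hPn : P.Normal) (hPp : IsPGroup p P) (hN : MinNormalIn P N)
    (h : ∀ M : Subgroup G, IsCoatom M → M.index.Prime)
    (hNC : ∀ c : G, c ≠ 1 → ¬ (Subgroup.zpowers c).Normal) :
    ∀ M : Subgroup G, IsCoatom M → N ≤ M := by
  obtain ⟨hNn, hNne, hNP⟩ := hN.prop
  have hcen := hN.central hPn hPp
  intro M hM
  by_contra hNM
  have hsup : N ⊔ M = ⊤ := by
    apply hM.2
    apply lt_of_le_of_ne le_sup_right
    intro e
    apply hNM
    rw [e]
    exact le_sup_left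
  have hmul : (N : Set G) * (M : Set G) = Set.univ := by
    rw [← Subgroup.normal_mul, hsup, Subgroup.coe_top]
  have hKn : (N ⊓ M).Normal := by
    constructor
    intro k hk g
    have hg : g ∈ (N : Set G) * (M : Set G) := by rw [hmul]; trivial
    obtain ⟨n, hn, m, hm, rfl⟩ := Set.mem_mul.mp hg
    have h1 : m * k * m⁻¹ ∈ N ⊓ M :=
      ⟨hNn.conj_mem k hk.1 m, M.mul_mem (M.mul_mem hm hk.2) (M.inv_mem hm)⟩
    have h2 : n * (m * k * m⁻¹) = (m * k * m⁻¹) * n := hcen _ h1.1 n (hNP hn)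
    have : n * m * k * (n * m)⁻¹ = m * k * m⁻¹ := by
      calc n * m * k * (n * m)⁻¹ = (n * (m * k * m⁻¹)) * n⁻¹ := by group
        _ = ((m * k * m⁻¹) * n) * n⁻¹ := by rw [h2]
        _ = _ := by group
    rw [this]; exact h1
  have hKbot : N ⊓ M = ⊥ := by
    by_contra hne
    have := hN.le_of_le ⟨hKn, hne, inf_le_left.trans hNP⟩ inf_le_left
    exact hNM (this.trans inf_le_right)
  have hcompl : Subgroup.IsComplement' N M :=
    Subgroup.isComplement'_of_disjoint_and_mul_eq_univ (disjoint_iff.mpr hKbot) hmul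
  have hcard : Nat.card N = M.index := hcompl.index_eq_card.symm
  have hprime : Fact (Nat.card N).Prime := ⟨hcard ▸ h M hM⟩
  have hcyc : IsCyclic N := isCyclic_of_prime_card rfl
  obtain ⟨g, hg⟩ := (Subgroup.isCyclic_iff_exists_zpowers_eq_top N).mp hcyc
  apply hNC g
  · rintro rfl
    apply hNne
    rw [← hg, Subgroup.zpowers_one_eq_bot]
  · rw [hg]; exact hNn

theorem conj_pow_comm_left {G : Type*} [Group G] {b x : G}
    (hb : Commute b (b * x * b⁻¹ * x⁻¹)) (j : ℕ) :
    b ^ j * x * (b ^ j)⁻¹ * x⁻¹ = (b * x * b⁻¹ * x⁻¹) ^ j := by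
  induction j with
  | zero => simp
  | succ j ih =>
    calc b ^ (j + 1) * x * (b ^ (j + 1))⁻¹ * x⁻¹
        = b * (b ^ j * x * (b ^ j)⁻¹ * x⁻¹) * x * b⁻¹ * x⁻¹ := by rw [pow_succ']; group
      _ = b * (b * x * b⁻¹ * x⁻¹) ^ j * x * b⁻¹ * x⁻¹ := by rw [ih]
      _ = (b * x * b⁻¹ * x⁻¹) ^ j * b * x * b⁻¹ * x⁻¹ := by rw [(hb.pow_right j).eq]
      _ = _ := by rw [pow_succ]; group

theorem conj_pow_comm_right {G : Type*} [Group G] {b x : G}
    (hx : Commute (b * x * b⁻¹ * x⁻¹) x) (i : ℕ) :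
    b * x ^ i * b⁻¹ * (x ^ i)⁻¹ = (b * x * b⁻¹ * x⁻¹) ^ i := by
  have h1 : b * x ^ i * b⁻¹ = (b * x * b⁻¹ * x⁻¹) ^ i * x ^ i := by
    rw [← hx.mul_pow, ← conj_pow]
    congr 1
    group
  rw [h1, mul_inv_cancel_right]

/-- membership in the preimage of a cyclic subgroup of a quotient, with natural exponents. -/
theorem mem_comap_zpowers_iff {G : Type*} [Group G] [Finite G] (N : Subgroup G) [N.Normal]
    (x l : G) :
    l ∈ (Subgroup.zpowers (QuotientGroup.mk' N x)).comap (QuotientGroup.mk' N) ↔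
      ∃ n ∈ N, ∃ i : ℕ, l = n * x ^ i := by
  rw [Subgroup.mem_comap, ← (isOfFinOrder_of_finite (QuotientGroup.mk' N x)).mem_powers_iff_mem_zpowers,
    Submonoid.mem_powers_iff]
  constructor
  · rintro ⟨i, hi⟩
    refine ⟨l * (x ^ i)⁻¹, ?_, i, by group⟩
    rw [← QuotientGroup.eq_one_iff]
    show QuotientGroup.mk' N (l * (x ^ i)⁻¹) = 1
    rw [map_mul, map_inv, map_pow, hi, mul_inv_cancel]
  · rintro ⟨n, hn, i, rfl⟩
    refine ⟨i, ?_⟩
    have : QuotientGroup.mk' N n = 1 := (QuotientGroup.eq_one_iff n).mpr hn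
    rw [map_mul, map_pow, this, one_mul]

open scoped commutatorElement

theorem core {G : Type*} [Group G] [Finite G] [Nontrivial G]
    (h : ∀ M : Subgroup G, IsCoatom M → M.index.Prime)
    (IH : ∀ K : Subgroup G, ∀ _ : K.Normal, K ≠ ⊥ → SSReach (⊤ : Subgroup (G ⧸ K))) :
    ∃ c : G, c ≠ 1 ∧ (Subgroup.zpowers c).Normal := by
  by_contra hNC
  push Not at hNC
  obtain ⟨p, hpp, P, hPn, hPp, hPcop, hPne⟩ := exists_normal_sylow_largest h
  have hfact : Fact p.Prime := ⟨hpp⟩
  obtain ⟨N, -, hNmin⟩ := exists_minimal_le_of_wellFoundedLT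
    (fun K : Subgroup G => K.Normal ∧ K ≠ ⊥ ∧ K ≤ P) P ⟨hPn, hPne, le_rfl⟩
  have hN : MinNormalIn P N := hNmin
  obtain ⟨hNn, hNne, hNP⟩ := hN.prop
  have hcen := hN.central hPn hPp
  have hexp := hN.pow_eq_one hPn hPp
  have hfrat := hN.le_coatom hPn hPp h hNC
  -- `P ≠ N`
  have hPN : ¬ P ≤ N := by
    intro hle
    have hPeq : P = N := le_antisymm hle hNP
    obtain ⟨H, hH⟩ := Subgroup.exists_right_complement'_of_coprime hPcop
    have hHtop : H ≠ ⊤ := by
      intro e
      have hd := hH.disjoint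
      rw [e, disjoint_top] at hd
      exact hPne hd
    obtain ⟨M, hM, hHM⟩ := (eq_top_or_exists_le_coatom H).resolve_left hHtop
    have hNM := hfrat M hM
    apply hM.1
    rw [eq_top_iff, ← hH.sup_eq_top]
    exact sup_le (hPeq ▸ hNM) hHM
  -- the quotient by `N`
  have hss := IH N hNn hNne
  have hA : (P.map (QuotientGroup.mk' N)).Normal := hPn.map _ (QuotientGroup.mk'_surjective N)
  have hAne : P.map (QuotientGroup.mk' N) ≠ ⊥ := by
    intro e
    apply hPN
    rw [Subgroup.map_eq_bot_iff, QuotientGroup.ker_mk'] at e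
    exact e
  obtain ⟨cb, hcb1, hcbn, hcbA⟩ := exists_normal_zpowers_le hss _ hAne
  obtain ⟨x, hxP, hxc⟩ := Subgroup.mem_map.mp (hcbA (Subgroup.mem_zpowers cb))
  subst hxc
  have hxN : x ∉ N := fun hx => hcb1 ((QuotientGroup.eq_one_iff x).mpr hx)
  have hLn : ((Subgroup.zpowers (QuotientGroup.mk' N x)).comap (QuotientGroup.mk' N)).Normal :=
    hcbn.comap _
  have hLmem := mem_comap_zpowers_iff N x
  generalize hL : (Subgroup.zpowers (QuotientGroup.mk' N x)).comap (QuotientGroup.mk' N) = L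
    at hLn hLmem
  have hxn : ∀ n ∈ N, x * n = n * x := fun n hn => hcen n hn x hxP
  have hNL : N ≤ L := fun n hn => (hLmem n).mpr ⟨n, hn, 0, by simp⟩
  have hxL : x ∈ L := (hLmem x).mpr ⟨1, N.one_mem, 1, by simp⟩
  have hLP : L ≤ P := by
    intro l hl
    obtain ⟨n, hn, i, rfl⟩ := (hLmem l).mp hl
    exact P.mul_mem (hNP hn) (P.pow_mem hxP i)
  -- `x ^ p = 1`
  have hxp : x ^ p = 1 := by
    by_contra hne
    apply hNC (x ^ p) hne
    constructor
    intro y hy g
    obtain ⟨j, rfl⟩ := Subgroup.mem_zpowers_iff.mp hy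
    obtain ⟨n, hn, i, hi⟩ := (hLmem _).mp (hLn.conj_mem x hxL g)
    have e1 : g * (x ^ p) ^ j * g⁻¹ = ((g * x * g⁻¹) ^ p) ^ j := by
      rw [conj_pow, conj_zpow]
    rw [e1, hi]
    have hc : Commute n (x ^ i) := (show Commute n x from (hxn n hn).symm).pow_right i
    rw [hc.mul_pow, hexp n hn, one_mul]
    have e2 : (x ^ i) ^ p = (x ^ p) ^ i := by rw [← pow_mul, ← pow_mul, mul_comm]
    rw [e2]
    exact Subgroup.zpow_mem _ (Subgroup.pow_mem _ (Subgroup.mem_zpowers _) i) j
  have hx1 : x ≠ 1 := fun e => hxN (e ▸ N.one_mem)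
  have hxord : orderOf x = p := orderOf_eq_prime hxp hx1
  by_cases hxc : ∀ u ∈ P, u * x = x * u
  · -- Maschke case
    obtain ⟨H, hH⟩ := Subgroup.exists_right_complement'_of_coprime hPcop
    have hPL : ∀ u ∈ P, ∀ l ∈ L, u * l = l * u := by
      intro u hu l hl
      obtain ⟨n, hn, i, rfl⟩ := (hLmem l).mp hl
      have c1 : Commute u n := hcen n hn u hu
      have c2 : Commute u x := hxc u hu
      exact (c1.mul_right (c2.pow_right i)).eq
    have hLcomm : IsMulCommutative L :=
      ⟨⟨fun a b => Subtype.ext (hPL a (hLP a.2) b b.2)⟩⟩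
    have hHL : H ≤ Subgroup.normalizer (L : Set G) := by
      rw [Subgroup.normalizer_eq_top_iff.mpr hLn]; exact le_top
    have hHN : H ≤ Subgroup.normalizer (N : Set G) := by
      rw [Subgroup.normalizer_eq_top_iff.mpr hNn]; exact le_top
    have hcop : (Nat.card H).Coprime (Nat.card L) := by
      have h1 : Nat.card H = P.index := hH.symm.index_eq_card.symm
      rw [h1]
      exact (Nat.Coprime.coprime_dvd_left (Subgroup.card_dvd_of_le hLP) hPcop).symm
    have hUW : N ⊓ Subgroup.zpowers x = ⊥ := by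
      rw [eq_bot_iff]
      intro y hy
      rw [Subgroup.mem_bot]
      by_contra hy1
      obtain ⟨hyN, hyx⟩ := Subgroup.mem_inf.mp hy
      have hcardx : Nat.card (Subgroup.zpowers x) = p := by rw [Nat.card_zpowers, hxord]
      have := mem_zpowers_of_prime_card hcardx (g := ⟨y, hyx⟩)
        (g' := ⟨x, Subgroup.mem_zpowers x⟩) (fun e => hy1 (by simpa using congrArg Subtype.val e))
      obtain ⟨k, hk⟩ := Subgroup.mem_zpowers_iff.mp this
      have hk' : y ^ k = x := by simpa using congrArg Subtype.val hk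
      exact hxN (hk' ▸ N.zpow_mem hyN k)
    have hUWV : N ⊔ Subgroup.zpowers x = L := by
      apply le_antisymm (sup_le hNL (Subgroup.zpowers_le.mpr hxL))
      intro l hl
      obtain ⟨n, hn, i, rfl⟩ := (hLmem l).mp hl
      exact Subgroup.mul_mem _ ((le_sup_left : N ≤ _) hn)
        ((le_sup_right : Subgroup.zpowers x ≤ _) (Subgroup.pow_mem _ (Subgroup.mem_zpowers x) i))
    obtain ⟨W', hW'L, hHW', hNW', hNW'L⟩ := Cfsg.Agent.S0660.result L H N hLcomm hHL hcop hNL hHN
      (Subgroup.zpowers x) (Subgroup.zpowers_le.mpr hxL) hUW hUWV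
    have hW'n : W'.Normal := by
      rw [← Subgroup.normalizer_eq_top_iff, eq_top_iff, ← hH.sup_eq_top]
      refine sup_le ?_ hHW'
      refine le_trans ?_ (Subgroup.centralizer_le_normalizer (s := (W' : Set G)))
      intro u hu
      rw [Subgroup.mem_centralizer_iff]
      intro w hw
      exact (hPL u hu w (hW'L hw)).symm
    have hcardW : Nat.card W' = p := by
      have h1 : N.relIndex (N ⊔ W') = Nat.card W' := by
        rw [Subgroup.relIndex_sup_left, ← Subgroup.inf_relIndex_right, hNW',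
          Subgroup.relIndex_bot_left]
      have h2 : N.relIndex (N ⊔ Subgroup.zpowers x) = Nat.card (Subgroup.zpowers x) := by
        rw [Subgroup.relIndex_sup_left, ← Subgroup.inf_relIndex_right, hUW,
          Subgroup.relIndex_bot_left]
      rw [hNW'L] at h1
      rw [hUWV] at h2
      rw [← h1, h2, Nat.card_zpowers, hxord]
    have hcyc : IsCyclic W' := isCyclic_of_prime_card hcardW
    obtain ⟨g, hg⟩ := (Subgroup.isCyclic_iff_exists_zpowers_eq_top W').mp hcyc
    apply hNC g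
    · rintro rfl
      rw [Subgroup.zpowers_one_eq_bot] at hg
      rw [← hg, Subgroup.card_bot] at hcardW
      exact hpp.one_lt.ne hcardW
    · rw [hg]; exact hW'n
  · -- non-central case
    push Not at hxc
    obtain ⟨u₀, hu₀P, hu₀⟩ := hxc
    have hcbord : orderOf (QuotientGroup.mk' N x) = p := by
      apply orderOf_eq_prime
      · rw [← map_pow, hxp, map_one]
      · exact hcb1
    have hcommN : ∀ u ∈ P, u * x * u⁻¹ * x⁻¹ ∈ N := by
      intro u hu
      have hupow : ∃ k : ℕ, (QuotientGroup.mk' N u) ^ (p ^ k) = 1 := by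
        obtain ⟨k, hk⟩ := hPp ⟨u, hu⟩
        refine ⟨k, ?_⟩
        rw [← map_pow]
        have : u ^ (p ^ k) = 1 := by simpa using congrArg Subtype.val hk
        rw [this, map_one]
      have hcm := commute_of_normal_zpowers_prime hcbord hcbn hupow
      rw [← QuotientGroup.eq_one_iff]
      show QuotientGroup.mk' N (u * x * u⁻¹ * x⁻¹) = 1
      rw [map_mul, map_mul, map_mul, map_inv, map_inv, hcm]
      group
    have hC1n : (P ⊓ Subgroup.centralizer (L : Set G)).Normal := inferInstance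
    have hC1mem : ∀ u ∈ P, (u ∈ P ⊓ Subgroup.centralizer (L : Set G) ↔ u * x = x * u) := by
      intro u hu
      rw [Subgroup.mem_inf, Subgroup.mem_centralizer_iff]
      constructor
      · intro hh
        exact (hh.2 x hxL).symm
      · intro hux
        refine ⟨hu, ?_⟩
        intro l hl
        obtain ⟨n, hn, i, rfl⟩ := (hLmem l).mp hl
        have c1 : Commute u n := hcen n hn u hu
        have c2 : Commute u x := hux
        exact ((c1.mul_right (c2.pow_right i)).eq).symm
    have hNC1 : N ≤ P ⊓ Subgroup.centralizer (L : Set G) := by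
      intro n hn
      rw [hC1mem n (hNP hn)]
      exact (hxn n hn).symm
    have hC1ne : P ⊓ Subgroup.centralizer (L : Set G) ≠ ⊥ := by
      intro e
      apply hNne
      rw [eq_bot_iff, ← e]
      exact hNC1
    have hss1 := IH _ hC1n hC1ne
    have hA1 : (P.map (QuotientGroup.mk' (P ⊓ Subgroup.centralizer (L : Set G)))).Normal :=
      hPn.map _ (QuotientGroup.mk'_surjective _)
    have hA1ne : P.map (QuotientGroup.mk' (P ⊓ Subgroup.centralizer (L : Set G))) ≠ ⊥ := by
      intro e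
      rw [Subgroup.map_eq_bot_iff, QuotientGroup.ker_mk'] at e
      exact hu₀ ((hC1mem u₀ hu₀P).mp (e hu₀P))
    obtain ⟨bb, hbb1, hbbn, hbbA⟩ := exists_normal_zpowers_le hss1 _ hA1ne
    obtain ⟨b, hbP, hbb⟩ := Subgroup.mem_map.mp (hbbA (Subgroup.mem_zpowers bb))
    subst hbb
    have hbC : b ∉ P ⊓ Subgroup.centralizer (L : Set G) :=
      fun hb => hbb1 ((QuotientGroup.eq_one_iff b).mpr hb)
    have hbx : b * x ≠ x * b := fun e => hbC ((hC1mem b hbP).mpr e)
    have hBn : ((Subgroup.zpowers (QuotientGroup.mk' (P ⊓ Subgroup.centralizer (L : Set G)) b)).comap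
        (QuotientGroup.mk' (P ⊓ Subgroup.centralizer (L : Set G)))).Normal := hbbn.comap _
    have hBmem := mem_comap_zpowers_iff (P ⊓ Subgroup.centralizer (L : Set G)) b
    generalize hB : (Subgroup.zpowers (QuotientGroup.mk' (P ⊓ Subgroup.centralizer (L : Set G)) b)).comap
        (QuotientGroup.mk' (P ⊓ Subgroup.centralizer (L : Set G))) = B at hBn hBmem
    have hbB : b ∈ B := (hBmem b).mpr ⟨1, Subgroup.one_mem _, 1, by simp⟩
    have hw1 : b * x * b⁻¹ * x⁻¹ ≠ 1 := by
      intro e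
      apply hbx
      calc b * x = (b * x * b⁻¹ * x⁻¹) * x * b := by group
        _ = x * b := by rw [e, one_mul]
    have hwN := hcommN b hbP
    apply hNC _ hw1
    have hD : ⁅L, B⁆ = Subgroup.zpowers (b * x * b⁻¹ * x⁻¹) := by
      apply le_antisymm
      · rw [Subgroup.commutator_le]
        intro l hl b' hb'
        obtain ⟨n, hn, i, rfl⟩ := (hLmem l).mp hl
        obtain ⟨c1, hc1, j, rfl⟩ := (hBmem b').mp hb'
        have hc1P : c1 ∈ P := (Subgroup.mem_inf.mp hc1).1
        have hc1x : c1 * x = x * c1 := (hC1mem c1 hc1P).mp hc1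
        have hb'P : c1 * b ^ j ∈ P := P.mul_mem hc1P (P.pow_mem hbP j)
        -- ψ(b') = w ^ j
        have hwb : Commute b (b * x * b⁻¹ * x⁻¹) := hcen _ hwN b hbP
        have e1 := conj_pow_comm_left hwb j
        have e2 : (c1 * b ^ j) * x * (c1 * b ^ j)⁻¹ * x⁻¹ = (b * x * b⁻¹ * x⁻¹) ^ j := by
          have hc1w : c1 * (b * x * b⁻¹ * x⁻¹) ^ j = (b * x * b⁻¹ * x⁻¹) ^ j * c1 :=
            hcen _ (N.pow_mem hwN j) c1 hc1P
          calc (c1 * b ^ j) * x * (c1 * b ^ j)⁻¹ * x⁻¹
              = c1 * (b ^ j * x * (b ^ j)⁻¹ * x⁻¹) * x * c1⁻¹ * x⁻¹ := by group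
            _ = c1 * (b * x * b⁻¹ * x⁻¹) ^ j * x * c1⁻¹ * x⁻¹ := by rw [e1]
            _ = (b * x * b⁻¹ * x⁻¹) ^ j * (c1 * x) * c1⁻¹ * x⁻¹ := by rw [hc1w]; group
            _ = (b * x * b⁻¹ * x⁻¹) ^ j * (x * c1) * c1⁻¹ * x⁻¹ := by rw [hc1x]
            _ = _ := by group
        -- [b', l] = ψ(b') ^ i
        have hψN : (c1 * b ^ j) * x * (c1 * b ^ j)⁻¹ * x⁻¹ ∈ N := hcommN _ hb'P
        have hψx : Commute ((c1 * b ^ j) * x * (c1 * b ^ j)⁻¹ * x⁻¹) x := (hxn _ hψN).symm
        have e3 := conj_pow_comm_right hψx i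
        have hb'n : (c1 * b ^ j) * n = n * (c1 * b ^ j) := hcen n hn _ hb'P
        have hnψ : n * ((c1 * b ^ j) * x * (c1 * b ^ j)⁻¹ * x⁻¹) ^ i =
            ((c1 * b ^ j) * x * (c1 * b ^ j)⁻¹ * x⁻¹) ^ i * n :=
          hcen _ (N.pow_mem hψN i) n (hNP hn)
        have e4 : (c1 * b ^ j) * (n * x ^ i) * (c1 * b ^ j)⁻¹ * (n * x ^ i)⁻¹ =
            ((c1 * b ^ j) * x * (c1 * b ^ j)⁻¹ * x⁻¹) ^ i := by
          calc (c1 * b ^ j) * (n * x ^ i) * (c1 * b ^ j)⁻¹ * (n * x ^ i)⁻¹
              = ((c1 * b ^ j) * n) * (x ^ i * (c1 * b ^ j)⁻¹ * (x ^ i)⁻¹) * n⁻¹ := by group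
            _ = (n * (c1 * b ^ j)) * (x ^ i * (c1 * b ^ j)⁻¹ * (x ^ i)⁻¹) * n⁻¹ := by rw [hb'n]
            _ = n * ((c1 * b ^ j) * x ^ i * (c1 * b ^ j)⁻¹ * (x ^ i)⁻¹) * n⁻¹ := by group
            _ = n * ((c1 * b ^ j) * x * (c1 * b ^ j)⁻¹ * x⁻¹) ^ i * n⁻¹ := by rw [e3]
            _ = _ := by rw [hnψ]; group
        have e5 : ⁅n * x ^ i, c1 * b ^ j⁆ =
            ((c1 * b ^ j) * (n * x ^ i) * (c1 * b ^ j)⁻¹ * (n * x ^ i)⁻¹)⁻¹ := by
          rw [commutatorElement_def]; group
        rw [e5, e4, e2]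
        exact Subgroup.inv_mem _ (Subgroup.pow_mem _ (Subgroup.pow_mem _ (Subgroup.mem_zpowers _) j) i)
      · rw [Subgroup.zpowers_le, Subgroup.commutator_comm]
        have : b * x * b⁻¹ * x⁻¹ = ⁅b, x⁆ := by rw [commutatorElement_def]
        rw [this]
        exact Subgroup.commutator_mem_commutator hbB hxL
    rw [← hD]
    infer_instance


theorem huppert.{u} : ∀ (n : ℕ) (G : Type u) [Group G] [Finite G], Nat.card G = n →
    (∀ M : Subgroup G, IsCoatom M → M.index.Prime) → SSReach (⊤ : Subgroup G) := by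
  intro n
  induction n using Nat.strong_induction_on with
  | _ n ih =>
  intro G _ _ hcard h
  by_cases hsub : Subsingleton G
  · exact ssReach_top_of_subsingleton
  · have hnt : Nontrivial G := not_subsingleton_iff_nontrivial.mp hsub
    have IH : ∀ K : Subgroup G, ∀ _ : K.Normal, K ≠ ⊥ → SSReach (⊤ : Subgroup (G ⧸ K)) := by
      intro K hK hKne
      apply ih (Nat.card (G ⧸ K)) _ (G ⧸ K) rfl (coatom_index_prime_quotient h K)
      rw [← hcard, ← Subgroup.index_eq_card]
      have h1 := Subgroup.index_mul_card K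
      have h2 : 1 < Nat.card K := by
        have : Nontrivial K := (Subgroup.nontrivial_iff_ne_bot K).mpr hKne
        exact Finite.one_lt_card
      have h3 : 0 < K.index := Nat.pos_of_ne_zero (Subgroup.index_ne_zero_of_finite)
      nlinarith
    obtain ⟨c, hc1, hcn⟩ := core h IH
    exact ssReach_top_of_normal_zpowers c hcn
      (IH _ hcn (by rwa [Ne, Subgroup.zpowers_eq_bot]))

/-- **Huppert**: if all maximal subgroups have prime index then the group is supersolvable. -/
theorem isSupersolvable_of_coatom_index_prime {G : Type*} [Group G] [Finite G]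
    (h : ∀ M : Subgroup G, IsCoatom M → M.index.Prime) : Cfsg.IsSupersolvable G :=
  isSupersolvable_iff.mpr (huppert _ G rfl h)

end Cfsg.Agent.Lib.H9.Huppert
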