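import Mathlib
import Cfsg.Agent.Lib.H10.LocalGlobalGen

/-! Alperin's fusion theorem for tame Sylow intersections, with `p`-element factors (helper9).

Built on helper10's `alperin_step`. Conjugation is on the right: `a ↦ g⁻¹ a g` (`H10.rconj`). -/

set_option autoImplicit false

namespace Cfsg.Agent.Lib.H9

open Cfsg.Agent.Lib.H10

variable {G : Type*} [Group G]

/-- `P ∩ Q` is a tame intersection: `N_P(P ∩ Q)` and `N_Q(P ∩ Q)` are Sylow in `N_G(P ∩ Q)`. -/
def IsTame (p : ℕ) (P Q : Subgroup G) : Prop :=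
  ¬ p ∣ (P ⊓ Subgroup.normalizer ((P ⊓ Q : Subgroup G) : Set G)).relIndex
      (Subgroup.normalizer ((P ⊓ Q : Subgroup G) : Set G)) ∧
  ¬ p ∣ (Q ⊓ Subgroup.normalizer ((P ⊓ Q : Subgroup G) : Set G)).relIndex
      (Subgroup.normalizer ((P ⊓ Q : Subgroup G) : Set G))

/-- An elementary step of Alperin's theorem: `x` normalizes the tame intersection `T = P ∩ Q`, and `x`
is a `p`-element unless `Q = P`. -/
def TameStep (p : ℕ) (P : Sylow p G) (T : Subgroup G) (x : G) : Prop :=
  ∃ Q : Sylow p G, T = (P : Subgroup G) ⊓ (Q : Subgroup G) ∧ IsTame p (P : Subgroup G) (Q : Subgroup G) ∧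
    x ∈ Subgroup.normalizer (T : Set G) ∧ ((Q : Subgroup G) = (P : Subgroup G) ∨ ∃ k : ℕ, orderOf x = p ^ k)

theorem TameStep.inv {p : ℕ} {P : Sylow p G} {T : Subgroup G} {x : G} (h : TameStep p P T x) :
    TameStep p P T x⁻¹ := by
  obtain ⟨Q, hT, htame, hx, hp⟩ := h
  refine ⟨Q, hT, htame, inv_mem hx, ?_⟩
  rcases hp with hp | ⟨k, hk⟩
  · exact Or.inl hp
  · exact Or.inr ⟨k, by rw [orderOf_inv, hk]⟩

/-- The chain relation for tame intersections. -/
inductive TReach (p : ℕ) (P : Sylow p G) : Set G → G → Prop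
  | nil (A : Set G) : TReach p P A 1
  | cons (A : Set G) (T : Subgroup G) (x g : G) : TameStep p P T x →
      A ⊆ (T : Set G) → TReach p P (rconj x A) g → TReach p P A (x * g)

theorem TReach.single {p : ℕ} {P : Sylow p G} {A : Set G} {T : Subgroup G} {x : G}
    (hT : TameStep p P T x) (hA : A ⊆ (T : Set G)) : TReach p P A x := by
  have := TReach.cons A T x 1 hT hA (TReach.nil _)
  rwa [mul_one] at this

theorem TReach.restrict {p : ℕ} {P : Sylow p G} {A : Set G} {g : G} (h : TReach p P A g) :
    ∀ {B : Set G}, B ⊆ A → TReach p P B g := by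
  induction h with
  | nil A => intro B _; exact TReach.nil _
  | cons A T x g hT hA _ ih =>
    intro B hB
    exact TReach.cons B T x g hT (hB.trans hA) (ih (rconj_mono x hB))

theorem TReach.trans {p : ℕ} {P : Sylow p G} {A : Set G} {g : G} (h : TReach p P A g) :
    ∀ {k : G}, TReach p P (rconj g A) k → TReach p P A (g * k) := by
  induction h with
  | nil A => intro k hk; rwa [rconj_one, ← one_mul k] at hk
  | cons A T x g hT hA _ ih =>
    intro k hk
    rw [rconj_mul] at hk
    rw [mul_assoc]
    exact TReach.cons A T x (g * k) hT hA (ih hk)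

theorem TReach.symm {p : ℕ} {P : Sylow p G} {A : Set G} {g : G} (h : TReach p P A g) :
    TReach p P (rconj g A) g⁻¹ := by
  induction h with
  | nil A => rw [inv_one]; exact TReach.nil _
  | cons A T x g hT hA _ ih =>
    rw [rconj_mul, mul_inv_rev]
    refine TReach.trans ih ?_
    rw [rconj_inv_rconj]
    refine TReach.single hT.inv ?_
    obtain ⟨_, _, _, hx, _⟩ := hT
    calc rconj x A ⊆ rconj x (T : Set G) := rconj_mono x hA
      _ = (T : Set G) := rconj_coe_of_mem_normalizer hx

/-- Conversion of the chain relation to the indexed format of the statements. -/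
theorem TReach.exists_fin {p : ℕ} {P : Sylow p G} {A : Set G} {g : G} (h : TReach p P A g) :
    ∃ (n : ℕ) (Q : Fin n → Sylow p G) (x : Fin n → G), (List.ofFn x).prod = g ∧
      (∀ i : Fin n, x i ∈ Subgroup.normalizer ((((P : Subgroup G) ⊓ (Q i : Subgroup G)) : Subgroup G) : Set G) ∧
        IsTame p (P : Subgroup G) (Q i : Subgroup G) ∧
        ((Q i : Subgroup G) = (P : Subgroup G) ∨ ∃ k : ℕ, orderOf (x i) = p ^ k)) ∧
      (∀ h : 0 < n, A ⊆ (((P : Subgroup G) ⊓ (Q ⟨0, h⟩ : Subgroup G) : Subgroup G) : Set G)) ∧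
      ∀ (i : Fin n) (h : i.val + 1 < n),
        (fun a => (((List.ofFn x).take (i.val + 1)).prod)⁻¹ * a * ((List.ofFn x).take (i.val + 1)).prod) '' A ⊆
          (((P : Subgroup G) ⊓ (Q ⟨i.val + 1, h⟩ : Subgroup G) : Subgroup G) : Set G) := by
  induction h with
  | nil A =>
    exact ⟨0, Fin.elim0, Fin.elim0, by simp, fun i => i.elim0,
      fun h => absurd h (lt_irrefl 0), fun i => i.elim0⟩
  | cons A T0 x0 g hT hA _ ih =>
    obtain ⟨n, Q, x, hprod, hstepP, h0, hstep⟩ := ih
    obtain ⟨Q0, hT0, htame0, hx0, hp0⟩ := hT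
    refine ⟨n + 1, Fin.cons Q0 Q, Fin.cons x0 x, ?_, ?_, ?_, ?_⟩
    · rw [List.ofFn_succ]
      simp only [Fin.cons_zero, Fin.cons_succ, List.prod_cons]
      rw [hprod]
    · intro i
      refine Fin.cases ?_ (fun j => ?_) i
      · simp only [Fin.cons_zero]
        exact ⟨hT0 ▸ hx0, htame0, hp0⟩
      · simp only [Fin.cons_succ]
        exact hstepP j
    · intro _
      have : (Fin.cons Q0 Q : Fin (n + 1) → Sylow p G) ⟨0, by omega⟩ = Q0 := rfl
      rw [this, ← hT0]
      exact hA
    · intro i hi
      have hofn : List.ofFn (Fin.cons x0 x : Fin (n + 1) → G) = x0 :: List.ofFn x := by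
        rw [List.ofFn_succ]
        simp
      rw [hofn, List.take_succ_cons, List.prod_cons]
      have hlt : i.val < n := by omega
      have hT' : (Fin.cons Q0 Q : Fin (n + 1) → Sylow p G) ⟨i.val + 1, hi⟩ = Q ⟨i.val, hlt⟩ := by
        have : (⟨i.val + 1, hi⟩ : Fin (n + 1)) = Fin.succ ⟨i.val, hlt⟩ := rfl
        rw [this, Fin.cons_succ]
      rw [hT']
      have himg : (fun a => (x0 * ((List.ofFn x).take i.val).prod)⁻¹ * a *
          (x0 * ((List.ofFn x).take i.val).prod)) '' A =
          rconj (((List.ofFn x).take i.val).prod) (rconj x0 A) := by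
        rw [← rconj_mul]
        rfl
      rw [himg]
      rcases Nat.eq_zero_or_pos i.val with h0' | hpos
      · have : (⟨i.val, hlt⟩ : Fin n) = ⟨0, by omega⟩ := by
          apply Fin.ext; exact h0'
        rw [this, h0']
        simp only [List.take_zero, List.prod_nil, rconj_one]
        exact h0 (by omega)
      · obtain ⟨j, hj⟩ : ∃ j, i.val = j + 1 := ⟨i.val - 1, by omega⟩
        have hjn : j < n := by omega
        have := hstep ⟨j, hjn⟩ (by simpa [← hj] using hlt)
        have hfin : (⟨i.val, hlt⟩ : Fin n) = ⟨j + 1, by omega⟩ := by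
          apply Fin.ext; exact hj
        rw [hfin, hj]
        exact this

section main

variable [Finite G] {p : ℕ} [Fact p.Prime]

theorem isTame_self (P : Sylow p G) : IsTame p (P : Subgroup G) (P : Subgroup G) := by
  have h : ¬ p ∣ ((P : Subgroup G) ⊓ Subgroup.normalizer ((P : Subgroup G) : Set G)).relIndex
      (Subgroup.normalizer ((P : Subgroup G) : Set G)) := by
    rw [inf_eq_left.mpr Subgroup.le_normalizer]
    exact not_dvd_relIndex_of_sylow_le P Subgroup.le_normalizer
  unfold IsTame
  rw [inf_idem]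
  exact ⟨h, h⟩

theorem tameStep_of_mem_normalizer (P : Sylow p G) {x : G}
    (hx : x ∈ Subgroup.normalizer ((P : Subgroup G) : Set G)) : TameStep p P (P : Subgroup G) x :=
  ⟨P, (inf_idem _).symm, isTame_self P, hx, Or.inl rfl⟩

/-- The local step: for `U ≤ P` with `N_P(U)` Sylow in `N_G(U)`, every `x ∈ N_G(U)` is reached. -/
theorem treach_local (P : Sylow p G) (U : Subgroup G) (hU : U ∈ sylNormFamily p (P : Subgroup G))
    (hbig : ∀ Q' : Subgroup G, Q' ≤ (P : Subgroup G) → Nat.card U < Nat.card Q' → ∀ g' : G,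
      Q'.map (MulAut.conj g'⁻¹).toMonoidHom ≤ (P : Subgroup G) → TReach p P (Q' : Set G) g') :
    ∀ x ∈ Subgroup.normalizer (U : Set G), TReach p P (U : Set G) x := by
  intro x hx
  obtain ⟨hUP, hUi⟩ := hU
  by_cases hUeq : U = (P : Subgroup G)
  · subst hUeq
    exact TReach.single (tameStep_of_mem_normalizer P hx) le_rfl
  have hUlt : U < (P : Subgroup G) := lt_of_le_of_ne hUP hUeq
  have hxU : U.map (MulAut.conj x).toMonoidHom = U := mem_normalizer_iff_map_conj.mp hx
  -- `Q' = x P x⁻¹`
  set Q' : Sylow p G := x • P with hQ'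
  have hQ'coe : (Q' : Subgroup G) = (P : Subgroup G).map (MulAut.conj x).toMonoidHom :=
    coe_smul_sylow_eq_map P x
  have hUQ' : U ≤ (Q' : Subgroup G) := by
    rw [hQ'coe, ← hxU]
    exact Subgroup.map_mono hUP
  have hUH : U ≤ (P : Subgroup G) ⊓ (Q' : Subgroup G) := le_inf hUP hUQ'
  by_cases hHU : (P : Subgroup G) ⊓ (Q' : Subgroup G) = U
  · -- tame intersection `U = P ∩ Q'`
    have htame : IsTame p (P : Subgroup G) (Q' : Subgroup G) := by
      unfold IsTame
      rw [hHU]
      refine ⟨hUi, ?_⟩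
      have h1 : (Q' : Subgroup G) ⊓ Subgroup.normalizer (U : Set G) =
          ((P : Subgroup G) ⊓ Subgroup.normalizer (U : Set G)).map (MulAut.conj x).toMonoidHom := by
        rw [map_conj_inf, ← normalizer_map_conj, hxU, hQ'coe]
      have h2 : (Subgroup.normalizer (U : Set G)).map (MulAut.conj x).toMonoidHom =
          Subgroup.normalizer (U : Set G) := by
        rw [← normalizer_map_conj, hxU]
      have h3 := relIndex_map_conj x ((P : Subgroup G) ⊓ Subgroup.normalizer (U : Set G))
        (Subgroup.normalizer (U : Set G))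
      rw [h2] at h3
      rw [h1, h3]
      exact hUi
    have hstep : ∀ y ∈ Subgroup.normalizer (U : Set G), (∃ k : ℕ, orderOf y = p ^ k) →
        TameStep p P U y := fun y hy hyp => ⟨Q', hHU.symm, htame, hy, Or.inr hyp⟩
    set N := Subgroup.normalizer (U : Set G) with hN
    set R := (P : Subgroup G) ⊓ N with hR
    have hRp : IsPGroup p R := P.2.to_le inf_le_left
    -- `K` generated by the `p`-elements of `N`
    set K := Subgroup.closure {y : G | y ∈ N ∧ ∃ k : ℕ, orderOf y = p ^ k} with hK
    have hKN : K ≤ N := (Subgroup.closure_le _).mpr (fun y hy => hy.1)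
    have hRK : R ≤ K := by
      intro r hr
      apply Subgroup.subset_closure
      refine ⟨hr.2, ?_⟩
      obtain ⟨k, hk⟩ := (IsPGroup.iff_orderOf.mp hRp) ⟨r, hr⟩
      exact ⟨k, by rw [← hk, Subgroup.orderOf_mk]⟩
    have hNK : ∀ n ∈ N, K.map (MulAut.conj n).toMonoidHom ≤ K := by
      intro n hn
      rw [hK, MonoidHom.map_closure]
      apply Subgroup.closure_mono
      rintro _ ⟨y, ⟨hyN, k, hk⟩, rfl⟩
      refine ⟨N.mul_mem (N.mul_mem hn hyN) (N.inv_mem hn), k, ?_⟩
      rw [← hk]
      exact orderOf_injective (MulAut.conj n).toMonoidHom (MulAut.conj n).injective y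
    have hRKi : ¬ p ∣ R.relIndex K := by
      intro hd
      apply hUi
      rw [← Subgroup.relIndex_mul_relIndex R K N hRK hKN]
      exact Dvd.dvd.mul_right hd _
    -- every element of `K` is reached
    have hKreach : ∀ k ∈ K, TReach p P (U : Set G) k := by
      intro k hk
      induction hk using Subgroup.closure_induction with
      | mem y hy => exact TReach.single (hstep y hy.1 hy.2) le_rfl
      | one => exact TReach.nil _
      | mul a b ha hb iha ihb =>
        refine TReach.trans iha ?_
        rw [rconj_coe_of_mem_normalizer (hKN ha)]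
        exact ihb
      | inv a ha iha =>
        have := iha.symm
        rwa [rconj_coe_of_mem_normalizer (hKN ha)] at this
    -- Frattini
    have hY : (R.map (MulAut.conj x).toMonoidHom) ≤ K :=
      (Subgroup.map_mono hRK).trans (hNK x hx)
    obtain ⟨k, hkK, hk⟩ := exists_mem_map_conj_le_of_sylowIn (P := R) (K := K) hRp hRK hRKi
      (hRp.map _) hY
    rw [map_conj_map_conj] at hk
    have hkx : k * x ∈ Subgroup.normalizer (R : Set G) :=
      mem_normalizer_iff_map_conj.mpr (eq_of_le_of_card_map_conj hk le_rfl)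
    have hkxN : k * x ∈ N := N.mul_mem (hKN hkK) hx
    have hUR : U < R := lt_inf_normalizer_of_lt P.2 hUlt
    have hRm : R.map (MulAut.conj (k * x)⁻¹).toMonoidHom ≤ (P : Subgroup G) := by
      rw [mem_normalizer_iff_map_conj.mp (inv_mem hkx)]
      exact inf_le_left
    have r1 : TReach p P (R : Set G) (k * x) :=
      hbig R inf_le_left (card_lt_card_of_lt hUR) (k * x) hRm
    have r2 : TReach p P (U : Set G) (k * x) := r1.restrict (SetLike.coe_subset_coe.mpr hUR.le)
    have r3 : TReach p P (U : Set G) k⁻¹ := hKreach _ (K.inv_mem hkK)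
    have r4 : TReach p P (U : Set G) (k⁻¹ * (k * x)) := by
      refine TReach.trans r3 ?_
      rw [rconj_coe_of_mem_normalizer (N.inv_mem (hKN hkK))]
      exact r2
    have e : k⁻¹ * (k * x) = x := by group
    rwa [e] at r4
  · -- `U < P ∩ Q'`: use the induction hypothesis
    have hlt : U < (P : Subgroup G) ⊓ (Q' : Subgroup G) := lt_of_le_of_ne hUH (Ne.symm hHU)
    have hm : ((P : Subgroup G) ⊓ (Q' : Subgroup G)).map (MulAut.conj x⁻¹).toMonoidHom ≤
        (P : Subgroup G) := by
      have := Subgroup.map_mono (f := (MulAut.conj x⁻¹).toMonoidHom)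
        (inf_le_right : (P : Subgroup G) ⊓ (Q' : Subgroup G) ≤ (Q' : Subgroup G))
      rwa [hQ'coe, map_conj_inv_map_conj] at this
    have r1 := hbig _ inf_le_left (card_lt_card_of_lt hlt) x hm
    exact r1.restrict (SetLike.coe_subset_coe.mpr hlt.le)

/-- **Alperin's fusion theorem** (tame intersections, `p`-element factors), subgroup form. -/
theorem treach_subgroup (P : Sylow p G) :
    ∀ Q : Subgroup G, Q ≤ (P : Subgroup G) → ∀ g : G,
      Q.map (MulAut.conj g⁻¹).toMonoidHom ≤ (P : Subgroup G) → TReach p P (Q : Set G) g := by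
  have key : ∀ n : ℕ, ∀ Q : Subgroup G, Q ≤ (P : Subgroup G) →
      Nat.card (P : Subgroup G) - Nat.card Q = n → ∀ g : G,
      Q.map (MulAut.conj g⁻¹).toMonoidHom ≤ (P : Subgroup G) → TReach p P (Q : Set G) g := by
    intro n
    induction n using Nat.strong_induction_on with
    | _ n ih =>
      intro Q hQ hn g hg
      have hcQ : Nat.card Q ≤ Nat.card (P : Subgroup G) := Subgroup.card_le_of_le hQ
      have hbig : ∀ Q' : Subgroup G, Q' ≤ (P : Subgroup G) → Nat.card Q < Nat.card Q' → ∀ g' : G,
          Q'.map (MulAut.conj g'⁻¹).toMonoidHom ≤ (P : Subgroup G) → TReach p P (Q' : Set G) g' := by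
        intro Q' hQ' hlt g' hg'
        have hcQ' : Nat.card Q' ≤ Nat.card (P : Subgroup G) := Subgroup.card_le_of_le hQ'
        exact ih (Nat.card (P : Subgroup G) - Nat.card Q') (by omega) Q' hQ' rfl g' hg'
      apply alperin_step P (TReach p P) (fun h hB => h.restrict hB) (fun h1 h2 => h1.trans h2)
        (fun h => h.symm) Q hQ g hg hbig
      intro U hU hUcard x hx
      apply treach_local P U hU ?_ x hx
      intro Q' hQ' hlt g' hg'
      exact hbig Q' hQ' (by omega) g' hg'
  intro Q hQ g hg
  exact key _ Q hQ rfl g hg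

/-- **Alperin's fusion theorem** (tame intersections, `p`-element factors), subset form. -/
theorem treach_of_subset (P : Sylow p G) {A : Set G} {g : G} (hAS : A ⊆ ((P : Subgroup G) : Set G))
    (hAg : rconj g A ⊆ ((P : Subgroup G) : Set G)) : TReach p P A g := by
  have hT : Subgroup.closure A ≤ (P : Subgroup G) := (Subgroup.closure_le _).mpr hAS
  have hTg : (Subgroup.closure A).map (MulAut.conj g⁻¹).toMonoidHom ≤ (P : Subgroup G) := by
    rw [MonoidHom.map_closure, Subgroup.closure_le]
    rintro _ ⟨a, ha, rfl⟩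
    apply hAg
    exact ⟨a, ha, by simp⟩
  exact (treach_subgroup P _ hT g hTg).restrict Subgroup.subset_closure

end main

end Cfsg.Agent.Lib.H9
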