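import Mathlib
import Cfsg.Prelude.Def_Characters
import Cfsg.Prelude.Def_Blocks
import Cfsg.Agent.Lib.H23.Isaacs1129b
import Cfsg.Agent.Lib.H24.PGalConj1
import Cfsg.Agent.Lib.H24.CharOrth
import Cfsg.Agent.Lib.H8.CharConstituent
import Cfsg.Agent.Lib.H8.CohCentralB

/-!
# S4930, piece P1: irreducible characters of degree prime to `p` of a group with a normal
Sylow `p`-subgroup (helper9)

`N` a finite group, `P ⊴ N` a `p`-subgroup of index prime to `p`, `K` the image of the commutator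
subgroup of `P`.

* `not_dvd_degree_iff` (P1a): `ψ ∈ Irr(N)` has degree prime to `p` iff `K ≤ ker ψ`.
* `sum_sq_pprime` (P1b): `|P'| * ∑_{ψ, p ∤ ψ(1)} ψ(1)² = |N|`.
-/

set_option autoImplicit false

namespace Cfsg.Agent.Lib.H9.OD

open Cfsg Cfsg.Agent.Lib.L0
open scoped ComplexConjugate

variable {N : Type*} [Group N] [Finite N]

/-- an irreducible character of a `p`-group whose degree divides a number prime to `p` is linear -/
theorem charDegree_eq_one_of_pgroup {p : ℕ} [Fact p.Prime] {P : Type*} [Group P] [Finite P]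
    (hP : IsPGroup p P) (θ : IrrCharacter P) {m : ℕ} (hm : ¬ p ∣ m)
    (hdvd : charDegree (θ : P → ℂ) ∣ m) : charDegree (θ : P → ℂ) = 1 := by
  obtain ⟨k, hk⟩ := IsPGroup.iff_card.mp hP
  have h1 : charDegree (θ : P → ℂ) ∣ p ^ k := by
    rw [← hk]; exact Cfsg.Agent.Lib.H23.charDegree_dvd_card _ θ.2
  obtain ⟨j, -, hj⟩ := (Nat.dvd_prime_pow (Fact.out : p.Prime)).mp h1
  rcases Nat.eq_zero_or_pos j with h0 | hpos
  · rw [hj, h0, pow_zero]
  · exfalso
    apply hm
    refine dvd_trans ?_ hdvd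
    rw [hj]
    exact dvd_pow_self p hpos.ne'

/-- (P1a) -/
theorem not_dvd_degree_iff (p : ℕ) [Fact p.Prime] (P : Subgroup N) [P.Normal] (hP : IsPGroup p P)
    (hidx : ¬ p ∣ P.index) (ψ : IrrCharacter N) :
    ¬ p ∣ charDegree (ψ : N → ℂ) ↔
      ∀ y ∈ commutator ↥P, (ψ : N → ℂ) ((y : ↥P) : N) = (ψ : N → ℂ) 1 := by
  classical
  have := Fintype.ofFinite N
  have : Fintype ↥P := Fintype.ofFinite _
  have hres : IsCharacter ↥P (fun n : ↥P => (ψ : N → ℂ) n) :=
    isCharacter_restrict P (isCharacter_of_irr ψ.2)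
  constructor
  · intro hpd y hy
    have hexp := Cfsg.Agent.Lib.H24.classFunction_expansion_finsum
      (fun n : ↥P => (ψ : N → ℂ) n) (isClassFunction_of_isCharacter hres)
    have hterm : ∀ θ : IrrCharacter ↥P,
        classInner (fun n : ↥P => (ψ : N → ℂ) n) (θ : ↥P → ℂ) • (θ : ↥P → ℂ) y =
        classInner (fun n : ↥P => (ψ : N → ℂ) n) (θ : ↥P → ℂ) • (θ : ↥P → ℂ) 1 := by
      intro θ
      by_cases h0 : classInner (fun n : ↥P => (ψ : N → ℂ) n) (θ : ↥P → ℂ) = 0
      · rw [h0, zero_smul, zero_smul]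
      · have hd : charDegree (θ : ↥P → ℂ) ∣ charDegree (ψ : N → ℂ) :=
          Cfsg.Agent.Lib.H23.charDegree_dvd_of_constituent P ψ.2 θ.2 h0
        have h1 : charDegree (θ : ↥P → ℂ) = 1 := charDegree_eq_one_of_pgroup hP θ hpd hd
        have hker := Cfsg.Agent.Lib.H24.PGalConj.commutator_le_ker_of_linear θ h1
        have := hker hy
        rw [Cfsg.Agent.Lib.H24.PGalConj.mem_ker] at this
        rw [this]
    have hy' : (fun n : ↥P => (ψ : N → ℂ) n) y = (fun n : ↥P => (ψ : N → ℂ) n) 1 := by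
      rw [hexp]
      have := Fintype.ofFinite (IrrCharacter ↥P)
      rw [finsum_eq_sum_of_fintype]
      simp only [Finset.sum_apply, Pi.smul_apply]
      exact Finset.sum_congr rfl fun θ _ => hterm θ
    simpa using hy'
  · intro hker
    have h1ne : (fun n : ↥P => (ψ : N → ℂ) n) 1 ≠ 0 := by
      obtain ⟨n, hn, h1, -⟩ := Cfsg.Agent.Lib.H23.irr_apply_one_dvd_card _ ψ.2
      simp only [Subgroup.coe_one]
      rw [h1]
      exact_mod_cast hn.ne'
    obtain ⟨θ, hθ, hcon⟩ := Cfsg.Agent.Lib.H23.exists_irr_constituent hres h1ne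
    have hlin : charDegree θ = 1 := by
      have := Cfsg.Agent.Lib.H24.PGalConj.linear_of_commutator_le_ker (⟨θ, hθ⟩ : IrrCharacter ↥P) ?_
      · exact this
      · intro y hy
        rw [Cfsg.Agent.Lib.H24.PGalConj.mem_ker]
        exact Cfsg.Agent.Lib.H8.constituent_apply_eq_one hres hθ hcon
          (by simpa using hker y hy)
    have hd := Cfsg.Agent.Lib.H23.degree_dvd_index_mul P ψ.2 hθ hcon
    rw [hlin, mul_one] at hd
    intro hp
    exact hidx (dvd_trans hp hd)

/-- (P1b) -/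
theorem sum_sq_pprime (p : ℕ) [Fact p.Prime] (P : Subgroup N) [P.Normal] (hP : IsPGroup p P)
    (hidx : ¬ p ∣ P.index) :
    Nat.card (commutator ↥P) *
      (∑ᶠ ψ : {ψ : IrrCharacter N // ¬ p ∣ charDegree (ψ : N → ℂ)},
        charDegree (ψ.1 : N → ℂ) ^ 2) = Nat.card N := by
  classical
  have := Fintype.ofFinite N
  have : Fintype (IrrCharacter N) :=
    @Fintype.ofFinite _ (Cfsg.Agent.Lib.H24.finite_irr (G := N))
  have hKn : (⁅P, P⁆ : Subgroup N).Normal := inferInstance
  have hKeq : (commutator ↥P).map P.subtype = ⁅P, P⁆ := Subgroup.map_subtype_commutator P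
  have hcard : Nat.card (⁅P, P⁆ : Subgroup N) = Nat.card (commutator ↥P) := by
    rw [← hKeq]
    exact (Nat.card_congr
      ((commutator ↥P).equivMapOfInjective P.subtype P.subtype_injective).toEquiv).symm
  have hiff : ∀ ψ : IrrCharacter N, (∀ z ∈ (⁅P, P⁆ : Subgroup N), (ψ : N → ℂ) z = (ψ : N → ℂ) 1) ↔
      ¬ p ∣ charDegree (ψ : N → ℂ) := by
    intro ψ
    rw [not_dvd_degree_iff p P hP hidx ψ]
    constructor
    · intro h y hy
      apply h
      rw [← hKeq]
      exact Subgroup.mem_map_of_mem _ hy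
    · intro h z hz
      rw [← hKeq] at hz
      obtain ⟨y, hy, rfl⟩ := Subgroup.mem_map.mp hz
      exact h y hy
  have h1 := Cfsg.Agent.Lib.H8.sum_degree_sq_ker (L := N) (⁅P, P⁆ : Subgroup N)
  rw [finsum_eq_sum_of_fintype]
  rw [← Finset.sum_subtype (Finset.univ.filter
    (fun ψ : IrrCharacter N => ¬ p ∣ charDegree (ψ : N → ℂ))) (by simp)
    (fun ψ : IrrCharacter N => charDegree (ψ : N → ℂ) ^ 2)]
  have hfil : Finset.univ.filter
      (fun χ : IrrCharacter N => ∀ z ∈ (⁅P, P⁆ : Subgroup N), (χ : N → ℂ) z = (χ : N → ℂ) 1) =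
      Finset.univ.filter (fun ψ : IrrCharacter N => ¬ p ∣ charDegree (ψ : N → ℂ)) := by
    ext ψ
    simp only [Finset.mem_filter, Finset.mem_univ, true_and]
    exact hiff ψ
  rw [hfil, hcard] at h1
  have h2 : ((Nat.card (commutator ↥P) * ∑ ψ ∈ Finset.univ.filter
      (fun ψ : IrrCharacter N => ¬ p ∣ charDegree (ψ : N → ℂ)),
      charDegree (ψ : N → ℂ) ^ 2 : ℕ) : ℂ) = ((Nat.card N : ℕ) : ℂ) := by
    rw [← h1]
    push_cast
    rw [mul_comm]
    congr 1
    refine Finset.sum_congr rfl fun ψ _ => ?_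
    rw [Cfsg.Agent.Lib.H23.apply_one_eq_charDegree _ ψ.2]
  exact_mod_cast h2

section normalizer

variable {G : Type*} [Group G] [Finite G]

omit [Finite G] in
/-- the image in `G` of the commutator subgroup of `P.subgroupOf N` is `⁅P, P⁆` -/
theorem map_commutator_subgroupOf (P N : Subgroup G) (hPN : P ≤ N) :
    ((commutator ↥(P.subgroupOf N)).map (P.subgroupOf N).subtype).map N.subtype =
      (commutator ↥P).map P.subtype := by
  rw [Subgroup.map_subtype_commutator, Subgroup.map_subtype_commutator, Subgroup.map_commutator,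
    Subgroup.subgroupOf_map_subtype, inf_eq_left.mpr hPN]

omit [Finite G] in
theorem card_commutator_subgroupOf (P N : Subgroup G) (hPN : P ≤ N) :
    Nat.card (commutator ↥(P.subgroupOf N)) = Nat.card (commutator ↥P) := by
  have h1 : Nat.card (commutator ↥(P.subgroupOf N)) =
      Nat.card (((commutator ↥(P.subgroupOf N)).map (P.subgroupOf N).subtype).map N.subtype) := by
    rw [Subgroup.card_map_of_injective N.subtype_injective,
      Subgroup.card_map_of_injective (P.subgroupOf N).subtype_injective]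
  rw [h1, map_commutator_subgroupOf P N hPN, Subgroup.card_map_of_injective P.subtype_injective]

/-- (P1a), relative form: `P ≤ N ≤ G`, `P` a `p`-group normal in `N` of index prime to `p` -/
theorem not_dvd_degree_iff_of_le (p : ℕ) [Fact p.Prime] (P N : Subgroup G) (hPN : P ≤ N)
    (hn : (P.subgroupOf N).Normal) (hP : IsPGroup p ↥P) (hidx : ¬ p ∣ P.relIndex N)
    (ψ : IrrCharacter ↥N) :
    ¬ p ∣ charDegree (ψ : ↥N → ℂ) ↔
      ∀ x : ↥N, (x : G) ∈ (commutator ↥P).map P.subtype →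
        (ψ : ↥N → ℂ) x = (ψ : ↥N → ℂ) 1 := by
  have hP0 : IsPGroup p ↥(P.subgroupOf N) := hP.comap_subtype
  rw [not_dvd_degree_iff p (P.subgroupOf N) hP0 hidx ψ]
  have hmap := map_commutator_subgroupOf P N hPN
  constructor
  · intro h x hx
    rw [← hmap] at hx
    obtain ⟨x', hx', hxx⟩ := Subgroup.mem_map.mp hx
    obtain ⟨y, hy, rfl⟩ := Subgroup.mem_map.mp hx'
    have : x = ((y : ↥(P.subgroupOf N)) : ↥N) := by
      apply Subtype.ext
      exact hxx.symm
    rw [this]
    exact h y hy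
  · intro h y hy
    apply h
    rw [← hmap]
    exact Subgroup.mem_map_of_mem _ (Subgroup.mem_map_of_mem _ hy)

/-- (P1b), relative form -/
theorem card_eq_of_le (p : ℕ) [Fact p.Prime] (P N : Subgroup G) (hPN : P ≤ N)
    (hn : (P.subgroupOf N).Normal) (hP : IsPGroup p ↥P) (hidx : ¬ p ∣ P.relIndex N) :
    Nat.card ↥N = Nat.card (commutator ↥P) *
        (∑ᶠ ψ : {ψ : IrrCharacter ↥N // ¬ p ∣ charDegree (ψ : ↥N → ℂ)},
          charDegree (ψ.1 : ↥N → ℂ) ^ 2) := by
  have hP0 : IsPGroup p ↥(P.subgroupOf N) := hP.comap_subtype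
  have := sum_sq_pprime p (P.subgroupOf N) hP0 hidx
  rw [card_commutator_subgroupOf P N hPN] at this
  exact this.symm

theorem sylow_not_dvd_relIndex_normalizer (p : ℕ) [Fact p.Prime] (P : Sylow p G) :
    ¬ p ∣ (P : Subgroup G).relIndex (Subgroup.normalizer ((P : Subgroup G) : Set G)) := by
  intro h
  apply P.not_dvd_index
  have := Subgroup.relIndex_mul_index
    (Subgroup.le_normalizer : (P : Subgroup G) ≤ Subgroup.normalizer ((P : Subgroup G) : Set G))
  rw [← this]
  exact dvd_mul_of_dvd_left h _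

/-- (P1a), normalizer form: for `P` a Sylow `p`-subgroup and `ψ ∈ Irr(N_G(P))`: `p ∤ ψ(1)` iff the
image of the commutator subgroup of `P` lies in the kernel of `ψ` -/
theorem not_dvd_degree_iff_normalizer (p : ℕ) [Fact p.Prime] (P : Sylow p G)
    (ψ : IrrCharacter ↥(Subgroup.normalizer ((P : Subgroup G) : Set G))) :
    ¬ p ∣ charDegree (ψ : ↥(Subgroup.normalizer ((P : Subgroup G) : Set G)) → ℂ) ↔
      ∀ x : ↥(Subgroup.normalizer ((P : Subgroup G) : Set G)),
        (x : G) ∈ (commutator ↥(P : Subgroup G)).map (P : Subgroup G).subtype →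
        (ψ : ↥(Subgroup.normalizer ((P : Subgroup G) : Set G)) → ℂ) x =
          (ψ : ↥(Subgroup.normalizer ((P : Subgroup G) : Set G)) → ℂ) 1 :=
  not_dvd_degree_iff_of_le p (P : Subgroup G) _ Subgroup.le_normalizer
    Subgroup.normal_in_normalizer P.isPGroup' (sylow_not_dvd_relIndex_normalizer p P) ψ

/-- (P1b), normalizer form: `|N_G(P)| = |P'| * ∑_{ψ ∈ Irr(N_G(P)), p ∤ ψ(1)} ψ(1)²` -/
theorem card_normalizer_eq (p : ℕ) [Fact p.Prime] (P : Sylow p G) :
    Nat.card (Subgroup.normalizer ((P : Subgroup G) : Set G)) =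
      Nat.card (commutator ↥(P : Subgroup G)) *
        (∑ᶠ ψ : {ψ : IrrCharacter ↥(Subgroup.normalizer ((P : Subgroup G) : Set G)) //
            ¬ p ∣ charDegree (ψ : ↥(Subgroup.normalizer ((P : Subgroup G) : Set G)) → ℂ)},
          charDegree (ψ.1 : ↥(Subgroup.normalizer ((P : Subgroup G) : Set G)) → ℂ) ^ 2) :=
  card_eq_of_le p (P : Subgroup G) _ Subgroup.le_normalizer
    Subgroup.normal_in_normalizer P.isPGroup' (sylow_not_dvd_relIndex_normalizer p P)

end normalizer

end Cfsg.Agent.Lib.H9.OD
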