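import Mathlib
import Cfsg.Agent.Lib.H4.SLKDefs

/-!
# S2479 piece P02 (`det_pi_dep`, twin; helper9): the determinant of a diagonal endomorphism of a
finite dependent product
-/

set_option autoImplicit false
open Polynomial

namespace Cfsg.Agent.Lib.H9.SLK

open Cfsg.Agent.Lib.H12.Cls Cfsg.Agent.Lib.H4.SLK

universe u v
variable {F : Type u} [Field F]

/-- the determinant of a dependent block diagonal matrix -/
theorem det_blockDiagonal_dep {ι : Type*} [Fintype ι] [DecidableEq ι] {R : Type*} [CommRing R]
    (n : ι → Type*) [∀ i, Fintype (n i)] [∀ i, DecidableEq (n i)]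
    (d : ∀ i, Matrix (n i) (n i) R) : (Matrix.blockDiagonal' d).det = ∏ i, (d i).det := by
  classical
  let _ : LinearOrder ι := LinearOrder.lift' (Fintype.equivFin ι) (Fintype.equivFin ι).injective
  rw [(Matrix.blockTriangular_blockDiagonal' d).det_fintype]
  apply Finset.prod_congr rfl
  intro i _
  have : (Matrix.blockDiagonal' d).toSquareBlock Sigma.fst i =
      Matrix.reindex (Equiv.sigmaSubtype i).symm (Equiv.sigmaSubtype i).symm (d i) := by
    ext ⟨⟨j, x⟩, hx⟩ ⟨⟨k, y⟩, hy⟩
    simp only at hx hy
    subst hx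
    subst hy
    simp [Matrix.toSquareBlock_def, Equiv.sigmaSubtype]
  rw [this, Matrix.det_reindex_self]

/-- DETPI : determinant of a "diagonal" endomorphism of a finite dependent product -/
theorem det_pi_dep {ι : Type*} [Fintype ι] (M : ι → Type*) [∀ i, AddCommGroup (M i)]
    [∀ i, Module F (M i)] [∀ i, Module.Finite F (M i)] (f : ∀ i, M i →ₗ[F] M i) :
    LinearMap.det (LinearMap.pi (fun i => (f i).comp (LinearMap.proj i)) :
      (∀ i, M i) →ₗ[F] (∀ i, M i)) = ∏ i, LinearMap.det (f i) := by
  classical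
  let b : ∀ i, Module.Basis (Fin (Module.finrank F (M i))) F (M i) :=
    fun i => Module.finBasis F (M i)
  rw [← LinearMap.det_toMatrix (Pi.basis b)]
  have h : LinearMap.toMatrix (Pi.basis b) (Pi.basis b)
      (LinearMap.pi (fun i => (f i).comp (LinearMap.proj i))) =
      Matrix.blockDiagonal' (fun i => LinearMap.toMatrix (b i) (b i) (f i)) := by
    ext ⟨i, a⟩ ⟨j, c⟩
    rw [LinearMap.toMatrix_apply, Pi.basis_repr, Pi.basis_apply, Matrix.blockDiagonal'_apply]
    by_cases hij : i = j
    · subst hij
      simp [LinearMap.toMatrix_apply]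
    · rw [dif_neg hij]
      simp [Pi.single_eq_of_ne hij]
  rw [h, det_blockDiagonal_dep]
  apply Finset.prod_congr rfl
  intro i _
  exact LinearMap.det_toMatrix (b i) (f i)

end Cfsg.Agent.Lib.H9.SLK
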