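import Mathlib
import Cfsg.Agent.Lib.H4.SLKDefs
import Cfsg.Agent.Lib.H9.SLKP02

/-!
# S2479 piece P08 (`nd_aeval_eq_prod`; helper9)
-/

set_option autoImplicit false
open Polynomial

namespace Cfsg.Agent.Lib.H9.SLK

open Cfsg.Agent.Lib.H12.Cls Cfsg.Agent.Lib.H4.SLK

universe u v
variable {F : Type u} [Field F]

/-- `nd` is invariant under `F[X]`-linear equivalences (own copy of ND1) -/
theorem nd_congr_iso {M M' : Type*} [AddCommGroup M] [Module F M] [Module F[X] M]
    [IsScalarTower F F[X] M] [AddCommGroup M'] [Module F M'] [Module F[X] M']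
    [IsScalarTower F F[X] M'] (e : M ≃ₗ[F[X]] M') (p : F[X]) : nd M p = nd M' p := by
  unfold nd
  rw [← LinearMap.det_conj ((LinearMap.lsmul F[X] M p).restrictScalars F) (e.restrictScalars F)]
  congr 1
  ext x
  simp

/-- T1B -/
theorem nd_aeval_eq_prod {V : Type v} [AddCommGroup V] [Module F V] [FiniteDimensional F V]
    {f : Module.End F V} (D : TypeData f) (p : F[X]) :
    nd (Module.AEval' f) p = ∏ i, nd (Cyc F (D.c i)) p := by
  have : ∀ i, Module.Finite F (Cyc F (D.c i)) := fun i => finite_cyc _ (D.monic i)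
  rw [nd_congr_iso D.iso p]
  unfold nd
  have h : (LinearMap.lsmul F[X] (∀ i, Cyc F (D.c i)) p).restrictScalars F =
      LinearMap.pi (fun i => ((LinearMap.lsmul F[X] (Cyc F (D.c i)) p).restrictScalars F).comp
        (LinearMap.proj i)) := by
    ext x i
    rfl
  rw [h, det_pi_dep]

end Cfsg.Agent.Lib.H9.SLK
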