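import Mathlib
import Cfsg.Agent.Lib.H4.CentRingF
import Cfsg.Agent.Lib.L0.CharDegree

set_option autoImplicit false

/-!
# S0720 piece RES (`restrict_chi_one`; helper9)

An irreducible constituent of odd degree of the permutation character stays an irreducible constituent
on a subgroup of index at most 2.
-/

namespace Cfsg.Agent.Lib.H9.W2P

open Cfsg Cfsg.Agent.Lib.H4.CentRing Cfsg.Agent.Lib.L0

/-- the permutation character is a character -/
theorem isCharacter_permCh {G : Type*} [Group G] [Fintype G] {Ω : Type*} [Fintype Ω] [DecidableEq Ω]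
    [MulAction G Ω] : IsCharacter G (permCh G Ω) :=
  isCharacter_of_classInner_nat permCh_isClassFunction
    (fun χ => exists_nat_classInner_permCh (isCharacter_of_irr χ.2))

/-- RES: an irreducible constituent of odd degree of the permutation character stays an irreducible
constituent on a subgroup of index at most 2. -/
theorem restrict_chi_one {α : Type*} [Fintype α] [DecidableEq α] (G L : Subgroup (Equiv.Perm α))
    [Fintype G] [Fintype L] (hLG : L ≤ G) (hidx : Nat.card G ≤ 2 * Nat.card L)
    (χ : G → ℂ) (hχ : IsIrrCharacter G χ) {p : ℕ} (hodd : Odd p) (hdeg : χ 1 = (p : ℂ))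
    (hin : classInner (permCh G α) χ ≠ 0) :
    IsIrrCharacter L (fun l => χ (Subgroup.inclusion hLG l)) ∧
      classInner (permCh L α) (fun l => χ (Subgroup.inclusion hLG l)) ≠ 0 := by
  classical
  set ι : L →* G := Subgroup.inclusion hLG with hι
  set η : L → ℂ := fun l => χ (ι l) with hη
  have hχc : IsCharacter G χ := isCharacter_of_irr hχ
  have hηc : IsCharacter L η := isCharacter_comp ι hχc
  have hη1 : η 1 = (p : ℂ) := by
    simp only [hη, map_one]
    exact hdeg
  -- `L` as a subgroup of `G`
  set L' : Subgroup G := L.subgroupOf G with hL'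
  let e : L' ≃* L := Subgroup.subgroupOfEquivOfLe hLG
  have hιe : ∀ h : L', ι (e h) = (h : G) := by
    intro h
    apply Subtype.ext
    rfl
  have : Fintype L' := Fintype.ofFinite _
  have hcard : Nat.card L' = Nat.card L := Nat.card_congr e.toEquiv
  have hindex : L'.index ≤ 2 := by
    have h1 := L'.card_mul_index
    rw [hcard] at h1
    have hpos : 0 < Nat.card L := Nat.card_pos
    by_contra hcon
    rw [not_le] at hcon
    have : Nat.card L * 3 ≤ Nat.card L * L'.index := Nat.mul_le_mul_left _ hcon
    omega
  -- every irreducible constituent of `η` has degree at least `p / 2`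
  have key : ∀ φ : L → ℂ, IsIrrCharacter L φ → classInner η φ ≠ 0 →
      ∃ a : ℕ, φ 1 = a ∧ p ≤ 2 * a := by
    intro φ hφ hne
    set φ' : L' → ℂ := fun h => φ (e h) with hφ'
    have hφ'c : IsCharacter L' φ' := isCharacter_comp e.toMonoidHom (isCharacter_of_irr hφ)
    have hind : IsCharacter G (indFun L' φ') := isCharacter_indFun L' hφ'c
    have hfr := frobenius_reciprocity L' φ' χ (isClassFunction_of_isCharacter hχc)
    have htr : classInner φ' (fun h : L' => χ h) = classInner φ η := by
      unfold classInner
      rw [hcard]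
      congr 1
      apply Fintype.sum_equiv e.toEquiv
      intro h
      simp only [hφ', hη, MulEquiv.toEquiv_eq_coe, MulEquiv.coe_toEquiv, hιe]
    have hne' : classInner (indFun L' φ') χ ≠ 0 := by
      rw [hfr, htr, ← classInner_conj_symm]
      intro h0
      apply hne
      have := congrArg (starRingEnd ℂ) h0
      simpa using this
    obtain ⟨a, b, ha, hb, hab⟩ := degree_le_of_classInner_ne_zero hχ hind hne'
    obtain ⟨d, hd⟩ := isCharacter_apply_one (isCharacter_of_irr hφ)
    refine ⟨d, hd, ?_⟩
    rw [indFun_apply_one] at hb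
    have hφ'1 : φ' 1 = d := by
      simp only [hφ', map_one]
      exact hd
    rw [hφ'1] at hb
    have hpa : p = a := by
      have : (p : ℂ) = a := hdeg.symm.trans ha
      exact_mod_cast this
    have hb' : L'.index * d = b := by exact_mod_cast hb
    have : L'.index * d ≤ 2 * d := Nat.mul_le_mul_right _ hindex
    omega
  -- decomposition of `η`
  obtain ⟨l, hl, hηl⟩ := isCharacter_exists_irr_decomp hηc
  have hpodd : p ≠ 0 := by
    rintro rfl
    exact absurd hodd (by decide)
  have hirr : IsIrrCharacter L η := by
    match l, hl, hηl with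
    | [], _, hηl =>
      exfalso
      have : η 1 = 0 := by rw [hηl]; rfl
      rw [hη1] at this
      exact hpodd (by exact_mod_cast this)
    | [φ], hl, hηl =>
      rw [hηl, List.sum_singleton]
      exact hl φ (by simp)
    | φ₁ :: φ₂ :: rest, hl, hηl =>
      exfalso
      have h1 : IsIrrCharacter L φ₁ := hl φ₁ (by simp)
      have h2 : IsIrrCharacter L φ₂ := hl φ₂ (by simp)
      have hc1 : classInner η φ₁ ≠ 0 := by
        rw [hηl, classInner_irr_list_sum hl h1]
        have : 0 < (φ₁ :: φ₂ :: rest).count φ₁ := List.count_pos_iff.mpr (by simp)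
        exact_mod_cast this.ne'
      have hc2 : classInner η φ₂ ≠ 0 := by
        rw [hηl, classInner_irr_list_sum hl h2]
        have : 0 < (φ₁ :: φ₂ :: rest).count φ₂ := List.count_pos_iff.mpr (by simp)
        exact_mod_cast this.ne'
      obtain ⟨a₁, ha₁, hp₁⟩ := key φ₁ h1 hc1
      obtain ⟨a₂, ha₂, hp₂⟩ := key φ₂ h2 hc2
      have hrc : IsCharacter L rest.sum :=
        isCharacter_list_sum (fun ψ hψ => isCharacter_of_irr (hl ψ (by simp [hψ])))
      obtain ⟨r, hr⟩ := isCharacter_apply_one hrc
      have hsum : η 1 = φ₁ 1 + (φ₂ 1 + rest.sum 1) := by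
        rw [hηl]
        simp [List.sum_cons]
      rw [hη1, ha₁, ha₂, hr] at hsum
      have hsum' : p = a₁ + (a₂ + r) := by exact_mod_cast hsum
      obtain ⟨k, hk⟩ := hodd
      omega
  refine ⟨hirr, ?_⟩
  -- the permutation character of `L` is the restriction of that of `G`
  have hperm : permCh L α = fun l => permCh G α (ι l) := by
    funext l
    rfl
  -- `θ_G = χ + ψ` with `ψ` a character
  obtain ⟨lG, hlG, hθ⟩ := isCharacter_exists_irr_decomp (isCharacter_permCh (G := G) (Ω := α))
  have hmem : χ ∈ lG := by
    by_contra hcon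
    rw [hθ, classInner_irr_list_sum hlG hχ, List.count_eq_zero_of_not_mem hcon] at hin
    simp at hin
  have hperm' : lG.sum = χ + (lG.erase χ).sum := by
    have := List.sum_erase hmem
    rw [← this]
  have hψc : IsCharacter G (lG.erase χ).sum :=
    isCharacter_list_sum (fun ψ hψ => isCharacter_of_irr (hlG ψ (List.mem_of_mem_erase hψ)))
  have hψLc : IsCharacter L (fun l => (lG.erase χ).sum (ι l)) := isCharacter_comp ι hψc
  have hsplit : permCh L α = η + fun l => (lG.erase χ).sum (ι l) := by
    rw [hperm, hθ, hperm']
    funext l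
    rfl
  rw [hsplit, classInner_add_left, irr_classInner_self hirr]
  obtain ⟨n, hn⟩ := classInner_char_char_nat hψLc hηc
  rw [hn]
  have : ((1 : ℂ) + n) = ((1 + n : ℕ) : ℂ) := by push_cast; ring
  rw [this]
  exact_mod_cast (Nat.succ_ne_zero n ∘ fun h => by omega)

end Cfsg.Agent.Lib.H9.W2P
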