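import Mathlib
import Cfsg.Agent.Lib.H28.O73M.Words
import Cfsg.Agent.Lib.H19.G23LF

/-!
# S2095 piece LF18 (helper9): lifting the 18 generators through a central extension, with **L4** as a hypothesis.
-/

set_option autoImplicit false

namespace Cfsg.Agent.Lib.H9.O73M

open Cfsg.Agent.Lib.H28 Cfsg.Agent.Lib.H28.O73M

/-- the lifted generators as a function of the index -/
def liftFun18 {Γ : Type*} [Group Γ] (x0 : ℕ → Γ) (y' : Fin 4 → Fin 4 → Γ) (i : ℕ) : Γ :=
  if i < 12 then x0 i else if i = 12 then y' 0 3 else if i = 13 then y' 1 3 else if i = 14 then y' 2 3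
  else if i = 15 then y' 3 0 else if i = 16 then y' 3 1 else if i = 17 then y' 3 2 else 1

theorem liftFun18_lt {Γ : Type*} [Group Γ] (x0 : ℕ → Γ) (y' : Fin 4 → Fin 4 → Γ) {i : ℕ} (hi : i < 12) :
    liftFun18 x0 y' i = x0 i := by
  unfold liftFun18
  rw [if_pos hi]

/-- for positions inside the `SL₃`-corner there is a third index giving a Steinberg relation of `G23M` -/
theorem pos4_third : ∀ a b : Fin 4, a ≠ b → a.val < 3 → b.val < 3 →
    ∃ c : Fin 4, a ≠ c ∧ c ≠ b ∧ (pos4 a c, pos4 c b, pos4 a b) ∈ G23M.stL ∧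
      pos4 a c < 12 ∧ pos4 c b < 12 ∧ pos4 a b < 12 := by decide

theorem pos4_corner : ∀ a b : Fin 4, a ≠ b → ¬ (a.val < 3 ∧ b.val < 3) →
    (a = 0 ∧ b = 3) ∨ (a = 1 ∧ b = 3) ∨ (a = 2 ∧ b = 3) ∨ (a = 3 ∧ b = 0) ∨ (a = 3 ∧ b = 1) ∨
      (a = 3 ∧ b = 2) := by decide

theorem g2_stL_lt : ∀ s ∈ G23M.stL, s.1 < 12 ∧ s.2.1 < 12 ∧ s.2.2 < 12 := by decide

theorem g2_commL_lt : ∀ p ∈ G23M.commL, p.1 < 12 ∧ p.2 < 12 := by decide

/-- commutators only depend on the factors modulo a central kernel -/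
theorem comm_eq_of_map_eq {G Γ : Type*} [Group G] [Group Γ] (σ : Γ →* G)
    (hc : σ.ker ≤ Subgroup.center Γ) {u v u' v' : Γ} (hu : σ u' = σ u) (hv : σ v' = σ v) :
    u' * v' * u'⁻¹ * v'⁻¹ = u * v * u⁻¹ * v⁻¹ := by
  have hz1 : u⁻¹ * u' ∈ Subgroup.center Γ := by
    apply hc
    rw [MonoidHom.mem_ker, map_mul, map_inv, hu, inv_mul_cancel]
  have hz2 : v⁻¹ * v' ∈ Subgroup.center Γ := by
    apply hc
    rw [MonoidHom.mem_ker, map_mul, map_inv, hv, inv_mul_cancel]
  have h1 := Cfsg.Agent.Lib.H1.CExt.comm_central hz1 hz2 u v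
  rw [commutatorElement_def, commutatorElement_def] at h1
  have e1 : u * (u⁻¹ * u') = u' := by group
  have e2 : v * (v⁻¹ * v') = v' := by group
  rw [e1, e2] at h1
  exact h1

/-- **LF18** with **L4** as a hypothesis -/
theorem exists_lift_rels18_of {G Γ : Type*} [Group G] [Group Γ] (σ : Γ →* G)
    (hs : Function.Surjective σ) (hc : σ.ker ≤ Subgroup.center Γ)
    (hL4 : ∀ {y : Fin 4 → Fin 4 → G}, StRel 4 y →
      ∃ y' : Fin 4 → Fin 4 → Γ, StRel 4 y' ∧ ∀ a b, a ≠ b → σ (y' a b) = y a b)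
    (X : ℕ → G) (hX : Rels X) (hXc : ∀ c ∈ cenL, ev X c = 1) :
    ∃ x : ℕ → Γ, (∀ i < 18, σ (x i) = X i) ∧ Rels x := by
  -- the `G₂(3)` part
  have hXc2 : ∀ c ∈ G23M.cenL, G23M.ev X c = 1 := by
    intro c hcm
    rw [← ev_remap X c (g2_cen_lt c hcm)]
    exact hXc _ (g2_cen_mem c hcm)
  obtain ⟨x0, hx0σ, hx0⟩ := Cfsg.Agent.Lib.H19.G23M.exists_lift_rels σ hs hc X hX.toG2 hXc2
  -- the `SL₄(3)` part
  obtain ⟨y', hy', hy'σ⟩ := hL4 hX.stRel4
  -- they agree on the common letters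
  have hagree : ∀ a b : Fin 4, a ≠ b → a.val < 3 → b.val < 3 → y' a b = x0 (pos4 a b) := by
    intro a b hab ha hb
    obtain ⟨c, hac, hcb, hmem, h1, h2, -⟩ := pos4_third a b hab ha hb
    have e1 := hy'.st a c b hac hcb hab
    have e2 := hx0.st _ hmem
    rw [← e1, ← e2]
    apply comm_eq_of_map_eq σ hc
    · rw [hy'σ a c hac, hx0σ _ h1]
    · rw [hy'σ c b hcb, hx0σ _ h2]
  refine ⟨liftFun18 x0 y', ?_, ?_⟩
  -- the positions
  · intro i hi
    by_cases h12 : i < 12
    · rw [liftFun18_lt x0 y' h12]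
      exact hx0σ i h12
    · have h : i = 12 ∨ i = 13 ∨ i = 14 ∨ i = 15 ∨ i = 16 ∨ i = 17 := by omega
      rcases h with rfl | rfl | rfl | rfl | rfl | rfl
      · exact hy'σ 0 3 (by decide)
      · exact hy'σ 1 3 (by decide)
      · exact hy'σ 2 3 (by decide)
      · exact hy'σ 3 0 (by decide)
      · exact hy'σ 3 1 (by decide)
      · exact hy'σ 3 2 (by decide)
  · have hpos : ∀ a b : Fin 4, a ≠ b → y' a b = liftFun18 x0 y' (pos4 a b) := by
      intro a b hab
      by_cases h : a.val < 3 ∧ b.val < 3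
      · obtain ⟨c, -, -, -, -, -, h3⟩ := pos4_third a b hab h.1 h.2
        rw [liftFun18_lt x0 y' h3]
        exact hagree a b hab h.1 h.2
      · rcases pos4_corner a b hab h with ⟨rfl, rfl⟩ | ⟨rfl, rfl⟩ | ⟨rfl, rfl⟩ | ⟨rfl, rfl⟩ | ⟨rfl, rfl⟩ |
          ⟨rfl, rfl⟩ <;> rfl
    have hσ : ∀ i < 18, σ (liftFun18 x0 y' i) = X i := by
      intro i hi
      by_cases h12 : i < 12
      · rw [liftFun18_lt x0 y' h12]
        exact hx0σ i h12
      · have h : i = 12 ∨ i = 13 ∨ i = 14 ∨ i = 15 ∨ i = 16 ∨ i = 17 := by omega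
        rcases h with rfl | rfl | rfl | rfl | rfl | rfl
        · exact hy'σ 0 3 (by decide)
        · exact hy'σ 1 3 (by decide)
        · exact hy'σ 2 3 (by decide)
        · exact hy'σ 3 0 (by decide)
        · exact hy'σ 3 1 (by decide)
        · exact hy'σ 3 2 (by decide)
    refine ⟨?_, ?_, ?_, ?_⟩
    · -- cubes
      intro i hi
      by_cases h12 : i < 12
      · rw [liftFun18_lt x0 y' h12]
        exact hx0.cube i h12
      · have h : i = 12 ∨ i = 13 ∨ i = 14 ∨ i = 15 ∨ i = 16 ∨ i = 17 := by omega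
        rcases h with rfl | rfl | rfl | rfl | rfl | rfl
        · exact hy'.cube 0 3 (by decide)
        · exact hy'.cube 1 3 (by decide)
        · exact hy'.cube 2 3 (by decide)
        · exact hy'.cube 3 0 (by decide)
        · exact hy'.cube 3 1 (by decide)
        · exact hy'.cube 3 2 (by decide)
    · -- Steinberg relations
      intro s hsm
      rcases stL_cases s hsm with h | ⟨a, b, c, hab, hbc, hac, rfl⟩
      · obtain ⟨h1, h2, h3⟩ := g2_stL_lt s h
        rw [liftFun18_lt x0 y' h1, liftFun18_lt x0 y' h2, liftFun18_lt x0 y' h3]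
        exact hx0.st s h
      · show liftFun18 x0 y' (pos4 a b) * liftFun18 x0 y' (pos4 b c) * (liftFun18 x0 y' (pos4 a b))⁻¹ *
          (liftFun18 x0 y' (pos4 b c))⁻¹ = liftFun18 x0 y' (pos4 a c)
        rw [← hpos a b hab, ← hpos b c hbc, ← hpos a c hac]
        exact hy'.st a b c hab hbc hac
    · -- commuting pairs
      intro p hpm
      rcases commL_cases p hpm with h | ⟨a, b, c, d, hab, hcd, had, hbc, rfl⟩
      · obtain ⟨h1, h2⟩ := g2_commL_lt p h
        rw [liftFun18_lt x0 y' h1, liftFun18_lt x0 y' h2]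
        exact hx0.comm p h
      · show liftFun18 x0 y' (pos4 a b) * liftFun18 x0 y' (pos4 c d) =
          liftFun18 x0 y' (pos4 c d) * liftFun18 x0 y' (pos4 a b)
        rw [← hpos a b hab, ← hpos c d hcd]
        exact hy'.comm a b c d hab hcd had hbc
    · -- central words
      intro c hcm q _
      have hker : ev (liftFun18 x0 y') c ∈ σ.ker := by
        rw [MonoidHom.mem_ker, map_ev, ev_congr hσ c]
        exact hXc c hcm
      have := Subgroup.mem_center_iff.mp (hc hker) (liftFun18 x0 y' q)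
      exact this.symm

end Cfsg.Agent.Lib.H9.O73M
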