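import Mathlib
import Cfsg.Agent.Lib.H28.O73M.Words
import Cfsg.Agent.Lib.H9.O73LF18of
import Cfsg.Agent.Lib.H25.O73L4

/-!
# S2095 piece LF18 (helper9): lifting the 18 generators through a central extension (exact signature).
-/

set_option autoImplicit false

namespace Cfsg.Agent.Lib.H9.O73M

open Cfsg.Agent.Lib.H28.O73M

/-- **LF18**.  Lifting the 18 generators. -/
theorem exists_lift_rels18 {G Γ : Type*} [Group G] [Group Γ] (σ : Γ →* G) (hs : Function.Surjective σ)
    (hc : σ.ker ≤ Subgroup.center Γ) (X : ℕ → G) (hX : Rels X) (hXc : ∀ c ∈ cenL, ev X c = 1) :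
    ∃ x : ℕ → Γ, (∀ i < 18, σ (x i) = X i) ∧ Rels x :=
  exists_lift_rels18_of σ hs hc (fun h => Cfsg.Agent.Lib.H25.O73M.stRel4_exists_lift σ hs hc h) X hX hXc

end Cfsg.Agent.Lib.H9.O73M
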