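import Mathlib
import Cfsg.Agent.Lib.H22.PearlDefs
import Cfsg.Agent.Lib.H9.PolySeq

/-!
# S5239 piece PDC (helper9): positive degree of commutativity, `[γ_{i+1}, S₁] ≤ γ_{i+3}`
-/

set_option autoImplicit false

namespace Cfsg.Agent.Lib.H9.Pearl

open Cfsg.Agent.Lib.H22.Pearl
open scoped commutatorElement

section

variable {G : Type*} [Group G] {e : G}

theorem pdc_comm_mem {i j : ℕ} {x y : G} (hx : x ∈ L G i) (hy : y ∈ L G j) :
    x * y * x⁻¹ * y⁻¹ ∈ L G (i + j + 1) := by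
  have := Cfsg.Agent.Lib.H9.PolySeq.commutator_lcs_le (G := G) j i
    (Subgroup.commutator_mem_commutator hx hy)
  rwa [commutatorElement_def] at this

theorem pdc_anti {i j : ℕ} (h : i ≤ j) : L G j ≤ L G i :=
  Subgroup.lowerCentralSeries_antitone (S := (⊤ : Subgroup G)) h

theorem pdc_comm_top {i : ℕ} {x : G} (g : G) (hx : x ∈ L G i) : x * g * x⁻¹ * g⁻¹ ∈ L G (i + 1) := by
  have h : ⁅x, g⁆ ∈ ⁅L G i, (⊤ : Subgroup G)⁆ :=
    Subgroup.commutator_mem_commutator hx (Subgroup.mem_top g)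
  rwa [commutatorElement_def] at h

theorem pdc_calc {Q : Type*} [Group Q] {a b c : Q} (hab : a * b = c * b * a) (hac : a * c = c * a) :
    a ^ 3 * b = c ^ 3 * b * a ^ 3 := by
  have e1 : a * b = c * (b * a) := by rw [hab, mul_assoc]
  have h1 : ∀ x : Q, a * (c * x) = c * (a * x) := fun x => by
    rw [← mul_assoc, hac, mul_assoc]
  have h2 : ∀ x : Q, a * (b * x) = c * (b * (a * x)) := fun x => by
    rw [← mul_assoc, e1]; simp only [mul_assoc]
  calc a ^ 3 * b = a * (a * (a * b)) := by simp only [pow_succ, pow_zero, one_mul, mul_assoc]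
    _ = a * (a * (c * (b * a))) := by rw [e1]
    _ = a * (c * (a * (b * a))) := by rw [h1 (b * a)]
    _ = a * (c * (c * (b * (a * a)))) := by rw [h2 a]
    _ = c * (a * (c * (b * (a * a)))) := by rw [h1 (c * (b * (a * a)))]
    _ = c * (c * (a * (b * (a * a)))) := by rw [h1 (b * (a * a))]
    _ = c * (c * (c * (b * (a * (a * a))))) := by rw [h2 (a * a)]
    _ = c ^ 3 * b * a ^ 3 := by simp only [pow_succ, pow_zero, one_mul, mul_assoc]

theorem pdc_two (hU : ∀ y ∈ L G 2, ∃ d ∈ L G 1, d * e * d⁻¹ * e⁻¹ = y)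
    (hab : ∀ x ∈ L G 1, ∀ y ∈ L G 1, x * y * x⁻¹ * y⁻¹ ∈ L G 4)
    (h : G) (hh : h ∈ S1 G) : ∀ y ∈ L G 2, y * h * y⁻¹ * h⁻¹ ∈ L G 4 := by
  intro y hy
  obtain ⟨d, hd, rfl⟩ := hU y hy
  have h3 : ⁅⁅L G 1, Subgroup.zpowers e⁆, Subgroup.zpowers h⁆ ≤ L G 4 := by
    apply Cfsg.Agent.Lib.H9.PolySeq.three_subgroups_mod
    · have h1 : ⁅Subgroup.zpowers e, Subgroup.zpowers h⁆ ≤ L G 1 := by
        show _ ≤ ⁅(⊤ : Subgroup G).lowerCentralSeries 0, ⊤⁆
        exact Subgroup.commutator_mono le_top le_top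
      refine (Subgroup.commutator_mono h1 le_rfl).trans ?_
      rw [Subgroup.commutator_le]
      intro x hx y hy
      rw [commutatorElement_def]
      exact hab x hx y hy
    · have h2 : ⁅Subgroup.zpowers h, L G 1⁆ ≤ L G 3 := by
        rw [Subgroup.commutator_comm, Subgroup.commutator_le]
        intro x hx g hg
        obtain ⟨k, rfl⟩ := Subgroup.mem_zpowers_iff.1 hg
        rw [commutatorElement_def]
        exact mem_S1.1 ((S1 G).zpow_mem hh k) x hx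
      exact Subgroup.commutator_mono h2 le_top
  have := h3 (Subgroup.commutator_mem_commutator
    (Subgroup.commutator_mem_commutator hd (Subgroup.mem_zpowers e)) (Subgroup.mem_zpowers h))
  rwa [commutatorElement_def, commutatorElement_def] at this

theorem pdc_step (hpw : ∀ i, 1 ≤ i → ∀ d ∈ L G i, d ^ 3 ∈ L G (i + 2))
    (hgen : ∀ i, 1 ≤ i → ∀ y ∈ L G (i + 2), ∃ d ∈ L G i, ∃ k : ℕ, ∃ y' ∈ L G (i + 3),
      y = (d ^ 3) ^ k * y')
    (h : G) (i : ℕ) (hi : 1 ≤ i)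
    (hP : ∀ y ∈ L G i, y * h * y⁻¹ * h⁻¹ ∈ L G (i + 2)) :
    ∀ y ∈ L G (i + 2), y * h * y⁻¹ * h⁻¹ ∈ L G (i + 4) := by
  intro y hy
  obtain ⟨d, hd, k, y', hy', rfl⟩ := hgen i hi y hy
  let N : Subgroup G := L G (i + 4)
  have hN : N.Normal := inferInstance
  let π := QuotientGroup.mk' N
  have hmem : ∀ x : G, x ∈ N ↔ π x = 1 := fun x => (QuotientGroup.eq_one_iff x).symm
  have hiff : ∀ x z : G, x * z * x⁻¹ * z⁻¹ ∈ N ↔ π x * π z = π z * π x := by
    intro x z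
    rw [hmem, map_mul, map_mul, map_mul, map_inv, map_inv]
    constructor
    · intro h1
      have h2 : π x * π z = (π x * π z * (π x)⁻¹ * (π z)⁻¹) * (π z * π x) := by group
      rw [h2, h1, one_mul]
    · intro h1
      rw [h1]
      group
  set c := d * h * d⁻¹ * h⁻¹ with hc_def
  have hc : c ∈ L G (i + 2) := hP d hd
  have hdc : π d * π c = π c * π d :=
    (hiff d c).1 (pdc_anti (by omega) (pdc_comm_mem hd hc))
  have hc3 : π c ^ 3 = 1 := by
    rw [← map_pow]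
    exact (hmem _).1 (hpw (i + 2) (by omega) c hc)
  have hdh : π d * π h = π c * π h * π d := by
    have h1 : c * h * d = d * h := by rw [hc_def]; group
    rw [← map_mul, ← map_mul, ← map_mul, h1]
  have hd3 : π d ^ 3 * π h = π h * π d ^ 3 := by
    rw [pdc_calc hdh hdc, hc3, one_mul]
  have hd3k : Commute (π ((d ^ 3) ^ k)) (π h) := by
    rw [map_pow, map_pow]
    exact Commute.pow_left hd3 k
  have hy'c : Commute (π y') (π h) :=
    (hiff y' h).1 (pdc_comm_top h hy')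
  have := Commute.mul_left hd3k hy'c
  rw [← map_mul] at this
  exact (hiff _ h).2 this

theorem pdc (hU : ∀ y ∈ L G 2, ∃ d ∈ L G 1, d * e * d⁻¹ * e⁻¹ = y)
    (hab : ∀ x ∈ L G 1, ∀ y ∈ L G 1, x * y * x⁻¹ * y⁻¹ ∈ L G 4)
    (hpw : ∀ i, 1 ≤ i → ∀ d ∈ L G i, d ^ 3 ∈ L G (i + 2))
    (hgen : ∀ i, 1 ≤ i → ∀ y ∈ L G (i + 2), ∃ d ∈ L G i, ∃ k : ℕ, ∃ y' ∈ L G (i + 3), y = (d ^ 3) ^ k * y')
    (h : G) (hh : h ∈ S1 G) :
    ∀ i, 1 ≤ i → ∀ y ∈ L G i, y * h * y⁻¹ * h⁻¹ ∈ L G (i + 2) := by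
  have main : ∀ n : ℕ, (∀ y ∈ L G (n + 1), y * h * y⁻¹ * h⁻¹ ∈ L G (n + 1 + 2)) ∧
      (∀ y ∈ L G (n + 2), y * h * y⁻¹ * h⁻¹ ∈ L G (n + 2 + 2)) := by
    intro n
    induction n with
    | zero =>
      refine ⟨fun y hy => mem_S1.1 hh y hy, fun y hy => pdc_two hU hab h hh y hy⟩
    | succ n ih =>
      refine ⟨ih.2, ?_⟩
      intro y hy
      have := pdc_step hpw hgen h (n + 1) (by omega) ih.1 y hy
      exact this
  intro i hi y hy
  obtain ⟨n, rfl⟩ : ∃ n, i = n + 1 := ⟨i - 1, by omega⟩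
  exact (main n).1 y hy

end

end Cfsg.Agent.Lib.H9.Pearl
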