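import Mathlib
import Cfsg.Agent.Lib.H22.PearlDefs
import Cfsg.Agent.Lib.H9.PolySeq

/-!
# S5239 piece PW (helper9): the power structure of `γ₂` in a 3-group with a uniform element
-/

set_option autoImplicit false

namespace Cfsg.Agent.Lib.H9.Pearl

open Cfsg.Agent.Lib.H22.Pearl
open scoped commutatorElement

section

variable {G : Type*} [Group G] {e : G}

theorem pw_comm_mem {i j : ℕ} {x y : G} (hx : x ∈ L G i) (hy : y ∈ L G j) :
    x * y * x⁻¹ * y⁻¹ ∈ L G (i + j + 1) := by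
  have := Cfsg.Agent.Lib.H9.PolySeq.commutator_lcs_le (G := G) j i
    (Subgroup.commutator_mem_commutator hx hy)
  rwa [commutatorElement_def] at this

theorem pw_anti {i j : ℕ} (h : i ≤ j) : L G j ≤ L G i :=
  Subgroup.lowerCentralSeries_antitone (S := (⊤ : Subgroup G)) h

theorem pw_conj_mem {i : ℕ} {x : G} (g : G) (hx : x ∈ L G i) : g * x * g⁻¹ ∈ L G i :=
  (inferInstance : (L G i).Normal).conj_mem x hx g

/-- `[d, e]`-type elements lie one step deeper -/
theorem pw_comm_top {i : ℕ} {x : G} (g : G) (hx : x ∈ L G i) : x * g * x⁻¹ * g⁻¹ ∈ L G (i + 1) := by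
  have h : ⁅x, g⁆ ∈ ⁅L G i, (⊤ : Subgroup G)⁆ :=
    Subgroup.commutator_mem_commutator hx (Subgroup.mem_top g)
  rwa [commutatorElement_def] at h

/-- three pairwise commuting elements -/
theorem pw_calc {Q : Type*} [Group Q] {a b c : Q} (hab : a * b = b * a) (hac : a * c = c * a) :
    (a * b) * (a * b * b * c) * a = a ^ 3 * b ^ 3 * c := by
  have h1 : ∀ x : Q, b * (a * x) = a * (b * x) := fun x => by rw [← mul_assoc, ← hab, mul_assoc]
  have h2 : ∀ x : Q, c * (a * x) = a * (c * x) := fun x => by rw [← mul_assoc, ← hac, mul_assoc]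
  have h2' : c * a = a * c := hac.symm
  simp only [pow_succ, pow_zero, one_mul, mul_assoc]
  rw [h2', h1, h1, h1, h1]

theorem pow_struct (he : e ^ 3 = 1) (m : ℕ) (hbot : L G m = ⊥)
    (hcls : ∀ d ∈ L G 1, (e * d) ^ 3 = 1)
    (hU2 : ∀ i, 1 ≤ i → i + 1 < m → ∀ d ∈ L G i, d ∉ L G (i + 1) → d * e * d⁻¹ * e⁻¹ ∉ L G (i + 2)) :
    ∀ i, 1 ≤ i → (∀ d ∈ L G i, d ^ 3 ∈ L G (i + 2)) ∧
      (i + 2 < m → ∀ d ∈ L G i, d ∉ L G (i + 1) → d ^ 3 ∉ L G (i + 3)) := by
  -- the key congruence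
  have key : ∀ i, 1 ≤ i → (∀ u ∈ L G (i + 1), u ^ 3 ∈ L G (i + 3)) → ∀ d ∈ L G i,
      d ^ 3 * (d⁻¹ * e * d * e⁻¹)⁻¹ * e * (d⁻¹ * e * d * e⁻¹) * e⁻¹ ∈ L G (i + 3) := by
    intro i hi hind d hd
    set u := d⁻¹ * e * d * e⁻¹ with hu
    set v := u⁻¹ * e * u * e⁻¹ with hv
    have hdinv : d⁻¹ ∈ L G i := (L G i).inv_mem hd
    have huL : u ∈ L G (i + 1) := by
      have := pw_comm_top e hdinv
      rwa [inv_inv] at this
    have hvL : v ∈ L G (i + 2) := by
      have := pw_comm_top e ((L G (i + 1)).inv_mem huL)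
      rwa [inv_inv] at this
    -- `(e d)^3 = 1` expands to `(d u)(d u u v) d = 1`
    have h1 : (e * d) * (e * d) * (e * d) = 1 := by
      rw [← hcls d (pw_anti hi hd), pow_succ, pow_succ, pow_one]
    have e1 : e * d * e⁻¹ = d * u := by rw [hu]; group
    have e2 : e * u * e⁻¹ = u * v := by rw [hv]; group
    have e3 : (e * d) * (e * d) * (e * d) =
        (e * d * e⁻¹) * (e * (e * d * e⁻¹) * e⁻¹) * (e ^ 3 * d * (e ^ 3)⁻¹) * e ^ 3 := by group
    have e4 : e * (d * u) * e⁻¹ = (e * d * e⁻¹) * (e * u * e⁻¹) := by group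
    rw [e3, he, e1, e4, e1, e2] at h1
    simp only [one_mul, inv_one, mul_one] at h1
    -- pass to the quotient by `N = L (i+3)`
    let N : Subgroup G := L G (i + 3)
    have hN : N.Normal := inferInstance
    let π := QuotientGroup.mk' N
    have hmem : ∀ x : G, x ∈ N ↔ π x = 1 := fun x => (QuotientGroup.eq_one_iff x).symm
    have hcomm : ∀ x y : G, x * y * x⁻¹ * y⁻¹ ∈ N → π x * π y = π y * π x := by
      intro x y hxy
      have := (hmem _).1 hxy
      rw [map_mul, map_mul, map_mul, map_inv, map_inv] at this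
      have h2 : π x * π y = (π x * π y * (π x)⁻¹ * (π y)⁻¹) * (π y * π x) := by group
      rw [h2, this, one_mul]
    have hdu : π d * π u = π u * π d :=
      hcomm d u (pw_anti (by omega) (pw_comm_mem hd huL))
    have hdv : π d * π v = π v * π d :=
      hcomm d v (pw_anti (by omega) (pw_comm_mem hd hvL))
    have h3 : π ((d * u) * (d * u * (u * v)) * d) = 1 := by rw [h1, map_one]
    have h4 : π ((d * u) * (d * u * (u * v)) * d) = π d ^ 3 * π u ^ 3 * π v := by
      simp only [map_mul]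
      rw [← pw_calc hdu hdv]
      simp only [mul_assoc]
    have h5 : π u ^ 3 = 1 := by
      rw [← map_pow]
      exact (hmem _).1 (hind u huL)
    rw [h4, h5, mul_one] at h3
    -- `d^3 * v ∈ N`
    have h6 : d ^ 3 * v ∈ N := by
      rw [hmem, map_mul, map_pow]
      exact h3
    have h7 : d ^ 3 * u⁻¹ * e * u * e⁻¹ = d ^ 3 * v := by rw [hv]; group
    rw [h7]
    exact h6
  -- descending induction for the first claim
  have first : ∀ k i, 1 ≤ i → m ≤ i + k → ∀ d ∈ L G i, d ^ 3 ∈ L G (i + 2) := by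
    intro k
    induction k with
    | zero =>
      intro i _ hm d hd
      have : d ∈ L G m := pw_anti (by omega) hd
      rw [hbot, Subgroup.mem_bot] at this
      rw [this, one_pow]
      exact Subgroup.one_mem _
    | succ k ih =>
      intro i hi hm d hd
      have hind : ∀ u ∈ L G (i + 1), u ^ 3 ∈ L G (i + 3) := fun u hu =>
        ih (i + 1) (by omega) (by omega) u hu
      have hk := key i hi hind d hd
      set u := d⁻¹ * e * d * e⁻¹ with hu
      have hdinv : d⁻¹ ∈ L G i := (L G i).inv_mem hd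
      have huL : u ∈ L G (i + 1) := by
        have := pw_comm_top e hdinv
        rwa [inv_inv] at this
      have hvL : u⁻¹ * e * u * e⁻¹ ∈ L G (i + 2) := by
        have := pw_comm_top e ((L G (i + 1)).inv_mem huL)
        rwa [inv_inv] at this
      have h8 : d ^ 3 = (d ^ 3 * u⁻¹ * e * u * e⁻¹) * (u⁻¹ * e * u * e⁻¹)⁻¹ := by group
      rw [h8]
      exact (L G (i + 2)).mul_mem (pw_anti (by omega) hk) ((L G (i + 2)).inv_mem hvL)
  intro i hi
  refine ⟨first m i hi (by omega), ?_⟩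
  intro him d hd hd1 hcon
  have hind : ∀ u ∈ L G (i + 1), u ^ 3 ∈ L G (i + 3) := fun u hu =>
    first m (i + 1) (by omega) (by omega) u hu
  have hk := key i hi hind d hd
  set u := d⁻¹ * e * d * e⁻¹ with hu
  have hdinv : d⁻¹ ∈ L G i := (L G i).inv_mem hd
  have hdinv1 : d⁻¹ ∉ L G (i + 1) := fun h => hd1 (by simpa using (L G (i + 1)).inv_mem h)
  have huL : u ∈ L G (i + 1) := by
    have := pw_comm_top e hdinv
    rwa [inv_inv] at this
  have hu2 : u ∉ L G (i + 2) := by
    have := hU2 i hi (by omega) d⁻¹ hdinv hdinv1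
    rwa [inv_inv] at this
  have huinv2 : u⁻¹ ∉ L G (i + 2) := fun h => hu2 (by simpa using (L G (i + 2)).inv_mem h)
  have hv3 : u⁻¹ * e * u * e⁻¹ ∉ L G (i + 3) := by
    have := hU2 (i + 1) (by omega) (by omega) u⁻¹ ((L G (i + 1)).inv_mem huL) huinv2
    rwa [inv_inv] at this
  apply hv3
  have h9 : u⁻¹ * e * u * e⁻¹ = (d ^ 3)⁻¹ * (d ^ 3 * u⁻¹ * e * u * e⁻¹) := by group
  rw [h9]
  exact (L G (i + 3)).mul_mem ((L G (i + 3)).inv_mem hcon) hk

end

end Cfsg.Agent.Lib.H9.Pearl
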