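import Cfsg.Agent.Lib.H9.KZTR

/-!
# S4575, piece TEQ in the EXACT signature of `tools/blueprints/S4575_sigs.lean` (helper9)

`contrib_eq_zero_of_not_mem`: the contributions of a subsection vanish outside the induced block
(wrapper of `Cfsg.Agent.Lib.H9.KZTR.contrib_eq_zero_of_not_mem`, which rests on helper23's landed
`second_main`).  The same file `H9.KZTR` also has the trace identity over `B` as an equality
(`sum_mem_normSq_contrib`, `sum_pcontrib_self_re_eq`).
-/

set_option autoImplicit false

namespace Cfsg.Agent.Lib.H9.KX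

open Cfsg MonoidAlgebra Cfsg.Agent.Lib.H23 Cfsg.Agent.Lib.H23.Contrib
open scoped ComplexConjugate

variable {G : Type*} [Group G] [Fintype G] {p : ℕ} [Fact p.Prime] {M : Ideal AlgInt}

/-- (TEQ) the contributions of a subsection vanish outside the induced block. -/
theorem contrib_eq_zero_of_not_mem (hM : IsPModular p M) (H : Subgroup G) [Fintype H]
    {b : Set (IrrCharacter H)} {B : Set (IrrCharacter G)} (hind : IsInducedBlock M H b B) (z : H)
    (hzc : z ∈ Subgroup.center H) (hz : ∃ k : ℕ, orderOf z = p ^ k)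
    (hC : ∀ g : G, g * (z : G) * g⁻¹ = (z : G) → g ∈ H) (χ : IrrCharacter G) (hχ : χ ∉ B)
    (ψ : G → ℂ) : contrib p H b z (χ : G → ℂ) ψ = 0 :=
  Cfsg.Agent.Lib.H9.KZTR.contrib_eq_zero_of_not_mem Fact.out hM H hind hzc hz hC χ hχ ψ

end Cfsg.Agent.Lib.H9.KX
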