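import Mathlib

set_option autoImplicit false

namespace Cfsg.Agent.Lib.H9
open Subgroup MulAction

variable {G : Type*} [Group G] {H : Subgroup G} {A : Type*} [CommGroup A]

/-- Extension of a hom on `H` to a function on `G` (value `1` off `H`). -/
noncomputable def extendHom (ϕ : H →* A) : G → A := by
  classical
  exact fun x => if h : x ∈ H then ϕ ⟨x, h⟩ else 1

theorem extendHom_of_mem (ϕ : H →* A) {x : G} (h : x ∈ H) : extendHom ϕ x = ϕ ⟨x, h⟩ := by
  classical
  simp [extendHom, h]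

theorem extendHom_mul (ϕ : H →* A) {x y : G} (hx : x ∈ H) (hy : y ∈ H) :
    extendHom ϕ (x * y) = extendHom ϕ x * extendHom ϕ y := by
  rw [extendHom_of_mem ϕ hx, extendHom_of_mem ϕ hy, extendHom_of_mem ϕ (H.mul_mem hx hy),
    ← map_mul]
  rfl

theorem extendHom_one (ϕ : H →* A) : extendHom ϕ (1 : G) = 1 := by
  rw [extendHom_of_mem ϕ H.one_mem]
  exact map_one ϕ

theorem out_inv_mul_smul_out_mem (g : G) (q : G ⧸ H) : q.out⁻¹ * g * (g⁻¹ • q).out ∈ H := by
  have h1 : ((g * (g⁻¹ • q).out : G) : G ⧸ H) = q := by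
    rw [← smul_eq_mul, MulAction.Quotient.coe_smul_out, smul_inv_smul]
  have h2 : ((q.out : G) : G ⧸ H) = ((g * (g⁻¹ • q).out : G) : G ⧸ H) := by
    rw [h1]; exact q.out_eq'
  have := QuotientGroup.eq.mp h2
  simpa [mul_assoc] using this

theorem transfer_eq_prod_out [H.FiniteIndex] [Fintype (G ⧸ H)] (ϕ : H →* A) (g : G) :
    ϕ.transfer g = ∏ q : G ⧸ H, extendHom ϕ (q.out⁻¹ * g * (g⁻¹ • q).out) := by
  let T : H.LeftTransversal := ⟨Set.range Quotient.out, isComplement_range_left Quotient.out_eq'⟩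
  rw [MonoidHom.transfer_def ϕ T g]
  unfold leftTransversals.diff
  refine Finset.prod_congr (Finset.ext fun x => by simp) ?_
  intro q _
  rw [extendHom_of_mem ϕ (out_inv_mul_smul_out_mem g q)]
  congr 1
  apply Subtype.ext
  simp only [smul_apply_eq_smul_apply_inv_smul]
  rw [IsComplement.leftQuotientEquiv_apply (f := Quotient.out) Quotient.out_eq' q,
    IsComplement.leftQuotientEquiv_apply (f := Quotient.out) Quotient.out_eq' (g⁻¹ • q)]
  simp [mul_assoc]


open Classical in
/-- Transfer at an involution: only the fixed cosets contribute. -/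
theorem transfer_involution [H.FiniteIndex] [Fintype (G ⧸ H)] (ϕ : H →* A) (y : G)
    (hy : y * y = 1) :
    ϕ.transfer y = ∏ q : G ⧸ H, if y • q = q then extendHom ϕ (q.out⁻¹ * y * q.out) else 1 := by
  have hyinv : y⁻¹ = y := inv_eq_of_mul_eq_one_right hy
  rw [transfer_eq_prod_out ϕ y]
  rw [← Finset.prod_filter_mul_prod_filter_not Finset.univ (fun q : G ⧸ H => y • q = q)]
  rw [← Finset.prod_filter_mul_prod_filter_not Finset.univ (fun q : G ⧸ H => y • q = q)
    (fun q => if y • q = q then extendHom ϕ (q.out⁻¹ * y * q.out) else 1)]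
  congr 1
  · apply Finset.prod_congr rfl
    intro q hq
    rw [Finset.mem_filter] at hq
    rw [if_pos hq.2, hyinv, hq.2]
  · rw [Finset.prod_congr rfl (g := fun _ => (1 : A))
      (fun q hq => by rw [Finset.mem_filter] at hq; rw [if_neg hq.2]) (s₁ := Finset.univ.filter (fun q : G ⧸ H => ¬ y • q = q)) (f := (fun q => if y • q = q then extendHom ϕ (q.out⁻¹ * y * q.out) else 1))]
    rw [Finset.prod_const_one]
    refine Finset.prod_involution (fun q _ => y • q) ?_ ?_ ?_ ?_
    · intro q _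
      rw [hyinv, ← mul_smul, hy, one_smul]
      have h1 := out_inv_mul_smul_out_mem (H := H) y q
      have h2 := out_inv_mul_smul_out_mem (H := H) y (y • q)
      rw [hyinv] at h1 h2
      rw [← mul_smul, hy, one_smul] at h2
      rw [← extendHom_mul ϕ h1 h2]
      have : (q.out)⁻¹ * y * (y • q).out * ((y • q).out⁻¹ * y * q.out) = 1 := by
        calc (q.out)⁻¹ * y * (y • q).out * ((y • q).out⁻¹ * y * q.out)
            = q.out⁻¹ * (y * y) * q.out := by group
          _ = 1 := by rw [hy]; group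
      rw [this, extendHom_one]
    · intro q hq _
      rw [Finset.mem_filter] at hq
      exact hq.2
    · intro q hq
      rw [Finset.mem_filter] at hq ⊢
      refine ⟨Finset.mem_univ _, ?_⟩
      rw [← mul_smul, hy, one_smul]
      exact fun h => hq.2 h.symm
    · intro q _
      rw [← mul_smul, hy, one_smul]

open Classical in
/-- Transfer at an involution when the values at its conjugates are `1` (inside `K`) or `u`. -/
theorem transfer_involution_eq_pow [H.FiniteIndex] [Finite (G ⧸ H)] (ϕ : H →* A) (y : G)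
    (hy : y * y = 1) (K : Subgroup G) (u : A)
    (hu : ∀ x : G, x⁻¹ * y * x ∈ H → x⁻¹ * y * x ∉ K → extendHom ϕ (x⁻¹ * y * x) = u)
    (h1 : ∀ x : G, x⁻¹ * y * x ∈ K → extendHom ϕ (x⁻¹ * y * x) = 1) :
    ϕ.transfer y = u ^ Nat.card {q : G ⧸ H // y • q = q ∧ q.out⁻¹ * y * q.out ∉ K} := by
  have : Fintype (G ⧸ H) := Fintype.ofFinite _
  rw [transfer_involution ϕ y hy]
  have hterm : ∀ q : G ⧸ H,
      (if y • q = q then extendHom ϕ (q.out⁻¹ * y * q.out) else 1) =
      if (y • q = q ∧ q.out⁻¹ * y * q.out ∉ K) then u else 1 := by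
    intro q
    by_cases hq : y • q = q
    · have hmem : q.out⁻¹ * y * q.out ∈ H := by
        have h2 : ((y * q.out : G) : G ⧸ H) = ((q.out : G) : G ⧸ H) := by
          rw [← smul_eq_mul, MulAction.Quotient.coe_smul_out, hq]
          exact q.out_eq'.symm
        have := QuotientGroup.eq.mp h2.symm
        simpa [mul_assoc] using this
      by_cases hK : q.out⁻¹ * y * q.out ∈ K
      · rw [if_pos hq, if_neg (by tauto), h1 _ hK]
      · rw [if_pos hq, if_pos ⟨hq, hK⟩, hu _ hmem hK]
    · rw [if_neg hq, if_neg (by tauto)]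
  rw [Finset.prod_congr rfl (fun q _ => hterm q), Finset.prod_ite, Finset.prod_const_one, mul_one,
    Finset.prod_const]
  congr 1
  rw [Nat.card_eq_fintype_card, Fintype.card_subtype]


/-- An invariant subset containing all the fixed points of a `p`-group action has cardinality
congruent to that of the whole set. -/
theorem card_invariant_modEq {P X : Type*} [Group P] [MulAction P X] [Finite X] {p : ℕ}
    [Fact p.Prime] (hP : IsPGroup p P) (F : Set X) (hinv : ∀ g : P, ∀ x ∈ F, g • x ∈ F)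
    (hfix : ∀ x ∈ MulAction.fixedPoints P X, x ∈ F) :
    Nat.card F ≡ Nat.card X [MOD p] := by
  let Fs : SubMulAction P X := ⟨F, fun g x hx => hinv g x hx⟩
  have h1 : Nat.card Fs ≡ Nat.card (fixedPoints P Fs) [MOD p] := hP.card_modEq_card_fixedPoints Fs
  have h2 : Nat.card X ≡ Nat.card (fixedPoints P X) [MOD p] := hP.card_modEq_card_fixedPoints X
  have h3 : Nat.card (fixedPoints P Fs) = Nat.card (fixedPoints P X) := by
    apply Nat.card_congr
    refine ⟨fun x => ⟨x.1.1, fun g => ?_⟩, fun x => ⟨⟨x.1, hfix x.1 x.2⟩, fun g => ?_⟩, ?_, ?_⟩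
    · have := x.2 g
      exact congrArg Subtype.val this
    · apply Subtype.ext
      exact x.2 g
    · intro x; rfl
    · intro x; rfl
  have h4 : Nat.card F = Nat.card Fs := rfl
  rw [h4]
  exact h1.trans (h3 ▸ h2.symm)

/-- Conjugates by two representatives of the same coset of `H` lie in a normal subgroup `K` of `H`
simultaneously. -/
theorem conj_mem_of_coset_eq {K : Subgroup G} (hKn : ∀ h ∈ H, ∀ k ∈ K, h⁻¹ * k * h ∈ K)
    {x₁ x₂ : G} (h : (x₁ : G ⧸ H) = x₂) (y : G) (h1 : x₁⁻¹ * y * x₁ ∈ K) :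
    x₂⁻¹ * y * x₂ ∈ K := by
  have hs : x₁⁻¹ * x₂ ∈ H := QuotientGroup.eq.mp h
  have := hKn _ hs _ h1
  have e : (x₁⁻¹ * x₂)⁻¹ * (x₁⁻¹ * y * x₁) * (x₁⁻¹ * x₂) = x₂⁻¹ * y * x₂ := by group
  rwa [e] at this

/-- The set of fixed cosets whose conjugate of `y` falls outside `K` is invariant under the
centralizer of `y`. -/
theorem fixedSet_invariant {K : Subgroup G} (hKn : ∀ h ∈ H, ∀ k ∈ K, h⁻¹ * k * h ∈ K)
    (y c : G) (hc : c * y = y * c) (q : G ⧸ H)
    (hq : y • q = q ∧ q.out⁻¹ * y * q.out ∉ K) :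
    y • (c • q) = c • q ∧ (c • q).out⁻¹ * y * (c • q).out ∉ K := by
  refine ⟨?_, ?_⟩
  · rw [← mul_smul, ← hc, mul_smul, hq.1]
  · intro h
    apply hq.2
    have h1 : (((c • q).out : G) : G ⧸ H) = ((c * q.out : G) : G ⧸ H) := by
      rw [← smul_eq_mul, MulAction.Quotient.coe_smul_out]
      exact (c • q).out_eq'
    have h2 := conj_mem_of_coset_eq hKn h1 y h
    have e : (c * q.out)⁻¹ * y * (c * q.out) = q.out⁻¹ * y * q.out := by
      calc (c * q.out)⁻¹ * y * (c * q.out) = q.out⁻¹ * (c⁻¹ * (y * c)) * q.out := by group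
        _ = q.out⁻¹ * (c⁻¹ * (c * y)) * q.out := by rw [hc]
        _ = q.out⁻¹ * y * q.out := by group
    rwa [e] at h2

/-- A coset `q` of `H` fixed by `r` has `q.out⁻¹ * r * q.out ∈ H`. -/
theorem out_conj_mem_of_smul_eq (r : G) (q : G ⧸ H) (hq : r • q = q) :
    q.out⁻¹ * r * q.out ∈ H := by
  have h2 : ((r * q.out : G) : G ⧸ H) = ((q.out : G) : G ⧸ H) := by
    rw [← smul_eq_mul, MulAction.Quotient.coe_smul_out, hq]
    exact q.out_eq'.symm
  have := QuotientGroup.eq.mp h2.symm
  simpa [mul_assoc] using this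

end Cfsg.Agent.Lib.H9
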