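import Cfsg.Agent.Lib.H9.HallWielandt3
import Cfsg.Agent.Lib.H22.UniqueOrderP

/-! helper9: Yoshida's transfer theorem. Local transfer criterion (`transfer_eq_of_local`), the wreath
quotient criterion (`exists_surjective_sylow_perm`) and Yoshida's theorem (`yoshida`). -/

set_option autoImplicit false

namespace Cfsg.Agent.Lib.H9.HW

open Cfsg.Agent.Lib.H9 MulAction

open scoped commutatorElement

section partF

/-- A strict inclusion of subgroups of a finite `p`-group multiplies the order by at least `p`. -/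
theorem card_mul_le_of_lt {R : Type*} [Group R] [Finite R] {p : ℕ} [hp : Fact p.Prime]
    (hR : IsPGroup p R) {A B : Subgroup R} (hAB : A < B) : Nat.card A * p ≤ Nat.card B := by
  obtain ⟨a, ha⟩ := IsPGroup.iff_card.mp (hR.to_subgroup A)
  obtain ⟨b, hb⟩ := IsPGroup.iff_card.mp (hR.to_subgroup B)
  have hdvd : Nat.card A ∣ Nat.card B := Subgroup.card_dvd_of_le hAB.le
  rw [ha, hb] at hdvd ⊢
  have hab : a ≤ b := (Nat.pow_dvd_pow_iff_le_right hp.out.one_lt).mp hdvd
  have hne : a ≠ b := by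
    intro h
    have hcard : Nat.card A = Nat.card B := by rw [ha, hb, h]
    have : A = B := Subgroup.eq_of_le_of_card_ge hAB.le (le_of_eq hcard.symm)
    exact hAB.ne this
  have : a + 1 ≤ b := by omega
  calc p ^ a * p = p ^ (a + 1) := (pow_succ p a).symm
    _ ≤ p ^ b := Nat.pow_le_pow_right hp.out.pos this

/-- If `z` normalizes the commutative subgroup `A` of the finite `p`-group `R` and
`[w, z; k] ≠ 1` for some `w ∈ A`, then `A` has order at least `p ^ (k + 1)`. -/
theorem card_ge_of_iterate_comm_ne_one {R : Type*} [Group R] [Finite R] {p : ℕ}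
    [hp : Fact p.Prime] (hR : IsPGroup p R) (A : Subgroup R)
    (hA : ∀ a ∈ A, ∀ b ∈ A, a * b = b * a) (z : R) (hz : ∀ a ∈ A, z⁻¹ * a * z ∈ A)
    (w : R) (hw : w ∈ A) (k : ℕ)
    (hk : (fun y : R => y⁻¹ * z⁻¹ * y * z)^[k] w ≠ 1) : p ^ (k + 1) ≤ Nat.card A := by
  obtain ⟨c, hc⟩ : ∃ c : R → R, c = fun y : R => y⁻¹ * z⁻¹ * y * z := ⟨_, rfl⟩
  rw [← hc] at hk
  have hcA : ∀ a ∈ A, c a ∈ A := by
    intro a ha
    have : c a = a⁻¹ * (z⁻¹ * a * z) := by rw [hc]; group
    rw [this]
    exact A.mul_mem (A.inv_mem ha) (hz a ha)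
  have hcmul : ∀ a ∈ A, ∀ b ∈ A, c (a * b) = c a * c b := by
    intro a ha b hb
    have e1 : c (a * b) = b⁻¹ * c a * (z⁻¹ * b * z) := by rw [hc]; group
    have e2 : b⁻¹ * c a = c a * b⁻¹ := hA _ (A.inv_mem hb) _ (hcA a ha)
    rw [e1, e2]
    rw [hc]; group
  -- the endomorphism of `A`
  obtain ⟨cA, hcA'⟩ : ∃ cA : Monoid.End ↥A, ∀ a : ↥A, ((cA a : ↥A) : R) = c (a : R) :=
    ⟨MonoidHom.mk' (fun a => ⟨c (a : R), hcA a a.2⟩) (by
      intro a b
      apply Subtype.ext
      simp only [Subgroup.coe_mul]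
      exact hcmul a a.2 b b.2), fun a => rfl⟩
  have hiter : ∀ j : ℕ, ∀ a : ↥A, (((cA ^ j) a : ↥A) : R) = c^[j] (a : R) := by
    intro j
    induction j with
    | zero => intro a; simp
    | succ j ih =>
      intro a
      rw [pow_succ', Function.iterate_succ_apply']
      show ((cA ((cA ^ j) a) : ↥A) : R) = _
      rw [hcA', ih]
  obtain ⟨D, hD⟩ : ∃ D : ℕ → Subgroup ↥A, ∀ j, D j = MonoidHom.ker (cA ^ j : Monoid.End ↥A) :=
    ⟨fun j => MonoidHom.ker (cA ^ j : Monoid.End ↥A), fun j => rfl⟩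
  have hDmem : ∀ j (a : ↥A), a ∈ D j ↔ (cA ^ j) a = 1 := by
    intro j a; rw [hD]; exact Iff.rfl
  have hmono : ∀ j, D j ≤ D (j + 1) := by
    intro j a ha
    rw [hDmem] at ha ⊢
    rw [pow_succ']
    show cA ((cA ^ j) a) = 1
    rw [ha, map_one]
  have hmono' : ∀ i j, i ≤ j → D i ≤ D j := by
    intro i j hij
    induction j with
    | zero =>
      have : i = 0 := by omega
      rw [this]
    | succ j ih =>
      rcases Nat.eq_or_lt_of_le hij with h | h
      · rw [h]
      · exact (ih (by omega)).trans (hmono j)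
  have hstab : ∀ j, D j = D (j + 1) → D (j + 1) = D (j + 2) := by
    intro j hj
    apply le_antisymm (hmono (j + 1))
    intro a ha
    rw [hDmem] at ha ⊢
    have h1 : cA a ∈ D (j + 1) := by
      rw [hDmem]
      have : (cA ^ (j + 2)) a = (cA ^ (j + 1)) (cA a) := by
        rw [pow_succ]; rfl
      rw [← this]; exact ha
    rw [← hj, hDmem] at h1
    have : (cA ^ (j + 1)) a = (cA ^ j) (cA a) := by
      rw [pow_succ]; rfl
    rw [this]; exact h1
  have hstab' : ∀ j, D j = D (j + 1) → ∀ n, D (j + n) = D j := by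
    intro j hj n
    induction n with
    | zero => rfl
    | succ n ih =>
      have aux : ∀ m, D (j + m) = D (j + m + 1) := by
        intro m
        induction m with
        | zero => exact hj
        | succ m ihm => exact hstab _ ihm
      rw [← add_assoc, ← aux n, ih]
  -- nilpotency
  have hnil : ∃ n, D n = ⊤ := by
    have : Group.IsNilpotent R := hR.isNilpotent
    obtain ⟨n, hn⟩ := Subgroup.nilpotent_iff_lowerCentralSeries.mp this
    refine ⟨n, ?_⟩
    rw [eq_top_iff]
    intro a _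
    rw [hDmem]
    apply Subtype.ext
    rw [hiter]
    have hl : ∀ j : ℕ, ∀ y : R, c^[j] y ∈ (⊤ : Subgroup R).lowerCentralSeries j := by
      intro j
      induction j with
      | zero => intro y; simp
      | succ j ih =>
        intro y
        rw [Function.iterate_succ_apply', Subgroup.lowerCentralSeries_succ]
        have e : c (c^[j] y) = ⁅(c^[j] y)⁻¹, z⁻¹⁆ := by
          rw [hc, commutatorElement_def]; simp
        rw [e]
        exact Subgroup.commutator_mem_commutator (Subgroup.inv_mem _ (ih y)) (Subgroup.mem_top _)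
    have := hl n (a : R)
    rw [hn, Subgroup.mem_bot] at this
    rw [this]; rfl
  obtain ⟨n, hn⟩ := hnil
  have hwk : (⟨w, hw⟩ : ↥A) ∉ D k := by
    rw [hDmem]
    intro h
    apply hk
    have := congrArg Subtype.val h
    rw [hiter] at this
    exact this
  have hstrict : ∀ j ≤ k, D j < D (j + 1) := by
    intro j hjk
    refine lt_of_le_of_ne (hmono j) ?_
    intro heq
    have h1 := hstab' j heq n
    have h2 : D (j + n) = ⊤ := by
      rw [eq_top_iff, ← hn]; exact hmono' _ _ (by omega)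
    rw [h2] at h1
    apply hwk
    have : D j ≤ D k := hmono' _ _ hjk
    apply this
    rw [← h1]; trivial
  have hAp : IsPGroup p ↥A := hR.to_subgroup A
  have hcard : ∀ j ≤ k + 1, p ^ j ≤ Nat.card (D j) := by
    intro j
    induction j with
    | zero =>
      intro _
      simp only [pow_zero]
      exact Nat.card_pos
    | succ j ih =>
      intro hj
      have h1 := card_mul_le_of_lt hAp (hstrict j (by omega))
      have h2 := ih (by omega)
      calc p ^ (j + 1) = p ^ j * p := pow_succ p j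
        _ ≤ Nat.card (D j) * p := Nat.mul_le_mul_right p h2
        _ ≤ _ := h1
  have h3 := hcard (k + 1) le_rfl
  have h4 : Nat.card (D (k + 1)) ≤ Nat.card ↥A := Subgroup.card_le_card_group _
  exact h3.trans h4

end partF

section partG

/-- the order of a Sylow `p`-subgroup of the symmetric group of degree `p ^ 2` -/
theorem factorization_card_perm_sq (p : ℕ) [hp : Fact p.Prime] :
    (Nat.card (Equiv.Perm (Fin (p ^ 2)))).factorization p = p + 1 := by
  rw [Nat.card_perm, Nat.card_fin,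
    ← Nat.multiplicity_eq_factorization hp.out (p ^ 2).factorial_ne_zero,
    Nat.Prime.multiplicity_factorial_pow hp.out]
  simp [Finset.sum_range_succ, add_comm]

/-- **Wreath quotient criterion.** A finite `p`-group with a normal subgroup `M` of index `p`, a
subgroup `K` of index `p` in `M`, and elements `u ∈ M`, `z` with `[u, z; p-1] ∉ K` maps onto a Sylow
`p`-subgroup of the symmetric group of degree `p ^ 2`. -/
theorem exists_surjective_sylow_perm {P : Type*} [Group P] [Finite P] {p : ℕ} [hp : Fact p.Prime]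
    (hP : IsPGroup p P) (M : Subgroup P) [hMn : M.Normal] (hMi : M.index = p) (z : P)
    (K : Subgroup P) (hKM : K ≤ M) (hKi : K.relIndex M = p)
    (u : P) (hu : u ∈ M) (hy : (fun y : P => y⁻¹ * z⁻¹ * y * z)^[p - 1] u ∉ K) :
    ∃ (W : Sylow p (Equiv.Perm (Fin (p ^ 2))))
      (f : P →* ↥(W : Subgroup (Equiv.Perm (Fin (p ^ 2))))), Function.Surjective f := by
  classical
  have hpp : p.Prime := hp.out
  -- commutators of `M` lie in `K`
  have hcomm : ∀ a ∈ M, ∀ b ∈ M, a * b * a⁻¹ * b⁻¹ ∈ K := by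
    intro a ha b hb
    have hMp : IsPGroup p ↥M := hP.to_subgroup M
    have h1 := Cfsg.Agent.Lib.H22.commutator_le_of_index_eq_prime hMp (K.subgroupOf M) hKi
    have h2 : ⁅(⟨a, ha⟩ : ↥M), (⟨b, hb⟩ : ↥M)⁆ ∈ commutator ↥M :=
      Subgroup.commutator_mem_commutator (Subgroup.mem_top _) (Subgroup.mem_top _)
    have h3 := h1 h2
    rw [Subgroup.mem_subgroupOf, commutatorElement_def] at h3
    simpa using h3
  obtain ⟨N, hN⟩ : ∃ N : Subgroup P, N = K.normalCore := ⟨_, rfl⟩
  have hNn : N.Normal := by rw [hN]; infer_instance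
  have hNK : N ≤ K := by rw [hN]; exact K.normalCore_le
  have hcommN : ∀ a ∈ M, ∀ b ∈ M, a * b * a⁻¹ * b⁻¹ ∈ N := by
    intro a ha b hb
    rw [hN]
    intro g
    have e : g * (a * b * a⁻¹ * b⁻¹) * g⁻¹ =
        (g * a * g⁻¹) * (g * b * g⁻¹) * (g * a * g⁻¹)⁻¹ * (g * b * g⁻¹)⁻¹ := by group
    rw [e]
    exact hcomm _ (hMn.conj_mem a ha g) _ (hMn.conj_mem b hb g)
  -- the quotient
  obtain ⟨π, hπ⟩ : ∃ π : P →* P ⧸ N, π = QuotientGroup.mk' N := ⟨_, rfl⟩
  have hπs : Function.Surjective π := by rw [hπ]; exact QuotientGroup.mk'_surjective N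
  have hπker : π.ker = N := by rw [hπ]; exact QuotientGroup.ker_mk' N
  have hπ1 : ∀ x : P, π x = 1 ↔ x ∈ N := by
    intro x; rw [hπ, QuotientGroup.mk'_apply, QuotientGroup.eq_one_iff]
  have hRp : IsPGroup p (P ⧸ N) := hP.to_quotient N
  have hAcomm : ∀ a ∈ M.map π, ∀ b ∈ M.map π, a * b = b * a := by
    rintro _ ⟨a, ha, rfl⟩ _ ⟨b, hb, rfl⟩
    rw [← map_mul, ← map_mul]
    have h1 := hcommN a ha b hb
    rw [← hπ1] at h1
    have h2 : a * b = (a * b * a⁻¹ * b⁻¹) * (b * a) := by group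
    rw [h2, map_mul, h1, one_mul]
  have hAz : ∀ a ∈ M.map π, (π z)⁻¹ * a * π z ∈ M.map π := by
    rintro _ ⟨a, ha, rfl⟩
    refine ⟨z⁻¹ * a * z, ?_, by simp⟩
    have := hMn.conj_mem a ha z⁻¹
    simpa using this
  have hiter : ∀ j : ℕ, ∀ y : P, (fun v : P ⧸ N => v⁻¹ * (π z)⁻¹ * v * π z)^[j] (π y) =
      π ((fun y : P => y⁻¹ * z⁻¹ * y * z)^[j] y) := by
    intro j
    induction j with
    | zero => intro y; rfl
    | succ j ih =>
      intro y
      rw [Function.iterate_succ_apply', Function.iterate_succ_apply', ih]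
      simp
  have hne : (fun v : P ⧸ N => v⁻¹ * (π z)⁻¹ * v * π z)^[p - 1] (π u) ≠ 1 := by
    rw [hiter, Ne, hπ1]
    exact fun h => hy (hNK h)
  have hcardA := card_ge_of_iterate_comm_ne_one hRp (M.map π) hAcomm (π z) hAz (π u)
    ⟨u, hu, rfl⟩ (p - 1) hne
  have hp1 : p - 1 + 1 = p := by have := hpp.pos; omega
  rw [hp1] at hcardA
  have hAidx : (M.map π).index = p := by
    rw [Subgroup.index_map_eq M hπs (by rw [hπker]; exact hNK.trans hKM), hMi]
  have hNidx : p ^ (p + 1) ≤ N.index := by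
    rw [Subgroup.index_eq_card, ← Subgroup.card_mul_index (M.map π), hAidx, pow_succ]
    exact Nat.mul_le_mul_right p hcardA
  -- the permutation representation
  have hKidx : K.index = p ^ 2 := by
    rw [← Subgroup.relIndex_mul_index hKM, hKi, hMi, sq]
  have hcardΩ : Nat.card (P ⧸ K) = p ^ 2 := by rw [← Subgroup.index_eq_card, hKidx]
  have e : (P ⧸ K) ≃ Fin (p ^ 2) := Finite.equivFinOfCardEq hcardΩ
  obtain ⟨ψ, hψ⟩ : ∃ ψ : P →* Equiv.Perm (Fin (p ^ 2)),
      ψ = e.permCongrHom.toMonoidHom.comp (MulAction.toPermHom P (P ⧸ K)) := ⟨_, rfl⟩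
  have hψker : ψ.ker = N := by
    rw [hψ, hN, Subgroup.normalCore_eq_ker]
    ext x
    rw [MonoidHom.mem_ker, MonoidHom.mem_ker, MonoidHom.comp_apply]
    constructor
    · intro h
      apply e.permCongrHom.injective
      rw [map_one]
      exact h
    · intro h
      rw [h]
      exact map_one _
  have hcardrange : Nat.card ψ.range = N.index := by rw [← hψker, Subgroup.index_ker]
  have hrp : IsPGroup p ψ.range := hP.of_surjective ψ.rangeRestrict ψ.rangeRestrict_surjective
  obtain ⟨W, hW⟩ := hrp.exists_le_sylow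
  have hWcard := W.card_eq_multiplicity
  rw [factorization_card_perm_sq] at hWcard
  have hle : Nat.card ψ.range ≤ p ^ (p + 1) := by
    rw [← hWcard]; exact Subgroup.card_le_of_le hW
  have heq : Nat.card ψ.range = p ^ (Nat.card (Equiv.Perm (Fin (p ^ 2)))).factorization p := by
    rw [factorization_card_perm_sq]
    rw [hcardrange] at hle ⊢
    omega
  exact ⟨Sylow.ofCard ψ.range heq, ψ.rangeRestrict, ψ.rangeRestrict_surjective⟩

end partG

section partH

variable {G : Type*} [Group G] [Finite G] {p : ℕ} [hp : Fact p.Prime]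

/-- **Local transfer criterion.** `Q` weakly closed in the Sylow subgroup `P`; if for every
`u ∈ P`, every normal subgroup `M` of index `p` of `Ŵ = Q⟨u⟩` containing `u` and every `z ∈ Q`
outside `M`, all homomorphisms `T` from `M` to `C` kill `[u, z; p-1]`, then transfer from `N_G(Q)` to
`C` restricts to the identity on `P`. -/
theorem transfer_eq_of_local (P : Sylow p G) (Q : Subgroup G)
    (hQ : Cfsg.IsWeaklyClosed Q (P : Subgroup G))
    {C : Type*} [CommGroup C] (hC : ∀ c : C, c ^ p = 1)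
    (hLoc : ∀ u ∈ (P : Subgroup G), ∀ M : Subgroup G, ∀ z ∈ Q, M ≤ Q ⊔ Subgroup.zpowers u →
      M.relIndex (Q ⊔ Subgroup.zpowers u) = p →
      (∀ g ∈ Q ⊔ Subgroup.zpowers u, ∀ d ∈ M, g⁻¹ * d * g ∈ M) → u ∈ M → z ∉ M →
      ∀ T : ↥M →* C, extendHom T ((fun y : G => y⁻¹ * z⁻¹ * y * z)^[p - 1] u) = 1)
    (H : Subgroup G) (hH : H = Subgroup.normalizer (Q : Set G)) (ρ : ↥H →* C) :
    ∀ (n : ℕ) (u : G), u ∈ (P : Subgroup G) → orderOf u = n → ρ.transfer u = extendHom ρ u := by
  classical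
  have hpp : p.Prime := hp.out
  have hHmem : ∀ g : G, g ∈ H ↔ g ∈ Subgroup.normalizer (Q : Set G) := fun g => by rw [hH]
  have hPN : (P : Subgroup G) ≤ Subgroup.normalizer (Q : Set G) :=
    sylow_le_normalizer_of_weaklyClosed P Q hQ
  have hPH : (P : Subgroup G) ≤ H := fun g hg => (hHmem g).2 (hPN hg)
  have hQP : Q ≤ (P : Subgroup G) := hQ.1
  have : Fintype (G ⧸ H) := Fintype.ofFinite _
  intro n
  induction n using Nat.strong_induction_on with
  | _ n ih =>
  intro u hu hn
  -- Step A: conjugates of elements of smaller order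
  have hA : ∀ v ∈ (P : Subgroup G), orderOf v < n → ∀ g : G, g⁻¹ * v * g ∈ H →
      extendHom ρ (g⁻¹ * v * g) = extendHom ρ v := by
    intro v hv hvn g hmem
    set y : H := ⟨g⁻¹ * v * g, hmem⟩ with hy
    have hyp : IsPGroup p (Subgroup.zpowers y) := by
      obtain ⟨k, hk⟩ := P.2 ⟨v, hv⟩
      have hvk : v ^ (p ^ k) = 1 := by
        have := congrArg Subtype.val hk
        simpa using this
      have hyk : y ^ (p ^ k) = 1 := by
        apply Subtype.ext
        rw [hy]
        simp only [Subgroup.coe_pow, Subgroup.coe_one]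
        have e := conj_pow (a := g⁻¹) (b := v) (i := p ^ k)
        rw [inv_inv] at e
        rw [e, hvk]
        group
      have hdvd : orderOf y ∣ p ^ k := orderOf_dvd_of_pow_eq_one hyk
      obtain ⟨j, _, hj⟩ := (Nat.dvd_prime_pow hpp).1 hdvd
      exact IsPGroup.of_card (n := j) (by rw [Nat.card_zpowers, hj])
    obtain ⟨h, hh⟩ := Cfsg.Agent.Lib.H16.exists_conj_mem_sylow _ hyp (P.subtype hPH)
    have h1 := hh y (Subgroup.mem_zpowers y)
    rw [Sylow.coe_subtype, Subgroup.mem_subgroupOf] at h1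
    have h2 : ((h * y * h⁻¹ : H) : G) = ((g * (h : G)⁻¹)⁻¹ * v * (g * (h : G)⁻¹)) := by
      rw [hy]; simp only [Subgroup.coe_mul, Subgroup.coe_inv]; group
    rw [h2] at h1
    have h3 : orderOf ((g * (h : G)⁻¹)⁻¹ * v * (g * (h : G)⁻¹)) = orderOf v := by
      have := (MulAut.conj (g * (h : G)⁻¹)⁻¹).orderOf_eq v
      rw [MulAut.conj_apply, inv_inv] at this
      exact this
    have h4 := ih _ hvn _ h1 h3
    have h5 := ih _ hvn v hv rfl
    rw [transfer_conj_eq] at h4
    rw [h4] at h5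
    rw [← h5]
    have h6 : (g * (h : G)⁻¹)⁻¹ * v * (g * (h : G)⁻¹) =
        ((h : G)⁻¹)⁻¹ * (g⁻¹ * v * g) * (h : G)⁻¹ := by group
    rw [h6]
    exact (extendHom_conj ρ hmem (H.inv_mem h.2)).symm
  have huH : u ∈ H := hPH hu
  -- Step B, general form
  have hgen : ∀ v ∈ (P : Subgroup G), orderOf v = n → ∀ g : G, ∀ k : ℕ, k ≠ 1 → k ∣ n →
      g⁻¹ * v ^ k * g ∈ H → extendHom ρ (g⁻¹ * v ^ k * g) = 1 := by
    intro v hv hvn g k hk1 hkn hmem
    have hpow : ∃ e, orderOf v = p ^ e := by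
      obtain ⟨e, he⟩ := (IsPGroup.iff_orderOf.1 P.2) ⟨v, hv⟩
      exact ⟨e, by rw [← he, Subgroup.orderOf_mk]⟩
    obtain ⟨e, he⟩ := hpow
    have hpk : p ∣ k := by
      rw [← hvn, he] at hkn
      obtain ⟨j, _, hj⟩ := (Nat.dvd_prime_pow hpp).1 hkn
      rcases Nat.eq_zero_or_pos j with h0 | h0
      · rw [h0, pow_zero] at hj; exact absurd hj hk1
      · rw [hj]; exact dvd_pow_self p (by omega)
    have hn0 : 0 < n := by rw [← hvn]; exact orderOf_pos v
    have hk0 : k ≠ 0 := by
      intro h0; rw [h0] at hkn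
      have := Nat.eq_zero_of_zero_dvd hkn
      omega
    have hord : orderOf (v ^ k) < n := by
      rw [orderOf_pow_of_dvd hk0 (hvn ▸ hkn), hvn]
      have h2 : 1 < k := by
        have := hpp.two_le
        have := Nat.le_of_dvd (Nat.pos_of_ne_zero hk0) hpk
        omega
      exact Nat.div_lt_self hn0 h2
    rw [hA (v ^ k) ((P : Subgroup G).pow_mem hv k) hord g hmem, extendHom_pow ρ (hPH hv)]
    obtain ⟨t, ht⟩ := hpk
    rw [ht, pow_mul, hC, one_pow]
  have hbig : ∀ ω : G ⧸ H, Function.minimalPeriod (u • ·) ω ≠ 1 →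
      extendHom ρ (ω.out⁻¹ * u ^ Function.minimalPeriod (u • ·) ω * ω.out) = 1 := by
    intro ω hω
    apply hgen u hu hn _ _ hω
    · rw [← hn, ← MulAction.pow_smul_eq_iff_minimalPeriod_dvd, pow_orderOf_eq_one, one_smul]
    · exact QuotientGroup.out_conj_pow_minimalPeriod_mem H u ω
  rw [transfer_eq_prod_fixed ρ u hbig]
  -- Step C
  set Fx := Finset.univ.filter (fun ω : G ⧸ H => u • ω = ω) with hFx
  set L : G ⧸ H → C := fun ω => extendHom ρ (ω.out⁻¹ * u * ω.out) with hL
  set ω₀ : G ⧸ H := ((1 : G) : G ⧸ H) with hω₀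
  have hω₀Fx : ω₀ ∈ Fx := by
    rw [hFx, Finset.mem_filter]
    refine ⟨Finset.mem_univ _, ?_⟩
    rw [hω₀, MulAction.Quotient.smul_mk, smul_eq_mul, mul_one]
    exact (QuotientGroup.eq.2 (by simpa using H.inv_mem huH))
  rw [← Finset.mul_prod_erase Fx L hω₀Fx]
  have hLω₀ : L ω₀ = extendHom ρ u := by
    have := extendHom_conj_rep ρ u ω₀ 1 rfl (by simpa using huH)
    rw [hL]
    simp only
    rw [this]
    simp
  rw [hLω₀]
  suffices hsuff : ∏ ω ∈ Fx.erase ω₀, L ω = 1 by rw [hsuff, mul_one]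
  have hstabH : ∀ g ∈ H, g • ω₀ = ω₀ := by
    intro g hg
    rw [hω₀, MulAction.Quotient.smul_mk, smul_eq_mul, mul_one]
    exact QuotientGroup.eq.2 (by simpa using H.inv_mem hg)
  have hQD : ∀ ω ∈ Fx.erase ω₀, ¬ Q ≤ MulAction.stabilizer G ω := by
    intro ω hω hle
    rw [Finset.mem_erase] at hω
    apply hω.1
    have hx : ω.out ∈ H := by
      rw [hHmem]
      apply mem_normalizer_of_conj_le P Q hQ
      intro q hq
      rw [← hHmem]
      have h1 : q • ω = ω := MulAction.mem_stabilizer_iff.1 (hle hq)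
      exact out_conj_mem_of_smul_eq h1
    rw [hω₀, ← QuotientGroup.out_eq' ω]
    exact QuotientGroup.eq.2 (by simpa using H.inv_mem hx)
  -- the group `Ŵ`
  obtain ⟨What, hWhat⟩ : ∃ What : Subgroup G, What = Q ⊔ Subgroup.zpowers u := ⟨_, rfl⟩
  have hQW : Q ≤ What := by rw [hWhat]; exact le_sup_left
  have huW : u ∈ What := by
    rw [hWhat]; exact (le_sup_right : Subgroup.zpowers u ≤ _) (Subgroup.mem_zpowers u)
  have hWP : What ≤ (P : Subgroup G) := by
    rw [hWhat]; exact sup_le hQP ((Subgroup.zpowers_le).2 hu)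
  have hWp : IsPGroup p ↥What := P.2.to_le hWP
  apply Finset.prod_cancels_of_partition_cancels (MulAction.orbitRel ↥What (G ⧸ H))
  intro ω hω
  have hfilt : (Fx.erase ω₀).filter (fun a => (MulAction.orbitRel ↥What (G ⧸ H)) a ω) =
      Finset.univ.filter (fun ω' : G ⧸ H => u • ω' = ω' ∧ ω' ∈ MulAction.orbit ↥What ω) := by
    ext a
    simp only [Finset.mem_filter, Finset.mem_erase, Finset.mem_univ, true_and, hFx,
      MulAction.orbitRel_apply]
    constructor
    · rintro ⟨⟨_, h1⟩, h2⟩; exact ⟨h1, h2⟩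
    · rintro ⟨h1, h2⟩
      refine ⟨⟨?_, h1⟩, h2⟩
      rintro rfl
      rw [MulAction.mem_orbit_iff] at h2
      obtain ⟨⟨g, hg⟩, hgω⟩ := h2
      have h3 : g • ω = ω₀ := hgω
      have h4 : ω = g⁻¹ • ω₀ := by rw [← h3, inv_smul_smul]
      rw [hstabH _ (H.inv_mem (hPH (hWP hg)))] at h4
      rw [Finset.mem_erase] at hω
      exact hω.1 h4
  rw [hfilt]
  have huω : u • ω = ω := by
    rw [Finset.mem_erase, hFx, Finset.mem_filter] at hω
    exact hω.2.2
  -- the maximal subgroup `M`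
  obtain ⟨E, hE⟩ : ∃ E : Subgroup ↥What, E = (MulAction.stabilizer G ω).subgroupOf What :=
    ⟨_, rfl⟩
  have hEne : E ≠ ⊤ := by
    intro htop
    apply hQD ω hω
    intro q hq
    have : (⟨q, hQW hq⟩ : ↥What) ∈ E := by rw [htop]; trivial
    rw [hE, Subgroup.mem_subgroupOf] at this
    exact this
  obtain ⟨M', hM'co, hEM'⟩ := (eq_top_or_exists_le_coatom E).resolve_left hEne
  have hM'n : M'.Normal := Cfsg.Agent.Lib.H1.isPGroup_coatom_normal hWp hM'co
  have hM'i : M'.index = p := Cfsg.Agent.Lib.H1.isPGroup_coatom_index hWp hM'co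
  obtain ⟨M, hM⟩ : ∃ M : Subgroup G, M = M'.map What.subtype := ⟨_, rfl⟩
  have hMmem : ∀ g (hg : g ∈ What), g ∈ M ↔ (⟨g, hg⟩ : ↥What) ∈ M' := by
    intro g hg
    rw [hM]
    constructor
    · rintro ⟨g', h1, h2⟩
      have : g' = ⟨g, hg⟩ := Subtype.ext h2
      rwa [this] at h1
    · intro h; exact ⟨_, h, rfl⟩
  have hMW : M ≤ What := by rw [hM]; exact Subgroup.map_subtype_le _
  have hstab : What ⊓ MulAction.stabilizer G ω ≤ M := by
    rintro g ⟨hg1, hg2⟩
    rw [hMmem g hg1]
    apply hEM'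
    rw [hE, Subgroup.mem_subgroupOf]
    exact hg2
  have huM : u ∈ M := hstab ⟨huW, MulAction.mem_stabilizer_iff.2 huω⟩
  -- the element `z`
  have hexz : ∃ z ∈ Q, z ∉ M := by
    by_contra hcon
    push Not at hcon
    apply hM'co.1
    rw [eq_top_iff]
    rintro ⟨g, hg⟩ _
    rw [← hMmem g hg]
    have : What ≤ M := by
      rw [hWhat]
      exact sup_le hcon ((Subgroup.zpowers_le).2 huM)
    exact this hg
  obtain ⟨z, hzQ, hzM⟩ := hexz
  have hzW : z ∈ What := hQW hzQ
  have hgenM : ∀ t ∈ What, t ∉ M → (∀ g ∈ What, ∃ i < p, (t ^ i)⁻¹ * g ∈ M) ∧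
      ∀ i < p, t ^ i ∈ M → i = 0 := by
    intro t htW htM
    have h1 := exists_pow_mul_mem_of_index_prime M' hM'i ⟨t, htW⟩
      (fun h => htM ((hMmem t htW).2 h))
    constructor
    · intro g hg
      obtain ⟨i, hi, h2⟩ := h1.1 ⟨g, hg⟩
      refine ⟨i, hi, ?_⟩
      rw [hMmem _ (What.mul_mem (What.inv_mem (What.pow_mem htW i)) hg)]
      exact h2
    · intro i hi h2
      apply h1.2 i hi
      rw [hMmem _ (What.pow_mem htW i)] at h2
      exact h2
  have hnormM : ∀ g ∈ What, ∀ d ∈ M, g⁻¹ * d * g ∈ M := by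
    intro g hg d hd
    have hdW := hMW hd
    rw [hMmem _ (What.mul_mem (What.mul_mem (What.inv_mem hg) hdW) hg)]
    have h1 := hM'n.conj_mem ⟨d, hdW⟩ ((hMmem d hdW).1 hd) (⟨g, hg⟩⁻¹)
    rw [inv_inv] at h1
    exact h1
  obtain ⟨hcos, hzi⟩ := hgenM z hzW hzM
  -- apply the orbit lemma
  have hMP : M ≤ (P : Subgroup G) := hMW.trans hWP
  refine prod_orbit_eq_one hpp hC ρ What M hMW z hzW (hnormM z hzW) hcos hzi u huM ω hstab ?_ ?_
  · intro v hvM hvu g k hk1 hk2 hk3
    exact hgen v (hMP hvM) (hvu.trans hn) g k hk1 (by rw [← hn, ← hvu]; exact hk2) hk3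
  · have hrel : M.relIndex What = p := by
      have h1 : M.subgroupOf What = M' := by
        rw [hM]
        exact Subgroup.comap_map_eq_self_of_injective (Subgroup.subtype_injective What) M'
      show (M.subgroupOf What).index = p
      rw [h1]; exact hM'i
    subst hWhat
    exact hLoc u hu M z hzQ hMW hrel hnormM huM hzM

end partH

section partI

universe u

variable {G : Type u} [Group G] [Finite G] {p : ℕ} [hp : Fact p.Prime]

theorem isWeaklyClosed_self (S : Sylow p G) : Cfsg.IsWeaklyClosed (S : Subgroup G) (S : Subgroup G) := by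
  refine ⟨le_rfl, ?_⟩
  intro g hg
  apply Subgroup.eq_of_le_of_card_ge hg
  rw [Subgroup.card_map_of_injective (MulAut.conj g).injective]

/-- **Yoshida's theorem.** If `N_G(S)` does not control `p`-transfer, the Sylow `p`-subgroup `S`
maps onto a Sylow `p`-subgroup of the symmetric group of degree `p ^ 2`, i.e. onto `Z_p ≀ Z_p`. -/
theorem yoshida (S : Sylow p G)
    (hno : ¬ ∃ (W : Sylow p (Equiv.Perm (Fin (p ^ 2))))
      (f : ↥(S : Subgroup G) →* ↥(W : Subgroup (Equiv.Perm (Fin (p ^ 2))))),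
      Function.Surjective f) :
    commutator G ⊓ (S : Subgroup G) ≤
      ⁅Subgroup.normalizer ((S : Subgroup G) : Set G),
        Subgroup.normalizer ((S : Subgroup G) : Set G)⁆ := by
  have hpp : p.Prime := hp.out
  apply commutator_inf_sylow_le_of_transfer S (S : Subgroup G) (isWeaklyClosed_self S)
  intro C _ hC H hH ρ u hu
  refine transfer_eq_of_local S (S : Subgroup G) (isWeaklyClosed_self S) hC ?_ H hH ρ (orderOf u) u hu rfl
  intro u hu M z hzS hMW hrel hnorm huM hzM T
  by_contra hne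
  apply hno
  have hWS : (S : Subgroup G) ⊔ Subgroup.zpowers u = (S : Subgroup G) :=
    sup_eq_left.2 ((Subgroup.zpowers_le).2 hu)
  rw [hWS] at hMW hrel hnorm
  obtain ⟨y, hy⟩ : ∃ y : G, y = (fun y : G => y⁻¹ * z⁻¹ * y * z)^[p - 1] u := ⟨_, rfl⟩
  rw [← hy] at hne
  have hyM : y ∈ M := by
    by_contra h
    apply hne
    unfold extendHom
    simp [h]
  rw [extendHom_of_mem T hyM] at hne
  have hfinS : Finite ↥(S : Subgroup G) := inferInstance
  have hfinM : Finite ↥M := inferInstance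
  have hMp : IsPGroup p ↥M := S.2.to_le hMW
  -- `y ∉ Φ(M)`, so some maximal subgroup of `M` misses `y`
  have hfr : (⟨y, hyM⟩ : ↥M) ∉ frattini ↥M := by
    intro h
    apply hne
    have hker : frattini ↥M ≤ T.ker := by
      apply Cfsg.Agent.Lib.H1.frattini_le_of_commutator_le_of_pow_mem (p := p)
      · exact Abelianization.commutator_subset_ker _
      · intro x
        rw [MonoidHom.mem_ker, map_pow]
        exact hC _
    exact MonoidHom.mem_ker.1 (hker h)
  have hexK : ∃ K' : Subgroup ↥M, IsCoatom K' ∧ (⟨y, hyM⟩ : ↥M) ∉ K' := by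
    by_contra hcon
    push Not at hcon
    apply hfr
    rw [Cfsg.Agent.Lib.H1.frattini_eq_iInf]
    simp only [Subgroup.mem_iInf]
    intro K' hK'
    exact hcon K' hK'
  obtain ⟨K', hK'co, hyK'⟩ := hexK
  have hK'i : K'.index = p := Cfsg.Agent.Lib.H1.isPGroup_coatom_index hMp hK'co
  obtain ⟨K, hK⟩ : ∃ K : Subgroup G, K = K'.map M.subtype := ⟨_, rfl⟩
  have hKM : K ≤ M := by rw [hK]; exact Subgroup.map_subtype_le _
  have hKrel : K.relIndex M = p := by
    have h1 : K.subgroupOf M = K' := by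
      rw [hK]
      exact Subgroup.comap_map_eq_self_of_injective (Subgroup.subtype_injective M) K'
    show (K.subgroupOf M).index = p
    rw [h1]; exact hK'i
  have hyK : y ∉ K := by
    rw [hK]
    rintro ⟨k, hk, hky⟩
    apply hyK'
    have : k = ⟨y, hyM⟩ := Subtype.ext hky
    rwa [this] at hk
  -- transport to the group `↥S`
  have hSp : IsPGroup p ↥(S : Subgroup G) := S.2
  have hMn : (M.subgroupOf (S : Subgroup G)).Normal := by
    constructor
    intro n hn g
    rw [Subgroup.mem_subgroupOf] at hn ⊢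
    have := hnorm ((g : G)⁻¹) ((S : Subgroup G).inv_mem g.2) _ hn
    simpa using this
  have hMi : (M.subgroupOf (S : Subgroup G)).index = p := hrel
  have hKle : K.subgroupOf (S : Subgroup G) ≤ M.subgroupOf (S : Subgroup G) := by
    intro x hx
    rw [Subgroup.mem_subgroupOf] at hx ⊢
    exact hKM hx
  have hKi : (K.subgroupOf (S : Subgroup G)).relIndex (M.subgroupOf (S : Subgroup G)) = p := by
    rw [Subgroup.relIndex_subgroupOf hMW]; exact hKrel
  have hcoe : ∀ j : ℕ, (((fun v : ↥(S : Subgroup G) => v⁻¹ * (⟨z, hzS⟩ : ↥(S : Subgroup G))⁻¹ * v *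
      ⟨z, hzS⟩)^[j] ⟨u, hu⟩ : ↥(S : Subgroup G)) : G) =
      (fun y : G => y⁻¹ * z⁻¹ * y * z)^[j] u := by
    intro j
    induction j with
    | zero => rfl
    | succ j ih =>
      rw [Function.iterate_succ_apply', Function.iterate_succ_apply']
      simp only [Subgroup.coe_mul, Subgroup.coe_inv]
      rw [ih]
  exact exists_surjective_sylow_perm hSp (M.subgroupOf (S : Subgroup G)) hMi ⟨z, hzS⟩
    (K.subgroupOf (S : Subgroup G)) hKle hKi ⟨u, hu⟩ (Subgroup.mem_subgroupOf.2 huM) (by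
      rw [Subgroup.mem_subgroupOf, hcoe, ← hy]
      exact hyK)

end partI

end Cfsg.Agent.Lib.H9.HW
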