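import Mathlib
import Cfsg.Agent.Lib.H9.A5FactsA

/-!
# Concrete facts about `S5 = Equiv.Perm (Fin 5)` (part D: F5, F6)
-/

namespace Cfsg.Agent.Lib.H9.A5Facts

open Equiv

set_option maxRecDepth 100000 in
theorem outer_inv_dec : ∀ π : Perm (Fin 5), Perm.sign π ≠ 1 → π * π = 1 →
    ∃ c : Perm (Fin 5), Perm.sign c = 1 ∧ (c * c * c = 1 ∧ c ≠ 1) ∧ π * c = c * π := by
  decide

/-- (F5) -/
theorem s5_outer_inv (π : Equiv.Perm (Fin 5)) (h1 : π ∉ alternatingGroup (Fin 5))
    (h2 : π * π = 1) :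
    ∃ c : Equiv.Perm (Fin 5), c ∈ alternatingGroup (Fin 5) ∧ orderOf c = 3 ∧ π * c = c * π := by
  rw [Equiv.Perm.mem_alternatingGroup] at h1
  obtain ⟨c, hc1, hc2, hc3⟩ := outer_inv_dec π h1 h2
  exact ⟨c, Equiv.Perm.mem_alternatingGroup.mpr hc1, (orderOf_eq_three_iff' c).mpr hc2, hc3⟩

set_option maxRecDepth 100000 in
theorem not_gen_dec : ∀ c π : Perm (Fin 5), c * c * c = 1 → c ≠ 1 → π * π = 1 → π ≠ 1 →
    Perm.sign π ≠ 1 → Inv c π := by
  decide

/-- invariant proper subset ⇒ closure is proper (in `S5`) -/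
theorem closure_ne_top_of_inv_S5 (x y : Perm (Fin 5))
    (hx : ∃ n : ℕ, 0 < n ∧ x ^ n = 1) (hy : ∃ n : ℕ, 0 < n ∧ y ^ n = 1)
    (h : Inv x y) : Subgroup.closure {x, y} ≠ ⊤ := by
  obtain ⟨T, hT1, hT2, hTx, hTy⟩ := h
  intro htop
  have key : ∀ g ∈ Subgroup.closure ({x, y} : Set (Perm (Fin 5))),
      ∀ i, (g i ∈ T ↔ i ∈ T) := by
    intro g hg
    have gen : ∀ (w : Perm (Fin 5)), (∃ n : ℕ, 0 < n ∧ w ^ n = 1) →
        (∀ i ∈ T, w i ∈ T) → ∀ i, (w i ∈ T ↔ i ∈ T) := by
      intro w ⟨n, hn0, hn⟩ hw i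
      refine ⟨fun hi => ?_, fun hi => hw i hi⟩
      have hpow : ∀ k : ℕ, ∀ j ∈ T, ((w ^ k) j) ∈ T := by
        intro k
        induction k with
        | zero => intro j hj; simpa using hj
        | succ k ih =>
          intro j hj
          have : (w ^ (k + 1)) j = (w ^ k) (w j) := by
            rw [pow_succ]; rfl
          rw [this]
          exact ih _ (hw j hj)
      have h1 := hpow (n - 1) (w i) hi
      have h2 : (w ^ (n - 1)) (w i) = (w ^ n) i := by
        have : w ^ n = w ^ (n - 1) * w := by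
          rw [← pow_succ]; congr 1; omega
        rw [this]; rfl
      rw [h2, hn] at h1
      simpa using h1
    induction hg using Subgroup.closure_induction with
    | mem w hw =>
      rcases hw with rfl | hw
      · exact gen _ hx hTx
      · rw [Set.mem_singleton_iff] at hw
        subst hw
        exact gen _ hy hTy
    | one => intro i; simp
    | mul a b _ _ ha hb =>
      intro i
      have : (a * b) i = a (b i) := rfl
      rw [this, ha, hb]
    | inv a _ ha =>
      intro i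
      have := ha (a⁻¹ i)
      have h2 : a (a⁻¹ i) = i := by
        have : (a * a⁻¹) i = a (a⁻¹ i) := rfl
        rw [← this, mul_inv_cancel]; rfl
      rw [h2] at this
      exact this.symm
  obtain ⟨g, i, hi, hgi⟩ := exists_moves_A5 T hT1 hT2
  have := key g.1 (by rw [htop]; trivial) i
  exact hgi (this.mpr hi)

/-- (F6) -/
theorem s5_not_gen (c π : Equiv.Perm (Fin 5)) (hc : orderOf c = 3) (hπ : orderOf π = 2)
    (hs : π ∉ alternatingGroup (Fin 5)) : Subgroup.closure {c, π} ≠ ⊤ := by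
  rw [Equiv.Perm.mem_alternatingGroup] at hs
  have hc' := (orderOf_eq_three_iff' c).mp hc
  have hπ' := (orderOf_eq_two_iff' π).mp hπ
  have hinv := not_gen_dec c π hc'.1 hc'.2 hπ'.1 hπ'.2 hs
  exact closure_ne_top_of_inv_S5 c π ⟨3, by norm_num, by rw [pow_succ, pow_two]; exact hc'.1⟩
    ⟨2, by norm_num, by rw [pow_two]; exact hπ'.1⟩ hinv

end Cfsg.Agent.Lib.H9.A5Facts
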