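import Mathlib
import Cfsg.Agent.Lib.H26.NGPDefs

set_option autoImplicit false

/-!
# S1904, piece ELAB (hypothesis form): `X/B` is elementary abelian when `C_X(B mod B⁴) = B`.

Every square `x * x` satisfies the hypothesis of `hC4`, and a commutator is a product of three squares.
-/

open Cfsg.Agent.Lib.H26.NGP

namespace Cfsg.Agent.Lib.H9.NGP

universe u

variable {X : Type u} [Group X]

/-- `b ↦ cm b x` is multiplicative on squares of an abelian normal subgroup. -/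
theorem cm_sq_of_ab {B : Subgroup X} (hBn : B.Normal) (hab : Ab B) (e : X) (he : e ∈ B) (x : X) :
    cm (e * e) x = cm e x * cm e x := by
  have h1 : x * e⁻¹ * x⁻¹ ∈ B := hBn.conj_mem _ (B.inv_mem he) x
  have h2 : e * (x * e⁻¹ * x⁻¹) = (x * e⁻¹ * x⁻¹) * e := hab e he _ h1
  have e1 : cm (e * e) x = e * (e * (x * e⁻¹ * x⁻¹)) * (x * e⁻¹ * x⁻¹) := by
    simp only [cm_def]; group
  have e2 : cm e x * cm e x = e * ((x * e⁻¹ * x⁻¹) * e) * (x * e⁻¹ * x⁻¹) := by
    simp only [cm_def]; group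
  rw [e1, e2, h2]

theorem fourth_of_commute (e g : X) (h : e * g = g * e) :
    (e * e) * ((g * g) * (g * g) * (e * e)) = ((e * g) * (e * g)) * ((e * g) * (e * g)) := by
  have hc : Commute e g := h
  calc (e * e) * ((g * g) * (g * g) * (e * e)) = e ^ 2 * (g ^ 4 * e ^ 2) := by
        simp only [pow_succ, pow_zero, one_mul, mul_assoc]
    _ = e ^ 2 * (e ^ 2 * g ^ 4) := by rw [(hc.symm.pow_pow 4 2).eq]
    _ = e ^ 4 * g ^ 4 := by
        simp only [pow_succ, pow_zero, one_mul, mul_assoc]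
    _ = (e * g) ^ 4 := (hc.mul_pow 4).symm
    _ = ((e * g) * (e * g)) * ((e * g) * (e * g)) := by
        simp only [pow_succ, pow_zero, one_mul, mul_assoc]

/-- ELAB with `comm_sq` as a hypothesis. -/
theorem caseII_elab_of {B : Subgroup X} (hBn : B.Normal) (hab : Ab B)
    (hcsq : ∀ b ∈ B, ∀ g : X, ∃ c ∈ B, cm b g = c * c)
    (hC4 : ∀ x : X, (∀ b ∈ B, ∃ c ∈ B, cm b x = (c * c) * (c * c)) → x ∈ B) :
    ∀ x y : X, cm x y ∈ B ∧ x * x ∈ B := by
  have hsq : ∀ x : X, x * x ∈ B := by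
    intro x
    apply hC4
    intro b hb
    obtain ⟨e, he, hbe⟩ := hcsq b hb x
    obtain ⟨f, hf, hef⟩ := hcsq e he x
    refine ⟨e * f⁻¹, B.mul_mem he (B.inv_mem hf), ?_⟩
    have h1 : cm b (x * x) = cm b x * ((cm (cm b x) x)⁻¹ * cm b x) := by
      simp only [cm_def]; group
    have h2 : cm (cm b x) x = (f * f) * (f * f) := by
      rw [hbe, cm_sq_of_ab hBn hab e he x, hef]
    have h3 : ((f * f) * (f * f))⁻¹ = (f⁻¹ * f⁻¹) * (f⁻¹ * f⁻¹) := by group
    rw [h1, h2, h3, hbe]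
    exact fourth_of_commute e f⁻¹ (hab e he _ (B.inv_mem hf))
  intro x y
  refine ⟨?_, hsq x⟩
  have h : cm x y = (x * x) * ((x⁻¹ * y) * (x⁻¹ * y)) * (y⁻¹ * y⁻¹) := by
    simp only [cm_def]; group
  rw [h]
  exact B.mul_mem (B.mul_mem (hsq x) (hsq _)) (hsq _)

end Cfsg.Agent.Lib.H9.NGP
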