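import Mathlib
import Cfsg.Agent.Lib.H26.NGPDefs
import Cfsg.Agent.Lib.H15.NGPCSQ
import Cfsg.Agent.Lib.H9.NGPELABof

set_option autoImplicit false

/-!
# S1904, piece ELAB (exact signature).
-/

open Cfsg.Agent.Lib.H26.NGP

namespace Cfsg.Agent.Lib.H9.NGP

universe u

variable {X : Type u} [Group X] [Finite X]

theorem caseII_elab {A : Subgroup (MulAut X)} {U B : Subgroup X} {n : ℕ} (hB : BSetup A U B n)
    (hUc : U ≤ Subgroup.center X)
    (hC4 : ∀ x : X, (∀ b ∈ B, ∃ c ∈ B, cm b x = (c * c) * (c * c)) → x ∈ B) :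
    ∀ x y : X, cm x y ∈ B ∧ x * x ∈ B :=
  caseII_elab_of hB.normal hB.homo.ab (Cfsg.Agent.Lib.H15.NGP.comm_sq hB hUc) hC4

end Cfsg.Agent.Lib.H9.NGP
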