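import Cfsg.Agent.Lib.H9.S28Defs
import Cfsg.Agent.Lib.H15.SymF5

/-!
# S2928 piece C1 GEN (helper9): generalities on a quasisimple normal subgroup moving all points

Exact signatures of `tools/blueprints/S2928_sigs.lean`, section C1.
-/

set_option autoImplicit false

namespace Cfsg.Agent.Lib.H9.S28

open Equiv Cfsg.Agent.Lib.H9.S28 Cfsg.Agent.Lib.H15.SymF
open scoped commutatorElement

variable {β : Type*} [Fintype β] [DecidableEq β] {G L : Subgroup (Perm β)}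

/-- every `L`-orbit has at least 5 points (elementary form). -/
theorem exists_apply_not_mem (h : Core G L) (a : β) (T : Finset β) (hT : T.card ≤ 4) :
    ∃ x ∈ L, x a ∉ T := by
  classical
  by_contra hcon
  push Not at hcon
  set O : Finset β := Finset.univ.filter (fun b => ∃ x ∈ L, x a = b) with hO
  have hOT : O ⊆ T := by
    intro b hb
    obtain ⟨x, hx, rfl⟩ := (Finset.mem_filter.1 hb).2
    exact hcon x hx
  have haO : a ∈ O := Finset.mem_filter.2 ⟨Finset.mem_univ _, 1, L.one_mem, rfl⟩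
  have hinv : ∀ y : ↥L, ∀ b, (y : Perm β) b ∈ O ↔ b ∈ O := by
    intro y b
    constructor
    · intro hb
      obtain ⟨x, hx, hxb⟩ := (Finset.mem_filter.1 hb).2
      refine Finset.mem_filter.2 ⟨Finset.mem_univ _, (y : Perm β)⁻¹ * x,
        L.mul_mem (L.inv_mem y.2) hx, ?_⟩
      rw [Perm.mul_apply, hxb]
      simp
    · intro hb
      obtain ⟨x, hx, rfl⟩ := (Finset.mem_filter.1 hb).2
      exact Finset.mem_filter.2 ⟨Finset.mem_univ _, y * x, L.mul_mem y.2 hx, rfl⟩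
  let ρ : ↥L →* Perm {b // b ∈ O} :=
    { toFun := fun y => (y : Perm β).subtypePerm (hinv y)
      map_one' := by ext; simp
      map_mul' := by intro y z; ext; rfl }
  have hperf : ⁅ρ.range, ρ.range⁆ = ρ.range := by
    have h1 : (⁅(⊤ : Subgroup ↥L), ⊤⁆ : Subgroup ↥L) = ⊤ := h.qs.1.commutator_eq_top
    have h2 := Subgroup.map_commutator (⊤ : Subgroup ↥L) ⊤ ρ
    rw [h1, ← MonoidHom.range_eq_map] at h2
    exact h2.symm
  have hcard : Fintype.card {b // b ∈ O} ≤ 4 := by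
    rw [Fintype.card_coe]
    exact le_trans (Finset.card_le_card hOT) hT
  have hbot := perfect_eq_bot_of_card_le_four hcard ρ.range hperf
  obtain ⟨x, hx, hxa⟩ := h.moved a
  have h1 : ρ ⟨x, hx⟩ = 1 := by
    have : ρ ⟨x, hx⟩ ∈ ρ.range := ⟨_, rfl⟩
    rw [hbot] at this
    exact Subgroup.mem_bot.1 this
  have h2 := congrArg (fun σ : Perm {b // b ∈ O} => ((σ ⟨a, haO⟩ : {b // b ∈ O}) : β)) h1
  exact hxa (by simpa [ρ] using h2)

/-- if all commutators `[u, x]`, `x ∈ L`, are central in `L`, then `u` centralizes `L`. -/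
theorem centralizes_of_comm_central (h : Core G L) {u : Perm β} (hu : u ∈ G)
    (hc : ∀ x ∈ L, ∀ y ∈ L, (u * x * u⁻¹ * x⁻¹) * y = y * (u * x * u⁻¹ * x⁻¹)) :
    ∀ x ∈ L, u * x = x * u := by
  have hperf := commutator_self_of_quasisimple L h.qs
  have hcL : ∀ x ∈ L, u * x * u⁻¹ * x⁻¹ ∈ L := fun x hx =>
    L.mul_mem (h.normal u hu x hx) (L.inv_mem hx)
  -- the subgroup of elements of `L` commuting with `u`
  let C : Subgroup (Perm β) :=
    { carrier := {x | u * x = x * u}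
      one_mem' := by simp
      mul_mem' := by
        intro x y hx hy
        simp only [Set.mem_ofPred_eq] at hx hy ⊢
        rw [← mul_assoc, hx, mul_assoc, hy, mul_assoc]
      inv_mem' := by
        intro x hx
        simp only [Set.mem_ofPred_eq] at hx ⊢
        calc u * x⁻¹ = x⁻¹ * (x * u) * x⁻¹ := by group
          _ = x⁻¹ * (u * x) * x⁻¹ := by rw [hx]
          _ = x⁻¹ * u := by group }
  have hmul : ∀ x ∈ L, ∀ y ∈ L,
      u * (x * y) * u⁻¹ * (x * y)⁻¹ = (u * x * u⁻¹ * x⁻¹) * (u * y * u⁻¹ * y⁻¹) := by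
    intro x hx y hy
    have h1 := hc y hy x⁻¹ (L.inv_mem hx)
    calc u * (x * y) * u⁻¹ * (x * y)⁻¹
        = (u * x * u⁻¹) * ((u * y * u⁻¹ * y⁻¹) * x⁻¹) := by group
      _ = (u * x * u⁻¹) * (x⁻¹ * (u * y * u⁻¹ * y⁻¹)) := by rw [h1]
      _ = (u * x * u⁻¹ * x⁻¹) * (u * y * u⁻¹ * y⁻¹) := by group
  have hinv : ∀ x ∈ L, u * x⁻¹ * u⁻¹ * (x⁻¹)⁻¹ = (u * x * u⁻¹ * x⁻¹)⁻¹ := by
    intro x hx
    have h1 := hmul x hx x⁻¹ (L.inv_mem hx)
    rw [mul_inv_cancel] at h1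
    have h2 : (u * x * u⁻¹ * x⁻¹) * (u * x⁻¹ * u⁻¹ * (x⁻¹)⁻¹) = 1 := by
      rw [← h1]; group
    exact eq_inv_of_mul_eq_one_right h2
  have hLC : L ≤ C := by
    rw [← hperf, Subgroup.commutator_le]
    intro x hx y hy
    show u * ⁅x, y⁆ = ⁅x, y⁆ * u
    have hxy : ⁅x, y⁆ = x * y * x⁻¹ * y⁻¹ := commutatorElement_def x y
    have key : u * ⁅x, y⁆ * u⁻¹ * ⁅x, y⁆⁻¹ = 1 := by
      rw [hxy]
      have hxyL : x * y ∈ L := L.mul_mem hx hy
      have hxyxL : x * y * x⁻¹ ∈ L := L.mul_mem hxyL (L.inv_mem hx)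
      rw [hmul (x * y * x⁻¹) hxyxL y⁻¹ (L.inv_mem hy), hmul (x * y) hxyL x⁻¹ (L.inv_mem hx),
        hmul x hx y hy, hinv x hx, hinv y hy]
      have hcomm := hc y hy (u * x * u⁻¹ * x⁻¹) (hcL x hx)
      set A := u * x * u⁻¹ * x⁻¹ with hA
      set B := u * y * u⁻¹ * y⁻¹ with hB
      calc A * B * A⁻¹ * B⁻¹ = (A * B) * A⁻¹ * B⁻¹ := by group
        _ = (B * A) * A⁻¹ * B⁻¹ := by rw [hcomm]
        _ = 1 := by group
    calc u * ⁅x, y⁆ = (u * ⁅x, y⁆ * u⁻¹ * ⁅x, y⁆⁻¹) * ⁅x, y⁆ * u := by group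
      _ = ⁅x, y⁆ * u := by rw [key, one_mul]
  intro x hx
  exact hLC hx

/-- a non-trivial element of `G` moving at most 4 points cannot centralize `L` modulo `Z(L)`. -/
theorem small_not_central_mod (h : Core G L) {u : Perm β} (hu : u ∈ G) (hu1 : u ≠ 1)
    (hsupp : u.support.card ≤ 4)
    (hc : ∀ x ∈ L, ∀ y ∈ L, (u * x * u⁻¹ * x⁻¹) * y = y * (u * x * u⁻¹ * x⁻¹)) : False := by
  have hcen := centralizes_of_comm_central h hu hc
  obtain ⟨a, ha⟩ : ∃ a, u a ≠ a := by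
    by_contra hcon
    push Not at hcon
    exact hu1 (Perm.ext hcon)
  obtain ⟨x, hx, hxa⟩ := exists_apply_not_mem h a u.support hsupp
  apply hxa
  rw [Perm.mem_support]
  intro hfix
  apply ha
  have h1 : (u * x) a = (x * u) a := by rw [hcen x hx]
  rw [Perm.mul_apply, Perm.mul_apply, hfix] at h1
  exact (x.injective h1).symm

end Cfsg.Agent.Lib.H9.S28
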