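import Mathlib
import Cfsg.Agent.Lib.H27.S3814C1Defs

/-!
# S3814, Case 1, piece (21) LCYC of helper27's sub-cut (pure group theory)

Route: induction on the order through the quotient by the `t`-torsion of the centre; eigenvector over
`ZMod t` in the elementary abelian case.
-/

set_option autoImplicit false

namespace Cfsg.Agent.Lib.H9.S3814C1LCyc

open Polynomial

universe u

/-- first vanishing factor of a product of operators `f - ζ` -/
theorem exists_eigen_of_prod {R W : Type*} [CommRing R] [AddCommGroup W] [Module R W]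
    (f : Module.End R W) (S : Finset R) (u : W) (hu : u ≠ 0)
    (h : (aeval f (∏ ζ ∈ S, (X - C ζ))) u = 0) :
    ∃ ζ ∈ S, ∃ v : W, v ≠ 0 ∧ f v = ζ • v := by
  classical
  induction S using Finset.induction_on with
  | empty =>
    simp at h
    exact absurd h hu
  | insert ζ S hζ ih =>
    rw [Finset.prod_insert hζ, map_mul] at h
    by_cases hw0 : (aeval f (∏ ζ' ∈ S, (X - C ζ'))) u = 0
    · obtain ⟨ζ', hζ', v, hv, hfv⟩ := ih hw0
      exact ⟨ζ', Finset.mem_insert_of_mem hζ', v, hv, hfv⟩
    · refine ⟨ζ, Finset.mem_insert_self _ _, _, hw0, ?_⟩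
      have h2 : (aeval f (X - C ζ)) ((aeval f (∏ ζ' ∈ S, (X - C ζ'))) u) = 0 := h
      rw [map_sub, aeval_X, aeval_C, LinearMap.sub_apply, Module.algebraMap_end_apply,
        sub_eq_zero] at h2
      exact h2

/-- an operator of order `t' ∣ t - 1` on a `ZMod t`-module has an eigenvector with eigenvalue `≠ 1` -/
theorem exists_eigenvector {t t' : ℕ} [Fact t.Prime] (ht' : t'.Prime) (hdvd : t' ∣ t - 1)
    {W : Type*} [AddCommGroup W] [Module (ZMod t) W] (f : Module.End (ZMod t) W)
    (hf : f ^ t' = 1) (w : W) (hw : f w ≠ w) :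
    ∃ μ : ZMod t, μ ≠ 1 ∧ ∃ v : W, v ≠ 0 ∧ f v = μ • v := by
  classical
  have hcard : Nat.card (ZMod t)ˣ = t - 1 := by
    rw [Nat.card_eq_fintype_card, ZMod.card_units_eq_totient, Nat.totient_prime Fact.out]
  have : Fact t'.Prime := ⟨ht'⟩
  obtain ⟨u, hu⟩ := exists_prime_orderOf_dvd_card' (G := (ZMod t)ˣ) t' (hcard ▸ hdvd)
  have hprim : IsPrimitiveRoot (u : ZMod t) t' := by
    have := IsPrimitiveRoot.orderOf (u : ZMod t)
    rwa [orderOf_units, hu] at this
  have hfac := X_pow_sub_one_eq_prod ht'.pos hprim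
  have h1mem : (1 : ZMod t) ∈ nthRootsFinset t' (1 : ZMod t) := by
    rw [mem_nthRootsFinset ht'.pos]; simp
  rw [← Finset.prod_erase_mul _ _ h1mem] at hfac
  have hae := congrArg (Polynomial.aeval f) hfac
  rw [map_sub, map_pow, aeval_X, map_one, hf, sub_self, map_mul, map_sub, aeval_X, map_one,
    aeval_one] at hae
  have hz : (aeval f (∏ ζ ∈ (nthRootsFinset t' (1 : ZMod t)).erase 1, (X - C ζ))) (f w - w) = 0 := by
    have := congrArg (fun g : Module.End (ZMod t) W => g w) hae
    simpa [Module.End.mul_apply] using this.symm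
  obtain ⟨ζ, hζ, v, hv, hfv⟩ := exists_eigen_of_prod f _ (f w - w) (sub_ne_zero.mpr hw) hz
  exact ⟨ζ, (Finset.mem_erase.mp hζ).1, v, hv, hfv⟩

/-- additive form, module structure as an instance -/
theorem exists_eigen_addM {t t' : ℕ} [Fact t.Prime] (ht' : t'.Prime) (hdvd : t' ∣ t - 1)
    {W : Type*} [AddCommGroup W] [Module (ZMod t) W]
    (f : W →+ W) (hf : ∀ x, f^[t'] x = x) (w : W) (hw : f w ≠ w) :
    ∃ v : W, v ≠ 0 ∧ ∃ k : ℕ, f v = k • v ∧ ¬ k ≡ 1 [MOD t] := by
  have : NeZero t := ⟨(Fact.out : t.Prime).ne_zero⟩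
  have hiter : ∀ n : ℕ, ∀ x : W,
      ((AddMonoidHom.toZModLinearMap t f : Module.End (ZMod t) W) ^ n) x = f^[n] x := by
    intro n
    induction n with
    | zero => intro x; simp
    | succ n ih =>
      intro x
      rw [pow_succ', Module.End.mul_apply, ih, Function.iterate_succ_apply']
      rfl
  have hfl : (AddMonoidHom.toZModLinearMap t f : Module.End (ZMod t) W) ^ t' = 1 := by
    apply LinearMap.ext
    intro x
    rw [hiter, hf]
    rfl
  obtain ⟨μ, hμ, v, hv, hfv⟩ :=
    exists_eigenvector ht' hdvd (AddMonoidHom.toZModLinearMap t f : Module.End (ZMod t) W) hfl w hw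
  refine ⟨v, hv, μ.val, ?_, ?_⟩
  · have h1 : (AddMonoidHom.toZModLinearMap t f : Module.End (ZMod t) W) v
        = (μ.val : ZMod t) • v := by
      rw [ZMod.natCast_zmod_val]; exact hfv
    rw [Nat.cast_smul_eq_nsmul] at h1
    exact h1
  · intro hmod
    apply hμ
    have h2 := (ZMod.natCast_eq_natCast_iff _ _ _).mpr hmod
    rw [ZMod.natCast_zmod_val, Nat.cast_one] at h2
    exact h2

/-- additive form without a module structure -/
theorem exists_eigen_add {t t' : ℕ} [Fact t.Prime] (ht' : t'.Prime) (hdvd : t' ∣ t - 1)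
    {W : Type*} [AddCommGroup W] (hW : ∀ x : W, t • x = 0)
    (f : W →+ W) (hf : ∀ x, f^[t'] x = x) (w : W) (hw : f w ≠ w) :
    ∃ v : W, v ≠ 0 ∧ ∃ k : ℕ, f v = k • v ∧ ¬ k ≡ 1 [MOD t] :=
  @exists_eigen_addM t t' _ ht' hdvd W _ (AddCommGroup.zmodModule hW) f hf w hw

/-- multiplicative commutative form -/
theorem exists_eigen_comm {t t' : ℕ} [Fact t.Prime] (ht' : t'.Prime) (hdvd : t' ∣ t - 1)
    {A : Type*} [CommGroup A] (hAt : ∀ z : A, z ^ t = 1)
    (ψ : A →* A) (hψ : ∀ z, ψ^[t'] z = z) (z0 : A) (h0 : ψ z0 ≠ z0) :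
    ∃ g : A, g ≠ 1 ∧ ∃ k : ℕ, ψ g = g ^ k ∧ ¬ k ≡ 1 [MOD t] := by
  have hW : ∀ x : Additive A, t • x = 0 := fun x => congrArg Additive.ofMul (hAt (Additive.toMul x))
  have hiter : ∀ n : ℕ, ∀ x : Additive A,
      (MonoidHom.toAdditive ψ)^[n] x = Additive.ofMul (ψ^[n] (Additive.toMul x)) := by
    intro n
    induction n with
    | zero => intro x; rfl
    | succ n ih =>
      intro x
      rw [Function.iterate_succ_apply', ih, Function.iterate_succ_apply']
      rfl
  obtain ⟨v, hv, k, hk, hk1⟩ := exists_eigen_add ht' hdvd hW (MonoidHom.toAdditive ψ)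
    (fun x => by rw [hiter, hψ]; rfl) (Additive.ofMul z0) (by
      intro h
      apply h0
      exact congrArg Additive.toMul h)
  refine ⟨Additive.toMul v, ?_, k, ?_, hk1⟩
  · intro h
    apply hv
    exact congrArg Additive.ofMul h
  · exact congrArg Additive.toMul hk

/-- multiplicative form with a commutativity hypothesis -/
theorem exists_eigen_mul {t t' : ℕ} [Fact t.Prime] (ht' : t'.Prime) (hdvd : t' ∣ t - 1)
    {A : Type*} [inst : Group A] (hcomm : ∀ a b : A, a * b = b * a) (hAt : ∀ z : A, z ^ t = 1)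
    (ψ : A →* A) (hψ : ∀ z, ψ^[t'] z = z) (z0 : A) (h0 : ψ z0 ≠ z0) :
    ∃ g : A, g ≠ 1 ∧ ∃ k : ℕ, ψ g = g ^ k ∧ ¬ k ≡ 1 [MOD t] :=
  @exists_eigen_comm t t' _ ht' hdvd A { inst with mul_comm := hcomm } hAt ψ hψ z0 h0

/-- the `t`-torsion of the centre -/
def omegaZ (P : Type*) [Group P] (t : ℕ) : Subgroup P where
  carrier := {z | z ∈ Subgroup.center P ∧ z ^ t = 1}
  one_mem' := ⟨Subgroup.one_mem _, one_pow _⟩
  mul_mem' := by
    rintro a b ⟨ha, ha'⟩ ⟨hb, hb'⟩
    refine ⟨Subgroup.mul_mem _ ha hb, ?_⟩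
    have hc : Commute a b := Subgroup.mem_center_iff.mp hb a
    rw [hc.mul_pow, ha', hb', one_mul]
  inv_mem' := by
    rintro a ⟨ha, ha'⟩
    exact ⟨Subgroup.inv_mem _ ha, by rw [inv_pow, ha', inv_one]⟩

theorem omegaZ_normal (P : Type*) [Group P] (t : ℕ) : (omegaZ P t).Normal := by
  constructor
  intro n hn g
  have h := Subgroup.mem_center_iff.mp hn.1 g
  have : g * n * g⁻¹ = n := by rw [h, mul_inv_cancel_right]
  rw [this]
  exact hn

theorem omegaZ_ne_bot {P : Type*} [Group P] [Finite P] [Nontrivial P] {t : ℕ} [Fact t.Prime]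
    (hP : IsPGroup t P) : omegaZ P t ≠ ⊥ := by
  have : Nontrivial (Subgroup.center P) := hP.center_nontrivial
  have hZ : IsPGroup t (Subgroup.center P) := hP.to_subgroup _
  have hdvd : t ∣ Nat.card (Subgroup.center P) := by
    rcases hZ.card_eq_or_dvd with h | h
    · exfalso
      have := Finite.one_lt_card (α := Subgroup.center P)
      omega
    · exact h
  obtain ⟨z0, hz0⟩ := exists_prime_orderOf_dvd_card' t hdvd
  intro hbot
  have hmem : (z0 : P) ∈ omegaZ P t := by
    refine ⟨z0.2, ?_⟩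
    have := pow_orderOf_eq_one z0
    rw [hz0] at this
    have := congrArg Subtype.val this
    simpa using this
  rw [hbot, Subgroup.mem_bot] at hmem
  have : z0 = 1 := Subtype.ext hmem
  rw [this, orderOf_one] at hz0
  exact (Fact.out : t.Prime).one_lt.ne hz0

/-- the abstract form of (LCYC) -/
theorem aut_core {t t' : ℕ} [Fact t.Prime] (ht' : t'.Prime) (hdvd : t' ∣ t - 1) :
    ∀ (n : ℕ) (P : Type u) [Group P] [Finite P], Nat.card P = n → IsPGroup t P →
      ∀ φ : P →* P, (∀ x, φ^[t'] x = x) → (∃ x, φ x ≠ x) →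
      ∃ g : P, g ≠ 1 ∧ ∃ k : ℕ, φ g = g ^ k ∧ ¬ k ≡ 1 [MOD t] := by
  intro n
  induction n using Nat.strong_induction_on with
  | _ n ih =>
    intro P _ _ hn hP φ hφ hne
    classical
    have ht : t.Prime := Fact.out
    have htt' : t' ≠ t := by
      rintro rfl
      have h1 : t' ≤ t' - 1 := Nat.le_of_dvd (by have := ht'.two_le; omega) hdvd
      have := ht'.two_le
      omega
    have hsucc : t' = (t' - 1) + 1 := by have := ht'.pos; omega
    have hsurj : ∀ y, ∃ x, φ x = y := by
      intro y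
      refine ⟨φ^[t' - 1] y, ?_⟩
      have := hφ y
      rw [hsucc, Function.iterate_succ_apply'] at this
      exact this
    set Z := omegaZ P t with hZdef
    have hZφ : ∀ z ∈ Z, φ z ∈ Z := by
      rintro z ⟨hz, hz'⟩
      refine ⟨?_, by rw [← map_pow, hz', map_one]⟩
      rw [Subgroup.mem_center_iff]
      intro y
      obtain ⟨x, rfl⟩ := hsurj y
      rw [← map_mul, ← map_mul, Subgroup.mem_center_iff.mp hz x]
    by_cases hZ : ∃ z ∈ Z, φ z ≠ z
    · obtain ⟨z0, hz0, hz0'⟩ := hZ
      let ψ : Z →* Z :=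
        { toFun := fun z => ⟨φ z, hZφ z z.2⟩
          map_one' := Subtype.ext (map_one φ)
          map_mul' := fun a b => Subtype.ext (map_mul φ (a : P) (b : P)) }
      have hψ1 : ∀ z : Z, ((ψ z : Z) : P) = φ z := fun z => rfl
      have hψi : ∀ (m : ℕ) (z : Z), ((ψ^[m] z : Z) : P) = φ^[m] z := by
        intro m
        induction m with
        | zero => intro z; rfl
        | succ m ihm =>
          intro z
          rw [Function.iterate_succ_apply', Function.iterate_succ_apply', hψ1, ihm]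
      obtain ⟨g, hg, k, hk, hk1⟩ := exists_eigen_mul ht' hdvd (A := Z)
        (fun a b => Subtype.ext (Subgroup.mem_center_iff.mp b.2.1 a))
        (fun z => Subtype.ext (by simpa using z.2.2))
        ψ (fun z => Subtype.ext (by rw [hψi, hφ])) ⟨z0, hz0⟩
        (by
          intro h
          apply hz0'
          exact congrArg Subtype.val h)
      refine ⟨(g : P), ?_, k, ?_, hk1⟩
      · intro h
        apply hg
        exact Subtype.ext h
      · have := congrArg Subtype.val hk
        simpa [hψ1] using this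
    · have hZfix : ∀ z ∈ Z, φ z = z := by
        intro z hz
        by_contra h
        exact hZ ⟨z, hz, h⟩
      have hZn : Z.Normal := omegaZ_normal P t
      have hPnt : Nontrivial P := by
        obtain ⟨x, hx⟩ := hne
        refine ⟨⟨φ x, x, hx⟩⟩
      have hZbot : Z ≠ ⊥ := omegaZ_ne_bot hP
      let φ' : P ⧸ Z →* P ⧸ Z := QuotientGroup.map Z Z φ (fun z hz => hZφ z hz)
      have hφ'mk : ∀ x : P, φ' (x : P ⧸ Z) = ((φ x : P) : P ⧸ Z) := fun x => rfl
      have hφ'i : ∀ (m : ℕ) (x : P), φ'^[m] (x : P ⧸ Z) = ((φ^[m] x : P) : P ⧸ Z) := by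
        intro m
        induction m with
        | zero => intro x; rfl
        | succ m ihm =>
          intro x
          rw [Function.iterate_succ_apply', Function.iterate_succ_apply', ihm, hφ'mk]
      have hφ' : ∀ q, φ'^[t'] q = q := by
        intro q
        induction q using QuotientGroup.induction_on with
        | _ x => rw [hφ'i, hφ]
      have hcop : Nat.Coprime t' t := (Nat.coprime_primes ht' ht).mpr htt'
      have hne' : ∃ q, φ' q ≠ q := by
        by_contra hall
        obtain ⟨x, hx⟩ := hne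
        apply hx
        have hq : φ' (x : P ⧸ Z) = (x : P ⧸ Z) := by
          by_contra h
          exact hall ⟨_, h⟩
        rw [hφ'mk, QuotientGroup.eq] at hq
        have hz0 : x⁻¹ * φ x ∈ Z := by
          have := Z.inv_mem hq
          simpa [mul_inv_rev] using this
        obtain ⟨z, hzdef⟩ : ∃ z, z = x⁻¹ * φ x := ⟨_, rfl⟩
        have hz : z ∈ Z := by rw [hzdef]; exact hz0
        have hxz : x * z = φ x := by rw [hzdef]; group
        have hit : ∀ m : ℕ, φ^[m] x = x * z ^ m := by
          intro m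
          induction m with
          | zero => simp
          | succ m ihm =>
            rw [Function.iterate_succ_apply', ihm, map_mul, map_pow, hZfix _ hz, pow_succ',
              ← mul_assoc, hxz]
        have h1 := hit t'
        rw [hφ] at h1
        have hzt' : z ^ t' = 1 := by
          have h2 : x * 1 = x * z ^ t' := by rw [mul_one]; exact h1
          exact (mul_left_cancel h2).symm
        have hzt : z ^ t = 1 := hz.2
        have ho1 : orderOf z ∣ t' := orderOf_dvd_of_pow_eq_one hzt'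
        have ho2 : orderOf z ∣ t := orderOf_dvd_of_pow_eq_one hzt
        have ho : orderOf z = 1 := Nat.eq_one_of_dvd_coprimes hcop ho1 ho2
        have hone : z = 1 := orderOf_eq_one_iff.mp ho
        rw [← hxz, hone, mul_one]
      have hcardlt : Nat.card (P ⧸ Z) < n := by
        have h1 := Subgroup.card_eq_card_quotient_mul_card_subgroup Z
        have h2 : 1 < Nat.card Z := by
          have : Nontrivial Z := (Subgroup.nontrivial_iff_ne_bot Z).mpr hZbot
          exact Finite.one_lt_card
        have h3 : 0 < Nat.card (P ⧸ Z) := Nat.card_pos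
        rw [hn] at h1
        nlinarith
      obtain ⟨gq, hgq, k, hk, hk1⟩ := ih (Nat.card (P ⧸ Z)) hcardlt (P ⧸ Z) rfl (hP.to_quotient Z)
        φ' hφ' hne'
      obtain ⟨g, rfl⟩ := QuotientGroup.mk_surjective gq
      have hk' : ((φ g : P) : P ⧸ Z) = ((g ^ k : P) : P ⧸ Z) := by
        rw [← hφ'mk, hk]; rfl
      rw [QuotientGroup.eq] at hk'
      have hz : (g ^ k)⁻¹ * φ g ∈ Z := by
        have := Z.inv_mem hk'
        simpa [mul_inv_rev] using this
      set z := (g ^ k)⁻¹ * φ g with hzdef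
      have hφg : φ g = g ^ k * z := by rw [hzdef]; group
      have : NeZero t := ⟨ht.ne_zero⟩
      have hc0 : ((k : ZMod t) - 1) ≠ 0 := by
        intro h
        apply hk1
        have h2 : (k : ZMod t) = ((1 : ℕ) : ZMod t) := by
          rw [Nat.cast_one]; exact sub_eq_zero.mp h
        exact (ZMod.natCast_eq_natCast_iff _ _ _).mp h2
      set j : ℕ := (((k : ZMod t) - 1)⁻¹).val with hjdef
      have hj : (j : ZMod t) * ((k : ZMod t) - 1) = 1 := by
        rw [hjdef, ZMod.natCast_zmod_val]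
        exact inv_mul_cancel₀ hc0
      have hmod : j * k ≡ 1 + j [MOD t] := by
        apply (ZMod.natCast_eq_natCast_iff _ _ _).mp
        push_cast
        have : (j : ZMod t) * (k : ZMod t) = (j : ZMod t) * ((k : ZMod t) - 1) + j := by ring
        rw [this, hj]
      have hzt : z ^ t = 1 := hz.2
      have hzpow : z ^ (j * k) = z ^ (1 + j) := by
        rw [pow_eq_pow_iff_modEq]
        exact hmod.of_dvd (orderOf_dvd_of_pow_eq_one hzt)
      have hz'mem : z ^ j ∈ Z := Z.pow_mem hz j
      have hcomm : Commute g (z ^ j) := Subgroup.mem_center_iff.mp hz'mem.1 g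
      refine ⟨g * z ^ j, ?_, k, ?_, hk1⟩
      · intro h
        apply hgq
        have h2 : ((g * z ^ j : P) : P ⧸ Z) = ((g : P) : P ⧸ Z) :=
          QuotientGroup.mk_mul_of_mem g hz'mem
        rw [← h2, h]
        rfl
      · rw [map_mul, hφg, hZfix _ hz'mem, hcomm.mul_pow, ← pow_mul, hzpow, pow_add, pow_one,
          mul_assoc]

/-- PIECE LCYC -/
theorem lcyc : Cfsg.Agent.H27.S3814C1.LCycStmt.{u} := by
  intro G _ _ P t t' ht ht' hdvd hP α hα hnorm hnc
  have : Fact t.Prime := ⟨ht⟩
  let φ : P →* P :=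
    { toFun := fun x => ⟨α * x * α⁻¹, hnorm x x.2⟩
      map_one' := Subtype.ext (by simp)
      map_mul' := fun a b => Subtype.ext (by simp [mul_assoc]) }
  have hφ1 : ∀ x : P, ((φ x : P) : G) = α * x * α⁻¹ := fun x => rfl
  have hφi : ∀ (m : ℕ) (x : P), ((φ^[m] x : P) : G) = α ^ m * x * (α ^ m)⁻¹ := by
    intro m
    induction m with
    | zero => intro x; simp
    | succ m ihm =>
      intro x
      rw [Function.iterate_succ_apply', hφ1, ihm, pow_succ']
      group
  have hφ : ∀ x : P, φ^[t'] x = x := by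
    intro x
    apply Subtype.ext
    rw [hφi, ← hα, pow_orderOf_eq_one]
    simp
  have hne : ∃ x : P, φ x ≠ x := by
    obtain ⟨a, ha, hne⟩ := hnc
    refine ⟨⟨a, ha⟩, ?_⟩
    intro h
    apply hne
    have h1 : α * a * α⁻¹ = a := congrArg Subtype.val h
    calc α * a = α * a * α⁻¹ * α := by group
      _ = a * α := by rw [h1]
  obtain ⟨g, hg, k, hk, hk1⟩ := aut_core ht' hdvd (Nat.card P) P rfl hP φ hφ hne
  have hkG : α * (g : G) * α⁻¹ = (g : G) ^ k := by
    have := congrArg Subtype.val hk
    simpa [hφ1] using this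
  refine ⟨(g : G), g.2, ?_, ?_⟩
  · rw [hkG]
    exact Subgroup.pow_mem _ (Subgroup.mem_zpowers _) k
  · intro hcomm
    apply hk1
    have h1 : (g : G) ^ k = (g : G) ^ 1 := by
      rw [← hkG, hcomm, pow_one]
      group
    have h2 : k ≡ 1 [MOD orderOf (g : G)] := pow_eq_pow_iff_modEq.mp h1
    have hg1 : (g : G) ≠ 1 := by
      intro h
      apply hg
      exact Subtype.ext h
    have htd : t ∣ orderOf (g : G) := by
      obtain ⟨m, hm⟩ := hP g
      have hm' : (g : G) ^ (t ^ m) = 1 := by
        have := congrArg Subtype.val hm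
        simpa using this
      have hd : orderOf (g : G) ∣ t ^ m := orderOf_dvd_of_pow_eq_one hm'
      obtain ⟨i, _, hi⟩ := (Nat.dvd_prime_pow ht).mp hd
      have hi0 : i ≠ 0 := by
        rintro rfl
        rw [pow_zero, orderOf_eq_one_iff] at hi
        exact hg1 hi
      rw [hi]
      exact dvd_pow_self t hi0
    exact h2.of_dvd htd

example : Cfsg.Agent.H27.S3814C1.LCycStmt.{0} := lcyc

end Cfsg.Agent.Lib.H9.S3814C1LCyc


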