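import Mathlib
import Cfsg.Agent.Lib.H28.CSL2Defs
import Cfsg.Agent.Lib.H12.SL2Syl2
import Cfsg.Agent.Lib.H7.PSp4SC3

/-!
# S3211 piece B1 (helper9): a subgroup isomorphic to `SL₂(q)`, `q` odd, is `SLike`
-/

set_option autoImplicit false

namespace Cfsg.Agent.Lib.H9.CSL2

open Cfsg.Agent.Lib.H28.CSL2 Cfsg.Agent.Lib.H12

variable {F : Type*} [Field F] [Fintype F]

variable {G : Type*} [Group G]

theorem b1_two_ne_zero (hodd : Odd (Fintype.card F)) : (2 : F) ≠ 0 :=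
  Cfsg.Agent.Lib.H7.PSp4.two_ne_zero_of_odd_card hodd

theorem b1_j_ne_one (j : G) (hj : orderOf j = 2) : j ≠ 1 := by
  intro h
  rw [h, orderOf_one] at hj
  omega

theorem b1_jj (j : G) (hj : orderOf j = 2) : j * j = 1 := by
  rw [← pow_two, ← hj, pow_orderOf_eq_one]

/-- the central involution goes to `-1` -/
theorem b1_e_j (hodd : Odd (Fintype.card F)) (L : Subgroup G)
    (e : ↥L ≃* Matrix.SpecialLinearGroup (Fin 2) F) (j : G) (hj : orderOf j = 2) (hjL : j ∈ L) :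
    e ⟨j, hjL⟩ = -1 := by
  have h2 := b1_two_ne_zero hodd
  have h1 : e ⟨j, hjL⟩ * e ⟨j, hjL⟩ = 1 := by
    rw [← map_mul]
    have : (⟨j, hjL⟩ : ↥L) * ⟨j, hjL⟩ = 1 := Subtype.ext (b1_jj j hj)
    rw [this, map_one]
  rcases (sl2_mul_self_eq_one_iff h2 _).mp h1 with h | h
  · exfalso
    have : (⟨j, hjL⟩ : ↥L) = 1 := e.injective (by rw [h, map_one])
    exact b1_j_ne_one j hj (congrArg Subtype.val this)
  · exact h

/-- membership in terms of `e`: `a = j` iff `e a = -1` -/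
theorem b1_eq_j_of (hodd : Odd (Fintype.card F)) (L : Subgroup G)
    (e : ↥L ≃* Matrix.SpecialLinearGroup (Fin 2) F) (j : G) (hj : orderOf j = 2) (hjL : j ∈ L)
    {a : G} (ha : a ∈ L) (h : e ⟨a, ha⟩ = -1) : a = j := by
  have : (⟨a, ha⟩ : ↥L) = ⟨j, hjL⟩ := e.injective (by rw [h, b1_e_j hodd L e j hj hjL])
  exact congrArg Subtype.val this

theorem b1_e_sq (hodd : Odd (Fintype.card F)) (L : Subgroup G)
    (e : ↥L ≃* Matrix.SpecialLinearGroup (Fin 2) F) (j : G) (hj : orderOf j = 2) (hjL : j ∈ L)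
    {a : G} (ha : a ∈ L) (haa : a * a = j) : e ⟨a, ha⟩ * e ⟨a, ha⟩ = -1 := by
  rw [← map_mul, ← b1_e_j hodd L e j hj hjL]
  congr 1
  exact Subtype.ext haa

theorem sLike_of_equiv (hodd : Odd (Fintype.card F)) (L : Subgroup G)
    (e : ↥L ≃* Matrix.SpecialLinearGroup (Fin 2) F) (j : G) (hj : orderOf j = 2) (hjL : j ∈ L) :
    SLike L j := by
  have h2 := b1_two_ne_zero hodd
  have hej := b1_e_j hodd L e j hj hjL
  refine ⟨hjL, b1_j_ne_one j hj, b1_jj j hj, ?_, ?_, ?_, ?_⟩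
  · intro a ha
    have h1 : e (⟨a, ha⟩ * ⟨j, hjL⟩) = e (⟨j, hjL⟩ * ⟨a, ha⟩) := by
      rw [map_mul, map_mul, hej, mul_neg, neg_mul, mul_one, one_mul]
    exact congrArg Subtype.val (e.injective h1)
  · intro a ha haa
    have h1 : e ⟨a, ha⟩ * e ⟨a, ha⟩ = 1 := by
      rw [← map_mul]
      have : (⟨a, ha⟩ : ↥L) * ⟨a, ha⟩ = 1 := Subtype.ext haa
      rw [this, map_one]
    rcases (sl2_mul_self_eq_one_iff h2 _).mp h1 with h | h
    · left
      have : (⟨a, ha⟩ : ↥L) = 1 := e.injective (by rw [h, map_one])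
      exact congrArg Subtype.val this
    · right
      exact b1_eq_j_of hodd L e j hj hjL ha h
  · intro a ha a' ha' haa haa'
    obtain ⟨k, hk⟩ := Cfsg.Agent.Lib.H7.PSp4.exists_conj_of_sq hodd
      (b1_e_sq hodd L e j hj hjL ha haa) (b1_e_sq hodd L e j hj hjL ha' haa')
    refine ⟨(e.symm k : G), (e.symm k).2, ?_⟩
    have h1 : e (e.symm k * ⟨a, ha⟩ * (e.symm k)⁻¹) = e ⟨a', ha'⟩ := by
      rw [map_mul, map_mul, map_inv, e.apply_symm_apply, hk]
    exact congrArg Subtype.val (e.injective h1)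
  · intro a ha d hd haa hda
    have hea := b1_e_sq hodd L e j hj hjL ha haa
    have hns := nonScalar_of_trace_sq_ne (e ⟨a, ha⟩) (trace_sq_ne_of_mul_self h2 _ hea)
    have h1 : e ⟨d, hd⟩ * e ⟨a, ha⟩ * (e ⟨d, hd⟩)⁻¹ = (e ⟨a, ha⟩)⁻¹ := by
      rw [← map_inv, ← map_inv, ← map_mul, ← map_mul]
      congr 1
      exact Subtype.ext hda
    have h3 := mul_self_of_inverts hns h1
    have h4 : e (⟨d, hd⟩ * ⟨d, hd⟩) = e ⟨j, hjL⟩ := by rw [map_mul, h3, hej]
    exact congrArg Subtype.val (e.injective h4)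

end Cfsg.Agent.Lib.H9.CSL2
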