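import Mathlib
import Cfsg.Agent.Lib.H28.CSL2Defs
import Cfsg.Agent.Lib.H12.SL2Syl2
import Cfsg.Agent.Lib.H9.CSL2B1
import Cfsg.Agent.Lib.H11.CSL2A1
import Cfsg.Agent.Lib.H11.CSL2A2

/-!
# S3211 piece B2 (helper9): transport of the power data of `SL₂(q)` along an isomorphism
-/

set_option autoImplicit false

namespace Cfsg.Agent.Lib.H9.CSL2

open Cfsg.Agent.Lib.H28.CSL2 Cfsg.Agent.Lib.H12

variable {F : Type*} [Field F] [Fintype F]

variable {G : Type*} [Group G]

theorem sPow_of_equiv (hodd : Odd (Fintype.card F)) (L : Subgroup G)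
    (e : ↥L ≃* Matrix.SpecialLinearGroup (Fin 2) F) (j : G) (hj : orderOf j = 2) (hjL : j ∈ L) :
    ∃ M : ℕ, SPow L j M := by
  classical
  have hej := b1_e_j hodd L e j hj hjL
  obtain ⟨Q⟩ : Nonempty (Sylow 2 (Matrix.SpecialLinearGroup (Fin 2) F)) := inferInstance
  set M := Nat.card (Q : Subgroup (Matrix.SpecialLinearGroup (Fin 2) F)) / 4 with hM
  obtain ⟨hev, x, c, y, hxx, hcx, hcM, hyx⟩ := Cfsg.Agent.Lib.H11.CSL2.sl2_ex hodd Q
  refine ⟨M, hev, ?_, ?_⟩
  · intro d hd hcon
    apply Cfsg.Agent.Lib.H11.CSL2.sl2_npow hodd Q (e ⟨d, hd⟩)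
    rw [← hM, ← map_pow, ← map_mul, ← hej]
    congr 1
    exact Subtype.ext hcon
  · refine ⟨(e.symm x : G), (e.symm x).2, (e.symm c : G), (e.symm c).2, (e.symm y : G),
      (e.symm y).2, ?_, ?_, ?_, ?_⟩
    · have h1 : e (e.symm x * e.symm x) = e ⟨j, hjL⟩ := by
        rw [map_mul, e.apply_symm_apply, hxx, hej]
      exact congrArg Subtype.val (e.injective h1)
    · have h1 : e (e.symm c * e.symm x) = e (e.symm x * e.symm c) := by
        rw [map_mul, map_mul, e.apply_symm_apply, e.apply_symm_apply, hcx]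
      exact congrArg Subtype.val (e.injective h1)
    · have h1 : e ((e.symm c) ^ M) = e ⟨j, hjL⟩ := by
        rw [map_pow, e.apply_symm_apply, hcM, hej]
      have := congrArg Subtype.val (e.injective h1)
      simpa using this
    · have h1 : e (e.symm y * e.symm x * (e.symm y)⁻¹) = e (e.symm x)⁻¹ := by
        rw [map_mul, map_mul, map_inv, map_inv, e.apply_symm_apply, e.apply_symm_apply, hyx]
      have := congrArg Subtype.val (e.injective h1)
      simpa using this

end Cfsg.Agent.Lib.H9.CSL2
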