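import Mathlib

set_option autoImplicit false

/-!
# S2053 piece KL (`involution_lift_of_odd_relation`; helper9)

Lifting an involution `t` through a central extension when an odd number of commuting conjugates of `t` has
product `1` and the commuting conjugates of `t` form one orbit under the centraliser of `t`.
-/

namespace Cfsg.Agent.Lib.H9.Fi22M

open scoped commutatorElement

section gen

variable {Γ : Type*} [Group Γ]

theorem comm_mul_right_gen (x y z : Γ) : ⁅x, y * z⁆ = ⁅x, y⁆ * (y * ⁅x, z⁆ * y⁻¹) := by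
  simp only [commutatorElement_def]
  group

theorem comm_sq_left_gen (a b : Γ) : ⁅a * a, b⁆ = a * ⁅a, b⁆ * a⁻¹ * ⁅a, b⁆ := by
  simp only [commutatorElement_def]
  group

theorem comm_conj_gen (u a b : Γ) : ⁅u * a * u⁻¹, u * b * u⁻¹⁆ = u * ⁅a, b⁆ * u⁻¹ := by
  simp only [commutatorElement_def]
  group

theorem comm_mul_cen_left (x y z : Γ) (hz : ∀ w : Γ, w * z = z * w) : ⁅x * z, y⁆ = ⁅x, y⁆ := by
  rw [commutatorElement_def, commutatorElement_def, mul_inv_rev]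
  have : x * z * y * (z⁻¹ * x⁻¹) = x * y * x⁻¹ := by
    calc x * z * y * (z⁻¹ * x⁻¹) = x * (z * y) * z⁻¹ * x⁻¹ := by group
      _ = x * (y * z) * z⁻¹ * x⁻¹ := by rw [hz y]
      _ = x * y * x⁻¹ := by group
  rw [this]

theorem comm_mul_cen_right (x y z : Γ) (hz : ∀ w : Γ, w * z = z * w) : ⁅x, y * z⁆ = ⁅x, y⁆ := by
  rw [commutatorElement_def, commutatorElement_def, mul_inv_rev]
  calc x * (y * z) * x⁻¹ * (z⁻¹ * y⁻¹) = x * y * (z * x⁻¹) * z⁻¹ * y⁻¹ := by group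
    _ = x * y * (x⁻¹ * z) * z⁻¹ * y⁻¹ := by rw [hz x⁻¹]
    _ = x * y * x⁻¹ * y⁻¹ := by group

end gen

section central

variable {G Γ : Type*} [Group G] [Group Γ] (σ : Γ →* G) (hc : σ.ker ≤ Subgroup.center Γ)

include hc

theorem ker_comm {z : Γ} (hz : z ∈ σ.ker) (x : Γ) : x * z = z * x :=
  Subgroup.mem_center_iff.mp (hc hz) x

theorem conj_ker {z : Γ} (hz : z ∈ σ.ker) (x : Γ) : x * z * x⁻¹ = z := by
  rw [ker_comm σ hc hz x, mul_assoc, mul_inv_cancel, mul_one]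

omit hc in
theorem comm_mem_ker {a b : Γ} (h : σ a * σ b = σ b * σ a) : ⁅a, b⁆ ∈ σ.ker := by
  rw [MonoidHom.mem_ker, map_commutatorElement, commutatorElement_eq_one_iff_mul_comm]
  exact h

theorem comm_congr_left {a a' : Γ} (b : Γ) (h : σ a = σ a') : ⁅a, b⁆ = ⁅a', b⁆ := by
  have hz : a⁻¹ * a' ∈ σ.ker := by
    rw [MonoidHom.mem_ker, map_mul, map_inv, h, inv_mul_cancel]
  have : a' = a * (a⁻¹ * a') := by group
  rw [this, comm_mul_cen_left _ _ _ (ker_comm σ hc hz)]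

theorem comm_congr_right (a : Γ) {b b' : Γ} (h : σ b = σ b') : ⁅a, b⁆ = ⁅a, b'⁆ := by
  have hz : b⁻¹ * b' ∈ σ.ker := by
    rw [MonoidHom.mem_ker, map_mul, map_inv, h, inv_mul_cancel]
  have : b' = b * (b⁻¹ * b') := by group
  rw [this, comm_mul_cen_right _ _ _ (ker_comm σ hc hz)]

/-- `⁅T, ·⁆` is multiplicative on elements whose images commute with the image of `T` -/
theorem comm_mul_of_commute (T a b : Γ) (hb : σ T * σ b = σ b * σ T) :
    ⁅T, a * b⁆ = ⁅T, a⁆ * ⁅T, b⁆ := by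
  rw [comm_mul_right_gen, conj_ker σ hc (comm_mem_ker σ hb)]

end central

/-- **KL** -/
theorem involution_lift_of_odd_relation {G Γ : Type*} [Group G] [Group Γ] (σ : Γ →* G)
    (hs : Function.Surjective σ) (hc : σ.ker ≤ Subgroup.center Γ) (t d0 : G) (ht : t * t = 1)
    (hrank : ∀ x : G, x * t * x⁻¹ ≠ t → (x * t * x⁻¹) * t = t * (x * t * x⁻¹) →
      ∃ h : G, h * t = t * h ∧ x * t * x⁻¹ = h * d0 * h⁻¹)
    (X : List G) (hodd : Odd X.length)
    (hXt : ∀ x ∈ X, x * t * x⁻¹ ≠ t)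
    (hXc : ∀ x ∈ X, (x * t * x⁻¹) * t = t * (x * t * x⁻¹))
    (hXX : ∀ x ∈ X, ∀ y ∈ X, (x * t * x⁻¹) * (y * t * y⁻¹) = (y * t * y⁻¹) * (x * t * x⁻¹))
    (hprod : (X.map fun x => x * t * x⁻¹).prod = 1) :
    ∃ t' : Γ, σ t' = t ∧ t' * t' = 1 ∧
      ∀ x y : Γ, σ (x * t' * x⁻¹) * σ (y * t' * y⁻¹) = σ (y * t' * y⁻¹) * σ (x * t' * x⁻¹) →
        (x * t' * x⁻¹) * (y * t' * y⁻¹) = (y * t' * y⁻¹) * (x * t' * x⁻¹) := by
  classical
  choose lift hlift using hs
  have hcen : ∀ z ∈ σ.ker, ∀ x : Γ, x * z = z * x := fun z hz x => ker_comm σ hc hz x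
  obtain ⟨T, hT⟩ : ∃ T : Γ, σ T = t := ⟨lift t, hlift t⟩
  -- `X` is not empty
  obtain ⟨x0, hx0⟩ : ∃ x0, x0 ∈ X := by
    cases X with
    | nil => exact absurd hodd (by simp)
    | cons a l => exact ⟨a, List.mem_cons_self⟩
  obtain ⟨h0, hh0, hx0d⟩ := hrank x0 (hXt x0 hx0) (hXc x0 hx0)
  -- `d0` commutes with `t`
  have hd0t : t * d0 = d0 * t := by
    have e1 : d0 = h0⁻¹ * (x0 * t * x0⁻¹) * h0 := by rw [hx0d]; group
    have e2 : t = h0⁻¹ * t * h0 := by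
      rw [mul_assoc, ← hh0, ← mul_assoc, inv_mul_cancel, one_mul]
    calc t * d0 = (h0⁻¹ * t * h0) * (h0⁻¹ * (x0 * t * x0⁻¹) * h0) := by rw [← e1, ← e2]
      _ = h0⁻¹ * (t * (x0 * t * x0⁻¹)) * h0 := by group
      _ = h0⁻¹ * ((x0 * t * x0⁻¹) * t) * h0 := by rw [hXc x0 hx0]
      _ = (h0⁻¹ * (x0 * t * x0⁻¹) * h0) * (h0⁻¹ * t * h0) := by group
      _ = d0 * t := by rw [← e1, ← e2]
  obtain ⟨D0, hD0⟩ : ∃ D0 : Γ, σ D0 = d0 := ⟨lift d0, hlift d0⟩
  set β : Γ := ⁅T, D0⁆ with hβ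
  have hβk : β ∈ σ.ker := comm_mem_ker σ (by rw [hT, hD0]; exact hd0t)
  -- `T * T` is in the kernel
  have hsk : T * T ∈ σ.ker := by rw [MonoidHom.mem_ker, map_mul, hT, ht]
  have hβ2 : β * β = 1 := by
    have h1 : ⁅T * T, D0⁆ = 1 := by
      rw [commutatorElement_eq_one_iff_mul_comm]
      exact (hcen _ hsk D0).symm
    rw [comm_sq_left_gen, conj_ker σ hc hβk] at h1
    exact h1
  -- Claim B
  have claimB : ∀ (C : Γ) (x : G), σ C = x * t * x⁻¹ → x * t * x⁻¹ ≠ t →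
      (x * t * x⁻¹) * t = t * (x * t * x⁻¹) → ⁅T, C⁆ = β := by
    intro C x hC hne hcomm
    obtain ⟨h, hh, hxd⟩ := hrank x hne hcomm
    obtain ⟨Hh, hHh⟩ : ∃ Hh : Γ, σ Hh = h := ⟨lift h, hlift h⟩
    have e1 : σ C = σ (Hh * D0 * Hh⁻¹) := by
      rw [hC, map_mul, map_mul, map_inv, hHh, hD0, hxd]
    rw [comm_congr_right σ hc T e1]
    have e2 : T = Hh * (Hh⁻¹ * T * Hh) * Hh⁻¹ := by group
    have e3 : σ (Hh⁻¹ * T * Hh) = σ T := by
      rw [map_mul, map_mul, map_inv, hHh, hT, mul_assoc, ← hh, ← mul_assoc, inv_mul_cancel, one_mul]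
    conv_lhs => rw [e2]
    rw [comm_conj_gen, comm_congr_left σ hc D0 e3, conj_ker σ hc hβk]
  -- the lifts of the conjugates
  set cl : G → Γ := fun x => lift x * T * (lift x)⁻¹ with hcl
  have hclσ : ∀ x, σ (cl x) = x * t * x⁻¹ := by
    intro x
    simp only [hcl, map_mul, map_inv, hlift, hT]
  -- Claim C
  have claimC : ∀ Y : List G, (∀ y ∈ Y, y ∈ X) →
      (σ T * σ ((Y.map cl).prod) = σ ((Y.map cl).prod) * σ T) ∧
        ⁅T, (Y.map cl).prod⁆ = β ^ Y.length := by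
    intro Y
    induction Y with
    | nil =>
      intro _
      simp
    | cons y Y ih =>
      intro hY
      have hyX : y ∈ X := hY y List.mem_cons_self
      obtain ⟨ih1, ih2⟩ := ih (fun z hz => hY z (List.mem_cons_of_mem _ hz))
      have hy1 : σ T * σ (cl y) = σ (cl y) * σ T := by
        rw [hclσ, hT]
        exact (hXc y hyX).symm
      constructor
      · rw [List.map_cons, List.prod_cons, map_mul, ← mul_assoc, hy1, mul_assoc, ih1, ← mul_assoc]
      · rw [List.map_cons, List.prod_cons, comm_mul_of_commute σ hc T _ _ ih1, ih2,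
          claimB (cl y) y (hclσ y) (hXt y hyX) (hXc y hyX), List.length_cons, pow_succ']
  -- `β = 1`
  have hβ1 : β = 1 := by
    obtain ⟨-, h2⟩ := claimC X (fun y hy => hy)
    have h3 : (X.map cl).prod ∈ σ.ker := by
      rw [MonoidHom.mem_ker, map_list_prod, List.map_map]
      have : (σ ∘ cl) = fun x => x * t * x⁻¹ := by
        funext x
        exact hclσ x
      rw [this]
      exact hprod
    have h4 : ⁅T, (X.map cl).prod⁆ = 1 := by
      rw [commutatorElement_eq_one_iff_mul_comm]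
      exact hcen _ h3 T
    rw [h4] at h2
    obtain ⟨m, hm⟩ := hodd
    rw [hm, pow_succ, pow_mul, pow_two, hβ2, one_pow, one_mul] at h2
    exact h2.symm
  -- Claim D
  have claimD : ∀ x y : Γ, σ (x * T * x⁻¹) * σ (y * T * y⁻¹) = σ (y * T * y⁻¹) * σ (x * T * x⁻¹) →
      (x * T * x⁻¹) * (y * T * y⁻¹) = (y * T * y⁻¹) * (x * T * x⁻¹) := by
    intro x y hxy
    set w : Γ := x⁻¹ * y with hw
    set B : Γ := w * T * w⁻¹ with hB
    have hyB : y * T * y⁻¹ = x * B * x⁻¹ := by rw [hB, hw]; group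
    have hσB : σ B = σ w * t * (σ w)⁻¹ := by
      rw [hB, map_mul, map_mul, map_inv, hT]
    -- `σ B` commutes with `t`
    have hBt : (σ w * t * (σ w)⁻¹) * t = t * (σ w * t * (σ w)⁻¹) := by
      have h1 : σ (x * T * x⁻¹) = σ x * t * (σ x)⁻¹ := by rw [map_mul, map_mul, map_inv, hT]
      have h2 : σ (y * T * y⁻¹) = σ x * (σ w * t * (σ w)⁻¹) * (σ x)⁻¹ := by
        rw [hyB, map_mul, map_mul, map_inv, hσB]
      rw [h1, h2] at hxy
      have h3 : (σ x)⁻¹ * ((σ x * t * (σ x)⁻¹) * (σ x * (σ w * t * (σ w)⁻¹) * (σ x)⁻¹)) * σ x =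
          (σ x)⁻¹ * ((σ x * (σ w * t * (σ w)⁻¹) * (σ x)⁻¹) * (σ x * t * (σ x)⁻¹)) * σ x := by
        rw [hxy]
      have h4 : (σ x)⁻¹ * ((σ x * t * (σ x)⁻¹) * (σ x * (σ w * t * (σ w)⁻¹) * (σ x)⁻¹)) * σ x =
          t * (σ w * t * (σ w)⁻¹) := by group
      have h5 : (σ x)⁻¹ * ((σ x * (σ w * t * (σ w)⁻¹) * (σ x)⁻¹) * (σ x * t * (σ x)⁻¹)) * σ x =
          (σ w * t * (σ w)⁻¹) * t := by group
      rw [h4, h5] at h3
      exact h3.symm
    have hTB : T * B = B * T := by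
      by_cases hBeq : σ w * t * (σ w)⁻¹ = t
      · -- `B = T z`
        have hz : T⁻¹ * B ∈ σ.ker := by
          rw [MonoidHom.mem_ker, map_mul, map_inv, hσB, hBeq, hT, inv_mul_cancel]
        have e : B = T * (T⁻¹ * B) := by group
        have hzT : T * (T⁻¹ * B) = (T⁻¹ * B) * T := hcen _ hz T
        calc T * B = T * (T * (T⁻¹ * B)) := by rw [← e]
          _ = T * ((T⁻¹ * B) * T) := by rw [hzT]
          _ = (T * (T⁻¹ * B)) * T := by group
          _ = B * T := by rw [← e]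
      · have := claimB B (σ w) hσB hBeq hBt
        rw [hβ1, commutatorElement_eq_one_iff_mul_comm] at this
        exact this
    rw [hyB]
    calc x * T * x⁻¹ * (x * B * x⁻¹) = x * (T * B) * x⁻¹ := by group
      _ = x * (B * T) * x⁻¹ := by rw [hTB]
      _ = x * B * x⁻¹ * (x * T * x⁻¹) := by group
  -- Claim E : the square of the product of the lifts
  set s : Γ := T * T with hs_def
  have claimE : ∀ Y : List G, (∀ y ∈ Y, y ∈ X) →
      (Y.map cl).prod * (Y.map cl).prod = s ^ Y.length := by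
    intro Y
    induction Y with
    | nil =>
      intro _
      simp
    | cons y Y ih =>
      intro hY
      have hyX : y ∈ X := hY y List.mem_cons_self
      have hYX : ∀ z ∈ Y, z ∈ X := fun z hz => hY z (List.mem_cons_of_mem _ hz)
      have ih' := ih hYX
      have hcomm : Commute (cl y) (Y.map cl).prod := by
        apply Commute.list_prod_right
        intro c hcmem
        obtain ⟨z, hz, rfl⟩ := List.mem_map.mp hcmem
        apply claimD
        rw [hclσ y, hclσ z]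
        exact hXX y hyX z (hYX z hz)
      have hsq : cl y * cl y = s := by
        have : cl y * cl y = lift y * (T * T) * (lift y)⁻¹ := by
          simp only [hcl]
          group
        rw [this, conj_ker σ hc hsk]
      rw [List.map_cons, List.prod_cons, List.length_cons, pow_succ']
      calc cl y * (Y.map cl).prod * (cl y * (Y.map cl).prod)
          = cl y * ((Y.map cl).prod * cl y) * (Y.map cl).prod := by group
        _ = cl y * (cl y * (Y.map cl).prod) * (Y.map cl).prod := by rw [hcomm.eq]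
        _ = (cl y * cl y) * ((Y.map cl).prod * (Y.map cl).prod) := by group
        _ = s * s ^ Y.length := by rw [hsq, ih']
  -- the central correction
  set ζ : Γ := (X.map cl).prod with hζ
  have hζk : ζ ∈ σ.ker := by
    rw [MonoidHom.mem_ker, hζ, map_list_prod, List.map_map]
    have : (σ ∘ cl) = fun x => x * t * x⁻¹ := by
      funext x
      exact hclσ x
    rw [this]
    exact hprod
  obtain ⟨m, hm⟩ := hodd
  have hζ2 : ζ * ζ = s ^ (2 * m + 1) := by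
    rw [← hm]
    exact claimE X (fun y hy => hy)
  set e : Γ := ζ * (s ^ m)⁻¹ with he
  have hsmk : s ^ m ∈ σ.ker := Subgroup.pow_mem _ hsk m
  have hek : e ∈ σ.ker := Subgroup.mul_mem _ hζk (Subgroup.inv_mem _ hsmk)
  have he2 : e * e = s := by
    have h1 : e * e = (ζ * ζ) * ((s ^ m)⁻¹ * (s ^ m)⁻¹) := by
      rw [he]
      have := hcen _ (Subgroup.inv_mem _ hsmk) ζ
      calc ζ * (s ^ m)⁻¹ * (ζ * (s ^ m)⁻¹) = ζ * ((s ^ m)⁻¹ * ζ) * (s ^ m)⁻¹ := by group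
        _ = ζ * (ζ * (s ^ m)⁻¹) * (s ^ m)⁻¹ := by rw [← this]
        _ = ζ * ζ * ((s ^ m)⁻¹ * (s ^ m)⁻¹) := by group
    rw [h1, hζ2, pow_succ, pow_mul, pow_two]
    have h2 : (s * s) ^ m = s ^ m * s ^ m := by
      rw [(Commute.refl s).mul_pow]
    rw [h2]
    group
  have heinvk : e⁻¹ ∈ σ.ker := Subgroup.inv_mem _ hek
  refine ⟨T * e⁻¹, ?_, ?_, ?_⟩
  · rw [map_mul, hT, MonoidHom.mem_ker.mp heinvk, mul_one]
  · calc T * e⁻¹ * (T * e⁻¹) = T * (e⁻¹ * T) * e⁻¹ := by group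
      _ = T * (T * e⁻¹) * e⁻¹ := by rw [← hcen _ heinvk T]
      _ = s * (e * e)⁻¹ := by rw [hs_def]; group
      _ = 1 := by rw [he2, mul_inv_cancel]
  · intro x y hxy
    have hx : x * (T * e⁻¹) * x⁻¹ = (x * T * x⁻¹) * e⁻¹ := by
      calc x * (T * e⁻¹) * x⁻¹ = x * T * (e⁻¹ * x⁻¹) := by group
        _ = x * T * (x⁻¹ * e⁻¹) := by rw [← hcen _ heinvk x⁻¹]
        _ = (x * T * x⁻¹) * e⁻¹ := by group
    have hy : y * (T * e⁻¹) * y⁻¹ = (y * T * y⁻¹) * e⁻¹ := by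
      calc y * (T * e⁻¹) * y⁻¹ = y * T * (e⁻¹ * y⁻¹) := by group
        _ = y * T * (y⁻¹ * e⁻¹) := by rw [← hcen _ heinvk y⁻¹]
        _ = (y * T * y⁻¹) * e⁻¹ := by group
    rw [hx, hy] at hxy ⊢
    have hσx : σ ((x * T * x⁻¹) * e⁻¹) = σ (x * T * x⁻¹) := by
      rw [map_mul, MonoidHom.mem_ker.mp heinvk, mul_one]
    have hσy : σ ((y * T * y⁻¹) * e⁻¹) = σ (y * T * y⁻¹) := by
      rw [map_mul, MonoidHom.mem_ker.mp heinvk, mul_one]
    rw [hσx, hσy] at hxy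
    have hD := claimD x y hxy
    calc x * T * x⁻¹ * e⁻¹ * (y * T * y⁻¹ * e⁻¹)
        = x * T * x⁻¹ * (e⁻¹ * (y * T * y⁻¹)) * e⁻¹ := by group
      _ = x * T * x⁻¹ * ((y * T * y⁻¹) * e⁻¹) * e⁻¹ := by rw [← hcen _ heinvk (y * T * y⁻¹)]
      _ = (x * T * x⁻¹ * (y * T * y⁻¹)) * e⁻¹ * e⁻¹ := by group
      _ = (y * T * y⁻¹ * (x * T * x⁻¹)) * e⁻¹ * e⁻¹ := by rw [hD]
      _ = y * T * y⁻¹ * ((x * T * x⁻¹) * e⁻¹) * e⁻¹ := by group
      _ = y * T * y⁻¹ * (e⁻¹ * (x * T * x⁻¹)) * e⁻¹ := by rw [← hcen _ heinvk (x * T * x⁻¹)]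
      _ = y * T * y⁻¹ * e⁻¹ * (x * T * x⁻¹ * e⁻¹) := by group

end Cfsg.Agent.Lib.H9.Fi22M
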