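import Mathlib
import Cfsg.Agent.Lib.H28.PSp4Defs
import Cfsg.Agent.Lib.H12.SL2Syl2
import Cfsg.Agent.Lib.H25.LieCrit

/-!
# S5320 piece SYL (helper9): `St Q = Q ≀ 2` is a Sylow 2-subgroup of `Sp₄(q)`, `q` odd
-/

set_option autoImplicit false

namespace Cfsg.Agent.Lib.H9.PSp4

open Matrix Cfsg.Agent.Lib.H9.SqC Cfsg.Agent.Lib.H28.PSp4 Cfsg.Agent.Lib.H12
  Cfsg.Agent.Lib.H25.LieCrit

variable {F : Type*} [Field F]

theorem exists_sylow_St [Fintype F] (hq : Odd (Fintype.card F)) (Q : Sylow 2 (SL2 F)) :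
    ∃ P : Sylow 2 (Sp4 F), (P : Subgroup (Sp4 F)) = St (Q : Subgroup (SL2 F)) := by
  have : Fact (Nat.Prime 2) := ⟨Nat.prime_two⟩
  obtain ⟨Q0, hQ0p, hQ0c, -⟩ := exists_quat (F := F) hq
  obtain ⟨Q', hQ'⟩ := hQ0p.exists_le_sylow
  have hcard : Nat.card (Q : Subgroup (SL2 F)) = Nat.card (Q' : Subgroup (SL2 F)) := by
    rw [Sylow.card_eq_multiplicity, Sylow.card_eq_multiplicity]
  have hdvd : 2 ^ (padicValNat 2 (Fintype.card F + 1) + padicValNat 2 (Fintype.card F - 1)) ∣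
      Nat.card (Q : Subgroup (SL2 F)) := by
    rw [hcard]
    exact hQ0c.trans (Subgroup.card_dvd_of_le hQ')
  have hS : IsPGroup 2 (⊤ : Subgroup (Equiv.Perm (Fin 2))) := by
    apply IsPGroup.of_card (n := 1)
    rw [Subgroup.card_top, Nat.card_eq_fintype_card, Fintype.card_perm, Fintype.card_fin]
    rfl
  obtain ⟨S, hS'⟩ := hS.exists_le_sylow
  have hStop : (S : Subgroup (Equiv.Perm (Fin 2))) = ⊤ := top_le_iff.1 hS'
  obtain ⟨P1, hP1⟩ := Cfsg.Agent.Lib.H9.DerLen.exists_sylow_eq_sub hq 2 (Q : Subgroup (SL2 F)) Q.isPGroup' hdvd S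
  exact ⟨P1, by rw [hP1, hStop, St_eq_sub]⟩

end Cfsg.Agent.Lib.H9.PSp4
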