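import Mathlib
import Cfsg.Prelude.Def_Local
import Cfsg.Agent.Lib.H7.Components
import Cfsg.Agent.Lib.H20.SFINV
import Cfsg.Agent.S1304

/-!
# S2924, piece KEYb (helper9)

`H` finite, `A` a normal subgroup, `z` an involution of `H` acting without fixed points on `A`,
`E(C_H(z)) = 1`.  Then every component of `H ⧸ A` lies in the image of `C_H(A)`.
-/

set_option autoImplicit false

namespace Cfsg.Agent.Lib.H9.SG

open Cfsg
open scoped commutatorElement

/-- Abstract step: `K` a component of `G`, `N` a normal subgroup of `G` containing all the commutators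
`g t g⁻¹ t⁻¹`.  Then `K ≤ N` or `t` centralizes `K`. -/
theorem component_le_or_centralized {G : Type*} [Group G] [Finite G] (K N : Subgroup G) [hN : N.Normal]
    (hK : IsComponent K) (t : G) (ht : ∀ g : G, g * t * g⁻¹ * t⁻¹ ∈ N) :
    K ≤ N ∨ ∀ k ∈ K, t * k * t⁻¹ = k := by
  by_cases hKN : K ≤ N
  · exact Or.inl hKN
  right
  have hK' : IsComponent (K.map (MulAut.conj t).toMonoidHom) :=
    Cfsg.Agent.Lib.H7.isComponent_map_conj t hK
  -- `t` normalizes `K`
  have hnorm : K.map (MulAut.conj t).toMonoidHom = K := by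
    by_contra hne
    have hcomm : ⁅K.map (MulAut.conj t).toMonoidHom, K⁆ = ⊥ :=
      Cfsg.Agent.Lib.H7.components_commute hK' hK hne
    apply hKN
    rw [← Cfsg.Agent.Lib.H7.component_commutator_self hK, Subgroup.commutator_le]
    intro k hk l hl
    have hw : t * k⁻¹ * t⁻¹ ∈ K.map (MulAut.conj t).toMonoidHom :=
      ⟨k⁻¹, K.inv_mem hk, by simp [MulAut.conj_apply]⟩
    have hwl : ⁅t * k⁻¹ * t⁻¹, l⁆ = 1 := by
      have := Subgroup.commutator_mem_commutator hw hl
      rw [hcomm] at this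
      exact Subgroup.mem_bot.1 this
    have h1 : t * k⁻¹ * t⁻¹ * l = l * (t * k⁻¹ * t⁻¹) := commutatorElement_eq_one_iff_mul_comm.1 hwl
    have hc := ht k
    have hid : ⁅k, l⁆ = (k * t * k⁻¹ * t⁻¹) * (l * (k * t * k⁻¹ * t⁻¹)⁻¹ * l⁻¹) := by
      calc ⁅k, l⁆ = k * l * k⁻¹ * l⁻¹ := commutatorElement_def k l
        _ = k * (l * (t * k⁻¹ * t⁻¹)) * (t * k⁻¹ * t⁻¹)⁻¹ * k⁻¹ * l⁻¹ := by group
        _ = k * ((t * k⁻¹ * t⁻¹) * l) * (t * k⁻¹ * t⁻¹)⁻¹ * k⁻¹ * l⁻¹ := by rw [h1]
        _ = (k * t * k⁻¹ * t⁻¹) * (l * (k * t * k⁻¹ * t⁻¹)⁻¹ * l⁻¹) := by group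
    rw [hid]
    exact N.mul_mem hc (hN.conj_mem _ (N.inv_mem hc) l)
  -- `K ⊓ N` is central in `K`
  have hcen : N.subgroupOf K ≤ Subgroup.center K := by
    rcases Cfsg.Agent.Lib.H7.quasisimple_normal hK.2 (N.subgroupOf K) with h | h
    · exact absurd (Subgroup.subgroupOf_eq_top.1 h) hKN
    · exact h
  -- the automorphism of `K` induced by `t`
  let α : K ≃* K :=
    (K.equivMapOfInjective (MulAut.conj t).toMonoidHom (MulAut.conj t).injective).trans
      (MulEquiv.subgroupCongr hnorm)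
  have hα : ∀ x : K, ((α x : K) : G) = t * x * t⁻¹ := fun x => rfl
  have hperf : commutator K = ⊤ := hK.2.1.commutator_eq_top
  have hfix := Cfsg.Agent.S1304.result hperf α (by
    intro x
    apply hcen
    rw [Subgroup.mem_subgroupOf]
    have h2 : ((α x * x⁻¹ : K) : G) = (x * t * (x : G)⁻¹ * t⁻¹)⁻¹ := by
      rw [Subgroup.coe_mul, hα, Subgroup.coe_inv]
      group
    rw [h2]
    exact N.inv_mem (ht x))
  intro k hk
  have := hfix ⟨k, hk⟩
  have h3 := congrArg Subtype.val this
  rw [hα] at h3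
  exact h3

/-- A square root in a group of odd order. -/
theorem exists_sq_of_odd {H : Type*} [Group H] [Finite H] (A : Subgroup H) (hodd : Odd (Nat.card A))
    (b : H) (hb : b ∈ A) : ∃ a ∈ A, a * a = b := by
  obtain ⟨m, hm⟩ := hodd
  refine ⟨b ^ (m + 1), A.pow_mem hb _, ?_⟩
  have h1 : (⟨b, hb⟩ : A) ^ Nat.card A = 1 := pow_card_eq_one'
  have h2 : b ^ (2 * m + 1) = 1 := by
    rw [← hm]
    have := congrArg Subtype.val h1
    simp only [SubgroupClass.coe_pow, OneMemClass.coe_one] at this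
    exact this
  calc b ^ (m + 1) * b ^ (m + 1) = b ^ (2 * m + 1) * b := by
        rw [← pow_add, ← pow_succ]; congr 1; ring
    _ = b := by rw [h2, one_mul]

/-- KEYb. -/
theorem key_b {H : Type*} [Group H] [Finite H] (A : Subgroup H) [A.Normal] (z : H) (hz : z * z = 1)
    (hfix : ∀ a ∈ A, z * a = a * z → a = 1)
    (hL : Cfsg.layer ↥(Subgroup.centralizer ({z} : Set H)) = ⊥)
    (K : Subgroup (H ⧸ A)) (hK : Cfsg.IsComponent K) :
    K ≤ (Subgroup.centralizer (A : Set H)).map (QuotientGroup.mk' A) := by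
  have hCn : (Subgroup.centralizer (A : Set H)).Normal := inferInstance
  have hN : ((Subgroup.centralizer (A : Set H)).map (QuotientGroup.mk' A)).Normal :=
    hCn.map _ (QuotientGroup.mk'_surjective A)
  have ht : ∀ g : H ⧸ A, g * (QuotientGroup.mk' A z) * g⁻¹ * (QuotientGroup.mk' A z)⁻¹ ∈
      (Subgroup.centralizer (A : Set H)).map (QuotientGroup.mk' A) := by
    intro g
    obtain ⟨h, rfl⟩ := QuotientGroup.mk'_surjective A g
    refine ⟨h * z * h⁻¹ * z⁻¹, ?_, by simp⟩
    rw [SetLike.mem_coe, Subgroup.mem_centralizer_iff]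
    intro a ha
    exact (Cfsg.Agent.Lib.H20.SF.commutator_centralizes_of_fpf A hz hfix h a ha).symm
  rcases component_le_or_centralized K _ hK (QuotientGroup.mk' A z) ht with h | hcz
  · exact h
  exfalso
  -- `R = L ∩ C_H(z)` is a component of `C_H(z)`
  set Cz : Subgroup H := Subgroup.centralizer ({z} : Set H) with hCz
  set L : Subgroup H := K.comap (QuotientGroup.mk' A) with hLdef
  have hLs : L.IsSubnormal := hK.1.comap (QuotientGroup.mk' A)
  set R : Subgroup Cz := L.subgroupOf Cz with hR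
  have hRs : R.IsSubnormal := hLs.subgroupOf
  set f : Cz →* H ⧸ A := (QuotientGroup.mk' A).comp Cz.subtype with hf
  have hodd : Odd (Nat.card A) := Cfsg.Agent.Lib.H20.SF.odd_card_of_fpf A hz hfix
  have hinvA := Cfsg.Agent.Lib.H20.SF.conj_eq_inv_of_fpf A hz hfix
  have hmap : R.map f = K := by
    apply le_antisymm
    · rintro _ ⟨x, hx, rfl⟩
      exact hx
    · intro k hk
      obtain ⟨l, rfl⟩ := QuotientGroup.mk'_surjective A k
      have hzl := hcz _ hk
      have hb : l⁻¹ * (z * l * z⁻¹) ∈ A := by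
        apply (QuotientGroup.eq (s := A)).1
        exact hzl.symm
      obtain ⟨a, ha, haa⟩ := exists_sq_of_odd A hodd _ hb
      have hza := hinvA a ha
      have hx : z * (l * a) * z⁻¹ = l * a := by
        calc z * (l * a) * z⁻¹ = l * (l⁻¹ * (z * l * z⁻¹)) * (z * a * z⁻¹) := by group
          _ = l * (a * a) * a⁻¹ := by rw [haa, hza]
          _ = l * a := by group
      have hxC : l * a ∈ Cz := by
        rw [hCz, Subgroup.mem_centralizer_singleton_iff]
        calc l * a * z = (z * (l * a) * z⁻¹) * z := by rw [hx]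
          _ = z * (l * a) := by group
      have hmk : (QuotientGroup.mk' A) (l * a) = (QuotientGroup.mk' A) l := by
        have h1 : (QuotientGroup.mk' A) a = 1 := (QuotientGroup.eq_one_iff a).2 ha
        rw [map_mul, h1, mul_one]
      refine ⟨⟨l * a, hxC⟩, ?_, hmk⟩
      show (QuotientGroup.mk' A) (l * a) ∈ K
      rw [hmk]; exact hk
  have hinj : Function.Injective (f.subgroupMap R) := by
    rw [injective_iff_map_eq_one]
    intro x hx
    have h1 : f (x : Cz) = 1 := congrArg Subtype.val hx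
    have h2 : ((x : Cz) : H) ∈ A := (QuotientGroup.eq_one_iff _).1 h1
    have h3 : z * ((x : Cz) : H) = ((x : Cz) : H) * z := by
      have h5 : ((x : Cz) : H) ∈ Subgroup.centralizer ({z} : Set H) := (x : Cz).2
      rw [Subgroup.mem_centralizer_singleton_iff] at h5
      exact h5.symm
    have h4 := hfix _ h2 h3
    exact Subtype.ext (Subtype.ext h4)
  let e : R ≃* R.map f := MulEquiv.ofBijective (f.subgroupMap R) ⟨hinj, f.subgroupMap_surjective R⟩
  have hq : IsQuasisimple ↥(R.map f) := by rw [hmap]; exact hK.2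
  have hRc : IsComponent R := ⟨hRs, Cfsg.Agent.Lib.H7.quasisimple_of_mulEquiv e.symm hq⟩
  have hle : R ≤ Cfsg.layer ↥Cz := le_sSup hRc
  rw [hL, le_bot_iff] at hle
  exact Cfsg.Agent.Lib.H7.component_ne_bot hRc hle

end Cfsg.Agent.Lib.H9.SG
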