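import Mathlib
import Cfsg.Agent.Lib.H8.SUN6
import Cfsg.Agent.Lib.H20.SunK
import Cfsg.Agent.Lib.H18.SunTr2

set_option autoImplicit false

/-!
# S2282, REQUEST-6 part 6b: `SU_5(2)` from three lines of transvection centres (helper9)

`K ≤ SUJn σ 5` over the field with four elements.  If `K` contains the transvection with centre
`e₀`, and for three isotropic vectors `b j ⊥ e₀, e₄` spanning `⟨e₁, e₂, e₃⟩` the transvections with
centres `b j + s • e₀` for three distinct `s`, and an element moving `e₀` off `e₀^⊥`, then `K = ⊤`.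
-/

namespace Cfsg.Agent.Lib.H9.Sun5L

open Matrix Cfsg.Agent.Lib.H8.SUN Cfsg.Agent.Lib.H20.SunK

variable {F : Type*} [Field F]

/-- in characteristic two the product of two transvections with centres on a line through an
isotropic `u` in `u^⊥` is an Eichler element -/
theorem tJn_mul_line (σ : F →+* F) (hσ : ∀ x, σ (σ x) = x) (h2 : (2 : F) = 0) {n : ℕ}
    {u b : Fin n → F} (hu : hJn σ u u = 0) (hbb : hJn σ b b = 0) (hbu : hJn σ b u = 0)
    (s s' : F) :
    tJn σ (b + s • u) 1 * tJn σ (b + s' • u) 1 =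
      Rn σ u (σ (s + s') • b) (s * σ s + s' * σ s') := by
  have hub : hJn σ u b = 0 := hJn_symm_zero σ hσ hbu
  have hpp : hJn σ (b + s' • u) (b + s • u) = 0 := by
    simp only [hJn_add_left, hJn_add_right, hJn_smul_left, hJn_smul_right, hu, hbb, hbu, hub]
    ring
  have e : ∀ t : F, th σ (b + t • u) (b + t • u) =
      th σ b b + σ t • th σ b u + t • th σ u b + (t * σ t) • th σ u u := by
    intro t
    rw [th_add_left, th_add_right, th_add_right, th_smul_left, th_smul_right, th_smul_left,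
      th_smul_right, smul_smul]
    abel
  unfold tJn Rn
  rw [one_smul, one_smul, one_add_mul_one_add, th_mul_th, hpp, zero_smul, add_zero, e, e,
    th_smul_left, th_smul_right, hσ]
  ext i j
  simp only [Matrix.add_apply, Matrix.sub_apply, Matrix.smul_apply, smul_eq_mul, map_add]
  linear_combination (th σ b b i j + (s + s') * th σ u b i j) * h2

/-- **REQUEST-6 part 6b** -/
theorem top_of_three_lines [Fintype F] (hF : Fintype.card F = 2 ^ 2) (σ : F →+* F)
    (hsq : ∀ x, σ x = x ^ 2) (hs : ∀ x, σ (σ x) = x) (K : Subgroup (SUJn σ 5))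
    (b : Fin 3 → Fin 5 → F) (s : Fin 3 → Fin 3 → F) (hb0 : ∀ j, b j 0 = 0)
    (hb4 : ∀ j, b j 4 = 0) (hbb : ∀ j, hJn σ (b j) (b j) = 0)
    (hspan : ∀ v : Fin 5 → F, v 0 = 0 → v 4 = 0 →
      ∃ c : Fin 3 → F, v = Finset.univ.sum fun j => c j • b j)
    (hsinj : ∀ j, Function.Injective (s j))
    (ht0 : ∃ g, g ∈ K ∧ matn g = tJn σ (Pi.single 0 1) 1)
    (ht : ∀ j i, ∃ g, g ∈ K ∧ matn g = tJn σ (b j + s j i • Pi.single 0 1) 1)
    (z : SUJn σ 5) (hzK : z ∈ K) (hz : matn z 4 0 ≠ 0) : K = ⊤ := by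
  classical
  -- characteristic two
  have h4 : (4 : F) = 0 := by
    have h := Nat.cast_card_eq_zero F
    rw [hF] at h
    norm_num at h
    exact h
  have h2 : (2 : F) = 0 := by
    have h : (2 : F) * 2 = 0 := by rw [← h4]; norm_num
    exact mul_self_eq_zero.mp h
  have hr0 : Fin.rev (0 : Fin 5) = 4 := by decide
  have hr4 : Fin.rev (4 : Fin 5) = 0 := by decide
  set u : Fin 5 → F := Pi.single 0 1 with hu
  set u' : Fin 5 → F := Pi.single 4 1 with hu'
  have hxu : ∀ β : Fin 5 → F, hJn σ β u = β 4 := by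
    intro β; rw [hu, hJn_single_right, hr0]
  have hxu' : ∀ β : Fin 5 → F, hJn σ β u' = β 0 := by
    intro β; rw [hu', hJn_single_right, hr4]
  have huu : hJn σ u u = 0 := by rw [hxu, hu]; simp
  have hu'u' : hJn σ u' u' = 0 := by rw [hxu', hu']; simp
  have huu' : hJn σ u u' = 1 := by rw [hxu', hu]; simp
  have hσinj : Function.Injective σ := RingHom.injective σ
  -- the three sums of two of three distinct scalars are all nonzero scalars
  have hcard : (Finset.univ.erase (0 : F)).card = 3 := by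
    rw [Finset.card_erase_of_mem (Finset.mem_univ _), Finset.card_univ, hF]
    norm_num
  have hall : ∀ (j : Fin 3) (c : F), c ≠ 0 → ∃ i i', σ (s j i + s j i') = c := by
    intro j c hc
    obtain ⟨T, hTd⟩ : ∃ T : F, T = s j 0 + s j 1 + s j 2 := ⟨_, rfl⟩
    have hT0 : s j 1 + s j 2 = T + s j 0 := by rw [hTd]; linear_combination (-(s j 0)) * h2
    have hT1 : s j 0 + s j 2 = T + s j 1 := by rw [hTd]; linear_combination (-(s j 1)) * h2
    have hT2 : s j 0 + s j 1 = T + s j 2 := by rw [hTd]; linear_combination (-(s j 2)) * h2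
    have hT : ∀ k, ∃ i i', i ≠ i' ∧ s j i + s j i' = T + s j k := by
      intro k
      fin_cases k
      · exact ⟨1, 2, by decide, hT0⟩
      · exact ⟨0, 2, by decide, hT1⟩
      · exact ⟨0, 1, by decide, hT2⟩
    have hinj : Function.Injective (fun k => σ (T + s j k)) :=
      fun k k' h => hsinj j (add_left_cancel (hσinj h))
    have himg : Finset.univ.image (fun k => σ (T + s j k)) = Finset.univ.erase 0 := by
      apply Finset.eq_of_subset_of_card_le
      · intro x hx
        obtain ⟨k, -, rfl⟩ := Finset.mem_image.mp hx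
        rw [Finset.mem_erase]
        refine ⟨?_, Finset.mem_univ _⟩
        obtain ⟨i, i', hne, he⟩ := hT k
        rw [← he]
        intro h0
        have h1 : s j i + s j i' = 0 := by
          rw [← map_zero σ] at h0
          exact hσinj h0
        apply hne
        apply hsinj j
        linear_combination h1 - (s j i') * h2
      · rw [hcard, Finset.card_image_of_injective _ hinj]
        simp
    have hmem : c ∈ Finset.univ.image (fun k => σ (T + s j k)) := by
      rw [himg]; simp [hc]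
    obtain ⟨k, -, hk⟩ := Finset.mem_image.mp hmem
    obtain ⟨i, i', -, he⟩ := hT k
    exact ⟨i, i', by rw [he]; exact hk⟩
  -- the set of `β` with an Eichler element in `K`
  let InW : (Fin 5 → F) → Prop := fun β => hJn σ β u = 0 ∧ ∃ t : F, t + σ t + hJn σ β β = 0 ∧
    ∃ h ∈ K, matn h = Rn σ u β t
  have W_zero : InW 0 := by
    refine ⟨hJn_zero_left σ u, 0, ?_, 1, K.one_mem, ?_⟩
    · rw [map_zero, hJn_zero_left, add_zero, add_zero]
    · rw [matn_one, Rn_zero_zero]
  have W_add : ∀ β β', InW β → InW β' → InW (β + β') := by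
    rintro β β' ⟨hb, t, ht1, h, hh, hhm⟩ ⟨hb', t', ht1', h', hh', hhm'⟩
    have hub : hJn σ u β = 0 := by rw [← hJn_symm σ hs, hb, map_zero]
    refine ⟨by rw [hJn_add_left, hb, hb', add_zero], t + t' - hJn σ β' β, ?_, h * h',
      K.mul_mem hh hh', ?_⟩
    · have h1 : σ (hJn σ β' β) = hJn σ β β' := hJn_symm σ hs β' β
      rw [map_sub, map_add, h1, hJn_add_left, hJn_add_right, hJn_add_right]
      linear_combination ht1 + ht1'
    · rw [matn_mul, hhm, hhm', Rn_mul σ huu hub hb']
  have W_gen : ∀ (j : Fin 3) (c : F), InW (c • b j) := by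
    intro j c
    by_cases hc : c = 0
    · rw [hc, zero_smul]; exact W_zero
    · obtain ⟨i, i', hii⟩ := hall j c hc
      obtain ⟨g1, hg1, hg1m⟩ := ht j i
      obtain ⟨g2, hg2, hg2m⟩ := ht j i'
      have hbu : hJn σ (b j) u = 0 := by rw [hxu, hb4]
      refine ⟨by rw [hJn_smul_left, hbu, mul_zero], s j i * σ (s j i) + s j i' * σ (s j i'), ?_,
        g1 * g2, K.mul_mem hg1 hg2, ?_⟩
      · rw [hJn_smul_left, hJn_smul_right, hbb, mul_zero, mul_zero, add_zero, map_add, map_mul,
          map_mul, hs, hs]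
        linear_combination (s j i * σ (s j i) + s j i' * σ (s j i')) * h2
      · rw [matn_mul, hg1m, hg2m, tJn_mul_line σ hs h2 huu (hbb j) hbu, hii]
  have W_sum : ∀ c : Fin 3 → F, InW (Finset.univ.sum fun j => c j • b j) := by
    intro c
    exact Finset.sum_induction _ InW W_add W_zero (fun j _ => W_gen j (c j))
  -- the hypothesis of Lemma K
  have hQ : ∀ (β : Fin 5 → F) (t : F), hJn σ β u = 0 → hJn σ β u' = 0 →
      t + σ t + hJn σ β β = 0 → ∃ k ∈ K, matn k = Rn σ u β t := by
    intro β t hβu hβu' ht1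
    obtain ⟨c, hc⟩ := hspan β (by rw [← hxu' β, hβu']) (by rw [← hxu β, hβu])
    have h1 := W_sum c
    rw [← hc] at h1
    obtain ⟨_, t₀, ht₀, h₀, hh₀, hh₀m⟩ := h1
    have hd : (t - t₀) * (1 + (t - t₀)) = 0 := by
      have e1 := hsq t
      have e2 := hsq t₀
      rw [e1] at ht1
      rw [e2] at ht₀
      linear_combination ht1 - ht₀ + (t₀ ^ 2 - t * t₀) * h2
    have hg : ∃ g ∈ K, matn g = tJn σ u (t - t₀) := by
      rcases mul_eq_zero.mp hd with h | h
      · exact ⟨1, K.one_mem, by rw [h, tJn_zero, matn_one]⟩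
      · obtain ⟨g, hg, hgm⟩ := ht0
        have h' : t - t₀ = 1 := by linear_combination h - h2
        exact ⟨g, hg, by rw [h', hgm]⟩
    obtain ⟨g, hg, hgm⟩ := hg
    have hub : hJn σ u β = 0 := by rw [← hJn_symm σ hs, hβu, map_zero]
    refine ⟨h₀ * g, K.mul_mem hh₀ hg, ?_⟩
    rw [matn_mul, hh₀m, hgm, ← Rn_zero, Rn_mul σ huu hub (hJn_zero_left σ u), add_zero,
      hJn_zero_left, sub_zero]
    congr 1
    ring
  -- `ω`
  obtain ⟨x, hx⟩ : ∃ x : F, x ∉ ({0, 1} : Finset F) := by
    by_contra h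
    push Not at h
    have h1 : (Finset.univ : Finset F) ⊆ ({0, 1} : Finset F) := fun x _ => h x
    have h3 := Finset.card_le_card h1
    rw [Finset.card_univ, hF] at h3
    have h5 : ({0, 1} : Finset F).card ≤ 2 := Finset.card_le_two
    omega
  have hx0 : x ≠ 0 := fun h => hx (by rw [h]; simp)
  have hx1 : x ≠ 1 := fun h => hx (by rw [h]; simp)
  have hx3 : x ^ 3 = 1 := by
    have h := FiniteField.pow_card_sub_one_eq_one x hx0
    rw [hF] at h
    exact h
  have hxq : x ^ 2 + x + 1 = 0 := by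
    have h : (x - 1) * (x ^ 2 + x + 1) = 0 := by linear_combination hx3
    rcases mul_eq_zero.mp h with h | h
    · exact absurd (sub_eq_zero.mp h) hx1
    · exact h
  have hω : x + σ x = 1 := by
    rw [hsq]
    linear_combination hxq - h2
  have hc0 : (1 : F) + σ 1 = 0 := by
    rw [map_one]
    linear_combination h2
  have hzu : hJn σ (matn z *ᵥ u) u ≠ 0 := by
    rw [hxu, hu, Matrix.mulVec_single_one]
    exact hz
  have hK := lemmaK hs hω (c₀ := 1) one_ne_zero hc0 K u u' huu hu'u' huu' hQ z hzK hzu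
  exact Cfsg.Agent.Lib.H18.SunTr.SUJn_eq_top_of_tJn hF 5 (by norm_num) (by simp) σ hsq hs K hK

end Cfsg.Agent.Lib.H9.Sun5L
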