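import Cfsg.Agent.Lib.H9.S3777Struct
import Cfsg.Agent.Lib.H5.S3777P1Defs

set_option autoImplicit false

namespace Cfsg.Agent.Lib.H9.S3777S1

open Subgroup Cfsg.Agent.Lib.H9.S3777Struct Cfsg.Agent.Lib.H5.S3777
open scoped commutatorElement

universe u

variable {G : Type u} [Group G]

/-- a subgroup of index `p` of a finite `p`-group is normal. -/
theorem normal_of_index_p [Finite G] (p : ℕ) [hp : Fact p.Prime] (hG : IsPGroup p G)
    (M : Subgroup G) (hM : M.index = p) : M.Normal := by
  apply normal_of_index_eq_minFac_card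
  obtain ⟨n, hn⟩ := IsPGroup.iff_card.1 hG
  have hn0 : n ≠ 0 := by
    rintro rfl
    have h1 : M.index ∣ Nat.card G := M.index_dvd_card
    rw [hn, hM, pow_zero, Nat.dvd_one] at h1
    exact hp.out.one_lt.ne' h1
  rw [hn, hM, Nat.Prime.pow_minFac hp.out hn0]

/-- a subgroup of prime index and an element outside generate everything. -/
theorem sup_zpowers_eq_top (p : ℕ) [hp : Fact p.Prime] (M : Subgroup G) (hM : M.index = p)
    (y : G) (hy : y ∉ M) : M ⊔ zpowers y = ⊤ := by
  have hle : M ≤ M ⊔ zpowers y := le_sup_left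
  have h1 := relIndex_mul_index hle
  rw [hM] at h1
  have h2 : (M ⊔ zpowers y).index ∣ p := Dvd.intro_left _ h1
  rcases (Nat.Prime.eq_one_or_self_of_dvd hp.out _ h2) with h | h
  · exact index_eq_one.1 h
  · exfalso
    rw [h] at h1
    have h3 : M.relIndex (M ⊔ zpowers y) = 1 := by
      have hp0 : 0 < p := hp.out.pos
      exact Nat.eq_of_mul_eq_mul_right hp0 (by rw [h1, one_mul])
    have h4 := relIndex_eq_one.1 h3
    exact hy (h4 (le_sup_right (a := M) (mem_zpowers y)))

theorem s1 : S1Stmt.{u} := by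
  intro p hp G _ _ hG M f hpair hne
  have hMn : M.Normal := normal_of_index_p p hG M hpair.idx
  have hgen : ∀ y : G, y ∉ M → M ⊔ zpowers y = ⊤ :=
    fun y hy => sup_zpowers_eq_top p M hpair.idx y hy
  -- an element outside `M`
  have hex : ∃ y0 : G, y0 ∉ M := by
    by_contra hcon
    have : M = ⊤ := by
      rw [eq_top_iff]; intro x _; by_contra hx; exact hcon ⟨x, hx⟩
    have h1 := hpair.idx
    rw [this, index_top] at h1
    exact hp.out.one_lt.ne h1
  obtain ⟨y0, hy0⟩ := hex
  -- `lam`
  have hMp : IsPGroup p M := hG.to_subgroup M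
  obtain ⟨lam, hlam⟩ := hMp.index ((cen M).subgroupOf M)
  have hrel : (cen M).relIndex M = p ^ lam := hlam
  have hcard := card_comm_mul_relIndex_cen M y0 (hgen y0 hy0)
  rw [hrel] at hcard
  refine ⟨cen M, lam, inferInstance, cen_le M, ?_, ?_, hrel, ?_, ?_, ?_⟩
  · -- `1 ≤ lam`
    by_contra hl
    have hl0 : lam = 0 := by omega
    rw [hl0, pow_zero, mul_one] at hcard
    exact hne (eq_of_le_of_card_ge (comm_le_commutator M) hcard.symm.le)
  · rw [← hcard, mul_comm]
  · -- `y ^ p ∈ A`
    intro y hy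
    have h1 : y ^ p ∈ M := by
      have := pow_index_mem M y
      rwa [hpair.idx] at this
    rw [mem_cen_iff_of_gen M y (hgen y hy) _ h1]
    have : ⁅y ^ p, y⁆ = 1 := by
      rw [commutatorElement_eq_one_iff_mul_comm]
      exact (pow_mul_comm' y p)
    rw [this]
    exact one_mem _
  · -- `C_G(y) ≤ A ⊔ zpowers y`
    intro y hy c hc
    have hc' : c ∈ M ⊔ zpowers y := by rw [hgen y hy]; exact mem_top c
    rw [mem_sup_of_normal_left] at hc'
    obtain ⟨m, hm, z, hz, rfl⟩ := hc'
    have hzc : z ∈ centralizer {y} := by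
      obtain ⟨k, rfl⟩ := mem_zpowers_iff.1 hz
      exact mem_centralizer_iff.2 (fun h hh => by
        rw [Set.mem_singleton_iff.1 hh]
        have := zpow_mul_comm y 1 k
        simpa using this)
    have hmc : m ∈ centralizer {y} := by
      have := mul_mem hc (inv_mem hzc)
      rwa [mul_inv_cancel_right] at this
    have hmA : m ∈ cen M := centralizer_inf_le_cen M y (hgen y hy) (mem_inf.2 ⟨hmc, hm⟩)
    exact mul_mem (le_sup_left (b := zpowers y) hmA) (le_sup_right (a := cen M) hz)
  · -- the index formula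
    intro y hy
    rw [index_centralizer_eq M y (hgen y hy), hrel, inf_relIndex_right]

end Cfsg.Agent.Lib.H9.S3777S1
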