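import Mathlib
import Cfsg.Prelude.Def_Blocks
import Cfsg.Agent.Lib.H21.AD.Defs

/-!
S4937 pieces (AB) and (FOUR): shared core.  For `J₁ ≤ J₂` with `J₂ / J₁` abelian there is a finite
family of twists `μ i` (the characters of `J₂ / J₁`) such that, for `y ∈ J₂`,
`∑ i, (μ i y)⁻¹ * sSum p J₂ (f * μ i) = |J₂ : J₁| * cSum p J₁ f y`.
Blueprint: tools/blueprints/S4937.md (architect helper21).
-/

set_option autoImplicit false
open Cfsg.Agent.Lib.H21.AD

namespace Cfsg.Agent.Lib.H9.AD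

universe u

/-- orthogonality, trivial element -/
theorem sum_hom_apply_one (A : Type u) [CommGroup A] [Finite A] [Fintype (A →* ℂˣ)] :
    ∑ χ : A →* ℂˣ, ((χ (1 : A) : ℂˣ) : ℂ) = (Nat.card A : ℂ) := by
  have : NeZero (Monoid.exponent A) := ⟨Monoid.exponent_ne_zero_of_finite⟩
  simp only [map_one, Units.val_one, Finset.sum_const, Finset.card_univ, nsmul_eq_mul, mul_one]
  rw [← Nat.card_eq_fintype_card, CommGroup.card_monoidHom_of_hasEnoughRootsOfUnity]

/-- orthogonality, nontrivial element -/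
theorem sum_hom_apply_ne (A : Type u) [CommGroup A] [Finite A] [Fintype (A →* ℂˣ)] (a : A)
    (ha : a ≠ 1) : ∑ χ : A →* ℂˣ, ((χ a : ℂˣ) : ℂ) = 0 := by
  have : NeZero (Monoid.exponent A) := ⟨Monoid.exponent_ne_zero_of_finite⟩
  obtain ⟨φ, hφ⟩ := CommGroup.exists_apply_ne_one_of_hasEnoughRootsOfUnity A ℂ ha
  have h1 : ∑ χ : A →* ℂˣ, ((χ a : ℂˣ) : ℂ) =
      ((φ a : ℂˣ) : ℂ) * ∑ χ : A →* ℂˣ, ((χ a : ℂˣ) : ℂ) := by
    rw [Finset.mul_sum, ← Equiv.sum_comp (Equiv.mulLeft φ)]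
    apply Finset.sum_congr rfl
    intro χ _
    simp [MonoidHom.mul_apply]
  have h2 : ((φ a : ℂˣ) : ℂ) ≠ 1 := fun h => hφ (Units.ext h)
  have h3 : (1 - ((φ a : ℂˣ) : ℂ)) * ∑ χ : A →* ℂˣ, ((χ a : ℂˣ) : ℂ) = 0 := by
    rw [sub_mul, one_mul, ← h1, sub_self]
  rcases mul_eq_zero.1 h3 with h | h
  · exact absurd (sub_eq_zero.1 h).symm h2
  · exact h

section core
variable {G : Type u} [Group G] [Finite G]

/-- The characters of the abelian quotient `J₂ / J₁` as twists, with the orthogonality identity. -/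
theorem exists_twists (p : ℕ) (J₁ J₂ : Subgroup G) (h12 : J₁ ≤ J₂)
    (hnorm : ∀ a ∈ J₂, ∀ b ∈ J₁, a * b * a⁻¹ ∈ J₁)
    (hab : ∀ a ∈ J₂, ∀ b ∈ J₂, a * b * a⁻¹ * b⁻¹ ∈ J₁) :
    ∃ (ι : Type u) (_ : Fintype ι) (μ : ι → G → ℂ) (c : ℂ), c ≠ 0 ∧
      (∀ i, IsTwist J₁ J₂ (μ i)) ∧ (∀ i, ∀ y ∈ J₂, μ i y ≠ 0) ∧
      ∀ (f : G → ℂ), ∀ y ∈ J₂,
        ∑ i, (μ i y)⁻¹ * sSum p J₂ (fun g => f g * μ i g) = c * cSum p J₁ f y := by
  classical
  have : Fintype G := Fintype.ofFinite G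
  have hK : (J₁.subgroupOf J₂).Normal := by
    constructor
    intro n hn g
    rw [Subgroup.mem_subgroupOf] at hn ⊢
    simpa using hnorm g g.2 n hn
  let A := ↥J₂ ⧸ J₁.subgroupOf J₂
  let _ : CommGroup A :=
    { (inferInstance : Group A) with
      mul_comm := by
        intro a b
        induction a using QuotientGroup.induction_on with | _ a => ?_
        induction b using QuotientGroup.induction_on with | _ b => ?_
        rw [← QuotientGroup.mk_mul, ← QuotientGroup.mk_mul, QuotientGroup.eq,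
          Subgroup.mem_subgroupOf]
        have := hab (b : G)⁻¹ (J₂.inv_mem b.2) (a : G)⁻¹ (J₂.inv_mem a.2)
        simpa [mul_assoc] using this }
  have hexp : NeZero (Monoid.exponent A) := ⟨Monoid.exponent_ne_zero_of_finite⟩
  have hfin : Finite (A →* ℂˣ) :=
    Finite.of_equiv A (CommGroup.monoidHom_mulEquiv_of_hasEnoughRootsOfUnity A ℂ).some.symm.toEquiv
  have hft : Fintype (A →* ℂˣ) := Fintype.ofFinite _
  refine ⟨A →* ℂˣ, hft,
    fun χ g => if h : g ∈ J₂ then ((χ (QuotientGroup.mk ⟨g, h⟩ : A) : ℂˣ) : ℂ) else 1,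
    (Nat.card A : ℂ), ?_, ?_, ?_, ?_⟩
  · exact Nat.cast_ne_zero.2 Nat.card_pos.ne'
  · intro χ
    refine ⟨?_, ?_⟩
    · intro a ha b hb
      simp only [dif_pos ha, dif_pos hb, dif_pos (J₂.mul_mem ha hb)]
      rw [← Units.val_mul, ← map_mul]
      rfl
    · intro n hn
      simp only [dif_pos (h12 hn)]
      have : (QuotientGroup.mk ⟨n, h12 hn⟩ : A) = 1 := by
        rw [QuotientGroup.eq_one_iff, Subgroup.mem_subgroupOf]
        exact hn
      rw [this, map_one, Units.val_one]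
  · intro χ y hy
    simp only [dif_pos hy]
    exact Units.ne_zero _
  · intro f y hy
    -- both sides as sums over `G`
    have hL : ∀ χ : A →* ℂˣ,
        sSum p J₂ (fun g => f g *
          (if h : g ∈ J₂ then ((χ (QuotientGroup.mk ⟨g, h⟩ : A) : ℂˣ) : ℂ) else 1)) =
        ∑ g : G, if g ∈ J₂ ∧ ¬ p ∣ orderOf g then f g *
          (if h : g ∈ J₂ then ((χ (QuotientGroup.mk ⟨g, h⟩ : A) : ℂˣ) : ℂ) else 1) else 0 := by
      intro χ
      unfold sSum
      rw [finsum_eq_sum_of_fintype]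
    have hR : cSum p J₁ f y =
        ∑ g : G, if y⁻¹ * g ∈ J₁ ∧ ¬ p ∣ orderOf g then f g else 0 := by
      unfold cSum
      rw [finsum_eq_sum_of_fintype, ← Equiv.sum_comp (Equiv.mulLeft y⁻¹)]
      apply Finset.sum_congr rfl
      intro g _
      simp only [Equiv.coe_mulLeft, mul_inv_cancel_left]
    simp only [dif_pos hy]
    simp_rw [hL]
    rw [hR, Finset.mul_sum]
    simp_rw [Finset.mul_sum]
    rw [Finset.sum_comm]
    apply Finset.sum_congr rfl
    intro g _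
    by_cases hg : g ∈ J₂ ∧ ¬ p ∣ orderOf g
    · obtain ⟨hg2, hgp⟩ := hg
      simp only [if_pos (And.intro hg2 hgp), dif_pos hg2]
      have hterm : ∀ χ : A →* ℂˣ,
          ((χ (QuotientGroup.mk ⟨y, hy⟩ : A) : ℂˣ) : ℂ)⁻¹ *
            (f g * ((χ (QuotientGroup.mk ⟨g, hg2⟩ : A) : ℂˣ) : ℂ)) =
          f g * ((χ ((QuotientGroup.mk ⟨y, hy⟩ : A)⁻¹ * (QuotientGroup.mk ⟨g, hg2⟩ : A)) : ℂˣ) : ℂ) := by
        intro χ
        rw [map_mul, map_inv, Units.val_mul, Units.val_inv_eq_inv_val]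
        ring
      simp_rw [hterm]
      rw [← Finset.mul_sum]
      by_cases h1 : y⁻¹ * g ∈ J₁
      · have e1 : (QuotientGroup.mk ⟨y, hy⟩ : A)⁻¹ * (QuotientGroup.mk ⟨g, hg2⟩ : A) = 1 := by
          rw [← QuotientGroup.mk_inv, ← QuotientGroup.mk_mul, QuotientGroup.eq_one_iff,
            Subgroup.mem_subgroupOf]
          exact h1
        rw [e1, sum_hom_apply_one, if_pos (And.intro h1 hgp)]
        ring
      · have e1 : (QuotientGroup.mk ⟨y, hy⟩ : A)⁻¹ * (QuotientGroup.mk ⟨g, hg2⟩ : A) ≠ 1 := by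
          rw [← QuotientGroup.mk_inv, ← QuotientGroup.mk_mul, Ne, QuotientGroup.eq_one_iff,
            Subgroup.mem_subgroupOf]
          exact h1
        rw [sum_hom_apply_ne A _ e1, if_neg (fun h => h1 h.1)]
        ring
    · have hg' : ¬ (y⁻¹ * g ∈ J₁ ∧ ¬ p ∣ orderOf g) := by
        rintro ⟨h1, h2⟩
        apply hg
        refine ⟨?_, h2⟩
        have : g = y * (y⁻¹ * g) := by group
        rw [this]
        exact J₂.mul_mem hy (h12 h1)
      simp only [if_neg hg, if_neg hg', mul_zero, Finset.sum_const_zero]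

end core

end Cfsg.Agent.Lib.H9.AD
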