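import Mathlib
import Cfsg.Prelude.Def_FischerSpaces

set_option autoImplicit false
open Cfsg Cfsg.LineSystem

namespace Cfsg.Agent.Lib.H9.Fischer

variable {X : Type*}

/-- `z` is the third point of a line through `x ≠ y` -/
def Third (L : Set (Set X)) (x y z : X) : Prop :=
  z ≠ x ∧ z ≠ y ∧ x ≠ y ∧ ({x, y, z} : Set X) ∈ L

theorem Third.symm {L : Set (Set X)} {x y z : X} (h : Third L x y z) : Third L y x z := by
  obtain ⟨h1, h2, h3, h4⟩ := h
  refine ⟨h2, h1, h3.symm, ?_⟩
  have : ({y, x, z} : Set X) = {x, y, z} := by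
    ext u; simp only [Set.mem_insert_iff, Set.mem_singleton_iff]; tauto
  rwa [this]

theorem Third.rot {L : Set (Set X)} {x y z : X} (h : Third L x y z) : Third L x z y := by
  obtain ⟨h1, h2, h3, h4⟩ := h
  refine ⟨h3.symm, h2.symm, h1.symm, ?_⟩
  have : ({x, z, y} : Set X) = {x, y, z} := by
    ext u; simp only [Set.mem_insert_iff, Set.mem_singleton_iff]; tauto
  rwa [this]

theorem Third.unique {L : Set (Set X)} (hPL : IsPartialLinear L) {x y z z' : X}
    (h : Third L x y z) (h' : Third L x y z') : z' = z := by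
  obtain ⟨h1, h2, h3, h4⟩ := h
  obtain ⟨h1', h2', -, h4'⟩ := h'
  have e : ({x, y, z} : Set X) = {x, y, z'} :=
    hPL _ h4 _ h4' x y h3 (by simp) (by simp) (by simp) (by simp)
  have hz' : z' ∈ ({x, y, z} : Set X) := by rw [e]; simp
  simp only [Set.mem_insert_iff, Set.mem_singleton_iff] at hz'
  rcases hz' with h | h | h
  · exact absurd h h1'
  · exact absurd h h2'
  · exact h

theorem lineMap_eq_of_third {L : Set (Set X)} (hPL : IsPartialLinear L) {x y z : X}
    (h : Third L x y z) : lineMap L x y = z := by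
  have hex : ∃ z : X, z ≠ x ∧ z ≠ y ∧ x ≠ y ∧ ({x, y, z} : Set X) ∈ L := ⟨z, h⟩
  unfold lineMap
  rw [dif_pos hex]
  exact Third.unique hPL h hex.choose_spec

theorem lineMap_eq_of_not {L : Set (Set X)} {x y : X}
    (h : ¬ ∃ z, Third L x y z) : lineMap L x y = y := by
  have h' : ¬ ∃ z : X, z ≠ x ∧ z ≠ y ∧ x ≠ y ∧ ({x, y, z} : Set X) ∈ L := h
  unfold lineMap
  rw [dif_neg h']

theorem lineMap_spec {L : Set (Set X)} (x y : X) :
    Third L x y (lineMap L x y) ∨ (lineMap L x y = y ∧ ¬ ∃ z, Third L x y z) := by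
  by_cases hex : ∃ z : X, z ≠ x ∧ z ≠ y ∧ x ≠ y ∧ ({x, y, z} : Set X) ∈ L
  · left
    have : lineMap L x y = hex.choose := by
      unfold lineMap
      rw [dif_pos hex]
    rw [this]
    exact hex.choose_spec
  · right
    exact ⟨lineMap_eq_of_not hex, hex⟩

theorem lineMap_involutive {L : Set (Set X)} (hPL : IsPartialLinear L) (x : X) :
    Function.Involutive (lineMap L x) := by
  intro y
  rcases lineMap_spec (L := L) x y with h | ⟨h1, h2⟩
  · exact lineMap_eq_of_third hPL h.rot
  · rw [h1, h1]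

theorem lineMap_self {L : Set (Set X)} (x : X) : lineMap L x x = x := by
  apply lineMap_eq_of_not
  rintro ⟨z, -, -, h, -⟩
  exact h rfl

/-- the permutation `t(x)` -/
noncomputable def tPerm (L : Set (Set X)) (hPL : IsPartialLinear L) (x : X) : Equiv.Perm X :=
  (lineMap_involutive hPL x).toPerm

theorem tPerm_apply (L : Set (Set X)) (hPL : IsPartialLinear L) (x y : X) :
    tPerm L hPL x y = lineMap L x y := rfl

theorem tPerm_mul_self (L : Set (Set X)) (hPL : IsPartialLinear L) (x : X) :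
    tPerm L hPL x * tPerm L hPL x = 1 := by
  ext y
  simp only [Equiv.Perm.coe_mul, Function.comp_apply, Equiv.Perm.coe_one, id_eq, tPerm_apply]
  exact lineMap_involutive hPL x y

/-- a line through two distinct points yields the third point -/
theorem exists_third {L : Set (Set X)} (h3 : ∀ l ∈ L, l.ncard = 3) {l : Set X} (hl : l ∈ L)
    {x y : X} (hx : x ∈ l) (hy : y ∈ l) (hxy : x ≠ y) : ∃ z, Third L x y z ∧ l = {x, y, z} := by
  obtain ⟨a, b, c, hab, hac, hbc, rfl⟩ := Set.ncard_eq_three.mp (h3 l hl)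
  simp only [Set.mem_insert_iff, Set.mem_singleton_iff] at hx hy
  rcases hx with rfl | rfl | rfl <;> rcases hy with rfl | rfl | rfl
  · exact absurd rfl hxy
  · exact ⟨c, ⟨hac.symm, hbc.symm, hxy, hl⟩, rfl⟩
  · refine ⟨b, ⟨hab.symm, hbc, hxy, ?_⟩, ?_⟩
    · have : ({x, y, b} : Set X) = {x, b, y} := by
        ext u; simp only [Set.mem_insert_iff, Set.mem_singleton_iff]; tauto
      rwa [this]
    · ext u; simp only [Set.mem_insert_iff, Set.mem_singleton_iff]; tauto
  · refine ⟨c, ⟨hbc.symm, hac.symm, hxy, ?_⟩, ?_⟩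
    · have : ({x, y, c} : Set X) = {y, x, c} := by
        ext u; simp only [Set.mem_insert_iff, Set.mem_singleton_iff]; tauto
      rwa [this]
    · ext u; simp only [Set.mem_insert_iff, Set.mem_singleton_iff]; tauto
  · exact absurd rfl hxy
  · refine ⟨a, ⟨hab, hac, hxy, ?_⟩, ?_⟩
    · have : ({x, y, a} : Set X) = {a, x, y} := by
        ext u; simp only [Set.mem_insert_iff, Set.mem_singleton_iff]; tauto
      rwa [this]
    · ext u; simp only [Set.mem_insert_iff, Set.mem_singleton_iff]; tauto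
  · refine ⟨b, ⟨hbc, hab.symm, hxy, ?_⟩, ?_⟩
    · have : ({x, y, b} : Set X) = {y, b, x} := by
        ext u; simp only [Set.mem_insert_iff, Set.mem_singleton_iff]; tauto
      rwa [this]
    · ext u; simp only [Set.mem_insert_iff, Set.mem_singleton_iff]; tauto
  · refine ⟨a, ⟨hac, hab, hxy, ?_⟩, ?_⟩
    · have : ({x, y, a} : Set X) = {a, y, x} := by
        ext u; simp only [Set.mem_insert_iff, Set.mem_singleton_iff]; tauto
      rwa [this]
    · ext u; simp only [Set.mem_insert_iff, Set.mem_singleton_iff]; tauto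
  · exact absurd rfl hxy


/-! ### automorphisms -/

theorem isIso_symm {L : Set (Set X)} {σ : Equiv.Perm X} (h : IsIso L L σ) :
    IsIso L L σ.symm := by
  intro l
  have h1 := h (σ.symm '' l)
  have h2 : σ '' (σ.symm '' l) = l := by
    ext u
    simp only [Set.mem_image, exists_exists_and_eq_and, Equiv.apply_symm_apply, exists_eq_right]
  rw [h2] at h1
  exact h1.symm

theorem third_map {L : Set (Set X)} {σ : Equiv.Perm X} (h : IsIso L L σ) {y u z : X}
    (hT : Third L y u z) : Third L (σ y) (σ u) (σ z) := by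
  obtain ⟨h1, h2, h3, h4⟩ := hT
  refine ⟨fun e => h1 (σ.injective e), fun e => h2 (σ.injective e),
    fun e => h3 (σ.injective e), ?_⟩
  have := (h _).mp h4
  rwa [Set.image_insert_eq, Set.image_insert_eq, Set.image_singleton] at this

theorem lineMap_map {L : Set (Set X)} (hPL : IsPartialLinear L) {σ : Equiv.Perm X}
    (h : IsIso L L σ) (y u : X) : lineMap L (σ y) (σ u) = σ (lineMap L y u) := by
  rcases lineMap_spec (L := L) y u with hT | ⟨h1, h2⟩
  · exact lineMap_eq_of_third hPL (third_map h hT)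
  · rw [h1]
    apply lineMap_eq_of_not
    rintro ⟨w, hw⟩
    apply h2
    have := third_map (isIso_symm h) hw
    simp only [Equiv.symm_apply_apply] at this
    exact ⟨_, this⟩

theorem tPerm_conj {L : Set (Set X)} (hPL : IsPartialLinear L) (x y : X)
    (h : IsIso L L (tPerm L hPL x)) :
    tPerm L hPL (lineMap L x y) = tPerm L hPL x * tPerm L hPL y * tPerm L hPL x := by
  ext u
  simp only [Equiv.Perm.coe_mul, Function.comp_apply, tPerm_apply]
  have h1 := lineMap_map hPL h y (lineMap L x u)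
  simp only [tPerm_apply] at h1
  rw [lineMap_involutive hPL x u] at h1
  exact h1

theorem three_transp {L : Set (Set X)} (hPL : IsPartialLinear L)
    (hauto : ∀ x, IsIso L L (tPerm L hPL x)) (x y : X) :
    (tPerm L hPL x * tPerm L hPL y) ^ 2 = 1 ∨ (tPerm L hPL x * tPerm L hPL y) ^ 3 = 1 := by
  set a := tPerm L hPL x with ha
  set b := tPerm L hPL y with hb
  have haa : a * a = 1 := tPerm_mul_self L hPL x
  have hbb : b * b = 1 := tPerm_mul_self L hPL y
  rcases lineMap_spec (L := L) x y with hT | ⟨h1, -⟩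
  · right
    have e1 : tPerm L hPL (lineMap L x y) = a * b * a := tPerm_conj hPL x y (hauto x)
    have e2 : tPerm L hPL (lineMap L y x) = b * a * b := tPerm_conj hPL y x (hauto y)
    have e3 : lineMap L y x = lineMap L x y := lineMap_eq_of_third hPL hT.symm
    rw [e3, e1] at e2
    calc (a * b) ^ 3 = a * (b * a * b) * (a * b) := by rw [pow_succ, pow_two]; group
      _ = a * (a * b * a) * (a * b) := by rw [← e2]
      _ = (a * a) * b * (a * a) * b := by group
      _ = 1 := by rw [haa, one_mul, mul_one, hbb]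
  · left
    have e1 : tPerm L hPL (lineMap L x y) = a * b * a := tPerm_conj hPL x y (hauto x)
    rw [h1] at e1
    calc (a * b) ^ 2 = (a * b * a) * b := by rw [pow_two]; group
      _ = b * b := by rw [← e1]
      _ = 1 := hbb


/-! ### subspaces and transport along isomorphisms -/

theorem subset_span (L : Set (Set X)) (S : Set X) : S ⊆ span L S := by
  intro x hx
  simp only [span, Set.mem_sInter, Set.mem_ofPred_eq]
  intro T hT
  exact hT.1 hx

theorem isSubspace_span (L : Set (Set X)) (S : Set X) : IsSubspace L (span L S) := by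
  intro l hl x hx y hy hxy hxl hyl
  intro u hu
  simp only [span, Set.mem_sInter, Set.mem_ofPred_eq] at hx hy ⊢
  intro T hT
  exact hT.2 l hl x (hx T hT) y (hy T hT) hxy hxl hyl hu

theorem partialLinear_restrict {L : Set (Set X)} (hPL : IsPartialLinear L) (S : Set X) :
    IsPartialLinear (restrict L S) := by
  rintro m₁ ⟨l₁, hl₁, -, rfl⟩ m₂ ⟨l₂, hl₂, -, rfl⟩ x y hxy hx1 hy1 hx2 hy2
  have : l₁ = l₂ := hPL l₁ hl₁ l₂ hl₂ x y (fun h => hxy (Subtype.ext h)) hx1 hy1 hx2 hy2
  rw [this]

theorem partialLinear_of_iso {Y Z : Type*} {N : Set (Set Z)} {M : Set (Set Y)} (e : Z ≃ Y)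
    (he : IsIso N M e) (hN : IsPartialLinear N) : IsPartialLinear M := by
  intro l₀ hl₀ m₀ hm₀ p q hpq hpl hql hpm hqm
  have h1 : e ⁻¹' l₀ ∈ N := by
    rw [he, Equiv.image_preimage]; exact hl₀
  have h2 : e ⁻¹' m₀ ∈ N := by
    rw [he, Equiv.image_preimage]; exact hm₀
  have h3 : e ⁻¹' l₀ = e ⁻¹' m₀ :=
    hN _ h1 _ h2 (e.symm p) (e.symm q) (fun h => hpq (e.symm.injective h))
      (by simpa using hpl) (by simpa using hql) (by simpa using hpm) (by simpa using hqm)
  have := congrArg (fun s => e '' s) h3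
  simpa [Equiv.image_preimage] using this

section transport

variable {Y : Type*} {L : Set (Set X)} (hPL : IsPartialLinear L) (h3 : ∀ l ∈ L, l.ncard = 3)
  {S : Set X} (hS : IsSubspace L S) {M : Set (Set Y)} (e : ↥S ≃ Y)
  (he : IsIso (restrict L S) M e)

include hPL h3 hS he in
theorem lineMap_iso {x y : X} (hx : x ∈ S) (hy : y ∈ S) :
    ∃ hz : lineMap L x y ∈ S, e ⟨lineMap L x y, hz⟩ = lineMap M (e ⟨x, hx⟩) (e ⟨y, hy⟩) := by
  have hMPL : IsPartialLinear M := partialLinear_of_iso e he (partialLinear_restrict hPL S)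
  rcases lineMap_spec (L := L) x y with hT | ⟨h1, h2⟩
  · set z := lineMap L x y with hz
    obtain ⟨hzx, hzy, hxy, hmem⟩ := hT
    have hsub : ({x, y, z} : Set X) ⊆ S :=
      hS _ hmem x hx y hy hxy (by simp) (by simp)
    have hzS : z ∈ S := hsub (by simp)
    refine ⟨hzS, ?_⟩
    have hm' : {u : S | (u : X) ∈ ({x, y, z} : Set X)} ∈ restrict L S :=
      ⟨_, hmem, hsub, rfl⟩
    have hset : {u : S | (u : X) ∈ ({x, y, z} : Set X)} =
        ({⟨x, hx⟩, ⟨y, hy⟩, ⟨z, hzS⟩} : Set S) := by
      ext u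
      simp only [Set.mem_ofPred_eq, Set.mem_insert_iff, Set.mem_singleton_iff, Subtype.ext_iff]
    have him := (he _).mp hm'
    rw [hset, Set.image_insert_eq, Set.image_insert_eq, Set.image_singleton] at him
    symm
    apply lineMap_eq_of_third hMPL
    refine ⟨fun h => hzx ?_, fun h => hzy ?_, fun h => hxy ?_, him⟩
    · exact congrArg Subtype.val (e.injective h)
    · exact congrArg Subtype.val (e.injective h)
    · exact congrArg Subtype.val (e.injective h)
  · rw [h1]
    refine ⟨hy, ?_⟩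
    symm
    apply lineMap_eq_of_not
    rintro ⟨w, hwx, hwy, hxy', hmem⟩
    apply h2
    have h4 : e ⁻¹' ({e ⟨x, hx⟩, e ⟨y, hy⟩, w} : Set Y) ∈ restrict L S := by
      rw [he, Equiv.image_preimage]; exact hmem
    obtain ⟨l'', hl'', -, heq⟩ := h4
    have hxl : x ∈ l'' := by
      have : (⟨x, hx⟩ : S) ∈ e ⁻¹' ({e ⟨x, hx⟩, e ⟨y, hy⟩, w} : Set Y) := by simp
      rw [heq] at this
      exact this
    have hyl : y ∈ l'' := by
      have : (⟨y, hy⟩ : S) ∈ e ⁻¹' ({e ⟨x, hx⟩, e ⟨y, hy⟩, w} : Set Y) := by simp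
      rw [heq] at this
      exact this
    have hxy : x ≠ y := by
      intro h
      apply hxy'
      congr 1
      exact Subtype.ext h
    obtain ⟨z, hz, -⟩ := exists_third h3 hl'' hxl hyl hxy
    exact ⟨z, hz⟩

include hPL h3 hS he in
theorem image_mem_of_iso (hM : ∀ p : Y, ∀ l₀ ∈ M, (lineMap M p) '' l₀ ∈ M)
    {x : X} (hx : x ∈ S) {l : Set X} (hl : l ∈ L) (hlS : l ⊆ S) : (lineMap L x) '' l ∈ L := by
  have hm' : {u : S | (u : X) ∈ l} ∈ restrict L S := ⟨l, hl, hlS, rfl⟩
  have hl₀ := (he _).mp hm'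
  have hl₁ := hM (e ⟨x, hx⟩) _ hl₀
  have hm'' : e ⁻¹' ((lineMap M (e ⟨x, hx⟩)) '' (e '' {u : S | (u : X) ∈ l})) ∈ restrict L S := by
    rw [he, Equiv.image_preimage]; exact hl₁
  obtain ⟨l₂, hl₂, hl₂S, heq⟩ := hm''
  have : (lineMap L x) '' l = l₂ := by
    ext v
    constructor
    · rintro ⟨y, hy, rfl⟩
      obtain ⟨hz, hez⟩ := lineMap_iso hPL h3 hS e he hx (hlS hy)
      have : (⟨lineMap L x y, hz⟩ : S) ∈
          e ⁻¹' ((lineMap M (e ⟨x, hx⟩)) '' (e '' {u : S | (u : X) ∈ l})) := by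
        rw [Set.mem_preimage, hez]
        exact ⟨e ⟨y, hlS hy⟩, ⟨⟨y, hlS hy⟩, hy, rfl⟩, rfl⟩
      rw [heq] at this
      exact this
    · intro hv
      have hvS : v ∈ S := hl₂S hv
      have : (⟨v, hvS⟩ : S) ∈
          e ⁻¹' ((lineMap M (e ⟨x, hx⟩)) '' (e '' {u : S | (u : X) ∈ l})) := by
        rw [heq]; exact hv
      rw [Set.mem_preimage] at this
      obtain ⟨q, ⟨y', hy', rfl⟩, hq⟩ := this
      have hy'l : (y' : X) ∈ l := hy'
      obtain ⟨hz, hez⟩ := lineMap_iso hPL h3 hS e he hx y'.2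
      refine ⟨y', hy'l, ?_⟩
      have h5 : e ⟨lineMap L x y', hz⟩ = e ⟨v, hvS⟩ := by
        rw [hez, ← hq]
      exact congrArg Subtype.val (e.injective h5)
  rw [this]
  exact hl₂

end transport


/-! ### the maps `t(x)` of a Fischer space preserve lines -/

theorem image_eq_self_of_mem {L : Set (Set X)} (hPL : IsPartialLinear L)
    (h3 : ∀ l ∈ L, l.ncard = 3) (x : X) {l : Set X} (hl : l ∈ L) (hx : x ∈ l) :
    (lineMap L x) '' l = l := by
  have hsub : ∀ u ∈ l, lineMap L x u ∈ l := by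
    intro u hu
    by_cases hux : u = x
    · rw [hux, lineMap_self]; exact hx
    · obtain ⟨z, hz, hlz⟩ := exists_third h3 hl hx hu (fun h => hux h.symm)
      rw [lineMap_eq_of_third hPL hz, hlz]
      simp
  ext v
  constructor
  · rintro ⟨u, hu, rfl⟩
    exact hsub u hu
  · intro hv
    exact ⟨lineMap L x v, hsub v hv, lineMap_involutive hPL x v⟩

theorem image_line_mem {L : Set (Set X)} (hF : IsFischerSpace L)
    (hDA : IsPartialLinear dualAffinePlaneTwo → ∀ p : DualAffinePoint,
      ∀ l₀ ∈ dualAffinePlaneTwo, (lineMap dualAffinePlaneTwo p) '' l₀ ∈ dualAffinePlaneTwo)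
    (hAG : IsPartialLinear affinePlaneThree → ∀ p : Fin 2 → ZMod 3,
      ∀ l₀ ∈ affinePlaneThree, (lineMap affinePlaneThree p) '' l₀ ∈ affinePlaneThree)
    (x : X) {l : Set X} (hl : l ∈ L) : (lineMap L x) '' l ∈ L := by
  obtain ⟨hPL, h3, hplane⟩ := hF
  by_cases hxl : x ∈ l
  · rw [image_eq_self_of_mem hPL h3 x hl hxl]; exact hl
  by_cases hcol : ∃ u ∈ l, ∃ z, Third L x u z
  · obtain ⟨u, hul, z, hz⟩ := hcol
    have hm : ({x, u, z} : Set X) ∈ L := hz.2.2.2
    have hne : l ≠ {x, u, z} := by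
      intro h
      apply hxl
      rw [h]; simp
    have hint : (l ∩ {x, u, z}).Nonempty := ⟨u, hul, by simp⟩
    have hSsub := isSubspace_span L (l ∪ {x, u, z})
    have hxS : x ∈ span L (l ∪ {x, u, z}) := subset_span _ _ (Or.inr (by simp))
    have hlS : l ⊆ span L (l ∪ {x, u, z}) := fun v hv => subset_span _ _ (Or.inl hv)
    rcases hplane l hl _ hm hne hint with ⟨e, he⟩ | ⟨e, he⟩
    · have hMPL : IsPartialLinear dualAffinePlaneTwo :=
        partialLinear_of_iso e he (partialLinear_restrict hPL _)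
      exact image_mem_of_iso hPL h3 hSsub e he (hDA hMPL) hxS hl hlS
    · have hMPL : IsPartialLinear affinePlaneThree :=
        partialLinear_of_iso e he (partialLinear_restrict hPL _)
      exact image_mem_of_iso hPL h3 hSsub e he (hAG hMPL) hxS hl hlS
  · push Not at hcol
    have : (lineMap L x) '' l = l := by
      ext v
      constructor
      · rintro ⟨u, hu, rfl⟩
        rw [lineMap_eq_of_not (fun ⟨z, hz⟩ => hcol u hu z hz)]
        exact hu
      · intro hv
        exact ⟨v, hv, lineMap_eq_of_not (fun ⟨z, hz⟩ => hcol v hv z hz)⟩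
    rw [this]; exact hl

theorem isIso_tPerm {L : Set (Set X)} (hF : IsFischerSpace L)
    (hDA : IsPartialLinear dualAffinePlaneTwo → ∀ p : DualAffinePoint,
      ∀ l₀ ∈ dualAffinePlaneTwo, (lineMap dualAffinePlaneTwo p) '' l₀ ∈ dualAffinePlaneTwo)
    (hAG : IsPartialLinear affinePlaneThree → ∀ p : Fin 2 → ZMod 3,
      ∀ l₀ ∈ affinePlaneThree, (lineMap affinePlaneThree p) '' l₀ ∈ affinePlaneThree)
    (x : X) : IsIso L L (tPerm L hF.1 x) := by
  intro l
  constructor
  · intro hl
    exact image_line_mem hF hDA hAG x hl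
  · intro hl
    have := image_line_mem hF hDA hAG x hl
    have e : (lineMap L x) '' ((tPerm L hF.1 x) '' l) = l := by
      ext v
      simp only [Set.mem_image, exists_exists_and_eq_and, tPerm_apply]
      constructor
      · rintro ⟨u, hu, rfl⟩
        rw [lineMap_involutive hF.1 x u]; exact hu
      · intro hv
        exact ⟨v, hv, lineMap_involutive hF.1 x v⟩
    rwa [e] at this

end Cfsg.Agent.Lib.H9.Fischer
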