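import Mathlib
import Cfsg.Prelude.Def_FischerSpaces
import Cfsg.Agent.Lib.H9.Fischer1

set_option autoImplicit false
open Cfsg Cfsg.LineSystem

namespace Cfsg.Agent.Lib.H9.Fischer

/-! ### the affine plane of order three -/

theorem zmod3_neg (a : ZMod 3) : -a - a = a := by
  revert a; decide

theorem zmod3_two (a b : ZMod 3) : a + (2 : ZMod 3) * (b - a) = -a - b := by
  revert a b; decide

theorem ag3_third (p s : Fin 2 → ZMod 3) (hps : p ≠ s) :
    Third affinePlaneThree p s (-p - s) := by
  refine ⟨?_, ?_, hps, ?_⟩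
  · intro h
    apply hps
    funext i
    have := congrFun h i
    simp only [Pi.sub_apply, Pi.neg_apply] at this
    have h2 : ∀ a b : ZMod 3, -a - b = a → a = b := by decide
    exact h2 _ _ this
  · intro h
    apply hps
    funext i
    have := congrFun h i
    simp only [Pi.sub_apply, Pi.neg_apply] at this
    have h2 : ∀ a b : ZMod 3, -a - b = b → a = b := by decide
    exact h2 _ _ this
  · refine ⟨p, s - p, sub_ne_zero.mpr (Ne.symm hps), ?_⟩
    ext u
    simp only [Set.mem_insert_iff, Set.mem_singleton_iff, Set.mem_ofPred_eq]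
    constructor
    · rintro (rfl | rfl | rfl)
      · exact ⟨0, by simp⟩
      · exact ⟨1, by simp⟩
      · refine ⟨2, ?_⟩
        funext i
        simp only [Pi.sub_apply, Pi.neg_apply, Pi.add_apply, Pi.smul_apply, smul_eq_mul]
        exact (zmod3_two _ _).symm
    · rintro ⟨c, rfl⟩
      have hc : ∀ c : ZMod 3, c = 0 ∨ c = 1 ∨ c = 2 := by decide
      rcases hc c with rfl | rfl | rfl
      · left; simp
      · right; left; simp
      · right; right
        funext i
        simp only [Pi.sub_apply, Pi.neg_apply, Pi.add_apply, Pi.smul_apply, smul_eq_mul]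
        exact zmod3_two _ _

theorem ag3_lineMap (hPL : IsPartialLinear affinePlaneThree) (p s : Fin 2 → ZMod 3) :
    lineMap affinePlaneThree p s = -p - s := by
  by_cases hps : p = s
  · subst hps
    rw [lineMap_self]
    funext i
    simp only [Pi.sub_apply, Pi.neg_apply]
    exact (zmod3_neg _).symm
  · exact lineMap_eq_of_third hPL (ag3_third p s hps)

theorem ag3_image (hPL : IsPartialLinear affinePlaneThree) (p : Fin 2 → ZMod 3) :
    ∀ l₀ ∈ affinePlaneThree, (lineMap affinePlaneThree p) '' l₀ ∈ affinePlaneThree := by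
  rintro l₀ ⟨v, w, hw, rfl⟩
  refine ⟨-p - v, -w, neg_ne_zero.mpr hw, ?_⟩
  ext u
  simp only [Set.mem_image, Set.mem_ofPred_eq]
  constructor
  · rintro ⟨s, ⟨c, rfl⟩, rfl⟩
    refine ⟨c, ?_⟩
    rw [ag3_lineMap hPL]
    simp only [smul_neg]
    abel
  · rintro ⟨c, rfl⟩
    refine ⟨v + c • w, ⟨c, rfl⟩, ?_⟩
    rw [ag3_lineMap hPL]
    simp only [smul_neg]
    abel


/-! ### the dual affine plane of order two -/

/-- decidable third-point relation in the dual affine plane -/
def T' (p s w : DualAffinePoint) : Prop :=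
  p ≠ s ∧ w ≠ p ∧ w ≠ s ∧ ∃ i : Fin 4, i ∉ p.val ∧ i ∉ s.val ∧ i ∉ w.val

instance (p s w : DualAffinePoint) : Decidable (T' p s w) := by unfold T'; infer_instance

/-- decidable graph of the map `t(p)` -/
def R (p s w : DualAffinePoint) : Prop :=
  T' p s w ∨ (w = s ∧ ¬ ∃ w', T' p s w')

instance (p s w : DualAffinePoint) : Decidable (R p s w) := by unfold R; infer_instance

set_option maxRecDepth 100000 in
theorem da_line_card : ∀ i : Fin 4,
    (Finset.univ.filter (fun s : DualAffinePoint => i ∉ s.val)).card = 3 := by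
  decide

set_option maxRecDepth 100000 in
theorem da_image_line : ∀ (p : DualAffinePoint) (k : Fin 4), ∃ k' : Fin 4,
    ∀ s w : DualAffinePoint, R p s w → (k ∉ s.val ↔ k' ∉ w.val) := by
  decide

theorem da_third_iff (p s w : DualAffinePoint) : Third dualAffinePlaneTwo p s w ↔ T' p s w := by
  constructor
  · rintro ⟨h1, h2, h3, i, hi⟩
    refine ⟨h3, h1, h2, i, ?_, ?_, ?_⟩
    · have : p ∈ ({p, s, w} : Set DualAffinePoint) := by simp
      rw [hi] at this; exact this
    · have : s ∈ ({p, s, w} : Set DualAffinePoint) := by simp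
      rw [hi] at this; exact this
    · have : w ∈ ({p, s, w} : Set DualAffinePoint) := by simp
      rw [hi] at this; exact this
  · rintro ⟨h3, h1, h2, i, hp, hs, hw⟩
    refine ⟨h1, h2, h3, i, ?_⟩
    have hsub : ({p, s, w} : Finset DualAffinePoint) ⊆
        Finset.univ.filter (fun s : DualAffinePoint => i ∉ s.val) := by
      intro u hu
      simp only [Finset.mem_insert, Finset.mem_singleton] at hu
      simp only [Finset.mem_filter, Finset.mem_univ, true_and]
      rcases hu with rfl | rfl | rfl <;> assumption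
    have hcard : ({p, s, w} : Finset DualAffinePoint).card = 3 := by
      rw [Finset.card_insert_of_notMem, Finset.card_insert_of_notMem, Finset.card_singleton]
      · simp only [Finset.mem_singleton]; exact fun h => h2 h.symm
      · simp only [Finset.mem_insert, Finset.mem_singleton, not_or]
        exact ⟨h3, fun h => h1 h.symm⟩
    have heq := Finset.eq_of_subset_of_card_le hsub (by rw [da_line_card, hcard])
    ext u
    have := Finset.ext_iff.mp heq u
    simp only [Finset.mem_insert, Finset.mem_singleton, Finset.mem_filter, Finset.mem_univ,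
      true_and] at this
    simp only [Set.mem_insert_iff, Set.mem_singleton_iff, Set.mem_ofPred_eq]
    exact this

theorem da_R (p s : DualAffinePoint) : R p s (lineMap dualAffinePlaneTwo p s) := by
  rcases lineMap_spec (L := dualAffinePlaneTwo) p s with h | ⟨h1, h2⟩
  · exact Or.inl ((da_third_iff _ _ _).mp h)
  · right
    refine ⟨h1, ?_⟩
    rintro ⟨w', hw'⟩
    exact h2 ⟨w', (da_third_iff _ _ _).mpr hw'⟩

theorem da_image (hPL : IsPartialLinear dualAffinePlaneTwo) (p : DualAffinePoint) :
    ∀ l₀ ∈ dualAffinePlaneTwo, (lineMap dualAffinePlaneTwo p) '' l₀ ∈ dualAffinePlaneTwo := by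
  rintro l₀ ⟨k, rfl⟩
  obtain ⟨k', hk'⟩ := da_image_line p k
  refine ⟨k', ?_⟩
  ext w
  simp only [Set.mem_image, Set.mem_ofPred_eq]
  constructor
  · rintro ⟨s, hs, rfl⟩
    exact (hk' s _ (da_R p s)).mp hs
  · intro hw
    refine ⟨lineMap dualAffinePlaneTwo p w, ?_, lineMap_involutive hPL p w⟩
    have h1 := da_R p (lineMap dualAffinePlaneTwo p w)
    rw [lineMap_involutive hPL p w] at h1
    exact (hk' _ _ h1).mpr hw

end Cfsg.Agent.Lib.H9.Fischer
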