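import Mathlib

set_option autoImplicit false

/-!
# S2047 piece CONJ (`conj_mem`; helper9)
-/

namespace Cfsg.Agent.Lib.H9.McLM

/-- CONJ: conjugates of lifts of elements of order `p` prime to the exponent of the kernel agree modulo `Z₀` -/
theorem conj_mem {Γ G : Type*} [Group Γ] [Group G] (σ : Γ →* G) (hc : σ.ker ≤ Subgroup.center Γ)
    (Z₀ : Subgroup Γ) (hZ : Z₀ ≤ σ.ker) {N p : ℕ} (hN : ∀ z ∈ σ.ker, z ^ N = 1) (hp : Nat.Coprime p N)
    (g u u' : Γ) (hu : u ^ p ∈ Z₀) (hu' : u' ^ p ∈ Z₀) (h : σ (g⁻¹ * u * g) = σ u') :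
    g⁻¹ * u * g * u'⁻¹ ∈ Z₀ := by
  set z : Γ := g⁻¹ * u * g * u'⁻¹ with hz
  have hzk : z ∈ σ.ker := by
    rw [MonoidHom.mem_ker, hz, map_mul, h, map_inv, mul_inv_cancel]
  have hzc : ∀ x : Γ, x * z = z * x := fun x => Subgroup.mem_center_iff.mp (hc hzk) x
  -- `g⁻¹ u g = z u'`
  have h1 : g⁻¹ * u * g = z * u' := by rw [hz]; group
  -- p-th powers
  have h2 : (g⁻¹ * u * g) ^ p = g⁻¹ * u ^ p * g := by
    have : g⁻¹ * u * g = g⁻¹ * u * g⁻¹⁻¹ := by rw [inv_inv]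
    rw [this, conj_pow, inv_inv]
  have hupc : ∀ x : Γ, x * u ^ p = u ^ p * x := fun x =>
    Subgroup.mem_center_iff.mp (hc (hZ hu)) x
  have h3 : g⁻¹ * u ^ p * g = u ^ p := by
    rw [mul_assoc, ← hupc g, ← mul_assoc, inv_mul_cancel, one_mul]
  have h4 : (z * u') ^ p = z ^ p * u' ^ p := by
    have hcomm : Commute z u' := (hzc u').symm
    exact hcomm.mul_pow p
  have h5 : z ^ p = u ^ p * (u' ^ p)⁻¹ := by
    have : u ^ p = z ^ p * u' ^ p := by rw [← h3, ← h2, h1, h4]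
    rw [this, mul_assoc, mul_inv_cancel, mul_one]
  have h6 : z ^ p ∈ Z₀ := by
    rw [h5]
    exact Z₀.mul_mem hu (Z₀.inv_mem hu')
  have h7 : orderOf z ∣ N := orderOf_dvd_of_pow_eq_one (hN z hzk)
  have h8 : Nat.Coprime p (orderOf z) := Nat.Coprime.coprime_dvd_right h7 hp
  obtain ⟨m, hm⟩ := exists_pow_eq_self_of_coprime h8
  rw [← hm]
  exact Z₀.pow_mem h6 m

end Cfsg.Agent.Lib.H9.McLM
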