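import Mathlib
import Cfsg.Prelude.Def_KGroupFacts

set_option autoImplicit false

/-!
# S2047 piece RESTRICT (`stem_restrict`; helper9)

A finite stem extension restricted to the derived subgroup of the preimage of a perfect subgroup is a stem
extension of that subgroup.
-/

namespace Cfsg.Agent.Lib.H9.McLM

open scoped commutatorElement

section

variable {G : Type*} [Group G] {Γ : Type*} [Group Γ] (σ : Γ →* G) (U : Subgroup G)

/-- the derived subgroup of the preimage of `U` -/
def rL : Subgroup Γ := ⁅U.comap σ, U.comap σ⁆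

theorem comm_le_self' (H : Subgroup Γ) : ⁅H, H⁆ ≤ H := by
  rw [Subgroup.commutator_le]
  intro g1 h1 g2 h2
  rw [commutatorElement_def]
  exact H.mul_mem (H.mul_mem (H.mul_mem h1 h2) (H.inv_mem h1)) (H.inv_mem h2)

theorem rL_le : rL σ U ≤ U.comap σ := comm_le_self' _

/-- the restriction of `σ` to `rL` -/
def rtau : ↥(rL σ U) →* ↥U :=
  (σ.comp (rL σ U).subtype).codRestrict U (fun x => rL_le σ U x.2)

theorem rtau_apply (x : ↥(rL σ U)) : ((rtau σ U x : ↥U) : G) = σ x.1 := rfl

variable (hs : Function.Surjective σ) (hc : σ.ker ≤ Subgroup.center Γ) (hperf : ⁅U, U⁆ = U)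

include hs hperf in
theorem map_rL : (rL σ U).map σ = U := by
  unfold rL
  rw [Subgroup.map_commutator, Subgroup.map_comap_eq_self_of_surjective hs, hperf]

include hs hperf in
theorem exists_rL_mul {x : Γ} (hx : x ∈ U.comap σ) : ∃ y ∈ rL σ U, ∃ z ∈ σ.ker, x = y * z := by
  have h1 : σ x ∈ (rL σ U).map σ := by
    rw [map_rL σ U hs hperf]
    exact hx
  obtain ⟨y, hy, hyx⟩ := Subgroup.mem_map.1 h1
  refine ⟨y, hy, y⁻¹ * x, ?_, by group⟩
  rw [MonoidHom.mem_ker, map_mul, map_inv, hyx, inv_mul_cancel]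

omit [Group G] in
theorem comm_mul_central_left (x y z : Γ) (hz : ∀ w : Γ, w * z = z * w) : ⁅x * z, y⁆ = ⁅x, y⁆ := by
  rw [commutatorElement_def, commutatorElement_def, mul_inv_rev]
  have : x * z * y * (z⁻¹ * x⁻¹) = x * y * x⁻¹ := by
    calc x * z * y * (z⁻¹ * x⁻¹) = x * (z * y) * z⁻¹ * x⁻¹ := by group
      _ = x * (y * z) * z⁻¹ * x⁻¹ := by rw [hz y]
      _ = x * y * x⁻¹ := by group
  rw [this]

omit [Group G] in
theorem comm_mul_central_right (x y z : Γ) (hz : ∀ w : Γ, w * z = z * w) : ⁅x, y * z⁆ = ⁅x, y⁆ := by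
  rw [commutatorElement_def, commutatorElement_def, mul_inv_rev]
  calc x * (y * z) * x⁻¹ * (z⁻¹ * y⁻¹) = x * y * (z * x⁻¹) * z⁻¹ * y⁻¹ := by group
    _ = x * y * (x⁻¹ * z) * z⁻¹ * y⁻¹ := by rw [hz x⁻¹]
    _ = x * y * x⁻¹ * y⁻¹ := by group

include hs hc hperf in
/-- `rL` is perfect -/
theorem rL_perfect : ⁅rL σ U, rL σ U⁆ = rL σ U := by
  apply le_antisymm (comm_le_self' _)
  have hcen : ∀ z ∈ σ.ker, ∀ x : Γ, x * z = z * x := fun z hz x =>
    Subgroup.mem_center_iff.mp (hc hz) x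
  show rL σ U ≤ ⁅rL σ U, rL σ U⁆
  conv_lhs => unfold rL
  rw [Subgroup.commutator_le]
  intro g1 h1 g2 h2
  obtain ⟨y1, hy1, z1, hz1, rfl⟩ := exists_rL_mul σ U hs hperf h1
  obtain ⟨y2, hy2, z2, hz2, rfl⟩ := exists_rL_mul σ U hs hperf h2
  rw [comm_mul_central_left _ _ _ (hcen z1 hz1), comm_mul_central_right _ _ _ (hcen z2 hz2)]
  exact Subgroup.commutator_mem_commutator hy1 hy2

include hs hc hperf in
/-- the derived subgroup of the preimage of a perfect subgroup is a stem extension of it -/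
theorem rtau_stem : Cfsg.IsStemExtension (rtau σ U) := by
  refine ⟨?_, ?_, ?_⟩
  · rintro ⟨g, hg⟩
    have h1 : g ∈ (rL σ U).map σ := by rw [map_rL σ U hs hperf]; exact hg
    obtain ⟨y, hy, hyg⟩ := Subgroup.mem_map.1 h1
    exact ⟨⟨y, hy⟩, Subtype.ext hyg⟩
  · intro x hx
    have h1 : σ x.1 = 1 := by
      have := MonoidHom.mem_ker.1 hx
      have h2 := congrArg Subtype.val this
      rw [rtau_apply] at h2
      exact h2
    rw [Subgroup.mem_center_iff]
    intro y
    apply Subtype.ext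
    exact Subgroup.mem_center_iff.mp (hc (MonoidHom.mem_ker.2 h1)) y.1
  · intro x _
    -- `rL` is perfect, so its commutator subgroup is everything
    have h1 : (x : Γ) ∈ ⁅rL σ U, rL σ U⁆ := by
      rw [rL_perfect σ U hs hc hperf]
      exact x.2
    have h2 : (commutator ↥(rL σ U)).map (rL σ U).subtype = ⁅rL σ U, rL σ U⁆ := by
      rw [commutator_def, Subgroup.map_commutator, ← MonoidHom.range_eq_map, Subgroup.range_subtype]
    rw [← h2] at h1
    obtain ⟨y, hy, hyx⟩ := Subgroup.mem_map.1 h1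
    have : y = x := Subtype.ext hyx
    rw [← this]
    exact hy

end

/-- RESTRICT: a finite stem extension restricted to the commutator subgroup of the preimage of a perfect subgroup is a
stem extension of that subgroup -/
theorem stem_restrict {Γ G : Type*} [Group Γ] [Group G] [Finite Γ] (σ : Γ →* G)
    (hσ : Cfsg.IsStemExtension σ) (H : Subgroup G) (hH : commutator ↥H = ⊤) :
    ∃ (L : Subgroup Γ) (τ : ↥L →* ↥H), Cfsg.IsStemExtension τ ∧
      ∀ x : ↥L, ((τ x : ↥H) : G) = σ (x : Γ) := by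
  have hperf : ⁅H, H⁆ = H := by
    have h1 : (commutator ↥H).map H.subtype = ⁅H, H⁆ := by
      rw [commutator_def, Subgroup.map_commutator, ← MonoidHom.range_eq_map, Subgroup.range_subtype]
    rw [← h1, hH, ← MonoidHom.range_eq_map, Subgroup.range_subtype]
  exact ⟨rL σ H, rtau σ H, rtau_stem σ H hσ.1 hσ.2.1 hperf, fun x => rtau_apply σ H x⟩

end Cfsg.Agent.Lib.H9.McLM
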