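import Cfsg.Agent.Lib.H9.A6G2a
import Cfsg.Agent.Lib.H21.A6.Grp

/-!
# S3341 farm-out, task G2 (`e = 2`), exact signature (helper9)
-/

set_option autoImplicit false

namespace Cfsg.Agent.Lib.H9.A6

open Cfsg.Agent.Lib.H21.A6 (Hyp)

variable {G : Type*} [Group G] [Finite G] {S : Subgroup G}

/-- TASK G2 (`e = 2`). -/
theorem e2 (h : Hyp S) (he : (S.subgroupOf (Subgroup.normalizer (S : Set G))).index = 2) :
    ∃ a ∈ S, ∃ b ∈ S, a ≠ 1 ∧ b ≠ 1 ∧ ∀ s t : G, (s * a * s⁻¹) * (t * a * t⁻¹) ≠ b :=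
  e2_of h (Cfsg.Agent.Lib.H21.A6.tri h) (Cfsg.Agent.Lib.H21.A6.inv_of_sq_mem h) he

end Cfsg.Agent.Lib.H9.A6
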