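import Cfsg.Agent.Lib.H9.A6G3a

/-!
# S3341 farm-out, task G2: the case `|N(S):S| = 2` (helper9)

`e2_of`: the statement of task G2 with the two G1 facts (`tri`, `inv_of_sq_mem`) as hypotheses.
-/

set_option autoImplicit false

namespace Cfsg.Agent.Lib.H9.A6

open Cfsg.Agent.Lib.H21.A6 (Hyp)

variable {G : Type*} [Group G] {S : Subgroup G}

theorem exists_third (h : Hyp S) (a : G) : ∃ b ∈ S, b ≠ 1 ∧ b ≠ a ∧ b ≠ a⁻¹ := by
  by_contra hcon
  push Not at hcon
  have hsub : (S : Set G) ⊆ {1, a, a⁻¹} := by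
    intro b hb
    by_cases h1 : b = 1
    · simp [h1]
    · by_cases h2 : b = a
      · simp [h2]
      · simp [hcon b hb h1 h2]
  have h1 : Nat.card S = (S : Set G).ncard := Nat.card_coe_set_eq _
  have h2 : (S : Set G).ncard ≤ ({1, a, a⁻¹} : Set G).ncard :=
    Set.ncard_le_ncard hsub (Set.toFinite _)
  have h3 : ({1, a, a⁻¹} : Set G).ncard ≤ 3 := by
    have h4 := Set.ncard_insert_le (1 : G) {a, a⁻¹}
    have h5 := Set.ncard_insert_le a {a⁻¹}
    rw [Set.ncard_singleton] at h5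
    omega
  have h4 := h.card
  omega

variable [Finite G]

/-- TASK G2 with the G1 facts as hypotheses. -/
theorem e2_of (h : Hyp S)
    (tri : ∀ u v : G, u ^ 3 = 1 → v ^ 3 = 1 → (u * v) ^ 3 = 1 →
      u * v = v * u ∨ (IsConj u v ∧ IsConj (u * v) u⁻¹))
    (inv : ∀ n : G, n ∈ Subgroup.normalizer (S : Set G) → n ∉ S → n ^ 2 ∈ S →
      ∀ s ∈ S, n * s * n⁻¹ = s⁻¹)
    (he : (S.subgroupOf (Subgroup.normalizer (S : Set G))).index = 2) :
    ∃ a ∈ S, ∃ b ∈ S, a ≠ 1 ∧ b ≠ 1 ∧ ∀ s t : G, (s * a * s⁻¹) * (t * a * t⁻¹) ≠ b := by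
  obtain ⟨a, haS, ha1⟩ := exists_ne_one h
  obtain ⟨b, hbS, hb1, hba, hba'⟩ := exists_third h a
  have ha3 : a ^ 3 = 1 := h.exp a haS
  have haaa : a * a * a = 1 := by rw [← ha3, pow_succ, pow_two]
  -- the `N`-orbit of `a`
  have horb : ∀ g : G, g * a * g⁻¹ ∈ S → g * a * g⁻¹ = a ∨ g * a * g⁻¹ = a⁻¹ := by
    intro g hg
    have hgN : g ∈ Subgroup.normalizer (S : Set G) := mem_normalizer_of_conj_mem h haS ha1 hg
    by_cases hgS : g ∈ S
    · left
      have h3 := h.comm g hgS a haS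
      calc g * a * g⁻¹ = a * g * g⁻¹ := by rw [h3]
        _ = a := by group
    · right
      have h1 := Subgroup.mul_self_mem_of_index_two he (⟨g, hgN⟩ : ↥(Subgroup.normalizer (S : Set G)))
      have h2 : g ^ 2 ∈ S := by
        rw [pow_two]
        exact Subgroup.mem_subgroupOf.mp h1
      exact inv g hgN hgS h2 a haS
  refine ⟨a, haS, b, hbS, ha1, hb1, ?_⟩
  intro s t hab
  have hsa3 : (s * a * s⁻¹) ^ 3 = 1 := by rw [conj_pow, ha3]; group
  have hta3 : (t * a * t⁻¹) ^ 3 = 1 := by rw [conj_pow, ha3]; group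
  have hab3 : ((s * a * s⁻¹) * (t * a * t⁻¹)) ^ 3 = 1 := by rw [hab]; exact h.exp b hbS
  rcases tri _ _ hsa3 hta3 hab3 with hc | ⟨_, hconj⟩
  · -- commuting case
    have haS' : s * a * s⁻¹ ∈ S := by
      rw [← h.cent b hbS hb1, Subgroup.mem_centralizer_iff]
      intro z hz
      rw [Set.mem_singleton_iff] at hz
      rw [hz, ← hab]
      calc s * a * s⁻¹ * (t * a * t⁻¹) * (s * a * s⁻¹)
          = s * a * s⁻¹ * ((t * a * t⁻¹) * (s * a * s⁻¹)) := by group
        _ = s * a * s⁻¹ * ((s * a * s⁻¹) * (t * a * t⁻¹)) := by rw [hc]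
    have hbS' : t * a * t⁻¹ ∈ S := by
      rw [← h.cent b hbS hb1, Subgroup.mem_centralizer_iff]
      intro z hz
      rw [Set.mem_singleton_iff] at hz
      rw [hz, ← hab]
      calc s * a * s⁻¹ * (t * a * t⁻¹) * (t * a * t⁻¹)
          = (s * a * s⁻¹ * (t * a * t⁻¹)) * (t * a * t⁻¹) := by group
        _ = ((t * a * t⁻¹) * (s * a * s⁻¹)) * (t * a * t⁻¹) := by rw [hc]
        _ = t * a * t⁻¹ * (s * a * s⁻¹ * (t * a * t⁻¹)) := by group
    rcases horb s haS' with h1 | h1 <;> rcases horb t hbS' with h2 | h2 <;> rw [h1, h2] at hab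
    · -- a a = b : b = a⁻¹
      apply hba'
      rw [← hab]
      exact (inv_eq_of_mul_eq_one_left haaa).symm
    · apply hb1
      rw [← hab]; group
    · apply hb1
      rw [← hab]; group
    · -- a⁻¹ a⁻¹ = b : b = a
      apply hba
      rw [← hab]
      calc a⁻¹ * a⁻¹ = (a * a * a)⁻¹ * a := by group
        _ = a := by rw [haaa, inv_one, one_mul]
  · -- conjugate case
    rw [isConj_iff] at hconj
    obtain ⟨c, hc⟩ := hconj
    rw [hab] at hc
    set g := c⁻¹ * s with hg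
    have h1 : g * a * g⁻¹ = b⁻¹ := by
      calc g * a * g⁻¹ = c⁻¹ * (s * a * s⁻¹)⁻¹⁻¹ * c := by rw [hg]; group
        _ = c⁻¹ * (c * b * c⁻¹)⁻¹ * c := by rw [hc]
        _ = b⁻¹ := by group
    have h2 : g * a * g⁻¹ ∈ S := by rw [h1]; exact S.inv_mem hbS
    rcases horb g h2 with h3 | h3
    · rw [h1] at h3
      exact hba' (inv_eq_iff_eq_inv.mp h3)
    · rw [h1] at h3
      exact hba (inv_injective h3)

end Cfsg.Agent.Lib.H9.A6
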