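import Cfsg.Agent.Lib.H9.A6G3b
import Cfsg.Agent.Lib.H21.A6.Grp

/-!
# S3341 farm-out, task G3 (`e = 4`), exact signature (helper9)
-/

set_option autoImplicit false

namespace Cfsg.Agent.Lib.H9.A6

open Cfsg.Agent.Lib.H21.A6 (Hyp)

variable {G : Type*} [Group G] [Finite G] {S : Subgroup G}

/-- TASK G3 (`e = 4`). -/
theorem e4 (h : Hyp S) (he : (S.subgroupOf (Subgroup.normalizer (S : Set G))).index = 4) :
    ∃ x ∈ S, ∃ n ∈ Subgroup.normalizer (S : Set G), x ≠ 1 ∧ x * (n * x * n⁻¹) ≠ 1 ∧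
      n * x * n⁻¹ ≠ x ∧
      ∀ s t : G, (s * x * s⁻¹) * (t * x * t⁻¹) = x * (n * x * n⁻¹) ↔
        (s * x * s⁻¹ = x ∧ t * x * t⁻¹ = n * x * n⁻¹) ∨
        (s * x * s⁻¹ = n * x * n⁻¹ ∧ t * x * t⁻¹ = x) :=
  e4_of h (Cfsg.Agent.Lib.H21.A6.tri h) (Cfsg.Agent.Lib.H21.A6.inv_of_sq_mem h) he

end Cfsg.Agent.Lib.H9.A6
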