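import Cfsg.Agent.Lib.H21.A6.Hyp

/-!
# S3341 farm-out, task G3, part (a): group-theoretic preliminaries (helper9)

`S` a self-centralizing elementary abelian subgroup of order `9` (structure `Hyp`).
* `mem_normalizer_of_conj_mem`: `S` is T.I.
* `exists_orbit`: if `|N(S):S| = 4` (and elements of `N(S) ∖ S` with square in `S` invert `S`), there
  are `x ∈ S ∖ 1`, `n ∈ N(S)` with `y = n x n⁻¹ ∉ {x, x⁻¹}` and `x^{N(S)} = {x, x⁻¹, y, y⁻¹}`.
-/

set_option autoImplicit false

namespace Cfsg.Agent.Lib.H9.A6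

open Cfsg.Agent.Lib.H21.A6 (Hyp)

variable {G : Type*} [Group G] {S : Subgroup G}

/-- `S` is T.I.: conjugating a non-identity element of `S` into `S` forces `g ∈ N(S)`. -/
theorem mem_normalizer_of_conj_mem (h : Hyp S) {k g : G} (hk : k ∈ S) (hk1 : k ≠ 1)
    (hg : g * k * g⁻¹ ∈ S) : g ∈ Subgroup.normalizer (S : Set G) := by
  have hk' : g * k * g⁻¹ ≠ 1 := by
    intro h1
    apply hk1
    have h2 : k = g⁻¹ * (g * k * g⁻¹) * g := by group
    rw [h2, h1]; group
  rw [Subgroup.mem_normalizer_iff]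
  intro x
  constructor
  · intro hx
    rw [← h.cent _ hg hk', Subgroup.mem_centralizer_iff]
    intro y hy
    rw [Set.mem_singleton_iff] at hy
    subst hy
    have h3 := h.comm k hk x hx
    calc g * k * g⁻¹ * (g * x * g⁻¹) = g * (k * x) * g⁻¹ := by group
      _ = g * (x * k) * g⁻¹ := by rw [h3]
      _ = g * x * g⁻¹ * (g * k * g⁻¹) := by group
  · intro hx
    rw [← h.cent k hk hk1, Subgroup.mem_centralizer_iff]
    intro y hy
    rw [Set.mem_singleton_iff] at hy
    subst hy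
    have h3 := h.comm _ hg _ hx
    calc y * x = g⁻¹ * ((g * y * g⁻¹) * (g * x * g⁻¹)) * g := by group
      _ = g⁻¹ * ((g * x * g⁻¹) * (g * y * g⁻¹)) * g := by rw [h3]
      _ = x * y := by group

theorem cube_inv (h : Hyp S) {a : G} (ha : a ∈ S) : a⁻¹ = a * a := by
  have h3 : a * a * a = 1 := by rw [← h.exp a ha, pow_succ, pow_two]
  exact inv_eq_of_mul_eq_one_left h3

theorem ne_inv_self (h : Hyp S) {a : G} (ha : a ∈ S) (ha1 : a ≠ 1) : a ≠ a⁻¹ := by
  intro h1
  apply ha1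
  have h2 := cube_inv h ha
  have h3 : a * a * a = 1 := by rw [← h.exp a ha, pow_succ, pow_two]
  rw [← h2, ← h1] at h3
  have h4 : a * a = 1 := by
    calc a * a = a * a⁻¹ := by rw [← h1]
      _ = 1 := mul_inv_cancel a
  rw [← h2] at h4
  exact inv_eq_one.mp h4

theorem exists_ne_one (h : Hyp S) : ∃ x ∈ S, x ≠ 1 := by
  by_contra hcon
  push Not at hcon
  have h1 : S = ⊥ := by
    rw [Subgroup.eq_bot_iff_forall]
    exact hcon
  have h2 := h.card
  rw [h1] at h2
  simp at h2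

/-- a group of order 4 is `{1, q, r, r q}` -/
theorem order_four_enum {Q : Type*} [Group Q] [Finite Q] (hQ : Nat.card Q = 4) :
    ∃ q r : Q, q ≠ 1 ∧ q * q = 1 ∧ r ≠ 1 ∧ r ≠ q ∧ ∀ m : Q, m = 1 ∨ m = q ∨ m = r ∨ m = r * q := by
  classical
  have : Fintype Q := Fintype.ofFinite _
  have : Fact (Nat.Prime 2) := ⟨Nat.prime_two⟩
  obtain ⟨q, hq⟩ := exists_prime_orderOf_dvd_card' (G := Q) 2 (by rw [hQ]; norm_num)
  have hq1 : q ≠ 1 := by
    intro h1
    rw [h1, orderOf_one] at hq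
    norm_num at hq
  have hqq : q * q = 1 := by
    rw [← pow_two, ← hq, pow_orderOf_eq_one]
  have hcardF : Fintype.card Q = 4 := by rw [← Nat.card_eq_fintype_card]; exact hQ
  have hr : ∃ r : Q, r ≠ 1 ∧ r ≠ q := by
    by_contra hcon
    push Not at hcon
    have hsub : (Finset.univ : Finset Q) ⊆ {1, q} := by
      intro r _
      by_cases hr1 : r = 1
      · simp [hr1]
      · simp [hcon r hr1]
    have h1 := Finset.card_le_card hsub
    have h2 : ({1, q} : Finset Q).card ≤ 2 := Finset.card_le_two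
    rw [Finset.card_univ, hcardF] at h1
    omega
  obtain ⟨r, hr1, hrq⟩ := hr
  refine ⟨q, r, hq1, hqq, hr1, hrq, ?_⟩
  have hrq1 : r * q ≠ 1 := by
    intro h1
    apply hrq
    calc r = r * (q * q) := by rw [hqq, mul_one]
      _ = (r * q) * q := by group
      _ = q := by rw [h1, one_mul]
  have hrqq : r * q ≠ q := by
    intro h1
    apply hr1
    calc r = (r * q) * q⁻¹ := by group
      _ = 1 := by rw [h1]; group
  have hrqr : r * q ≠ r := by
    intro h1
    apply hq1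
    calc q = r⁻¹ * (r * q) := by group
      _ = 1 := by rw [h1]; group
  have hcard4 : ({1, q, r, r * q} : Finset Q).card = 4 := by
    rw [Finset.card_insert_of_notMem, Finset.card_insert_of_notMem, Finset.card_insert_of_notMem,
      Finset.card_singleton]
    · simp only [Finset.mem_singleton]
      exact fun h => hrqr h.symm
    · simp only [Finset.mem_insert, Finset.mem_singleton, not_or]
      exact ⟨fun h => hrq h.symm, fun h => hrqq h.symm⟩
    · simp only [Finset.mem_insert, Finset.mem_singleton, not_or]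
      exact ⟨fun h => hq1 h.symm, fun h => hr1 h.symm, fun h => hrq1 h.symm⟩
  have huniv : ({1, q, r, r * q} : Finset Q) = Finset.univ := by
    apply Finset.eq_univ_of_card
    rw [hcard4, hcardF]
  intro m
  have hm : m ∈ ({1, q, r, r * q} : Finset Q) := by rw [huniv]; exact Finset.mem_univ m
  simpa only [Finset.mem_insert, Finset.mem_singleton] using hm

theorem conj_eq_of_coset (h : Hyp S) {x a b : G} (hx : x ∈ S) (hab : a⁻¹ * b ∈ S) :
    b * x * b⁻¹ = a * x * a⁻¹ := by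
  have h1 := h.comm _ hab x hx
  calc b * x * b⁻¹ = a * ((a⁻¹ * b) * x) * (a⁻¹ * b)⁻¹ * a⁻¹ := by group
    _ = a * (x * (a⁻¹ * b)) * (a⁻¹ * b)⁻¹ * a⁻¹ := by rw [h1]
    _ = a * x * a⁻¹ := by group

theorem mem_of_conj_eq (h : Hyp S) {x a : G} (hx : x ∈ S) (hx1 : x ≠ 1) (ha : a * x * a⁻¹ = x) :
    a ∈ S := by
  rw [← h.cent x hx hx1, Subgroup.mem_centralizer_iff]
  intro y hy
  rw [Set.mem_singleton_iff] at hy
  subst hy
  calc y * a = (a * y * a⁻¹) * a := by rw [ha]
    _ = a * y := by group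

variable [Finite G]

theorem exists_orbit (h : Hyp S)
    (inv : ∀ n : G, n ∈ Subgroup.normalizer (S : Set G) → n ∉ S → n ^ 2 ∈ S →
      ∀ s ∈ S, n * s * n⁻¹ = s⁻¹)
    (he : (S.subgroupOf (Subgroup.normalizer (S : Set G))).index = 4) :
    ∃ x ∈ S, ∃ n ∈ Subgroup.normalizer (S : Set G), x ≠ 1 ∧ n * x * n⁻¹ ≠ x ∧
      n * x * n⁻¹ ≠ x⁻¹ ∧
      ∀ m ∈ Subgroup.normalizer (S : Set G), m * x * m⁻¹ = x ∨ m * x * m⁻¹ = x⁻¹ ∨
        m * x * m⁻¹ = n * x * n⁻¹ ∨ m * x * m⁻¹ = (n * x * n⁻¹)⁻¹ := by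
  classical
  obtain ⟨x, hxS, hx1⟩ := exists_ne_one h
  obtain ⟨q, r, hq1, hqq, hr1, hrq, hall⟩ := order_four_enum
    (Q := ↥(Subgroup.normalizer (S : Set G)) ⧸ S.subgroupOf (Subgroup.normalizer (S : Set G))) he
  obtain ⟨τ, rfl⟩ := QuotientGroup.mk_surjective q
  obtain ⟨n, rfl⟩ := QuotientGroup.mk_surjective r
  have hτS : (τ : G) ∉ S := by
    intro hmem
    apply hq1
    rw [QuotientGroup.eq_one_iff]
    exact Subgroup.mem_subgroupOf.mpr hmem
  have hτ2 : (τ : G) ^ 2 ∈ S := by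
    have h1 : τ * τ ∈ S.subgroupOf (Subgroup.normalizer (S : Set G)) := by
      rw [← QuotientGroup.eq_one_iff, QuotientGroup.mk_mul]; exact hqq
    rw [pow_two]; exact Subgroup.mem_subgroupOf.mp h1
  have hτinv := inv τ τ.2 hτS hτ2
  have hτx : (τ : G) * x * (τ : G)⁻¹ = x⁻¹ := hτinv x hxS
  have hnx : (n : G) * x * (n : G)⁻¹ ≠ x := by
    intro h1
    apply hr1
    rw [QuotientGroup.eq_one_iff]
    exact Subgroup.mem_subgroupOf.mpr (mem_of_conj_eq h hxS hx1 h1)
  have hnx' : (n : G) * x * (n : G)⁻¹ ≠ x⁻¹ := by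
    intro h1
    apply hrq
    symm
    rw [QuotientGroup.eq]
    apply Subgroup.mem_subgroupOf.mpr
    have h2 : ((τ : G)⁻¹ * (n : G)) * x * ((τ : G)⁻¹ * (n : G))⁻¹ = x := by
      calc ((τ : G)⁻¹ * (n : G)) * x * ((τ : G)⁻¹ * (n : G))⁻¹
          = (τ : G)⁻¹ * ((n : G) * x * (n : G)⁻¹) * (τ : G) := by group
        _ = (τ : G)⁻¹ * ((τ : G) * x * (τ : G)⁻¹) * (τ : G) := by rw [h1, hτx]
        _ = x := by group
    have h3 := mem_of_conj_eq h hxS hx1 h2
    simpa using h3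
  refine ⟨x, hxS, n, n.2, hx1, hnx, hnx', ?_⟩
  intro m hm
  rcases hall (QuotientGroup.mk ⟨m, hm⟩) with h1 | h1 | h1 | h1
  · left
    rw [QuotientGroup.eq_one_iff] at h1
    have h2 : m ∈ S := Subgroup.mem_subgroupOf.mp h1
    have h3 := h.comm m h2 x hxS
    calc m * x * m⁻¹ = x * m * m⁻¹ := by rw [h3]
      _ = x := by group
  · right; left
    rw [eq_comm, QuotientGroup.eq] at h1
    have h2 : (τ : G)⁻¹ * m ∈ S := by
      have := Subgroup.mem_subgroupOf.mp h1
      simpa using this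
    rw [conj_eq_of_coset h hxS h2, hτx]
  · right; right; left
    rw [eq_comm, QuotientGroup.eq] at h1
    have h2 : (n : G)⁻¹ * m ∈ S := by
      have := Subgroup.mem_subgroupOf.mp h1
      simpa using this
    rw [conj_eq_of_coset h hxS h2]
  · right; right; right
    rw [eq_comm, ← QuotientGroup.mk_mul, QuotientGroup.eq] at h1
    have h2 : ((n : G) * (τ : G))⁻¹ * m ∈ S := by
      have := Subgroup.mem_subgroupOf.mp h1
      simpa using this
    rw [conj_eq_of_coset h hxS h2]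
    calc (n : G) * (τ : G) * x * ((n : G) * (τ : G))⁻¹
        = (n : G) * ((τ : G) * x * (τ : G)⁻¹) * (n : G)⁻¹ := by group
      _ = (n : G) * x⁻¹ * (n : G)⁻¹ := by rw [hτx]
      _ = ((n : G) * x * (n : G)⁻¹)⁻¹ := by group

end Cfsg.Agent.Lib.H9.A6
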