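import Cfsg.Agent.Lib.H9.A6G3a

/-!
# S3341 farm-out, task G3, part (b): the case `|N(S):S| = 4` (helper9)

`e4_of`: the statement of task G3 with the two G1 facts (`tri`, `inv_of_sq_mem`) as hypotheses.
-/

set_option autoImplicit false

namespace Cfsg.Agent.Lib.H9.A6

open Cfsg.Agent.Lib.H21.A6 (Hyp)

variable {G : Type*} [Group G] {S : Subgroup G}

theorem conj_cube (s x : G) (hx : x ^ 3 = 1) : (s * x * s⁻¹) ^ 3 = 1 := by
  rw [conj_pow, hx]; group

/-- the 16 cases: `a, b ∈ {x, x⁻¹, y, y⁻¹}` with `a b = x y` forces `{a, b} = {x, y}` -/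
theorem sixteen (h : Hyp S) {x y a b : G} (hx : x ∈ S) (hy : y ∈ S) (hx1 : x ≠ 1) (hy1 : y ≠ 1)
    (hyx : y ≠ x) (hxy1 : x * y ≠ 1)
    (ha : a = x ∨ a = x⁻¹ ∨ a = y ∨ a = y⁻¹) (hb : b = x ∨ b = x⁻¹ ∨ b = y ∨ b = y⁻¹)
    (hab : a * b = x * y) : (a = x ∧ b = y) ∨ (a = y ∧ b = x) := by
  have hc : x * y = y * x := h.comm x hx y hy
  have hxi : x ≠ x⁻¹ := ne_inv_self h hx hx1
  have hyi : y ≠ y⁻¹ := ne_inv_self h hy hy1
  have hxyS : x * y ∈ S := S.mul_mem hx hy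
  have hxyi : x * y ≠ (x * y)⁻¹ := ne_inv_self h hxyS hxy1
  have hx3 : x ^ 3 = 1 := h.exp x hx
  have hy3 : y ^ 3 = 1 := h.exp y hy
  rcases ha with rfl | rfl | rfl | rfl <;> rcases hb with rfl | rfl | rfl | rfl
  · -- (x, x)
    exact absurd (mul_left_cancel hab).symm hyx
  · -- (x, x⁻¹)
    exfalso; apply hxy1; rw [← hab]; group
  · exact Or.inl ⟨rfl, rfl⟩
  · -- (x, y⁻¹)
    exact absurd (mul_left_cancel hab).symm hyi
  · -- (x⁻¹, x)
    exfalso; apply hxy1; rw [← hab]; group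
  · -- (x⁻¹, x⁻¹)
    exfalso; apply hy1
    calc y = x⁻¹ * (x * y) := by group
      _ = x⁻¹ * (x⁻¹ * x⁻¹) := by rw [hab]
      _ = (x ^ 3)⁻¹ := by group
      _ = 1 := by rw [hx3, inv_one]
  · -- (x⁻¹, y)
    exact absurd (mul_right_cancel hab).symm hxi
  · -- (x⁻¹, y⁻¹)
    exfalso; apply hxyi
    calc x * y = x⁻¹ * y⁻¹ := hab.symm
      _ = (y * x)⁻¹ := by group
      _ = (x * y)⁻¹ := by rw [hc]
  · exact Or.inr ⟨rfl, rfl⟩
  · -- (y, x⁻¹)
    rw [hc] at hab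
    exact absurd (mul_left_cancel hab).symm hxi
  · -- (y, y)
    exact absurd (mul_right_cancel hab) hyx
  · -- (y, y⁻¹)
    exfalso; apply hxy1; rw [← hab]; group
  · -- (y⁻¹, x)
    rw [hc] at hab
    exact absurd (mul_right_cancel hab).symm hyi
  · -- (y⁻¹, x⁻¹)
    exfalso; apply hxyi
    calc x * y = y⁻¹ * x⁻¹ := hab.symm
      _ = (x * y)⁻¹ := by group
  · -- (y⁻¹, y)
    exfalso; apply hxy1; rw [← hab]; group
  · -- (y⁻¹, y⁻¹)
    exfalso; apply hx1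
    calc x = (x * y) * y⁻¹ := by group
      _ = (y⁻¹ * y⁻¹) * y⁻¹ := by rw [hab]
      _ = (y ^ 3)⁻¹ := by group
      _ = 1 := by rw [hy3, inv_one]

variable [Finite G]

/-- TASK G3 with the G1 facts as hypotheses. -/
theorem e4_of (h : Hyp S)
    (tri : ∀ u v : G, u ^ 3 = 1 → v ^ 3 = 1 → (u * v) ^ 3 = 1 →
      u * v = v * u ∨ (IsConj u v ∧ IsConj (u * v) u⁻¹))
    (inv : ∀ n : G, n ∈ Subgroup.normalizer (S : Set G) → n ∉ S → n ^ 2 ∈ S →
      ∀ s ∈ S, n * s * n⁻¹ = s⁻¹)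
    (he : (S.subgroupOf (Subgroup.normalizer (S : Set G))).index = 4) :
    ∃ x ∈ S, ∃ n ∈ Subgroup.normalizer (S : Set G), x ≠ 1 ∧ x * (n * x * n⁻¹) ≠ 1 ∧
      n * x * n⁻¹ ≠ x ∧
      ∀ s t : G, (s * x * s⁻¹) * (t * x * t⁻¹) = x * (n * x * n⁻¹) ↔
        (s * x * s⁻¹ = x ∧ t * x * t⁻¹ = n * x * n⁻¹) ∨
        (s * x * s⁻¹ = n * x * n⁻¹ ∧ t * x * t⁻¹ = x) := by
  obtain ⟨x, hxS, n, hn, hx1, hnx, hnx', horb⟩ := exists_orbit h inv he
  have hyS : n * x * n⁻¹ ∈ S := (Subgroup.mem_normalizer_iff.mp hn x).mp hxS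
  set y := n * x * n⁻¹ with hy
  have hy1 : y ≠ 1 := by
    intro h1
    apply hx1
    calc x = n⁻¹ * y * n := by rw [hy]; group
      _ = 1 := by rw [h1]; group
  have hxy1 : x * y ≠ 1 := by
    intro h1
    exact hnx' (eq_inv_of_mul_eq_one_right h1)
  have hxyS : x * y ∈ S := S.mul_mem hxS hyS
  have hx3 : x ^ 3 = 1 := h.exp x hxS
  have hfour : ∀ g : G, g * x * g⁻¹ ∈ S →
      g * x * g⁻¹ = x ∨ g * x * g⁻¹ = x⁻¹ ∨ g * x * g⁻¹ = y ∨ g * x * g⁻¹ = y⁻¹ :=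
    fun g hg => horb g (mem_normalizer_of_conj_mem h hxS hx1 hg)
  refine ⟨x, hxS, n, hn, hx1, hxy1, hnx, ?_⟩
  intro s t
  constructor
  · intro hab
    have ha3 := conj_cube s x hx3
    have hb3 := conj_cube t x hx3
    have hab3 : ((s * x * s⁻¹) * (t * x * t⁻¹)) ^ 3 = 1 := by rw [hab]; exact h.exp _ hxyS
    rcases tri _ _ ha3 hb3 hab3 with hc | ⟨_, hconj⟩
    · -- commuting case
      have haS : s * x * s⁻¹ ∈ S := by
        rw [← h.cent _ hxyS hxy1, Subgroup.mem_centralizer_iff]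
        intro z hz
        rw [Set.mem_singleton_iff] at hz
        rw [hz, ← hab]
        calc s * x * s⁻¹ * (t * x * t⁻¹) * (s * x * s⁻¹)
            = s * x * s⁻¹ * ((t * x * t⁻¹) * (s * x * s⁻¹)) := by group
          _ = s * x * s⁻¹ * ((s * x * s⁻¹) * (t * x * t⁻¹)) := by rw [hc]
      have hbS : t * x * t⁻¹ ∈ S := by
        rw [← h.cent _ hxyS hxy1, Subgroup.mem_centralizer_iff]
        intro z hz
        rw [Set.mem_singleton_iff] at hz
        rw [hz, ← hab]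
        calc s * x * s⁻¹ * (t * x * t⁻¹) * (t * x * t⁻¹)
            = (s * x * s⁻¹ * (t * x * t⁻¹)) * (t * x * t⁻¹) := by group
          _ = ((t * x * t⁻¹) * (s * x * s⁻¹)) * (t * x * t⁻¹) := by rw [hc]
          _ = t * x * t⁻¹ * (s * x * s⁻¹ * (t * x * t⁻¹)) := by group
      exact sixteen h hxS hyS hx1 hy1 hnx hxy1 (hfour s haS) (hfour t hbS) hab
    · -- conjugate case: impossible
      exfalso
      rw [isConj_iff] at hconj
      obtain ⟨c, hc⟩ := hconj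
      rw [hab] at hc
      -- `c (x y) c⁻¹ = (s x s⁻¹)⁻¹`
      set g := c⁻¹ * s with hg
      have h1 : g * x * g⁻¹ = (x * y)⁻¹ := by
        calc g * x * g⁻¹ = c⁻¹ * (s * x * s⁻¹)⁻¹⁻¹ * c := by rw [hg]; group
          _ = c⁻¹ * (c * (x * y) * c⁻¹)⁻¹ * c := by rw [hc]
          _ = (x * y)⁻¹ := by group
      have h2 : g * x * g⁻¹ ∈ S := by rw [h1]; exact S.inv_mem hxyS
      have hcomm : x * y = y * x := h.comm x hxS y hyS
      rcases hfour g h2 with h3 | h3 | h3 | h3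
      · -- (xy)⁻¹ = x
        rw [h1] at h3
        apply hnx
        have h4 : x * y = x⁻¹ := inv_eq_iff_eq_inv.mp h3
        have hxxx : x * x * x = 1 := by rw [← hx3, pow_succ, pow_two]
        calc y = x⁻¹ * (x * y) := by group
          _ = x⁻¹ * x⁻¹ := by rw [h4]
          _ = (x * x * x)⁻¹ * x := by group
          _ = x := by rw [hxxx, inv_one, one_mul]
      · -- (xy)⁻¹ = x⁻¹
        rw [h1] at h3
        apply hy1
        have h4 : x * y = x := inv_injective h3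
        calc y = x⁻¹ * (x * y) := by group
          _ = 1 := by rw [h4]; group
      · -- (xy)⁻¹ = y
        rw [h1] at h3
        apply hnx
        have h4 : x * y = y⁻¹ := inv_eq_iff_eq_inv.mp h3
        have hy3 : y ^ 3 = 1 := h.exp y hyS
        have hyyy : y * y * y = 1 := by rw [← hy3, pow_succ, pow_two]
        symm
        calc x = (x * y) * y⁻¹ := by group
          _ = y⁻¹ * y⁻¹ := by rw [h4]
          _ = (y * y * y)⁻¹ * y := by group
          _ = y := by rw [hyyy, inv_one, one_mul]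
      · -- (xy)⁻¹ = y⁻¹
        rw [h1] at h3
        apply hx1
        have h4 : x * y = y := inv_injective h3
        calc x = (x * y) * y⁻¹ := by group
          _ = 1 := by rw [h4]; group
  · rintro (⟨h1, h2⟩ | ⟨h1, h2⟩)
    · rw [h1, h2]
    · rw [h1, h2]
      exact (h.comm x hxS y hyS).symm

end Cfsg.Agent.Lib.H9.A6
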