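import Cfsg.Agent.Lib.H9.ADCore

/-!
S4937 pieces (AB) `ab` and (FOUR) `four` (both PURE), from the shared identity `exists_twists`.
Blueprint: tools/blueprints/S4937.md (architect helper21).
-/

set_option autoImplicit false
open Cfsg.Agent.Lib.H21.AD

namespace Cfsg.Agent.Lib.H9.AD

variable {G : Type*} [Group G] [Finite G] {p : ℕ} {M : Ideal Cfsg.AlgInt}

omit [Finite G] in
theorem cSum_one (p : ℕ) (J : Subgroup G) (f : G → ℂ) : cSum p J f 1 = sSum p J f := by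
  unfold cSum sSum
  apply finsum_congr
  intro n
  rw [one_mul]

/-- (AB) abelian quotient `J₂ / J₁`: some twist has nonzero sum. PURE (no characters). -/
theorem ab (p : ℕ) (J₁ J₂ : Subgroup G) (h12 : J₁ ≤ J₂)
    (hnorm : ∀ a ∈ J₂, ∀ b ∈ J₁, a * b * a⁻¹ ∈ J₁)
    (hab : ∀ a ∈ J₂, ∀ b ∈ J₂, a * b * a⁻¹ * b⁻¹ ∈ J₁) (f : G → ℂ) (hf : sSum p J₁ f ≠ 0) :
    ∃ μ : G → ℂ, IsTwist J₁ J₂ μ ∧ sSum p J₂ (fun g => f g * μ g) ≠ 0 := by
  obtain ⟨ι, hι, μ, c, hc, htw, -, hid⟩ := exists_twists p J₁ J₂ h12 hnorm hab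
  by_contra hcon
  have hcon : ∀ μ : G → ℂ, IsTwist J₁ J₂ μ → sSum p J₂ (fun g => f g * μ g) = 0 := by
    intro μ hμ
    by_contra h
    exact hcon ⟨μ, hμ, h⟩
  have h1 := hid f 1 J₂.one_mem
  rw [cSum_one] at h1
  have h2 : ∑ i, (μ i 1)⁻¹ * sSum p J₂ (fun g => f g * μ i g) = 0 := by
    apply Finset.sum_eq_zero
    intro i _
    rw [hcon (μ i) (htw i), mul_zero]
  rw [h2] at h1
  exact mul_ne_zero hc hf h1.symm

/-- (FOUR) Fourier inversion on the abelian group `J₂ / J₁`. PURE. -/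
theorem four (p : ℕ) (J₁ J₂ : Subgroup G) (h12 : J₁ ≤ J₂)
    (hnorm : ∀ a ∈ J₂, ∀ b ∈ J₁, a * b * a⁻¹ ∈ J₁)
    (hab : ∀ a ∈ J₂, ∀ b ∈ J₂, a * b * a⁻¹ * b⁻¹ ∈ J₁) (f : G → ℂ)
    (hvan : ∀ μ : G → ℂ, IsTwist J₁ J₂ μ → (∃ g ∈ J₂, μ g ≠ 1) → sSum p J₂ (fun g => f g * μ g) = 0)
    (y : G) (hy : y ∈ J₂) : cSum p J₁ f y = sSum p J₁ f := by
  obtain ⟨ι, hι, μ, c, hc, htw, -, hid⟩ := exists_twists p J₁ J₂ h12 hnorm hab
  have h1 := hid f 1 J₂.one_mem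
  have hy1 := hid f y hy
  rw [cSum_one] at h1
  have hterm : ∀ i, (μ i y)⁻¹ * sSum p J₂ (fun g => f g * μ i g) =
      (μ i 1)⁻¹ * sSum p J₂ (fun g => f g * μ i g) := by
    intro i
    by_cases hi : ∃ g ∈ J₂, μ i g ≠ 1
    · rw [hvan (μ i) (htw i) hi, mul_zero, mul_zero]
    · have hi' : ∀ g ∈ J₂, μ i g = 1 := by
        intro g hg
        by_contra h
        exact hi ⟨g, hg, h⟩
      rw [hi' y hy, hi' 1 J₂.one_mem]
  have h3 : c * cSum p J₁ f y = c * sSum p J₁ f := by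
    rw [← hy1, ← h1]
    exact Finset.sum_congr rfl (fun i _ => hterm i)
  exact mul_left_cancel₀ hc h3

end Cfsg.Agent.Lib.H9.AD
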