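import Mathlib
import Cfsg.Agent.S3377
import Cfsg.Agent.Lib.H23.AGG2
import Cfsg.Agent.Lib.H23.AGG3

/-!
# S4150 piece E6: a `3^2`-element and a 5-cycle in `S_6` generate `A_6` or a copy of `A_5`.

The exotic branch (the transitive `PSL(2,5)`) uses the landed presentation `S3377`:
`⟨a, b | a^3, b^5, (ab)^2⟩ ≅ A_5`, so no explicit isomorphism is needed.
-/

set_option autoImplicit false
set_option linter.dupNamespace false

namespace Cfsg.Agent.Lib.H9.AG

open Equiv Equiv.Perm Subgroup

/-- the relators of the `(2,3,5)` presentation -/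
abbrev rels235 : Set (FreeGroup (Fin 2)) :=
  {FreeGroup.of (0 : Fin 2) ^ 3, FreeGroup.of (1 : Fin 2) ^ 5,
    (FreeGroup.of (0 : Fin 2) * FreeGroup.of 1) ^ 2}

/-- two elements satisfying the `(2,3,5)` relations, the second nontrivial, generate a copy of `A_5` -/
theorem a5_of_235 {Γ : Type*} [Group Γ] (a b : Γ) (ha : a ^ 3 = 1) (hb : b ^ 5 = 1)
    (hab : (a * b) ^ 2 = 1) (hb1 : b ≠ 1) :
    Nonempty (closure ({a, b} : Set Γ) ≃* alternatingGroup (Fin 5)) := by
  obtain ⟨e⟩ := Cfsg.Agent.S3377.result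
  let f : Fin 2 → Γ := ![a, b]
  have hrel : ∀ r ∈ rels235, FreeGroup.lift f r = 1 := by
    intro r hr
    simp only [rels235, Set.mem_insert_iff, Set.mem_singleton_iff] at hr
    rcases hr with rfl | rfl | rfl
    · simpa [f] using ha
    · simpa [f] using hb
    · simpa [f] using hab
  let φ : PresentedGroup rels235 →* Γ := PresentedGroup.toGroup hrel
  have hφ0 : φ (PresentedGroup.of 0) = a := by
    show PresentedGroup.toGroup hrel (PresentedGroup.of 0) = a
    rw [PresentedGroup.toGroup.of]; rfl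
  have hφ1 : φ (PresentedGroup.of 1) = b := by
    show PresentedGroup.toGroup hrel (PresentedGroup.of 1) = b
    rw [PresentedGroup.toGroup.of]; rfl
  have hrange : φ.range = closure ({a, b} : Set Γ) := by
    rw [MonoidHom.range_eq_map, ← PresentedGroup.closure_range_of rels235, MonoidHom.map_closure]
    congr 1
    ext z
    constructor
    · rintro ⟨_, ⟨i, rfl⟩, rfl⟩
      fin_cases i
      · left; exact hφ0
      · right; exact hφ1
    · rintro (rfl | rfl)
      · exact ⟨_, ⟨0, rfl⟩, hφ0⟩
      · exact ⟨_, ⟨1, rfl⟩, hφ1⟩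
  let ψ : alternatingGroup (Fin 5) →* Γ := φ.comp e.symm.toMonoidHom
  have hψrange : ψ.range = closure ({a, b} : Set Γ) := by
    rw [← hrange]
    ext z
    constructor
    · rintro ⟨u, rfl⟩
      exact ⟨e.symm u, rfl⟩
    · rintro ⟨u, rfl⟩
      exact ⟨e u, by simp [ψ]⟩
  have hψinj : Function.Injective ψ := by
    rw [← MonoidHom.ker_eq_bot_iff]
    have : IsSimpleGroup (alternatingGroup (Fin 5)) := alternatingGroup.isSimpleGroup (by simp)
    rcases (ψ.normal_ker).eq_bot_or_eq_top with h | h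
    · exact h
    · exfalso
      apply hb1
      have : e (PresentedGroup.of 1) ∈ ψ.ker := by rw [h]; trivial
      rw [MonoidHom.mem_ker] at this
      simpa [ψ, hφ1] using this
  exact ⟨((MonoidHom.ofInjective hψinj).trans (MulEquiv.subgroupCongr hψrange)).symm⟩

/-- the 5-cycle `(1 2 3 4 5)` of `Fin 6` -/
def e6y0 : Perm (Fin 6) := decomposeFin.symm ((0 : Fin 6), finRotate 5)

theorem e6y0_pow5 : e6y0 ^ 5 = 1 := by decide +kernel

theorem e6y0_ne : e6y0 ≠ 1 := by decide +kernel

theorem e6y0_orderOf : orderOf e6y0 = 5 := by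
  have : Fact (Nat.Prime 5) := ⟨by norm_num⟩
  exact orderOf_eq_prime e6y0_pow5 e6y0_ne

theorem e6y0_isCycle : e6y0.IsCycle := by
  apply isCycle_of_prime_order'
  · rw [e6y0_orderOf]; norm_num
  · rw [e6y0_orderOf, Fintype.card_fin]; norm_num

theorem e6y0_support : e6y0.support.card = 5 := by
  rw [← e6y0_isCycle.orderOf, e6y0_orderOf]

theorem e6y0_cycleType : e6y0.cycleType = {5} := by
  rw [e6y0_isCycle.cycleType, e6y0_support]

set_option maxRecDepth 100000 in
/-- kernel enumeration over the 720 permutations of `Fin 6` -/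
theorem e6_aux : ∀ x : Perm (Fin 6), x ^ 3 = 1 → x.support.card = 6 →
    ∃ j : Fin 5, j ≠ 0 ∧
      ((x * e6y0 ^ (j : ℕ)).support.card = 3 ∨ (x * e6y0 ^ (j : ℕ)) ^ 2 = 1) := by
  decide +kernel

/-- E6 with `y` normalised to `e6y0`. -/
theorem exotic6_normalized (x : Perm (Fin 6)) (hx : x.cycleType = {3, 3}) :
    ∃ d : ℕ, 5 ≤ d ∧ Nonempty (closure ({x, e6y0} : Set (Perm (Fin 6))) ≃*
      alternatingGroup (Fin d)) := by
  have hord : orderOf x = 3 := by
    rw [← lcm_cycleType, hx]; simp
  have hx3 : x ^ 3 = 1 := by rw [← hord]; exact pow_orderOf_eq_one x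
  have hsupp : x.support.card = 6 := by
    rw [← sum_cycleType, hx]; simp
  obtain ⟨j, hj0, hj⟩ := e6_aux x hx3 hsupp
  set G : Subgroup (Perm (Fin 6)) := closure ({x, e6y0} : Set (Perm (Fin 6))) with hG
  have hxG : x ∈ G := subset_closure (by simp)
  have hyG : e6y0 ∈ G := subset_closure (by simp)
  rcases hj with hj | hj
  · -- a 3-cycle: `G = A_6`
    have hwG : x * e6y0 ^ (j : ℕ) ∈ G := mul_mem hxG (pow_mem hyG _)
    have h3 : (x * e6y0 ^ (j : ℕ)).IsThreeCycle := card_support_eq_three_iff.mp hj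
    have hfull : x.support ∪ e6y0.support = Finset.univ := by
      have : x.support = Finset.univ := by
        apply Finset.eq_univ_of_card
        rw [hsupp, Fintype.card_fin]
      rw [this]
      ext i
      simp
    have htr : MulAction.IsPretransitive G (Fin 6) :=
      Cfsg.Agent.Lib.H23.AG.isPretransitive_closure x e6y0 (by norm_num : (3 : ℕ).Prime) hord
        e6y0_isCycle e6y0_support hfull (by norm_num)
    have hprim : MulAction.IsPreprimitive G (Fin 6) :=
      Cfsg.Agent.Lib.H23.AG.isPreprimitive_of_prime_cycle G htr e6y0 hyG e6y0_isCycle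
        (by norm_num : (5 : ℕ).Prime) e6y0_support (by norm_num)
    have hle : alternatingGroup (Fin 6) ≤ G :=
      alternatingGroup_le_of_isPreprimitive_of_isThreeCycle_mem hprim h3 hwG
    have hge : G ≤ alternatingGroup (Fin 6) := by
      rw [hG, closure_le]
      intro z hz
      rcases hz with rfl | rfl
      · apply Equiv.Perm.mem_alternatingGroup.2
        rw [sign_of_cycleType, hx]
        decide
      · apply Equiv.Perm.mem_alternatingGroup.2
        rw [sign_of_cycleType, e6y0_cycleType]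
        decide
    exact ⟨6, by norm_num, ⟨MulEquiv.subgroupCongr (le_antisymm hge hle)⟩⟩
  · -- the `(2,3,5)` relations: `G ≅ A_5`
    have hjlt : (j : ℕ) < 5 := j.2
    have hjpos : 0 < (j : ℕ) := by
      rcases Nat.eq_zero_or_pos (j : ℕ) with h | h
      · exact absurd (Fin.ext h) hj0
      · exact h
    have hb5 : (e6y0 ^ (j : ℕ)) ^ 5 = 1 := by
      rw [← pow_mul, mul_comm, pow_mul, e6y0_pow5, one_pow]
    have hcop : Nat.Coprime (j : ℕ) (orderOf e6y0) := by
      rw [e6y0_orderOf]
      apply Nat.Coprime.symm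
      rw [Nat.Prime.coprime_iff_not_dvd (by norm_num)]
      intro h
      have := Nat.le_of_dvd hjpos h
      omega
    obtain ⟨k, hk⟩ := exists_pow_eq_self_of_coprime hcop
    have hb1 : e6y0 ^ (j : ℕ) ≠ 1 := by
      intro h
      rw [h, one_pow] at hk
      exact e6y0_ne hk.symm
    obtain ⟨e⟩ := a5_of_235 x (e6y0 ^ (j : ℕ)) hx3 hb5 hj hb1
    have hcl : closure ({x, e6y0 ^ (j : ℕ)} : Set (Perm (Fin 6))) = G := by
      apply le_antisymm
      · rw [closure_le]
        intro z hz
        rcases hz with rfl | rfl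
        · exact hxG
        · exact pow_mem hyG _
      · rw [hG, closure_le]
        intro z hz
        rcases hz with rfl | rfl
        · exact subset_closure (by simp)
        · have hmem : (e6y0 ^ (j : ℕ)) ^ k ∈
              closure ({x, e6y0 ^ (j : ℕ)} : Set (Perm (Fin 6))) :=
            pow_mem (subset_closure (by simp)) _
          rwa [hk] at hmem
    exact ⟨5, le_refl 5, ⟨(MulEquiv.subgroupCongr hcl.symm).trans e⟩⟩

/-- conjugation invariance of the closure of a pair, up to isomorphism -/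
theorem closure_conj_equiv {Γ : Type*} [Group Γ] (g x y : Γ) :
    Nonempty (closure ({x, y} : Set Γ) ≃* closure ({g * x * g⁻¹, g * y * g⁻¹} : Set Γ)) := by
  have hmap : (closure ({x, y} : Set Γ)).map (MulAut.conj g).toMonoidHom =
      closure ({g * x * g⁻¹, g * y * g⁻¹} : Set Γ) := by
    rw [MonoidHom.map_closure, Set.image_pair]
    rfl
  exact ⟨(equivMapOfInjective _ (MulAut.conj g).toMonoidHom (MulAut.conj g).injective).trans
    (MulEquiv.subgroupCongr hmap)⟩

/-- (E6) the exotic case in degree 6: the closure is `A_6` or a transitive `PSL(2,5) ≅ A_5`. -/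
theorem exotic6 (x y : Perm (Fin 6)) (hx : x.cycleType = {3, 3}) (hy : y.cycleType = {5}) :
    ∃ d : ℕ, 5 ≤ d ∧ Nonempty (closure ({x, y} : Set (Perm (Fin 6))) ≃*
      alternatingGroup (Fin d)) := by
  have hconj : IsConj y e6y0 := isConj_iff_cycleType_eq.2 (by rw [hy, e6y0_cycleType])
  obtain ⟨g, hg⟩ := isConj_iff.1 hconj
  have hx' : (g * x * g⁻¹).cycleType = {3, 3} := by rw [cycleType_conj, hx]
  obtain ⟨d, hd, ⟨e⟩⟩ := exotic6_normalized (g * x * g⁻¹) hx'
  obtain ⟨e0⟩ := closure_conj_equiv g x y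
  rw [hg] at e0
  exact ⟨d, hd, ⟨e0.trans e⟩⟩

end Cfsg.Agent.Lib.H9.AG
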