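import Mathlib
import Cfsg.Agent.S0713
import Cfsg.Agent.Lib.H23.AGG2
import Cfsg.Agent.Lib.H23.AGG3

/-!
# S4150 piece JG: the generic case, via Jordan's theorem on prime cycles (landed `S0713.result`),
on helper23's G2 (primitivity) and G3 (transitivity).
-/

set_option autoImplicit false
set_option linter.dupNamespace false

namespace Cfsg.Agent.Lib.H9.AG

open Equiv Equiv.Perm Subgroup

/-- (JG) the generic case, via Jordan's theorem on prime cycles (landed `S0713.result`). -/
theorem closure_eq_alternatingGroup_of_gap {d p q : ℕ} (x y : Perm (Fin d)) (hp : p.Prime)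
    (hq : q.Prime) (hpq : p < q) (hx : orderOf x = p) (hy : y.IsCycle)
    (hyq : y.support.card = q) (hfull : x.support ∪ y.support = Finset.univ) (hd : d < p + q)
    (hsx : Perm.sign x = 1) (hsy : Perm.sign y = 1)
    (hgap : (x.IsCycle ∧ p + 3 ≤ d) ∨ q + 3 ≤ d) :
    closure ({x, y} : Set (Perm (Fin d))) = alternatingGroup (Fin d) := by
  have hxG : x ∈ closure ({x, y} : Set (Perm (Fin d))) := subset_closure (by simp)
  have hyG : y ∈ closure ({x, y} : Set (Perm (Fin d))) := subset_closure (by simp)
  have htr : MulAction.IsPretransitive (closure ({x, y} : Set (Perm (Fin d)))) (Fin d) :=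
    Cfsg.Agent.Lib.H23.AG.isPretransitive_closure x y hp hx hy hyq hfull hd
  have hprim : MulAction.IsPreprimitive (closure ({x, y} : Set (Perm (Fin d)))) (Fin d) :=
    Cfsg.Agent.Lib.H23.AG.isPreprimitive_of_prime_cycle _ htr y hyG hy hq hyq (by omega)
  apply le_antisymm
  · rw [closure_le]
    intro z hz
    rcases hz with rfl | rfl
    · exact Equiv.Perm.mem_alternatingGroup.2 hsx
    · exact Equiv.Perm.mem_alternatingGroup.2 hsy
  · have hp2 := hp.two_le
    rcases hgap with ⟨hxc, hpd⟩ | hqd
    · exact Cfsg.Agent.S0713.result _ hprim hp (by rw [Fintype.card_fin]; omega)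
        (by rw [Fintype.card_fin]; exact hpd) hxc (by rw [← hxc.orderOf, hx]) hxG
    · exact Cfsg.Agent.S0713.result _ hprim hq (by rw [Fintype.card_fin]; omega)
        (by rw [Fintype.card_fin]; exact hqd) hy hyq hyG

end Cfsg.Agent.Lib.H9.AG
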