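import Mathlib

/-!
# S4150 piece PAIR (core): the main assembly for one pair of primes, with the pieces T0, TR, JG as hypotheses.
-/

set_option autoImplicit false
set_option linter.dupNamespace false

namespace Cfsg.Agent.Lib.H9.AG

open Equiv Equiv.Perm Subgroup

/-- an odd prime is odd, in the form used for signs -/
theorem neg_one_pow_eq_one_of_even {n : ℕ} (h : Even n) : ((-1 : ℤˣ)) ^ n = 1 := h.neg_one_pow

theorem odd_of_prime_ge_three {p : ℕ} (hp : p.Prime) (h3 : 3 ≤ p) : Odd p :=
  hp.odd_of_ne_two (by omega)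

/-- PAIR with the pieces T0, TR, JG as hypotheses. -/
theorem pair_ok_of
    (hT0 : ∀ (m : ℕ) (x y : alternatingGroup (Fin m)),
      Nonempty (closure ({x, y} : Set (alternatingGroup (Fin m))) ≃*
        closure ({(x : Perm (Fin m)), (y : Perm (Fin m))} : Set (Perm (Fin m)))))
    (hTR : ∀ {m d : ℕ} (x y : Perm (Fin m)), (x.support ∪ y.support).card = d →
      ∃ x' y' : Perm (Fin d), x'.cycleType = x.cycleType ∧ y'.cycleType = y.cycleType ∧
        x'.support ∪ y'.support = Finset.univ ∧
        Nonempty (closure ({x, y} : Set (Perm (Fin m))) ≃*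
          closure ({x', y'} : Set (Perm (Fin d)))))
    (hJG : ∀ {d p q : ℕ} (x y : Perm (Fin d)), p.Prime → q.Prime → p < q → orderOf x = p →
      y.IsCycle → y.support.card = q → x.support ∪ y.support = Finset.univ → d < p + q →
      Perm.sign x = 1 → Perm.sign y = 1 → ((x.IsCycle ∧ p + 3 ≤ d) ∨ q + 3 ≤ d) →
      closure ({x, y} : Set (Perm (Fin d))) = alternatingGroup (Fin d))
    (m p q : ℕ) (hp : p.Prime) (hq : q.Prime) (h3 : 3 ≤ p) (hpq : p < q)
    (hmp : m ≤ 2 * p) (hqm : q ≤ m)
    (hcore : q = p + 2 → ∀ x' y' : Perm (Fin q), x'.cycleType = {p} → y'.cycleType = {q} →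
      closure ({x', y'} : Set (Perm (Fin q))) = alternatingGroup (Fin q))
    (hdouble : m = 2 * p → 2 * p < q + 3 → ∀ x' y' : Perm (Fin m), x'.cycleType = {p, p} →
      y'.cycleType = {q} → ∃ d : ℕ, 5 ≤ d ∧
        Nonempty (closure ({x', y'} : Set (Perm (Fin m))) ≃* alternatingGroup (Fin d))) :
    ∀ x y : alternatingGroup (Fin m), orderOf x = p → orderOf y = q →
      ∃ d : ℕ, 5 ≤ d ∧ Nonempty (closure ({x, y} : Set (alternatingGroup (Fin m))) ≃*
        alternatingGroup (Fin d)) := by
  intro x y hx hy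
  have hpodd : Odd p := odd_of_prime_ge_three hp h3
  have hqodd : Odd q := odd_of_prime_ge_three hq (by omega)
  have hq5 : 5 ≤ q := by
    rcases hpodd with ⟨a, ha⟩
    rcases hqodd with ⟨b, hb⟩
    omega
  have hqp2 : p + 2 ≤ q := by
    rcases hpodd with ⟨a, ha⟩
    rcases hqodd with ⟨b, hb⟩
    omega
  obtain ⟨e0⟩ := hT0 m x y
  set x0 : Perm (Fin m) := (x : Perm (Fin m)) with hx0
  set y0 : Perm (Fin m) := (y : Perm (Fin m)) with hy0
  have hox : orderOf x0 = p := by rw [hx0, Subgroup.orderOf_coe, hx]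
  have hoy : orderOf y0 = q := by rw [hy0, Subgroup.orderOf_coe, hy]
  -- y0 is a q-cycle
  have hycyc : y0.IsCycle := by
    apply isCycle_of_prime_order'
    · rw [hoy]; exact hq
    · rw [hoy, Fintype.card_fin]; omega
  have hysupp : y0.support.card = q := by rw [← hycyc.orderOf, hoy]
  have hyct : y0.cycleType = {q} := by rw [hycyc.cycleType, hysupp]
  -- the cycle type of x0
  obtain ⟨n, hn⟩ := cycleType_prime_order (σ := x0) (by rw [hox]; exact hp)
  rw [hox] at hn
  have hxsupp : x0.support.card = (n + 1) * p := by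
    rw [← sum_cycleType, hn, Multiset.sum_replicate, smul_eq_mul]
  have hxle : x0.support.card ≤ m := by
    have := Finset.card_le_univ x0.support
    rwa [Fintype.card_fin] at this
  have hn1 : n = 0 ∨ n = 1 := by
    have h1 : (n + 1) * p ≤ 2 * p := by omega
    have h2 : n + 1 ≤ 2 := Nat.le_of_mul_le_mul_right h1 hp.pos
    omega
  -- the union of the supports
  obtain ⟨d, hd⟩ : ∃ d, (x0.support ∪ y0.support).card = d := ⟨_, rfl⟩
  have hqd : q ≤ d := by
    rw [← hd, ← hysupp]
    exact Finset.card_le_card Finset.subset_union_right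
  have hdm : d ≤ m := by
    rw [← hd]
    have := Finset.card_le_univ (x0.support ∪ y0.support)
    rwa [Fintype.card_fin] at this
  obtain ⟨x', y', hx'ct, hy'ct, hfull, ⟨e1⟩⟩ := hTR x0 y0 hd
  rw [hyct] at hy'ct
  have hy'cyc : y'.IsCycle := by
    rw [← card_cycleType_eq_one, hy'ct]; rfl
  have hy'supp : y'.support.card = q := by
    rw [← sum_cycleType, hy'ct]; rfl
  have hy'sign : Perm.sign y' = 1 := by
    rw [sign_of_cycleType, hy'ct]
    apply neg_one_pow_eq_one_of_even
    simp only [Multiset.sum_singleton, Multiset.card_singleton]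
    exact hqodd.add_one
  have hdpq : d < p + q := by omega
  rcases hn1 with rfl | rfl
  · -- x0 is a p-cycle
    have hxct : x0.cycleType = {p} := by rw [hn]; rfl
    rw [hxct] at hx'ct
    have hx'cyc : x'.IsCycle := by
      rw [← card_cycleType_eq_one, hx'ct]; rfl
    have hx'ord : orderOf x' = p := by
      rw [← lcm_cycleType, hx'ct]; simp
    have hx'sign : Perm.sign x' = 1 := by
      rw [sign_of_cycleType, hx'ct]
      apply neg_one_pow_eq_one_of_even
      simp only [Multiset.sum_singleton, Multiset.card_singleton]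
      exact hpodd.add_one
    by_cases hgap : p + 3 ≤ d
    · have hcl := hJG x' y' hp hq hpq hx'ord hy'cyc hy'supp hfull hdpq hx'sign hy'sign
        (Or.inl ⟨hx'cyc, hgap⟩)
      exact ⟨d, by omega, ⟨(e0.trans e1).trans (MulEquiv.subgroupCongr hcl)⟩⟩
    · have hdq : d = q := by omega
      have hqp : q = p + 2 := by omega
      subst hdq
      have hcl := hcore hqp x' y' hx'ct hy'ct
      exact ⟨d, hq5, ⟨(e0.trans e1).trans (MulEquiv.subgroupCongr hcl)⟩⟩
  · -- x0 has type {p, p}
    have hxct : x0.cycleType = {p, p} := by rw [hn]; rfl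
    have hm2p : m = 2 * p := by omega
    by_cases hgap : q + 3 ≤ d
    · rw [hxct] at hx'ct
      have hx'ord : orderOf x' = p := by
        rw [← lcm_cycleType, hx'ct]; simp
      have hx'sign : Perm.sign x' = 1 := by
        rw [sign_of_cycleType, hx'ct]
        apply neg_one_pow_eq_one_of_even
        simp only [Multiset.insert_eq_cons, Multiset.sum_cons, Multiset.sum_singleton,
          Multiset.card_cons, Multiset.card_singleton]
        exact ⟨p + 1, by ring⟩
      have hcl := hJG x' y' hp hq hpq hx'ord hy'cyc hy'supp hfull hdpq hx'sign hy'sign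
        (Or.inr hgap)
      exact ⟨d, by omega, ⟨(e0.trans e1).trans (MulEquiv.subgroupCongr hcl)⟩⟩
    · -- d = m = 2p
      have hxuniv : (x0.support ∪ y0.support).card = m := by
        apply le_antisymm
        · rw [hd]; exact hdm
        · calc m = x0.support.card := by rw [hxsupp]; omega
            _ ≤ (x0.support ∪ y0.support).card := Finset.card_le_card Finset.subset_union_left
      have hdm' : d = m := by rw [← hd, hxuniv]
      obtain ⟨d', hd'5, ⟨e2⟩⟩ := hdouble hm2p (by omega) x0 y0 hxct hyct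
      exact ⟨d', hd'5, ⟨e0.trans e2⟩⟩

end Cfsg.Agent.Lib.H9.AG
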