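import Mathlib

/-!
# S4150 piece TR: transport of a pair of permutations to the union of their supports.
-/

set_option autoImplicit false
set_option linter.dupNamespace false

namespace Cfsg.Agent.Lib.H9.AG

open Equiv Equiv.Perm Subgroup

/-- a permutation preserves every set containing its support -/
theorem apply_mem_iff_of_support_subset {α : Type*} [DecidableEq α] [Fintype α] (x : Perm α)
    (s : Finset α) (hs : x.support ⊆ s) (a : α) : x a ∈ s ↔ a ∈ s := by
  by_cases ha : a ∈ x.support
  · have h1 : x a ∈ x.support := apply_mem_support.2 ha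
    exact ⟨fun _ => hs ha, fun _ => hs h1⟩
  · rw [notMem_support.1 ha]

/-- the restriction of `x` to `s ⊇ supp x`, transported to `Fin d` along `f : Fin d ≃ s` -/
noncomputable def restrTo {α : Type*} [DecidableEq α] [Fintype α] {d : ℕ} (s : Finset α)
    (f : Fin d ≃ {a // a ∈ s}) (x : Perm α) (hs : x.support ⊆ s) : Perm (Fin d) :=
  f.symm.permCongr (x.subtypePerm (apply_mem_iff_of_support_subset x s hs))

theorem restrTo_apply {α : Type*} [DecidableEq α] [Fintype α] {d : ℕ} (s : Finset α)
    (f : Fin d ≃ {a // a ∈ s}) (x : Perm α) (hs : x.support ⊆ s) (i : Fin d) :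
    ((f (restrTo s f x hs i) : {a // a ∈ s}) : α) = x (f i) := by
  unfold restrTo
  simp [Equiv.permCongr_apply]

theorem extendDomain_restrTo {α : Type*} [DecidableEq α] [Fintype α] {d : ℕ} (s : Finset α)
    (f : Fin d ≃ {a // a ∈ s}) (x : Perm α) (hs : x.support ⊆ s) :
    (restrTo s f x hs).extendDomain f = x := by
  ext a
  by_cases ha : a ∈ s
  · rw [extendDomain_apply_subtype _ f ha, restrTo_apply]
    simp
  · rw [extendDomain_apply_not_subtype _ f ha]
    have : a ∉ x.support := fun h => ha (hs h)
    rw [notMem_support.1 this]

/-- TR for any `s` between the supports and their union -/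
theorem exists_full_support_aux {m d : ℕ} (x y : Perm (Fin m)) (s : Finset (Fin m))
    (hxs : x.support ⊆ s) (hys : y.support ⊆ s) (hsub : s ⊆ x.support ∪ y.support)
    (hd : s.card = d) :
    ∃ x' y' : Perm (Fin d), x'.cycleType = x.cycleType ∧ y'.cycleType = y.cycleType ∧
      x'.support ∪ y'.support = Finset.univ ∧
      Nonempty (closure ({x, y} : Set (Perm (Fin m))) ≃*
        closure ({x', y'} : Set (Perm (Fin d)))) := by
  classical
  let f : Fin d ≃ {a // a ∈ s} := (Finset.equivFinOfCardEq hd).symm
  refine ⟨restrTo s f x hxs, restrTo s f y hys, ?_, ?_, ?_, ?_⟩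
  · rw [← cycleType_extendDomain f, extendDomain_restrTo]
  · rw [← cycleType_extendDomain f, extendDomain_restrTo]
  · ext i
    simp only [Finset.mem_union, mem_support, Finset.mem_univ, iff_true]
    have hi0 : ((f i : {a // a ∈ s}) : Fin m) ∈ x.support ∪ y.support := hsub (f i).2
    have hi : x (f i) ≠ (f i : Fin m) ∨ y (f i) ≠ (f i : Fin m) := by
      have := Finset.mem_union.1 hi0
      rwa [mem_support, mem_support] at this
    rcases hi with hi | hi
    · left
      intro h
      apply hi
      rw [← restrTo_apply s f x hxs i, h]
    · right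
      intro h
      apply hi
      rw [← restrTo_apply s f y hys i, h]
  · have hmap : (closure ({restrTo s f x hxs, restrTo s f y hys} : Set (Perm (Fin d)))).map
        (extendDomainHom f) = closure ({x, y} : Set (Perm (Fin m))) := by
      rw [MonoidHom.map_closure]
      congr 1
      rw [Set.image_pair, extendDomainHom_apply, extendDomainHom_apply, extendDomain_restrTo,
        extendDomain_restrTo]
    exact ⟨((equivMapOfInjective _ (extendDomainHom f) (extendDomainHom_injective f)).trans
      (MulEquiv.subgroupCongr hmap)).symm⟩

/-- (TR) transport of a pair of permutations to the union of their supports. -/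
theorem exists_full_support {m d : ℕ} (x y : Perm (Fin m))
    (hd : (x.support ∪ y.support).card = d) :
    ∃ x' y' : Perm (Fin d), x'.cycleType = x.cycleType ∧ y'.cycleType = y.cycleType ∧
      x'.support ∪ y'.support = Finset.univ ∧
      Nonempty (closure ({x, y} : Set (Perm (Fin m))) ≃*
        closure ({x', y'} : Set (Perm (Fin d)))) :=
  exists_full_support_aux x y _ Finset.subset_union_left Finset.subset_union_right
    (Finset.Subset.refl _) hd

end Cfsg.Agent.Lib.H9.AG
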