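import Mathlib
import Cfsg.Agent.Lib.H9.NTCONJ

/-!
S4551 piece (CONJA'): conjugating a principal extension, with the invariance of `θ` as an EXPLICIT
hypothesis (no `Hyp` / `HypA` structure needed).  Same proof as `H9.NT.goodA_conj`.
-/

set_option autoImplicit false
open Cfsg.Agent.Lib.H21.AD Cfsg.Agent.Lib.H28.NT

namespace Cfsg.Agent.Lib.H9.AP

variable {G : Type*} [Group G] {p : ℕ} {N : Subgroup G} {θ : G → ℂ}

/-- (CONJA'), explicit-hypothesis form: conjugating a principal extension. -/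
theorem goodA_conj_gen [N.Normal] (hinv : ∀ g : G, ∀ n ∈ N, θ (g * n * g⁻¹) = θ n)
    (J : Subgroup G) (f : G → ℂ) (hf : GoodA p N θ J f) (t : G) :
    GoodA p N θ (J.map (MulAut.conj t).toMonoidHom) (fun x => f (t⁻¹ * x * t)) := by
  obtain ⟨hext, hsum⟩ := hf
  refine ⟨Cfsg.Agent.Lib.H9.NT.isExt_conj hinv J f hext t, ?_⟩
  rw [Cfsg.Agent.Lib.H9.AD.sSum_conj]
  have : (fun g => f (t⁻¹ * (t * g * t⁻¹) * t)) = f := by
    funext g
    congr 1
    group
  rw [this]
  exact hsum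

/-- (CONJA') in the exact shape of the `hconj` hypothesis of `H14.AP.exists_goodA_gen`. -/
theorem hconj_gen [N.Normal] (hinv : ∀ g : G, ∀ n ∈ N, θ (g * n * g⁻¹) = θ n) :
    ∀ J : Subgroup G, N ≤ J → ∀ f : G → ℂ, GoodA p N θ J f → ∀ t : G,
      GoodA p N θ (J.map (MulAut.conj t).toMonoidHom) (fun x => f (t⁻¹ * x * t)) :=
  fun J _ f hf t => goodA_conj_gen hinv J f hf t

end Cfsg.Agent.Lib.H9.AP
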