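import Mathlib
import Cfsg.Prelude.Def_Blocks
import Cfsg.Prelude.Def_CharExt
import Cfsg.Agent.Lib.H21.AD.Defs
import Cfsg.Agent.Lib.H28.NT.Defs
import Cfsg.Agent.Lib.H21.AP.Defs
import Cfsg.Agent.Lib.H9.NTCONJ
import Cfsg.Agent.Lib.H10.NTKEYF

/-!
S4551 pieces 6 (GCRES) `goodC_restrict` and 7 (GCCONJ) `goodC_conj`: exact signatures of
`tools/blueprints/S4551_sigs.lean` (architect helper21).
-/

set_option autoImplicit false
open Cfsg.Agent.Lib.H21.AD Cfsg.Agent.Lib.H28.NT Cfsg.Agent.Lib.H21.AP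

namespace Cfsg.Agent.Lib.H9.AP

variable {G : Type*} [Group G] [Finite G] {p : ℕ} {M : Ideal Cfsg.AlgInt} {N Q : Subgroup G} {θ : G → ℂ}

set_option linter.unusedVariables false in
/-- (GCRES) restriction (`isExt_mono`; the second clause restricts trivially) -/
theorem goodC_restrict [N.Normal] (h : HypA p M N Q θ) (K H : Subgroup G) (hNK : N ≤ K) (hKH : K ≤ H)
    (f : G → ℂ) (hf : GoodC p N θ H f) : GoodC p N θ K f :=
  ⟨Cfsg.Agent.Lib.H10.NT.isExt_mono h.hirr K H hNK hKH f hf.1, fun c hc => hf.2 c (hKH hc)⟩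

set_option linter.unusedVariables false in
set_option linter.unusedSectionVars false in
/-- (GCCONJ) conjugation: `H9.NT.isExt_conj h.hinv`, `H9.NT.map_conj_sup_zpowers`, `H9.AD.sSum_conj`
(= (CONJE) of S4892 without the determinant clause and without `p ∤ orderOf c`) -/
theorem goodC_conj [N.Normal] (h : HypA p M N Q θ) (H : Subgroup G) (hNH : N ≤ H) (f : G → ℂ)
    (hf : GoodC p N θ H f) (t : G) :
    GoodC p N θ (H.map (MulAut.conj t).toMonoidHom) (fun x => f (t⁻¹ * x * t)) := by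
  obtain ⟨hext, hsum⟩ := hf
  refine ⟨Cfsg.Agent.Lib.H9.NT.isExt_conj h.hinv H f hext t, ?_⟩
  rintro c ⟨c₀, hc₀, rfl⟩
  have h1 : (MulAut.conj t).toMonoidHom c₀ = t * c₀ * t⁻¹ := by simp [MulAut.conj_apply]
  rw [h1, ← Cfsg.Agent.Lib.H9.NT.map_conj_sup_zpowers, Cfsg.Agent.Lib.H9.AD.sSum_conj]
  have : (fun g => f (t⁻¹ * (t * g * t⁻¹) * t)) = f := by
    funext g
    congr 1
    group
  rw [this]
  exact hsum c₀ hc₀

end Cfsg.Agent.Lib.H9.AP
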