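import Mathlib

set_option autoImplicit false

namespace Cfsg.Agent.Lib.H9.AltSyl

open RegularWreathProduct

/-- The group of order two used as the top group of the wreath products. -/
abbrev C2 := ℤˣ

theorem c2_cases (c : C2) : c = 1 ∨ c = -1 := Int.units_eq_one_or c

theorem c2_neg_ne : (-1 : C2) ≠ 1 := by decide

theorem c2_inv (c : C2) : c⁻¹ = c := by
  rcases c2_cases c with rfl | rfl <;> decide

theorem c2_mul_self (c : C2) : c * c = 1 := by
  rcases c2_cases c with rfl | rfl <;> decide

theorem c2_ne_one_iff (c : C2) : c ≠ 1 ↔ c = -1 := by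
  rcases c2_cases c with rfl | rfl <;> decide

section wreath

variable {X : Type*} [Group X]

/-- base element `(x, y)` -/
def bas (x y : X) : X ≀ᵣ C2 := ⟨fun c => if c = 1 then x else y, 1⟩

/-- the top involution -/
def top : X ≀ᵣ C2 := ⟨1, -1⟩

@[simp] theorem bas_left_one (x y : X) : (bas x y).left 1 = x := by simp [bas]
@[simp] theorem bas_left_neg (x y : X) : (bas x y).left (-1) = y := by
  simp only [bas]
  rw [if_neg c2_neg_ne]
@[simp] theorem bas_right (x y : X) : (bas x y).right = 1 := rfl
@[simp] theorem top_left (c : C2) : (top : X ≀ᵣ C2).left c = 1 := rfl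
@[simp] theorem top_right : (top : X ≀ᵣ C2).right = -1 := rfl

theorem mul_left_apply (a b : X ≀ᵣ C2) (c : C2) :
    (a * b).left c = a.left c * b.left (a.right * c) := by
  rw [RegularWreathProduct.mul_left, Pi.mul_apply, c2_inv]

theorem wr_ext {a b : X ≀ᵣ C2} (h1 : a.left 1 = b.left 1) (h2 : a.left (-1) = b.left (-1))
    (h3 : a.right = b.right) : a = b := by
  apply RegularWreathProduct.ext
  · funext c
    rcases c2_cases c with rfl | rfl
    · exact h1
    · exact h2
  · exact h3

/-- Test elements suffice to detect centrality. -/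
theorem central_of_commute_tests (K : Subgroup X) (hK : K ≠ ⊥) (z : X ≀ᵣ C2)
    (h1 : ∀ u ∈ K, bas u 1 * z = z * bas u 1)
    (h2 : ∀ u : X, bas u u * z = z * bas u u)
    (h3 : top * z = z * top) :
    z.right = 1 ∧ z.left 1 = z.left (-1) ∧ z.left 1 ∈ Subgroup.center X := by
  have hr : z.right = 1 := by
    by_contra hne
    have hz : z.right = -1 := (c2_ne_one_iff _).mp hne
    obtain ⟨u, huK, hu1⟩ : ∃ u : X, u ∈ K ∧ u ≠ 1 := by
      obtain ⟨u, hu⟩ := (Subgroup.ne_bot_iff_exists_ne_one).mp hK
      exact ⟨(u : X), u.2, fun h => hu (Subtype.ext h)⟩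
    have := congrArg (fun w => w.left 1) (h1 u huK)
    simp only [mul_left_apply, bas_left_one, bas_right, one_mul, hz] at this
    have h' : (bas u (1 : X)).left (-1 * 1) = 1 := by
      rw [mul_one]; exact bas_left_neg u 1
    rw [h', mul_one] at this
    exact hu1 (by simpa using this)
  have hc : ∀ c : C2, ∀ u : X, u * z.left c = z.left c * u := by
    intro c u
    have := congrArg (fun w => w.left c) (h2 u)
    simp only [mul_left_apply, bas_right, one_mul, hr] at this
    have e : ∀ d : C2, (bas u u).left d = u := by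
      intro d
      rcases c2_cases d with rfl | rfl
      · exact bas_left_one u u
      · exact bas_left_neg u u
    rw [e] at this
    exact this
  refine ⟨hr, ?_, ?_⟩
  · have := congrArg (fun w => w.left 1) h3
    simp only [mul_left_apply, top_left, top_right, one_mul, mul_one, hr] at this
    exact this.symm
  · rw [Subgroup.mem_center_iff]
    intro u
    exact hc 1 u

theorem mem_center_of_cond (z : X ≀ᵣ C2) (hr : z.right = 1) (he : z.left 1 = z.left (-1))
    (hz : z.left 1 ∈ Subgroup.center X) : z ∈ Subgroup.center (X ≀ᵣ C2) := by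
  rw [Subgroup.mem_center_iff]
  intro g
  have hc : ∀ c : C2, z.left c = z.left 1 := by
    intro c
    rcases c2_cases c with rfl | rfl
    · rfl
    · exact he.symm
  rw [Subgroup.mem_center_iff] at hz
  apply wr_ext
  · rw [mul_left_apply, mul_left_apply, hr, one_mul, hc, hz]
  · rw [mul_left_apply, mul_left_apply, hr, one_mul, hc, hc (-1), hz]
  · rw [RegularWreathProduct.mul_right, RegularWreathProduct.mul_right, hr, mul_one, one_mul]

theorem mem_center_wreath_iff [Nontrivial X] (z : X ≀ᵣ C2) :
    z ∈ Subgroup.center (X ≀ᵣ C2) ↔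
      z.right = 1 ∧ z.left 1 = z.left (-1) ∧ z.left 1 ∈ Subgroup.center X := by
  constructor
  · intro hz
    rw [Subgroup.mem_center_iff] at hz
    apply central_of_commute_tests ⊤ (by
      intro h
      exact (Subgroup.nontrivial_iff_ne_bot (⊤ : Subgroup X)).mp inferInstance h) z
    · intro u _; exact hz _
    · intro u; exact hz _
    · exact hz _
  · rintro ⟨h1, h2, h3⟩
    exact mem_center_of_cond z h1 h2 h3

end wreath

end Cfsg.Agent.Lib.H9.AltSyl
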