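import Mathlib
import Cfsg.Agent.Lib.H9.AltSylA

set_option autoImplicit false

namespace Cfsg.Agent.Lib.H9.AltSyl

open RegularWreathProduct

section general

variable {G : Type*} [Group G]

theorem exists_mul_of_comm_sup (A B : Subgroup G) (hcomm : ∀ a ∈ A, ∀ b ∈ B, a * b = b * a)
    (g : G) (hg : g ∈ A ⊔ B) : ∃ a ∈ A, ∃ b ∈ B, g = a * b := by
  rw [← Subgroup.closure_eq A, ← Subgroup.closure_eq B, ← Subgroup.closure_union] at hg
  induction hg using Subgroup.closure_induction with
  | mem x hx =>
    rcases hx with hx | hx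
    · exact ⟨x, hx, 1, B.one_mem, (mul_one x).symm⟩
    · exact ⟨1, A.one_mem, x, hx, (one_mul x).symm⟩
  | one => exact ⟨1, A.one_mem, 1, B.one_mem, (mul_one 1).symm⟩
  | mul x y _ _ hx hy =>
    obtain ⟨a, ha, b, hb, rfl⟩ := hx
    obtain ⟨a', ha', b', hb', rfl⟩ := hy
    refine ⟨a * a', A.mul_mem ha ha', b * b', B.mul_mem hb hb', ?_⟩
    calc a * b * (a' * b') = a * (b * a') * b' := by group
      _ = a * (a' * b) * b' := by rw [hcomm a' ha' b hb]
      _ = a * a' * (b * b') := by group
  | inv x _ hx =>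
    obtain ⟨a, ha, b, hb, rfl⟩ := hx
    refine ⟨a⁻¹, A.inv_mem ha, b⁻¹, B.inv_mem hb, ?_⟩
    rw [mul_inv_rev]
    have := hcomm a⁻¹ (A.inv_mem ha) b⁻¹ (B.inv_mem hb)
    exact this.symm

theorem le_center_of_comm (A B : Subgroup G) (hcomm : ∀ a ∈ A, ∀ b ∈ B, a * b = b * a)
    (hsup : A ⊔ B = ⊤) (hB : ∀ b ∈ B, ∀ b' ∈ B, b * b' = b' * b) : B ≤ Subgroup.center G := by
  intro b hb
  rw [Subgroup.mem_center_iff]
  intro g
  obtain ⟨a, ha, b', hb', rfl⟩ := exists_mul_of_comm_sup A B hcomm g (by rw [hsup]; trivial)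
  calc a * b' * b = a * (b' * b) := by group
    _ = a * (b * b') := by rw [hB b' hb' b hb]
    _ = (a * b) * b' := by group
    _ = (b * a) * b' := by rw [hcomm a ha b hb]
    _ = b * (a * b') := by group

theorem conj_mem_of_comm (A B : Subgroup G) (hcomm : ∀ a ∈ A, ∀ b ∈ B, a * b = b * a)
    (hsup : A ⊔ B = ⊤) (g : G) (b : G) (hb : b ∈ B) : g * b * g⁻¹ ∈ B := by
  obtain ⟨a, ha, b', hb', rfl⟩ := exists_mul_of_comm_sup A B hcomm g (by rw [hsup]; trivial)
  have h1 : b' * b * b'⁻¹ ∈ B := B.mul_mem (B.mul_mem hb' hb) (B.inv_mem hb')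
  have h2 := hcomm a ha _ h1
  have : a * b' * b * (a * b')⁻¹ = a * (b' * b * b'⁻¹) * a⁻¹ := by group
  rw [this, h2]
  simpa using h1

end general

section wreath

variable {X : Type*} [Group X]

theorem bas_mul (x y x' y' : X) : bas x y * bas x' y' = bas (x * x') (y * y') := by
  apply wr_ext
  · rw [mul_left_apply]; simp
  · rw [mul_left_apply]; simp
  · rw [RegularWreathProduct.mul_right]; simp

theorem bas_one_one : bas (1 : X) 1 = 1 := by
  apply wr_ext <;> simp

theorem bas_inv (x y : X) : (bas x y)⁻¹ = bas x⁻¹ y⁻¹ := by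
  apply inv_eq_of_mul_eq_one_right
  rw [bas_mul, mul_inv_cancel, mul_inv_cancel, bas_one_one]

theorem card_center_wreath [Nontrivial X] :
    Nat.card (Subgroup.center (X ≀ᵣ C2)) = Nat.card (Subgroup.center X) := by
  apply Nat.card_congr
  refine ⟨fun z => ⟨z.1.left 1, ((mem_center_wreath_iff z.1).mp z.2).2.2⟩,
    fun w => ⟨bas w.1 w.1, mem_center_of_cond _ (bas_right _ _) (by simp) (by simp)⟩,
    ?_, ?_⟩
  · intro z
    obtain ⟨h1, h2, _⟩ := (mem_center_wreath_iff z.1).mp z.2
    apply Subtype.ext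
    apply wr_ext
    · simp
    · simp [h2]
    · simp [h1]
  · intro w
    apply Subtype.ext
    simp

theorem wreath_comm_key [Nontrivial X] (A B : Subgroup (X ≀ᵣ C2))
    (hcomm : ∀ a ∈ A, ∀ b ∈ B, a * b = b * a) (hsup : A ⊔ B = ⊤)
    (a : X ≀ᵣ C2) (haA : a ∈ A) (har : a.right = -1) : B ≤ Subgroup.center (X ≀ᵣ C2) := by
  have E1 : ∀ b ∈ B, b.right = 1 → ∀ x : C2, a.left x * b.left (-1 * x) = b.left x * a.left x := by
    intro b hb hbr x
    have := congrArg (fun w => w.left x) (hcomm a haA b hb)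
    simp only [mul_left_apply, har, hbr, one_mul] at this
    exact this
  have hc : ∀ b ∈ B, b.right = 1 → b ∈ Subgroup.center (X ≀ᵣ C2) := by
    intro b hb hbr
    have hcen : b.left 1 ∈ Subgroup.center X := by
      rw [Subgroup.mem_center_iff]
      intro u
      have hmem : bas u 1 * b * (bas u 1)⁻¹ ∈ B := conj_mem_of_comm A B hcomm hsup _ b hb
      rw [bas_inv] at hmem
      have hr' : (bas u 1 * b * bas u⁻¹ 1⁻¹).right = 1 := by
        simp [RegularWreathProduct.mul_right, hbr]
      have hl1 : (bas u 1 * b * bas u⁻¹ 1⁻¹).left 1 = u * b.left 1 * u⁻¹ := by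
        rw [mul_left_apply, mul_left_apply]
        simp [RegularWreathProduct.mul_right, hbr]
      have hl2 : (bas u 1 * b * bas u⁻¹ 1⁻¹).left (-1) = b.left (-1) := by
        rw [mul_left_apply, mul_left_apply]
        simp [RegularWreathProduct.mul_right, hbr]
      have e1 := E1 _ hmem hr' (-1)
      have e2 := E1 b hb hbr (-1)
      have hneg : (-1 : C2) * -1 = 1 := by decide
      rw [hneg, hl1, hl2] at e1
      rw [hneg] at e2
      rw [← e2] at e1
      have := mul_left_cancel e1
      calc u * b.left 1 = (u * b.left 1 * u⁻¹) * u := by group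
        _ = b.left 1 * u := by rw [this]
    have heq : b.left 1 = b.left (-1) := by
      have e2 := E1 b hb hbr 1
      rw [mul_one] at e2
      rw [Subgroup.mem_center_iff] at hcen
      rw [← hcen] at e2
      exact (mul_left_cancel e2).symm
    exact mem_center_of_cond b hbr heq hcen
  apply le_center_of_comm A B hcomm hsup
  intro b hb b' hb'
  rcases c2_cases b.right with h | h
  · have := hc b hb h
    rw [Subgroup.mem_center_iff] at this
    exact (this b').symm
  · rcases c2_cases b'.right with h' | h'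
    · have := hc b' hb' h'
      rw [Subgroup.mem_center_iff] at this
      exact this b
    · have hz : b⁻¹ * b' ∈ Subgroup.center (X ≀ᵣ C2) := by
        apply hc _ (B.mul_mem (B.inv_mem hb) hb')
        rw [RegularWreathProduct.mul_right, RegularWreathProduct.inv_right, h, h']
        decide
      rw [Subgroup.mem_center_iff] at hz
      have e : b' = b * (b⁻¹ * b') := by group
      calc b * b' = b * (b * (b⁻¹ * b')) := by rw [← e]
        _ = b * ((b⁻¹ * b') * b) := by rw [hz b]
        _ = (b * (b⁻¹ * b')) * b := by group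
        _ = b' * b := by rw [← e]

/-- Lemma X: a commuting factorization of `X ≀ C2` has a central factor. -/
theorem wreath_comm_prod [Nontrivial X] (A B : Subgroup (X ≀ᵣ C2))
    (hcomm : ∀ a ∈ A, ∀ b ∈ B, a * b = b * a) (hsup : A ⊔ B = ⊤) :
    A ≤ Subgroup.center (X ≀ᵣ C2) ∨ B ≤ Subgroup.center (X ≀ᵣ C2) := by
  by_cases hA : ∃ a ∈ A, a.right = -1
  · obtain ⟨a, ha, har⟩ := hA
    exact Or.inr (wreath_comm_key A B hcomm hsup a ha har)
  · by_cases hB : ∃ b ∈ B, b.right = -1
    · obtain ⟨b, hb, hbr⟩ := hB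
      refine Or.inl (wreath_comm_key B A (fun b hb a ha => (hcomm a ha b hb).symm)
        (by rw [sup_comm]; exact hsup) b hb hbr)
    · exfalso
      push Not at hA hB
      have hle : A ⊔ B ≤ (RegularWreathProduct.rightHom : X ≀ᵣ C2 →* C2).ker := by
        apply sup_le
        · intro a ha
          rw [MonoidHom.mem_ker]
          rcases c2_cases a.right with h | h
          · exact h
          · exact absurd h (hA a ha)
        · intro b hb
          rw [MonoidHom.mem_ker]
          rcases c2_cases b.right with h | h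
          · exact h
          · exact absurd h (hB b hb)
      rw [hsup] at hle
      have : (top : X ≀ᵣ C2) ∈ (RegularWreathProduct.rightHom : X ≀ᵣ C2 →* C2).ker :=
        hle (Subgroup.mem_top _)
      rw [MonoidHom.mem_ker] at this
      exact c2_neg_ne this

/-- The parity homomorphism on a wreath product. -/
def wsgn (σ : X →* ℤˣ) (ε : ℤˣ →* ℤˣ) : X ≀ᵣ C2 →* ℤˣ where
  toFun w := σ (w.left 1) * σ (w.left (-1)) * ε w.right
  map_one' := by simp
  map_mul' a b := by
    rw [mul_left_apply, mul_left_apply, RegularWreathProduct.mul_right]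
    rcases c2_cases a.right with h | h
    · rw [h]
      simp only [one_mul, map_mul, map_one, mul_one]
      ac_rfl
    · rw [h]
      have hneg : (-1 : C2) * -1 = 1 := by decide
      simp only [mul_one, hneg, map_mul]
      ac_rfl

end wreath

end Cfsg.Agent.Lib.H9.AltSyl
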