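import Mathlib
import Cfsg.Agent.Lib.H9.AltSylB

set_option autoImplicit false

namespace Cfsg.Agent.Lib.H9.AltSyl

open RegularWreathProduct
open scoped commutatorElement

section wreath

variable {X : Type*} [Group X]

theorem wsgn_apply (σ : X →* ℤˣ) (ε : ℤˣ →* ℤˣ) (w : X ≀ᵣ C2) :
    wsgn σ ε w = σ (w.left 1) * σ (w.left (-1)) * ε w.right := rfl

theorem center_le_ker_wsgn [Nontrivial X] (σ : X →* ℤˣ) (ε : ℤˣ →* ℤˣ) :
    Subgroup.center (X ≀ᵣ C2) ≤ (wsgn σ ε).ker := by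
  intro z hz
  obtain ⟨h1, h2, _⟩ := (mem_center_wreath_iff z).mp hz
  rw [MonoidHom.mem_ker, wsgn_apply, h1, ← h2, map_one, mul_one]
  exact Int.units_mul_self _

theorem wsgn_surjective_of_surjective (σ : X →* ℤˣ) (ε : ℤˣ →* ℤˣ)
    (hσ : Function.Surjective σ) : Function.Surjective (wsgn σ ε) := by
  intro c
  obtain ⟨x, hx⟩ := hσ c
  refine ⟨bas x 1, ?_⟩
  rw [wsgn_apply]
  simp [hx]

theorem wsgn_top (σ : X →* ℤˣ) (ε : ℤˣ →* ℤˣ) : wsgn σ ε top = ε (-1) := by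
  rw [wsgn_apply]; simp

theorem center_ker_wsgn (σ : X →* ℤˣ) (hK : σ.ker ≠ ⊥) (z : (wsgn σ 1).ker)
    (hz : z ∈ Subgroup.center ↥(wsgn σ 1).ker) :
    (z : X ≀ᵣ C2) ∈ Subgroup.center (X ≀ᵣ C2) := by
  rw [Subgroup.mem_center_iff] at hz
  have key : ∀ g : X ≀ᵣ C2, wsgn σ 1 g = 1 → g * (z : X ≀ᵣ C2) = (z : X ≀ᵣ C2) * g := by
    intro g hg
    have := hz ⟨g, hg⟩
    exact congrArg Subtype.val this
  obtain ⟨h1, h2, h3⟩ := central_of_commute_tests σ.ker hK (z : X ≀ᵣ C2)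
    (fun u hu => key _ (by
      rw [wsgn_apply]; simp [MonoidHom.mem_ker.mp hu]))
    (fun u => key _ (by
      rw [wsgn_apply]; simp [Int.units_mul_self]))
    (key _ (by rw [wsgn_top]; rfl))
  exact mem_center_of_cond _ h1 h2 h3

theorem card_center_ker_wsgn [Nontrivial X] (σ : X →* ℤˣ) (hK : σ.ker ≠ ⊥) :
    Nat.card (Subgroup.center ↥(wsgn σ 1).ker) = Nat.card (Subgroup.center (X ≀ᵣ C2)) := by
  apply Nat.card_congr
  refine ⟨fun z => ⟨z.1.1, center_ker_wsgn σ hK z.1 z.2⟩,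
    fun w => ⟨⟨w.1, center_le_ker_wsgn σ 1 w.2⟩, ?_⟩, ?_, ?_⟩
  · rw [Subgroup.mem_center_iff]
    intro g
    apply Subtype.ext
    have := w.2
    rw [Subgroup.mem_center_iff] at this
    exact this g.1
  · intro z; rfl
  · intro w; rfl

theorem top_mul_top : (top : X ≀ᵣ C2) * top = 1 := by
  apply wr_ext
  · rw [mul_left_apply]; simp
  · rw [mul_left_apply]; simp
  · rw [RegularWreathProduct.mul_right]; simp

theorem top_inv : (top : X ≀ᵣ C2)⁻¹ = top := inv_eq_of_mul_eq_one_right top_mul_top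

theorem top_conj_bas (x y : X) : (top : X ≀ᵣ C2) * bas x y * top⁻¹ = bas y x := by
  rw [top_inv]
  apply wr_ext
  · rw [mul_left_apply, mul_left_apply]; simp [RegularWreathProduct.mul_right]
  · rw [mul_left_apply, mul_left_apply]
    have hneg : (-1 : C2) * -1 = 1 := by decide
    simp [RegularWreathProduct.mul_right, hneg]
  · simp [RegularWreathProduct.mul_right]

theorem center_le_commutator_wreath [Nontrivial X]
    (h : ∀ w ∈ Subgroup.center X, w * w = 1) :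
    Subgroup.center (X ≀ᵣ C2) ≤ commutator (X ≀ᵣ C2) := by
  intro z hz
  obtain ⟨h1, h2, h3⟩ := (mem_center_wreath_iff z).mp hz
  have hw := h _ h3
  have hinv : (z.left 1)⁻¹ = z.left 1 := inv_eq_of_mul_eq_one_right hw
  have : z = ⁅bas (z.left 1) 1, (top : X ≀ᵣ C2)⁆ := by
    rw [commutatorElement_def]
    have e : bas (z.left 1) 1 * top * (bas (z.left 1) 1)⁻¹ * top⁻¹ =
        bas (z.left 1) 1 * (top * (bas (z.left 1) 1)⁻¹ * top⁻¹) := by group
    rw [e, bas_inv, top_conj_bas, bas_mul, inv_one, one_mul, mul_one, hinv]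
    apply wr_ext
    · simp
    · simp [h2]
    · simp [h1]
  rw [this, commutator_def]
  exact Subgroup.commutator_mem_commutator (Subgroup.mem_top _) (Subgroup.mem_top _)

end wreath

end Cfsg.Agent.Lib.H9.AltSyl
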