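import Mathlib
import Cfsg.Agent.Lib.H9.AltSylC

set_option autoImplicit false

namespace Cfsg.Agent.Lib.H9.AltSyl

open RegularWreathProduct
open scoped commutatorElement

section generic

variable {X : Type*} [Group X]

instance nontrivial_wreath : Nontrivial (X ≀ᵣ C2) :=
  ⟨⟨top, 1, fun h => c2_neg_ne (congrArg RegularWreathProduct.right h)⟩⟩

theorem comm_of_subsingleton [Subsingleton X] (a b : X ≀ᵣ C2) : a * b = b * a := by
  apply wr_ext
  · exact Subsingleton.elim _ _
  · exact Subsingleton.elim _ _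
  · rw [RegularWreathProduct.mul_right, RegularWreathProduct.mul_right, mul_comm]

theorem wsgn_id_of_subsingleton [Subsingleton X] (σ : X →* ℤˣ) (w : X ≀ᵣ C2) :
    wsgn σ (MonoidHom.id ℤˣ) w = w.right := by
  rw [wsgn_apply, Subsingleton.elim (w.left 1) 1, Subsingleton.elim (w.left (-1)) 1]
  simp

theorem wsgn_id_injective_of_subsingleton [Subsingleton X] (σ : X →* ℤˣ) :
    Function.Injective (wsgn σ (MonoidHom.id ℤˣ)) := by
  intro a b h
  rw [wsgn_id_of_subsingleton, wsgn_id_of_subsingleton] at h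
  apply wr_ext
  · exact Subsingleton.elim _ _
  · exact Subsingleton.elim _ _
  · exact h

theorem wsgn_id_surjective_of_subsingleton [Subsingleton X] (σ : X →* ℤˣ) :
    Function.Surjective (wsgn σ (MonoidHom.id ℤˣ)) := by
  intro c
  refine ⟨⟨1, c⟩, ?_⟩
  rw [wsgn_id_of_subsingleton]

theorem sq_of_card_two {G : Type*} [Group G] (H : Subgroup G) (h : Nat.card H = 2) (w : G)
    (hw : w ∈ H) : w * w = 1 := by
  have h1 := pow_card_eq_one' (G := H) (x := ⟨w, hw⟩)
  rw [h] at h1
  have h2 := congrArg Subtype.val h1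
  simpa [pow_two] using h2

theorem central_is_commutator [Nontrivial X] (h : ∀ w ∈ Subgroup.center X, w * w = 1)
    (z : X ≀ᵣ C2) (hz : z ∈ Subgroup.center (X ≀ᵣ C2)) : ∃ x y : X ≀ᵣ C2, z = ⁅x, y⁆ := by
  obtain ⟨h1, h2, h3⟩ := (mem_center_wreath_iff z).mp hz
  have hw := h _ h3
  have hinv : (z.left 1)⁻¹ = z.left 1 := inv_eq_of_mul_eq_one_right hw
  refine ⟨bas (z.left 1) 1, top, ?_⟩
  rw [commutatorElement_def]
  have e : bas (z.left 1) 1 * top * (bas (z.left 1) 1)⁻¹ * top⁻¹ =
      bas (z.left 1) 1 * (top * (bas (z.left 1) 1)⁻¹ * top⁻¹) := by group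
  rw [e, bas_inv, top_conj_bas, bas_mul, inv_one, one_mul, mul_one, hinv]
  apply wr_ext
  · simp
  · simp [h2]
  · simp [h1]

/-- kernel of `wsgn σ 1` when `X` is abelian of exponent two with `σ` injective: squares vanish. -/
theorem sq_ker_wsgn_of_injective (σ : X →* ℤˣ) (hσ : Function.Injective σ) (w : X ≀ᵣ C2)
    (hw : w ∈ (wsgn σ 1).ker) : w * w = 1 := by
  rw [MonoidHom.mem_ker, wsgn_apply] at hw
  simp only [MonoidHom.one_apply, mul_one] at hw
  have h1 : ∀ v : X, v * v = 1 := by
    intro v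
    apply hσ
    rw [map_mul, map_one]
    exact Int.units_mul_self _
  have heq : w.left 1 = w.left (-1) := by
    apply hσ
    have h2 := Int.units_mul_self (σ (w.left (-1)))
    exact mul_right_cancel (hw.trans h2.symm)
  apply wr_ext
  · rw [mul_left_apply]
    rcases c2_cases w.right with h | h
    · rw [h, one_mul]; exact h1 _
    · rw [h, mul_one, ← heq]; exact h1 _
  · rw [mul_left_apply]
    rcases c2_cases w.right with h | h
    · rw [h, one_mul]; exact h1 _
    · rw [h]
      have hneg : (-1 : C2) * -1 = 1 := by decide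
      rw [hneg, ← heq]; exact h1 _
  · rw [RegularWreathProduct.mul_right]
    exact c2_mul_self _

end generic

/-- iterated wreath product of groups of order two -/
abbrev W (k : ℕ) := IteratedWreathProduct C2 k

/-- parity homomorphism on `W k` -/
def sg : (k : ℕ) → (W k →* ℤˣ)
  | 0 => 1
  | k + 1 => wsgn (sg k) (if k = 0 then MonoidHom.id ℤˣ else 1)

theorem sg_succ (k : ℕ) : sg (k + 1) = wsgn (sg k) (if k = 0 then MonoidHom.id ℤˣ else 1) := rfl

theorem sg_one : sg 1 = wsgn (sg 0) (MonoidHom.id ℤˣ) := rfl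

theorem sg_succ_succ (k : ℕ) : sg (k + 2) = wsgn (sg (k + 1)) 1 := by
  rw [sg_succ, if_neg (Nat.succ_ne_zero k)]

instance subsingleton_W_zero : Subsingleton (W 0) := inferInstanceAs (Subsingleton PUnit)

instance nontrivial_W (k : ℕ) : Nontrivial (W (k + 1)) :=
  inferInstanceAs (Nontrivial (W k ≀ᵣ C2))

theorem card_W_one : Nat.card (W 1) = 2 := by
  rw [IteratedWreathProduct.card]
  simp

theorem comm_W_one (a b : W 1) : a * b = b * a :=
  comm_of_subsingleton (X := W 0) a b

theorem card_center_W : ∀ k : ℕ, Nat.card (Subgroup.center (W (k + 1))) = 2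
  | 0 => by
    have : Subgroup.center (W 1) = ⊤ := by
      rw [eq_top_iff]
      intro a _
      rw [Subgroup.mem_center_iff]
      intro g
      exact comm_W_one g a
    rw [this, Subgroup.card_top, card_W_one]
  | k + 1 => by
    have h := card_center_wreath (X := W (k + 1))
    rw [card_center_W k] at h
    exact h

theorem sg_one_injective : Function.Injective (sg 1) :=
  wsgn_id_injective_of_subsingleton (X := W 0) (sg 0)

theorem sg_surjective : ∀ k : ℕ, Function.Surjective (sg (k + 1))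
  | 0 => wsgn_id_surjective_of_subsingleton (X := W 0) (sg 0)
  | k + 1 => by
    rw [sg_succ]
    exact wsgn_surjective_of_surjective _ _ (sg_surjective k)

theorem center_le_ker_sg (k : ℕ) : Subgroup.center (W (k + 2)) ≤ (sg (k + 2)).ker := by
  rw [sg_succ]
  exact center_le_ker_wsgn (X := W (k + 1)) _ _

theorem sq_of_mem_center (k : ℕ) (w : W (k + 1)) (hw : w ∈ Subgroup.center (W (k + 1))) :
    w * w = 1 :=
  sq_of_card_two _ (card_center_W k) w hw

theorem center_is_commutator (k : ℕ) (z : W (k + 2)) (hz : z ∈ Subgroup.center (W (k + 2))) :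
    ∃ x y : W (k + 2), z = ⁅x, y⁆ :=
  central_is_commutator (X := W (k + 1)) (sq_of_mem_center k) z hz

theorem comm_prod_W (k : ℕ) (A B : Subgroup (W (k + 2)))
    (hcomm : ∀ a ∈ A, ∀ b ∈ B, a * b = b * a) (hsup : A ⊔ B = ⊤) :
    A ≤ Subgroup.center (W (k + 2)) ∨ B ≤ Subgroup.center (W (k + 2)) :=
  wreath_comm_prod (X := W (k + 1)) A B hcomm hsup

theorem ker_sg_ne_bot (k : ℕ) : (sg (k + 2)).ker ≠ ⊥ := by
  intro h
  have h1 := center_le_ker_sg k
  rw [h, le_bot_iff] at h1
  have h2 := card_center_W (k + 1)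
  rw [h1, Subgroup.card_bot] at h2
  omega

theorem card_center_ker_sg (k : ℕ) : Nat.card (Subgroup.center ↥(sg (k + 3)).ker) = 2 := by
  have h := card_center_ker_wsgn (X := W (k + 2)) (sg (k + 2)) (ker_sg_ne_bot k)
  have h2 : Nat.card (Subgroup.center (W (k + 2) ≀ᵣ C2)) = 2 := card_center_W (k + 2)
  rw [h2] at h
  have e : sg (k + 3) = wsgn (sg (k + 2)) 1 := sg_succ_succ (k + 1)
  rw [e]
  exact h

theorem card_W_two : Nat.card (W 2) = 8 := by
  rw [IteratedWreathProduct.card]
  simp [Finset.sum_range_succ]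

theorem sq_ker_sg_two (w : W 2) (hw : w ∈ (sg 2).ker) : w * w = 1 := by
  have e : sg 2 = wsgn (sg 1) 1 := sg_succ_succ 0
  rw [e] at hw
  exact sq_ker_wsgn_of_injective (X := W 1) (sg 1) sg_one_injective w hw

end Cfsg.Agent.Lib.H9.AltSyl
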