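import Mathlib
import Cfsg.Agent.Lib.H9.AltSylD

set_option autoImplicit false

namespace Cfsg.Agent.Lib.H9.AltSyl

open scoped commutatorElement

/-- `G` is the internal direct product of two nontrivial subgroups. -/
def Decomp (G : Type*) [Group G] : Prop :=
  ∃ A B : Subgroup G, A ≠ ⊥ ∧ B ≠ ⊥ ∧ (∀ a ∈ A, ∀ b ∈ B, a * b = b * a) ∧ A ⊓ B = ⊥ ∧ A ⊔ B = ⊤

theorem Decomp.congr {G H : Type*} [Group G] [Group H] (e : G ≃* H) (h : Decomp G) :
    Decomp H := by
  obtain ⟨A, B, hA, hB, hc, hi, hs⟩ := h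
  refine ⟨A.map e.toMonoidHom, B.map e.toMonoidHom, ?_, ?_, ?_, ?_, ?_⟩
  · rw [Ne, Subgroup.map_eq_bot_iff_of_injective _ e.injective]; exact hA
  · rw [Ne, Subgroup.map_eq_bot_iff_of_injective _ e.injective]; exact hB
  · rintro _ ⟨a, ha, rfl⟩ _ ⟨b, hb, rfl⟩
    show e a * e b = e b * e a
    rw [← map_mul, ← map_mul, hc a ha b hb]
  · rw [← Subgroup.map_inf_eq _ _ _ e.injective, hi, Subgroup.map_bot]
  · rw [← Subgroup.map_sup, hs]
    exact Subgroup.map_top_of_surjective _ e.surjective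

theorem decomp_congr_iff {G H : Type*} [Group G] [Group H] (e : G ≃* H) :
    Decomp G ↔ Decomp H :=
  ⟨Decomp.congr e, Decomp.congr e.symm⟩

theorem decomp_subgroup_iff {G : Type*} [Group G] (S : Subgroup G) :
    (∃ S₁ S₂ : Subgroup G, S₁ ≠ ⊥ ∧ S₂ ≠ ⊥ ∧ (S₁ ≤ S ∧ S₂ ≤ S ∧
      (∀ a ∈ S₁, ∀ b ∈ S₂, a * b = b * a) ∧ S₁ ⊓ S₂ = ⊥ ∧ S₁ ⊔ S₂ = S)) ↔ Decomp ↥S := by
  constructor
  · rintro ⟨S₁, S₂, hS1, hS2, h1, h2, hc, hi, hs⟩
    refine ⟨S₁.subgroupOf S, S₂.subgroupOf S, ?_, ?_, ?_, ?_, ?_⟩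
    · intro h
      apply hS1
      rw [Subgroup.eq_bot_iff_forall]
      intro x hx
      have : (⟨x, h1 hx⟩ : S) ∈ S₁.subgroupOf S := by rwa [Subgroup.mem_subgroupOf]
      rw [h, Subgroup.mem_bot] at this
      exact congrArg Subtype.val this
    · intro h
      apply hS2
      rw [Subgroup.eq_bot_iff_forall]
      intro x hx
      have : (⟨x, h2 hx⟩ : S) ∈ S₂.subgroupOf S := by rwa [Subgroup.mem_subgroupOf]
      rw [h, Subgroup.mem_bot] at this
      exact congrArg Subtype.val this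
    · intro a ha b hb
      rw [Subgroup.mem_subgroupOf] at ha hb
      exact Subtype.ext (hc a.1 ha b.1 hb)
    · rw [Subgroup.eq_bot_iff_forall]
      intro x hx
      obtain ⟨hx1, hx2⟩ := Subgroup.mem_inf.mp hx
      rw [Subgroup.mem_subgroupOf] at hx1 hx2
      have : (x : G) ∈ S₁ ⊓ S₂ := ⟨hx1, hx2⟩
      rw [hi, Subgroup.mem_bot] at this
      exact Subtype.ext this
    · rw [← Subgroup.subgroupOf_sup h1 h2, hs, Subgroup.subgroupOf_self]
  · rintro ⟨A, B, hA, hB, hc, hi, hs⟩
    refine ⟨A.map S.subtype, B.map S.subtype, ?_, ?_, Subgroup.map_subtype_le A,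
      Subgroup.map_subtype_le B, ?_, ?_, ?_⟩
    · rw [Ne, Subgroup.map_eq_bot_iff_of_injective _ S.subtype_injective]; exact hA
    · rw [Ne, Subgroup.map_eq_bot_iff_of_injective _ S.subtype_injective]; exact hB
    · rintro _ ⟨a, ha, rfl⟩ _ ⟨b, hb, rfl⟩
      exact congrArg Subtype.val (hc a ha b hb)
    · rw [← Subgroup.map_inf_eq _ _ _ S.subtype_injective, hi, Subgroup.map_bot]
    · rw [← Subgroup.map_sup, hs, ← MonoidHom.range_eq_map, Subgroup.range_subtype]

/-- Principle 1: a finite 2-group whose center has order two is indecomposable. -/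
theorem not_decomp_of_card_center_two {G : Type*} [Group G] [Finite G] (hG : IsPGroup 2 G)
    (hc : Nat.card (Subgroup.center G) = 2) : ¬ Decomp G := by
  rintro ⟨A, B, hA, hB, hcomm, hinf, hsup⟩
  have key : ∀ A B : Subgroup G, A ≠ ⊥ → (∀ a ∈ A, ∀ b ∈ B, a * b = b * a) → A ⊔ B = ⊤ →
      ∃ z ∈ A, z ≠ 1 ∧ z ∈ Subgroup.center G := by
    intro A B hA hcomm hsup
    have : Nontrivial ↥A := (Subgroup.nontrivial_iff_ne_bot A).mpr hA
    have : Fact (Nat.Prime 2) := ⟨Nat.prime_two⟩
    have hn := (hG.to_subgroup A).center_nontrivial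
    obtain ⟨z, hz⟩ := exists_ne (1 : Subgroup.center ↥A)
    refine ⟨((z : ↥A) : G), (z : ↥A).2, ?_, ?_⟩
    · intro h
      apply hz
      apply Subtype.ext
      apply Subtype.ext
      exact h
    · rw [Subgroup.mem_center_iff]
      intro g
      obtain ⟨a, ha, b, hb, rfl⟩ := exists_mul_of_comm_sup A B hcomm g (by rw [hsup]; trivial)
      have h1 : a * ((z : ↥A) : G) = ((z : ↥A) : G) * a := by
        have := (Subgroup.mem_center_iff.mp z.2) ⟨a, ha⟩
        exact congrArg Subtype.val this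
      have h2 := hcomm z.1.1 z.1.2 b hb
      calc a * b * ((z : ↥A) : G) = a * (b * ((z : ↥A) : G)) := by group
        _ = a * (((z : ↥A) : G) * b) := by rw [h2]
        _ = (a * ((z : ↥A) : G)) * b := by group
        _ = ((z : ↥A) : G) * a * b := by rw [h1]
        _ = ((z : ↥A) : G) * (a * b) := by group
  obtain ⟨zA, hzA, hzA1, hzAc⟩ := key A B hA hcomm hsup
  obtain ⟨zB, hzB, hzB1, hzBc⟩ := key B A hB (fun b hb a ha => (hcomm a ha b hb).symm)
    (by rw [sup_comm]; exact hsup)
  have heq : zA = zB := by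
    obtain ⟨y, _, hy⟩ := (Nat.card_eq_two_iff' (1 : Subgroup.center G)).mp hc
    have e1 := hy ⟨zA, hzAc⟩ (fun h => hzA1 (congrArg Subtype.val h))
    have e2 := hy ⟨zB, hzBc⟩ (fun h => hzB1 (congrArg Subtype.val h))
    exact congrArg Subtype.val (e1.trans e2.symm)
  have hmem : zA ∈ A ⊓ B := ⟨hzA, heq ▸ hzB⟩
  rw [hinf, Subgroup.mem_bot] at hmem
  exact hzA1 hmem

theorem mem_zpowers_of_sq {G : Type*} [Group G] (a x : G) (ha : a * a = 1)
    (hx : x ∈ Subgroup.zpowers a) : x = 1 ∨ x = a := by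
  obtain ⟨k, rfl⟩ := Subgroup.mem_zpowers_iff.mp hx
  have h2 : a ^ (2 : ℤ) = 1 := by
    rw [zpow_ofNat, pow_two]; exact ha
  rcases Int.even_or_odd' k with ⟨j, rfl | rfl⟩
  · left
    rw [zpow_mul, h2, one_zpow]
  · right
    rw [zpow_add, zpow_mul, h2, one_zpow, one_mul, zpow_one]

/-- A group of order four and exponent two is decomposable. -/
theorem decomp_of_card_four {G : Type*} [Group G] (h4 : Nat.card G = 4)
    (hsq : ∀ g : G, g * g = 1) : Decomp G := by
  have hfin : Finite G := Nat.finite_of_card_ne_zero (by omega)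
  have hcomm : ∀ a b : G, a * b = b * a := by
    intro a b
    have ha : a⁻¹ = a := inv_eq_of_mul_eq_one_right (hsq a)
    have hb : b⁻¹ = b := inv_eq_of_mul_eq_one_right (hsq b)
    have hab : (a * b)⁻¹ = a * b := inv_eq_of_mul_eq_one_right (hsq (a * b))
    rw [mul_inv_rev, ha, hb] at hab
    exact hab.symm
  obtain ⟨a, ha⟩ : ∃ a : G, a ≠ 1 := by
    by_contra h
    push Not at h
    have : Subsingleton G := ⟨fun x y => (h x).trans (h y).symm⟩
    have := Nat.card_of_subsingleton (1 : G)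
    omega
  have hoa : orderOf a = 2 := orderOf_eq_prime (by rw [pow_two]; exact hsq a) ha
  have hcA : Nat.card (Subgroup.zpowers a) = 2 := by rw [Nat.card_zpowers, hoa]
  obtain ⟨b, hb⟩ : ∃ b : G, b ∉ Subgroup.zpowers a := by
    by_contra h
    push Not at h
    have : Subgroup.zpowers a = ⊤ := by
      rw [eq_top_iff]; intro x _; exact h x
    rw [this, Subgroup.card_top] at hcA
    omega
  have hb1 : b ≠ 1 := fun h => hb (h ▸ (Subgroup.zpowers a).one_mem)
  refine ⟨Subgroup.zpowers a, Subgroup.zpowers b, ?_, ?_, fun x _ y _ => hcomm x y, ?_, ?_⟩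
  · intro h
    have := Subgroup.mem_zpowers a
    rw [h, Subgroup.mem_bot] at this
    exact ha this
  · intro h
    have := Subgroup.mem_zpowers b
    rw [h, Subgroup.mem_bot] at this
    exact hb1 this
  · rw [Subgroup.eq_bot_iff_forall]
    rintro x ⟨hxa, hxb⟩
    rcases mem_zpowers_of_sq a x (hsq a) hxa with h | h
    · exact h
    · rcases mem_zpowers_of_sq b x (hsq b) hxb with h' | h'
      · exact h'
      · exfalso
        apply hb
        rw [← h', h]
        exact Subgroup.mem_zpowers a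
  · have hle : Subgroup.zpowers a ≤ Subgroup.zpowers a ⊔ Subgroup.zpowers b := le_sup_left
    have hd1 : 2 ∣ Nat.card ↥(Subgroup.zpowers a ⊔ Subgroup.zpowers b) := by
      rw [← hcA]; exact Subgroup.card_dvd_of_le hle
    have hd2 : Nat.card ↥(Subgroup.zpowers a ⊔ Subgroup.zpowers b) ∣ 4 := by
      rw [← h4]; exact Subgroup.card_subgroup_dvd_card _
    have hne : Nat.card ↥(Subgroup.zpowers a ⊔ Subgroup.zpowers b) ≠ 2 := by
      intro h
      have := Subgroup.eq_of_le_of_card_ge hle (by rw [h, hcA])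
      apply hb
      rw [this]
      exact (le_sup_right : Subgroup.zpowers b ≤ _) (Subgroup.mem_zpowers b)
    have hc4 : Nat.card ↥(Subgroup.zpowers a ⊔ Subgroup.zpowers b) = 4 := by
      have hle4 := Nat.le_of_dvd (by norm_num) hd2
      generalize Nat.card ↥(Subgroup.zpowers a ⊔ Subgroup.zpowers b) = c at *
      interval_cases c <;> omega
    rw [← Subgroup.card_eq_iff_eq_top, hc4, h4]

/-- A product with two nontrivial factors is decomposable. -/
theorem decomp_pi {I : Type*} [DecidableEq I] (H : I → Type*) [∀ i, Group (H i)] (i j : I)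
    (hij : i ≠ j) [Nontrivial (H i)] [Nontrivial (H j)] : Decomp (∀ k, H k) := by
  refine ⟨(MonoidHom.mulSingle H i).range, (Pi.evalMonoidHom H i).ker, ?_, ?_, ?_, ?_, ?_⟩
  · obtain ⟨x, hx⟩ := exists_ne (1 : H i)
    intro h
    have : Pi.mulSingle i x ∈ (MonoidHom.mulSingle H i).range := ⟨x, rfl⟩
    rw [h, Subgroup.mem_bot] at this
    have := congrFun this i
    rw [Pi.mulSingle_eq_same] at this
    exact hx this
  · obtain ⟨y, hy⟩ := exists_ne (1 : H j)
    intro h
    have : Pi.mulSingle j y ∈ (Pi.evalMonoidHom H i).ker := by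
      rw [MonoidHom.mem_ker]
      show Pi.mulSingle j y i = 1
      exact Pi.mulSingle_eq_of_ne hij y
    rw [h, Subgroup.mem_bot] at this
    have := congrFun this j
    rw [Pi.mulSingle_eq_same] at this
    exact hy this
  · rintro _ ⟨x, rfl⟩ b hb
    rw [MonoidHom.mem_ker] at hb
    have hb' : b i = 1 := hb
    funext k
    by_cases hk : k = i
    · subst hk
      simp [hb']
    · simp [Pi.mulSingle_eq_of_ne hk]
  · rw [Subgroup.eq_bot_iff_forall]
    rintro f ⟨⟨x, rfl⟩, hf⟩
    have hf' : (MonoidHom.mulSingle H i) x ∈ (Pi.evalMonoidHom H i).ker := hf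
    rw [MonoidHom.mem_ker] at hf'
    have hx : x = 1 := by simpa using hf'
    rw [hx]
    simp
  · rw [eq_top_iff]
    intro f _
    have : f = Pi.mulSingle i (f i) * Function.update f i 1 := by
      funext k
      by_cases hk : k = i
      · subst hk; simp
      · simp [Pi.mulSingle_eq_of_ne hk, Function.update_of_ne hk]
    rw [this]
    exact Subgroup.mul_mem_sup ⟨f i, rfl⟩ (by rw [MonoidHom.mem_ker]; simp)

/-- kernels of compatible homomorphisms correspond under an isomorphism -/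
def kerCongr {G G' Z : Type*} [Group G] [Group G'] [Group Z] (e : G ≃* G') (f : G →* Z)
    (f' : G' →* Z) (h : ∀ g, f' (e g) = f g) : ↥f.ker ≃* ↥f'.ker where
  toFun x := ⟨e x.1, by rw [MonoidHom.mem_ker, h]; exact x.2⟩
  invFun y := ⟨e.symm y.1, by
    rw [MonoidHom.mem_ker, ← h, e.apply_symm_apply]; exact y.2⟩
  left_inv x := by apply Subtype.ext; simp
  right_inv y := by apply Subtype.ext; simp
  map_mul' x y := by apply Subtype.ext; simp

/-- the kernel of a "sum of parities" with bijective second parity is the first factor -/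
noncomputable def kerCoprodEquiv {R V : Type*} [Group R] [Group V] (sR : R →* ℤˣ)
    (sV : V →* ℤˣ) (hV : Function.Bijective sV) : ↥(MonoidHom.coprod sR sV).ker ≃* R :=
  MulEquiv.ofBijective ((MonoidHom.fst R V).comp (Subgroup.subtype _)) (by
    constructor
    · intro m m' h
      have h1 : m.1.1 = m'.1.1 := h
      have e1 : sR m.1.1 * sV m.1.2 = 1 := by
        have := m.2
        rw [MonoidHom.mem_ker, MonoidHom.coprod_apply] at this
        exact this
      have e2 : sR m'.1.1 * sV m'.1.2 = 1 := by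
        have := m'.2
        rw [MonoidHom.mem_ker, MonoidHom.coprod_apply] at this
        exact this
      rw [← h1, ← e1] at e2
      have h2 : m.1.2 = m'.1.2 := (hV.1 (mul_left_cancel e2)).symm
      apply Subtype.ext
      exact Prod.ext h1 h2
    · intro r
      obtain ⟨v, hv⟩ := hV.2 (sR r)⁻¹
      refine ⟨⟨(r, v), ?_⟩, rfl⟩
      rw [MonoidHom.mem_ker, MonoidHom.coprod_apply, hv, mul_inv_cancel])

theorem isPGroup_W (k : ℕ) : IsPGroup 2 (W k) := by
  apply IsPGroup.of_card (n := ∑ i ∈ Finset.range k, 2 ^ i)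
  rw [IteratedWreathProduct.card]
  simp

end Cfsg.Agent.Lib.H9.AltSyl
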