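import Mathlib
import Cfsg.Agent.Lib.H9.AltSylE

set_option autoImplicit false

namespace Cfsg.Agent.Lib.H9.AltSyl

open scoped commutatorElement

section general

variable {G : Type*} [Group G]

theorem comm_mul_central_left (a b g : G) (hb : ∀ x, x * b = b * x) : ⁅a * b, g⁆ = ⁅a, g⁆ := by
  rw [commutatorElement_def, commutatorElement_def]
  have h : b * g * b⁻¹ = g := by rw [← hb g, mul_inv_cancel_right]
  calc a * b * g * (a * b)⁻¹ * g⁻¹ = a * (b * g * b⁻¹) * a⁻¹ * g⁻¹ := by group
    _ = a * g * a⁻¹ * g⁻¹ := by rw [h]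

theorem comm_mul_central_right (f a b : G) (hb : ∀ x, x * b = b * x) : ⁅f, a * b⁆ = ⁅f, a⁆ := by
  rw [commutatorElement_def, commutatorElement_def]
  have h : b * f⁻¹ * b⁻¹ = f⁻¹ := by rw [← hb f⁻¹, mul_inv_cancel_right]
  calc f * (a * b) * f⁻¹ * (a * b)⁻¹ = f * a * (b * f⁻¹ * b⁻¹) * a⁻¹ := by group
    _ = f * a * f⁻¹ * a⁻¹ := by rw [h]

end general

section thmT

variable {I : Type*} [Fintype I] [DecidableEq I] {H : I → Type*} [∀ i, Group (H i)]
variable (s : ∀ i, H i →* ℤˣ)

/-- total parity on a product -/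
def piSg : (∀ i, H i) →* ℤˣ where
  toFun x := ∏ i, s i (x i)
  map_one' := by simp
  map_mul' x y := by simp [Finset.prod_mul_distrib]

theorem piSg_apply (x : ∀ i, H i) : piSg s x = ∏ i, s i (x i) := rfl

theorem piSg_mulSingle (i : I) (x : H i) : piSg s (Pi.mulSingle i x) = s i x := by
  rw [piSg_apply, Finset.prod_eq_single i]
  · rw [Pi.mulSingle_eq_same]
  · intro j _ hj
    rw [Pi.mulSingle_eq_of_ne hj, map_one]
  · intro h
    exact absurd (Finset.mem_univ i) h

/-- a lift of `x : H i` to the kernel of the total parity, using the index `j` to fix parity -/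
def liftEl (i j : I) (t : H j) (x : H i) : ∀ k, H k :=
  Pi.mulSingle i x * Pi.mulSingle j (if s i x = 1 then 1 else t)

variable {s}

theorem liftEl_mem {i j : I} {t : H j} (ht : s j t = -1) (x : H i) :
    liftEl s i j t x ∈ (piSg s).ker := by
  rw [MonoidHom.mem_ker, liftEl, map_mul, piSg_mulSingle, piSg_mulSingle]
  rcases Int.units_eq_one_or (s i x) with h | h
  · rw [if_pos h, h, map_one]
    rfl
  · rw [if_neg (by rw [h]; decide), h, ht]
    decide

theorem liftEl_apply_self {i j : I} (hij : i ≠ j) (t : H j) (x : H i) :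
    liftEl s i j t x i = x := by
  simp [liftEl, Pi.mulSingle_eq_of_ne hij]

theorem liftEl_apply_other {i j : I} (hij : i ≠ j) (t : H j) (x : H i) :
    liftEl s i j t x j = if s i x = 1 then 1 else t := by
  simp [liftEl, Pi.mulSingle_eq_of_ne hij.symm]

theorem liftEl_apply_ne {i j k : I} (hki : k ≠ i) (hkj : k ≠ j) (t : H j) (x : H i) :
    liftEl s i j t x k = 1 := by
  simp [liftEl, Pi.mulSingle_eq_of_ne hki, Pi.mulSingle_eq_of_ne hkj]

theorem exists_ne_of_two (h2 : ∃ i j : I, i ≠ j) (i : I) : ∃ j : I, i ≠ j := by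
  obtain ⟨a, b, hab⟩ := h2
  by_cases h : i = a
  · exact ⟨b, h ▸ hab⟩
  · exact ⟨a, h⟩

theorem exists_odd (hs : ∀ i, Function.Surjective (s i)) (j : I) : ∃ t : H j, s j t = -1 :=
  hs j (-1)

theorem proj_surjective (hs : ∀ i, Function.Surjective (s i)) (h2 : ∃ i j : I, i ≠ j) (i : I)
    (x : H i) : ∃ f : ↥(piSg s).ker, (f : ∀ k, H k) i = x := by
  obtain ⟨j, hij⟩ := exists_ne_of_two h2 i
  obtain ⟨t, ht⟩ := exists_odd hs j
  exact ⟨⟨liftEl s i j t x, liftEl_mem ht x⟩, liftEl_apply_self hij t x⟩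

theorem eq_bot_of_proj_central (hs : ∀ i, Function.Surjective (s i)) (h2 : ∃ i j : I, i ≠ j)
    (h4 : ∀ i, ∀ z ∈ Subgroup.center (H i), ∃ x y : H i, z = ⁅x, y⁆)
    (A B : Subgroup ↥(piSg s).ker) (hcomm : ∀ a ∈ A, ∀ b ∈ B, a * b = b * a)
    (hinf : A ⊓ B = ⊥) (hsup : A ⊔ B = ⊤)
    (hB : ∀ b ∈ B, ∀ i, (b : ∀ i, H i) i ∈ Subgroup.center (H i)) : B = ⊥ := by
  -- (i) B is central
  have hBc : ∀ b ∈ B, ∀ g : ↥(piSg s).ker, g * b = b * g := by
    intro b hb g
    apply Subtype.ext
    funext i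
    exact (Subgroup.mem_center_iff.mp (hB b hb i)) (g.1 i)
  -- (ii) commutators lie in A
  have hAc : ∀ f g : ↥(piSg s).ker, ⁅f, g⁆ ∈ A := by
    intro f g
    obtain ⟨a, ha, b, hb, rfl⟩ := exists_mul_of_comm_sup A B hcomm f (by rw [hsup]; trivial)
    obtain ⟨a', ha', b', hb', rfl⟩ := exists_mul_of_comm_sup A B hcomm g (by rw [hsup]; trivial)
    rw [comm_mul_central_left _ _ _ (hBc b hb), comm_mul_central_right _ _ _ (hBc b' hb'),
      commutatorElement_def]
    exact A.mul_mem (A.mul_mem (A.mul_mem ha ha') (A.inv_mem ha)) (A.inv_mem ha')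
  -- (iii) central singles lie in the image of A
  have hsingle : ∀ i, ∀ z ∈ Subgroup.center (H i),
      Pi.mulSingle i z ∈ A.map (piSg s).ker.subtype := by
    intro i z hz
    obtain ⟨x, y, rfl⟩ := h4 i z hz
    obtain ⟨j, hij⟩ := exists_ne_of_two h2 i
    obtain ⟨t, ht⟩ := exists_odd hs j
    refine ⟨⁅⟨liftEl s i j t x, liftEl_mem ht x⟩, ⟨liftEl s i j t y, liftEl_mem ht y⟩⁆,
      hAc _ _, ?_⟩
    rw [map_commutatorElement]
    funext k
    show ⁅liftEl s i j t x k, liftEl s i j t y k⁆ = _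
    by_cases hki : k = i
    · subst hki
      rw [liftEl_apply_self hij, liftEl_apply_self hij, Pi.mulSingle_eq_same]
    · rw [Pi.mulSingle_eq_of_ne hki]
      by_cases hkj : k = j
      · subst hkj
        rw [liftEl_apply_other hij, liftEl_apply_other hij, commutatorElement_eq_one_iff_commute]
        split_ifs
        · exact Commute.one_left _
        · exact Commute.one_left _
        · exact Commute.one_right _
        · exact Commute.refl _
      · rw [liftEl_apply_ne hki hkj, liftEl_apply_ne hki hkj, commutatorElement_one_right]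
  have hpi : Subgroup.pi Set.univ (fun i => Subgroup.center (H i)) ≤
      A.map (piSg s).ker.subtype := by
    rw [Subgroup.pi_le_iff]
    rintro i _ ⟨z, hz, rfl⟩
    exact hsingle i z hz
  rw [Subgroup.eq_bot_iff_forall]
  intro b hb
  have hmem : (b : ∀ i, H i) ∈ Subgroup.pi Set.univ (fun i => Subgroup.center (H i)) := by
    rw [Subgroup.mem_pi]
    intro i _
    exact hB b hb i
  obtain ⟨a, ha, hab⟩ := hpi hmem
  have : a = b := Subtype.ext hab
  have hbA : b ∈ A ⊓ B := ⟨this ▸ ha, hb⟩
  rw [hinf, Subgroup.mem_bot] at hbA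
  exact hbA

/-- Theorem T: the kernel of the total parity on a product with at least two factors is
indecomposable, under wreath-like hypotheses on the factors. -/
theorem not_decomp_ker_piSg (hs : ∀ i, Function.Surjective (s i)) (h2 : ∃ i j : I, i ≠ j)
    (hX : ∀ i, ∀ A B : Subgroup (H i), (∀ a ∈ A, ∀ b ∈ B, a * b = b * a) → A ⊔ B = ⊤ →
      A ≤ Subgroup.center (H i) ∨ B ≤ Subgroup.center (H i))
    (h3 : ∀ i, Subgroup.center (H i) ≤ (s i).ker)
    (h4 : ∀ i, ∀ z ∈ Subgroup.center (H i), ∃ x y : H i, z = ⁅x, y⁆) :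
    ¬ Decomp ↥(piSg s).ker := by
  rintro ⟨A, B, hA, hB, hcomm, hinf, hsup⟩
  -- projections
  let π : ∀ i, ↥(piSg s).ker →* H i := fun i =>
    (Pi.evalMonoidHom H i).comp (piSg s).ker.subtype
  have hπ : ∀ i, Function.Surjective (π i) := fun i x => proj_surjective hs h2 i x
  have hdich : ∀ i, (∀ a ∈ A, (a : ∀ i, H i) i ∈ Subgroup.center (H i)) ∨
      (∀ b ∈ B, (b : ∀ i, H i) i ∈ Subgroup.center (H i)) := by
    intro i
    have := hX i (A.map (π i)) (B.map (π i)) (by
      rintro _ ⟨a, ha, rfl⟩ _ ⟨b, hb, rfl⟩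
      rw [← map_mul, ← map_mul, hcomm a ha b hb]) (by
      rw [← Subgroup.map_sup, hsup]
      exact Subgroup.map_top_of_surjective _ (hπ i))
    rcases this with h | h
    · left
      intro a ha
      exact h ⟨a, ha, rfl⟩
    · right
      intro b hb
      exact h ⟨b, hb, rfl⟩
  classical
  by_cases hallA : ∀ i, ∀ a ∈ A, (a : ∀ i, H i) i ∈ Subgroup.center (H i)
  · exact hA (eq_bot_of_proj_central hs h2 h4 B A (fun b hb a ha => (hcomm a ha b hb).symm)
      (by rw [inf_comm]; exact hinf) (by rw [sup_comm]; exact hsup) (fun a ha i => hallA i a ha))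
  · by_cases hallB : ∀ i, ∀ b ∈ B, (b : ∀ i, H i) i ∈ Subgroup.center (H i)
    · exact hB (eq_bot_of_proj_central hs h2 h4 A B hcomm hinf hsup (fun b hb i => hallB i b hb))
    · push Not at hallA hallB
      obtain ⟨i2, a2, ha2, hna2⟩ := hallA
      obtain ⟨i1, b1, hb1, hnb1⟩ := hallB
      -- at i1, A is central; at i2, B is central
      have hA1 : ∀ a ∈ A, (a : ∀ i, H i) i1 ∈ Subgroup.center (H i1) := by
        rcases hdich i1 with h | h
        · exact h
        · exact absurd (h b1 hb1) hnb1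
      have hB2 : ∀ b ∈ B, (b : ∀ i, H i) i2 ∈ Subgroup.center (H i2) := by
        rcases hdich i2 with h | h
        · exact absurd (h a2 ha2) hna2
        · exact h
      have h12 : i1 ≠ i2 := by
        rintro rfl
        exact hna2 (hA1 a2 ha2)
      -- the index set where A projects centrally
      let IA : Finset I := Finset.univ.filter
        (fun i => ∀ a ∈ A, (a : ∀ i, H i) i ∈ Subgroup.center (H i))
      let sA : ↥(piSg s).ker →* ℤˣ :=
        { toFun := fun f => ∏ i ∈ IA, s i ((f : ∀ i, H i) i)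
          map_one' := by simp
          map_mul' := fun x y => by simp [Finset.prod_mul_distrib] }
      have hsA_A : ∀ a ∈ A, sA a = 1 := by
        intro a ha
        show ∏ i ∈ IA, s i ((a : ∀ i, H i) i) = 1
        apply Finset.prod_eq_one
        intro i hi
        have := (Finset.mem_filter.mp hi).2 a ha
        exact MonoidHom.mem_ker.mp (h3 i this)
      have hsA_B : ∀ b ∈ B, sA b = 1 := by
        intro b hb
        show ∏ i ∈ IA, s i ((b : ∀ i, H i) i) = 1
        have htot : ∏ i, s i ((b : ∀ i, H i) i) = 1 := MonoidHom.mem_ker.mp b.2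
        rw [← Finset.prod_filter_mul_prod_filter_not Finset.univ
          (fun i => ∀ a ∈ A, (a : ∀ i, H i) i ∈ Subgroup.center (H i))] at htot
        have hrest : ∏ i ∈ Finset.univ.filter
            (fun i => ¬ ∀ a ∈ A, (a : ∀ i, H i) i ∈ Subgroup.center (H i)),
            s i ((b : ∀ i, H i) i) = 1 := by
          apply Finset.prod_eq_one
          intro i hi
          have hni := (Finset.mem_filter.mp hi).2
          rcases hdich i with h | h
          · exact absurd h hni
          · exact MonoidHom.mem_ker.mp (h3 i (h b hb))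
        rw [hrest, mul_one] at htot
        exact htot
      have hker : (⊤ : Subgroup ↥(piSg s).ker) ≤ sA.ker := by
        rw [← hsup]
        apply sup_le
        · intro a ha; exact MonoidHom.mem_ker.mpr (hsA_A a ha)
        · intro b hb; exact MonoidHom.mem_ker.mpr (hsA_B b hb)
      -- the witness
      obtain ⟨x, hx⟩ := exists_odd hs i1
      obtain ⟨t, ht⟩ := exists_odd hs i2
      have hw := hker (Subgroup.mem_top ⟨liftEl s i1 i2 t x, liftEl_mem ht x⟩)
      rw [MonoidHom.mem_ker] at hw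
      have hw' : ∏ i ∈ IA, s i (liftEl s i1 i2 t x i) = 1 := hw
      have hi1 : i1 ∈ IA := Finset.mem_filter.mpr ⟨Finset.mem_univ _, hA1⟩
      have hi2 : i2 ∉ IA := by
        intro h
        exact hna2 ((Finset.mem_filter.mp h).2 a2 ha2)
      rw [Finset.prod_eq_single_of_mem i1 hi1, liftEl_apply_self h12, hx] at hw'
      · exact absurd hw' (by decide)
      · intro k hk hki
        have hkj : k ≠ i2 := fun h => hi2 (h ▸ hk)
        rw [liftEl_apply_ne hki hkj, map_one]

end thmT

end Cfsg.Agent.Lib.H9.AltSyl
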