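import Mathlib
import Cfsg.Agent.Lib.H9.AltSylF
import Cfsg.Agent.Lib.H9.SylSymC

set_option autoImplicit false

namespace Cfsg.Agent.Lib.H9.AltSyl

open Equiv

section sigma

variable {I : Type*} [Fintype I] [DecidableEq I] {Ω : I → Type*} [∀ i, Fintype (Ω i)]
  [∀ i, DecidableEq (Ω i)]

theorem sign_sigma_mulSingle (i : I) (x : Perm (Ω i)) :
    Perm.sign (Perm.sigmaCongrRight (Pi.mulSingle i x : ∀ a, Perm (Ω a))) = Perm.sign x := by
  symm
  refine Perm.sign_bij (fun y _ => (⟨i, y⟩ : Σ a, Ω a)) ?_ ?_ ?_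
  · intro y _ _
    simp [Perm.sigmaCongrRight]
  · intro y₁ y₂ _ _ h
    exact eq_of_heq (Sigma.mk.inj h).2
  · rintro ⟨a, b⟩ hab
    by_cases ha : a = i
    · subst ha
      refine ⟨b, ?_, rfl⟩
      intro hb
      apply hab
      simp [Perm.sigmaCongrRight, hb]
    · exfalso
      apply hab
      simp [Perm.sigmaCongrRight, Pi.mulSingle_eq_of_ne ha]

/-- product of signs as a homomorphism -/
def prodSign : (∀ a, Perm (Ω a)) →* ℤˣ where
  toFun F := ∏ a, Perm.sign (F a)
  map_one' := by simp
  map_mul' x y := by simp [Finset.prod_mul_distrib]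

theorem sign_sigmaCongrRight (F : ∀ a, Perm (Ω a)) :
    Perm.sign (Perm.sigmaCongrRight F) = ∏ a, Perm.sign (F a) := by
  have h : Perm.sign.comp (Perm.sigmaCongrRightHom Ω) = (prodSign : (∀ a, Perm (Ω a)) →* ℤˣ) := by
    apply MonoidHom.pi_ext
    intro i x
    show Perm.sign (Perm.sigmaCongrRight (Pi.mulSingle i x : ∀ a, Perm (Ω a))) =
      ∏ a, Perm.sign ((Pi.mulSingle i x : ∀ a, Perm (Ω a)) a)
    rw [sign_sigma_mulSingle, Finset.prod_eq_single i]
    · rw [Pi.mulSingle_eq_same]
    · intro j _ hj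
      rw [Pi.mulSingle_eq_of_ne hj, map_one]
    · intro h
      exact absurd (Finset.mem_univ i) h
  exact DFunLike.congr_fun h F

variable {H : I → Type*} [∀ i, Group (H i)]

/-- the action of a product of groups on a disjoint union -/
def sigmaHom (φ : ∀ i, H i →* Perm (Ω i)) : (∀ i, H i) →* Perm (Σ i, Ω i) :=
  (Perm.sigmaCongrRightHom Ω).comp
    (MonoidHom.pi fun i => (φ i).comp (Pi.evalMonoidHom H i))

theorem sigmaHom_injective (φ : ∀ i, H i →* Perm (Ω i)) (hφ : ∀ i, Function.Injective (φ i)) :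
    Function.Injective (sigmaHom φ) := by
  intro x y h
  have h' := Perm.sigmaCongrRightHom_injective h
  funext i
  apply hφ i
  exact congrFun h' i

theorem sign_sigmaHom (φ : ∀ i, H i →* Perm (Ω i)) (x : ∀ i, H i) :
    Perm.sign (sigmaHom φ x) = ∏ i, Perm.sign (φ i (x i)) :=
  sign_sigmaCongrRight _

end sigma

section sum

variable {R V α β : Type*} [Group R] [Group V] [Fintype α] [DecidableEq α] [Fintype β]
  [DecidableEq β]

/-- the action of a direct product on a disjoint union of two sets -/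
def sumHom (φ : R →* Perm α) (ψ : V →* Perm β) : R × V →* Perm (α ⊕ β) :=
  (Perm.sumCongrHom α β).comp (MonoidHom.prodMap φ ψ)

theorem sumHom_injective (φ : R →* Perm α) (ψ : V →* Perm β) (hφ : Function.Injective φ)
    (hψ : Function.Injective ψ) : Function.Injective (sumHom φ ψ) := by
  intro x y h
  have h' := Perm.sumCongrHom_injective h
  have h1 : φ x.1 = φ y.1 := congrArg Prod.fst h'
  have h2 : ψ x.2 = ψ y.2 := congrArg Prod.snd h'
  exact Prod.ext (hφ h1) (hψ h2)

theorem sign_sumHom (φ : R →* Perm α) (ψ : V →* Perm β) (x : R × V) :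
    Perm.sign (sumHom φ ψ x) = Perm.sign (φ x.1) * Perm.sign (ψ x.2) :=
  Perm.sign_sumCongr _ _

end sum

section wreathsign

open RegularWreathProduct

theorem sign_mulLeft_c2 (c : C2) : Perm.sign (Equiv.mulLeft c) = c := by
  rcases c2_cases c with rfl | rfl
  · have : Equiv.mulLeft (1 : C2) = 1 := by
      ext x; simp
    rw [this, map_one]
  · have : Equiv.mulLeft (-1 : C2) = Equiv.swap 1 (-1) := by
      ext x
      rcases c2_cases x with rfl | rfl
      · simp
      · simp
    rw [this, Perm.sign_swap (by decide)]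

theorem sign_toPerm_wreath {X Λ : Type*} [Group X] [MulAction X Λ] [Fintype Λ] [DecidableEq Λ]
    (w : X ≀ᵣ C2) :
    Perm.sign (RegularWreathProduct.toPerm X C2 Λ w) =
      Perm.sign (MulAction.toPerm (w.left 1) : Perm Λ) *
        Perm.sign (MulAction.toPerm (w.left (-1)) : Perm Λ) * w.right ^ Fintype.card Λ := by
  have h : RegularWreathProduct.toPerm X C2 Λ w =
      (Equiv.prodCongrLeft (fun q : C2 => (MulAction.toPerm (w.left q) : Perm Λ))) *
        (Equiv.prodCongrRight (fun _ : Λ => Equiv.mulLeft w.right)) := by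
    ext p <;> rfl
  rw [h, map_mul, Perm.sign_prodCongrLeft, Perm.sign_prodCongrRight, UnitsInt.univ,
    Finset.prod_insert (by decide), Finset.prod_singleton, Finset.prod_const, Finset.card_univ,
    sign_mulLeft_c2]

theorem c2_pow_two_pow (c : C2) (k : ℕ) :
    c ^ (2 ^ k) = (if k = 0 then MonoidHom.id ℤˣ else 1) c := by
  rcases Nat.eq_zero_or_pos k with rfl | hk
  · simp
  · rw [if_neg (by omega)]
    obtain ⟨j, rfl⟩ : ∃ j, k = j + 1 := ⟨k - 1, by omega⟩
    rw [pow_succ, pow_mul, MonoidHom.one_apply]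
    have : (c ^ 2 ^ j) ^ 2 = 1 := by
      rw [pow_two]; exact Int.units_mul_self _
    exact this

theorem sign_iter : ∀ (k : ℕ) (w : W k),
    Perm.sign (iteratedWreathToPermHom C2 k w) = sg k w
  | 0, w => by
    show Perm.sign ((1 : W 0 →* Perm (Fin 0 → C2)) w) = (1 : W 0 →* ℤˣ) w
    rw [MonoidHom.one_apply, MonoidHom.one_apply, map_one]
  | k + 1, w => by
    let inst : MulAction (W k) (Fin k → C2) :=
      MulAction.compHom (Fin k → C2) (iteratedWreathToPermHom C2 k)
    have h1 : iteratedWreathToPermHom C2 (k + 1) w =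
        (Fin.succFunEquiv C2 k).symm.permCongr
          (RegularWreathProduct.toPerm (W k) C2 (Fin k → C2) w) := rfl
    have h2 : ∀ x : W k, (MulAction.toPerm x : Perm (Fin k → C2)) =
        iteratedWreathToPermHom C2 k x := fun x => Equiv.ext fun _ => rfl
    have key : ∀ w' : W k ≀ᵣ C2,
        Perm.sign (RegularWreathProduct.toPerm (W k) C2 (Fin k → C2) w') =
          wsgn (sg k) (if k = 0 then MonoidHom.id ℤˣ else 1) w' := by
      intro w'
      rw [sign_toPerm_wreath, wsgn_apply, h2, h2, sign_iter k, sign_iter k]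
      congr 1
      have hc : Fintype.card (Fin k → C2) = 2 ^ k := by
        rw [Fintype.card_fun, Fintype.card_fin]
        rfl
      rw [hc]
      exact c2_pow_two_pow _ k
    rw [h1, Perm.sign_permCongr]
    exact key w

end wreathsign

end Cfsg.Agent.Lib.H9.AltSyl
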