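import Mathlib
import Cfsg.Agent.Lib.H9.AltSylG

set_option autoImplicit false

namespace Cfsg.Agent.Lib.H9.AltSyl

open Equiv

theorem card_ker_of_surjective {Q : Type*} [Group Q] [Finite Q] (s : Q →* ℤˣ)
    (hs : Function.Surjective s) : Nat.card s.ker * 2 = Nat.card Q := by
  have h1 := Subgroup.card_mul_index s.ker
  rw [Subgroup.index_ker, MonoidHom.range_eq_top.mpr hs, Subgroup.card_top] at h1
  have h2 : Nat.card ℤˣ = 2 := by
    rw [Nat.card_eq_fintype_card, Fintype.card_units_int]
  rw [h2] at h1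
  exact h1

theorem factorization_two_factorial_pos {n : ℕ} (hn : 2 ≤ n) :
    1 ≤ (n.factorial).factorization 2 := by
  have hd : 2 ∣ n.factorial := Nat.dvd_factorial (by norm_num) hn
  have := (Nat.Prime.dvd_iff_one_le_factorization Nat.prime_two (Nat.factorial_ne_zero n)).mp hd
  exact this

/-- Lemma S: a Sylow 2-subgroup of `A_n` is isomorphic to the even part of any 2-subgroup of
`S_n` of full 2-power order containing an odd permutation. -/
theorem sylow_alt_equiv {n : ℕ} (hn : 2 ≤ n) {Q : Type*} [Group Q] (ι : Q →* Perm (Fin n))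
    (hι : Function.Injective ι) (s : Q →* ℤˣ) (hs : ∀ q, Perm.sign (ι q) = s q)
    (hsurj : Function.Surjective s)
    (hcard : Nat.card Q = 2 ^ (n.factorial).factorization 2)
    (P : Sylow 2 (alternatingGroup (Fin n))) :
    Nonempty (↥(P : Subgroup (alternatingGroup (Fin n))) ≃* ↥s.ker) := by
  have hQfin : Finite Q := Nat.finite_of_card_ne_zero (by rw [hcard]; positivity)
  have : Nontrivial (Fin n) := Fin.nontrivial_iff_two_le.mpr hn
  have : Fact (Nat.Prime 2) := ⟨Nat.prime_two⟩
  let ι' : ↥s.ker →* alternatingGroup (Fin n) :=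
    (ι.comp s.ker.subtype).codRestrict (alternatingGroup (Fin n)) (fun x => by
      rw [Equiv.Perm.mem_alternatingGroup]
      show Perm.sign (ι x.1) = 1
      rw [hs]
      exact x.2)
  have hinj : Function.Injective ι' := by
    intro x y h
    have h' : ι x.1 = ι y.1 := congrArg Subtype.val h
    exact Subtype.ext (hι h')
  have hv := factorization_two_factorial_pos hn
  obtain ⟨v, hv'⟩ : ∃ v, (n.factorial).factorization 2 = v + 1 :=
    ⟨(n.factorial).factorization 2 - 1, by omega⟩
  have hk : Nat.card ↥s.ker = 2 ^ v := by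
    have h1 := card_ker_of_surjective s hsurj
    rw [hcard, hv', pow_succ] at h1
    exact Nat.eq_of_mul_eq_mul_right (by norm_num) h1
  have hA : (Nat.card (alternatingGroup (Fin n))).factorization 2 = v := by
    have h2 := two_mul_nat_card_alternatingGroup (α := Fin n)
    rw [Nat.card_perm, Nat.card_fin] at h2
    have hne : Nat.card (alternatingGroup (Fin n)) ≠ 0 := Nat.card_pos.ne'
    have h3 : (2 * Nat.card (alternatingGroup (Fin n))).factorization 2 =
        (n.factorial).factorization 2 := by rw [h2]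
    rw [Nat.factorization_mul (by norm_num) hne, Finsupp.add_apply,
      Nat.Prime.factorization_self Nat.prime_two, hv'] at h3
    omega
  have hr : Nat.card ↥ι'.range = 2 ^ (Nat.card (alternatingGroup (Fin n))).factorization 2 := by
    rw [hA, ← hk]
    exact Nat.card_congr (MonoidHom.ofInjective hinj).toEquiv.symm
  let P' : Sylow 2 (alternatingGroup (Fin n)) := Sylow.ofCard ι'.range hr
  exact ⟨(P.equiv P').trans (MonoidHom.ofInjective hinj).symm⟩

/-- transport of an action to `Fin n` -/
theorem exists_model_fin {n : ℕ} {Q Ω : Type*} [Group Q] [Fintype Ω] [DecidableEq Ω]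
    (φ : Q →* Perm Ω) (hφ : Function.Injective φ) (hΩ : Fintype.card Ω ≤ n) :
    ∃ ι : Q →* Perm (Fin n), Function.Injective ι ∧
      ∀ q, Perm.sign (ι q) = Perm.sign (φ q) := by
  obtain ⟨e⟩ : Nonempty (Ω ↪ Fin n) :=
    Function.Embedding.nonempty_of_card_le (by rw [Fintype.card_fin]; exact hΩ)
  refine ⟨(Perm.viaEmbeddingHom e).comp φ, ?_, ?_⟩
  · exact (Perm.viaEmbeddingHom_injective e).comp hφ
  · intro q
    exact SylSym.sign_via e (φ q)

/-- Combined: Sylow 2-subgroups of `A_n` from a permutation model. -/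
theorem sylow_alt_model {n : ℕ} (hn : 2 ≤ n) {Q Ω : Type*} [Group Q] [Fintype Ω] [DecidableEq Ω]
    (φ : Q →* Perm Ω) (hφ : Function.Injective φ) (hΩ : Fintype.card Ω ≤ n)
    (s : Q →* ℤˣ) (hs : ∀ q, Perm.sign (φ q) = s q) (hsurj : Function.Surjective s)
    (hcard : Nat.card Q = 2 ^ (n.factorial).factorization 2)
    (P : Sylow 2 (alternatingGroup (Fin n))) :
    Nonempty (↥(P : Subgroup (alternatingGroup (Fin n))) ≃* ↥s.ker) := by
  obtain ⟨ι, hι, hsign⟩ := exists_model_fin φ hφ hΩ
  exact sylow_alt_equiv hn ι hι s (fun q => (hsign q).trans (hs q)) hsurj hcard P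

end Cfsg.Agent.Lib.H9.AltSyl
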