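import Mathlib
import Cfsg.Agent.Lib.H9.AltSylH

set_option autoImplicit false

namespace Cfsg.Agent.Lib.H9.AltSyl

open Equiv

theorem geom_two (k : ℕ) : ∑ i ∈ Finset.range k, 2 ^ i + 1 = 2 ^ k := by
  induction k with
  | zero => simp
  | succ k ih =>
    rw [Finset.sum_range_succ, pow_succ]
    omega

theorem card_W (k : ℕ) : ∃ e, Nat.card (W k) = 2 ^ e ∧ e + 1 = 2 ^ k := by
  refine ⟨∑ i ∈ Finset.range k, 2 ^ i, ?_, geom_two k⟩
  rw [IteratedWreathProduct.card]
  simp

/-- `v₂(m!) + s₂(m) = m` (Legendre). -/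
theorem v2_factorial_add_length (m : ℕ) :
    (m.factorial).factorization 2 + m.bitIndices.length = m := by
  have : Fact (Nat.Prime 2) := ⟨Nat.prime_two⟩
  induction m using Nat.strong_induction_on with
  | _ m ih =>
    rcases Nat.eq_zero_or_pos m with rfl | hm
    · simp
    · have ih' := ih (m / 2) (Nat.div_lt_self hm (by norm_num))
      have hstep := SylSym.legendre_step (p := 2) m
      rcases Nat.even_or_odd' m with ⟨j, rfl | rfl⟩
      · have hj : 2 * j / 2 = j := by omega
        rw [hj] at ih' hstep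
        rw [Nat.bitIndices_two_mul, List.length_map, hstep]
        omega
      · have hj : (2 * j + 1) / 2 = j := by omega
        rw [hj] at ih' hstep
        rw [Nat.bitIndices_two_mul_add_one, List.length_cons, List.length_map, hstep]
        omega

/-- `v₂((4m+ρ)!) + s₂(m) = 4m + ⌊ρ/2⌋` -/
theorem v2_factorial_four_mul (m ρ : ℕ) (hρ : ρ < 4) :
    ((4 * m + ρ).factorial).factorization 2 + m.bitIndices.length = 4 * m + ρ / 2 := by
  have : Fact (Nat.Prime 2) := ⟨Nat.prime_two⟩
  have h1 := SylSym.legendre_step (p := 2) (4 * m + ρ)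
  have e1 : (4 * m + ρ) / 2 = 2 * m + ρ / 2 := by omega
  rw [e1] at h1
  have h2 := SylSym.legendre_step (p := 2) (2 * m + ρ / 2)
  have e2 : (2 * m + ρ / 2) / 2 = m := by omega
  rw [e2] at h2
  have h3 := v2_factorial_add_length m
  omega

section model

variable {I : Type} [Fintype I] [DecidableEq I] (ℓ : I → ℕ)

/-- the product of iterated wreath products -/
abbrev RGrp := ∀ i, W (ℓ i + 2)

/-- total parity -/
def RSg : RGrp ℓ →* ℤˣ := piSg (fun i => sg (ℓ i + 2))

/-- the set the model acts on -/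
abbrev ROm := Σ i, (Fin (ℓ i + 2) → C2)

/-- the action -/
def RAct : RGrp ℓ →* Perm (ROm ℓ) :=
  sigmaHom (fun i => iteratedWreathToPermHom C2 (ℓ i + 2))

theorem RAct_injective : Function.Injective (RAct ℓ) :=
  sigmaHom_injective _ (fun i => iteratedWreathToPermHomInj C2 (ℓ i + 2))

theorem sign_RAct (x : RGrp ℓ) : Perm.sign (RAct ℓ x) = RSg ℓ x := by
  rw [RAct, sign_sigmaHom, RSg, piSg_apply]
  apply Finset.prod_congr rfl
  intro i _
  exact sign_iter _ _

theorem card_ROm : Fintype.card (ROm ℓ) = 4 * ∑ i, 2 ^ ℓ i := by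
  rw [Fintype.card_sigma, Finset.mul_sum]
  apply Finset.sum_congr rfl
  intro i _
  rw [Fintype.card_fun, Fintype.card_fin, pow_succ, pow_succ]
  have : Fintype.card C2 = 2 := Fintype.card_units_int
  rw [this]
  ring

theorem card_RGrp : ∃ e, Nat.card (RGrp ℓ) = 2 ^ e ∧ e + Fintype.card I = 4 * ∑ i, 2 ^ ℓ i := by
  choose e he1 he2 using fun i => card_W (ℓ i + 2)
  refine ⟨∑ i, e i, ?_, ?_⟩
  · rw [Nat.card_pi, ← Finset.prod_pow_eq_pow_sum]
    apply Finset.prod_congr rfl
    intro i _
    exact he1 i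
  · rw [Finset.mul_sum, ← Finset.card_univ, Finset.card_eq_sum_ones, ← Finset.sum_add_distrib]
    apply Finset.sum_congr rfl
    intro i _
    rw [he2 i, pow_succ, pow_succ]
    ring

theorem RSg_surjective [Nonempty I] : Function.Surjective (RSg ℓ) := by
  intro c
  obtain ⟨i⟩ := ‹Nonempty I›
  obtain ⟨x, hx⟩ := sg_surjective (ℓ i + 1) c
  refine ⟨Pi.mulSingle i x, ?_⟩
  rw [RSg, piSg_mulSingle]
  exact hx

instance finite_RGrp : Finite (RGrp ℓ) := by
  have : ∀ i, Finite (W (ℓ i + 2)) := fun i => inferInstance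
  exact Pi.finite

end model

end Cfsg.Agent.Lib.H9.AltSyl
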