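import Mathlib
import Cfsg.Agent.Lib.H9.AltSylI

set_option autoImplicit false

namespace Cfsg.Agent.Lib.H9.AltSyl

open Equiv

theorem decomp_ker_sg_two : Decomp ↥(sg 2).ker := by
  apply decomp_of_card_four
  · have h := card_ker_of_surjective (sg 2) (sg_surjective 1)
    rw [card_W_two] at h
    omega
  · intro g
    apply Subtype.ext
    exact sq_ker_sg_two g.1 g.2

theorem not_decomp_ker_sg (k : ℕ) : ¬ Decomp ↥(sg (k + 3)).ker :=
  not_decomp_of_card_center_two ((isPGroup_W _).to_subgroup _) (card_center_ker_sg k)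

theorem not_decomp_W (k : ℕ) : ¬ Decomp (W (k + 1)) :=
  not_decomp_of_card_center_two (isPGroup_W _) (card_center_W k)

section model

variable {I : Type} [Fintype I] [DecidableEq I] (ℓ : I → ℕ)

theorem alt_sylow_low (n m ρ : ℕ) (hm : 1 ≤ m) (hρ : ρ ≤ 1) (hn : n = 4 * m + ρ)
    (hsum : ∑ i, 2 ^ ℓ i = m) (hc : Fintype.card I = m.bitIndices.length) [Nonempty I]
    (P : Sylow 2 (alternatingGroup (Fin n))) :
    Nonempty (↥(P : Subgroup (alternatingGroup (Fin n))) ≃* ↥(RSg ℓ).ker) := by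
  apply sylow_alt_model (by omega) (RAct ℓ) (RAct_injective ℓ) _ (RSg ℓ) (sign_RAct ℓ)
    (RSg_surjective ℓ) _ P
  · rw [card_ROm, hsum]; omega
  · obtain ⟨e, he1, he2⟩ := card_RGrp ℓ
    rw [he1]
    congr 1
    have h := v2_factorial_four_mul m ρ (by omega)
    rw [← hn] at h
    have : ρ / 2 = 0 := by omega
    rw [hsum] at he2
    omega

theorem alt_sylow_high (n m ρ : ℕ) (hm : 1 ≤ m) (hρ : ρ = 2 ∨ ρ = 3) (hn : n = 4 * m + ρ)
    (hsum : ∑ i, 2 ^ ℓ i = m) (hc : Fintype.card I = m.bitIndices.length)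
    (P : Sylow 2 (alternatingGroup (Fin n))) :
    Nonempty (↥(P : Subgroup (alternatingGroup (Fin n))) ≃* RGrp ℓ) := by
  have hbij : Function.Bijective (sg 1) := ⟨sg_one_injective, sg_surjective 0⟩
  have key := sylow_alt_model (n := n) (by omega)
    (sumHom (RAct ℓ) (iteratedWreathToPermHom C2 1))
    (sumHom_injective _ _ (RAct_injective ℓ) (iteratedWreathToPermHomInj C2 1))
    (by
      rw [Fintype.card_sum, card_ROm, hsum, Fintype.card_fun, Fintype.card_fin]
      have : Fintype.card C2 = 2 := Fintype.card_units_int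
      rw [this]
      omega)
    (MonoidHom.coprod (RSg ℓ) (sg 1))
    (by
      intro q
      rw [sign_sumHom, sign_RAct, sign_iter, MonoidHom.coprod_apply])
    (by
      intro c
      obtain ⟨v, hv⟩ := hbij.2 c
      refine ⟨(1, v), ?_⟩
      rw [MonoidHom.coprod_apply, map_one, one_mul, hv])
    (by
      obtain ⟨e, he1, he2⟩ := card_RGrp ℓ
      rw [Nat.card_prod, he1, card_W_one, ← pow_succ]
      congr 1
      have h := v2_factorial_four_mul m ρ (by omega)
      rw [← hn] at h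
      have : ρ / 2 = 1 := by omega
      rw [hsum] at he2
      omega) P
  obtain ⟨e⟩ := key
  exact ⟨e.trans (kerCoprodEquiv (RSg ℓ) (sg 1) hbij)⟩

theorem decomp_RGrp_of_ne (i j : I) (hij : i ≠ j) : Decomp (RGrp ℓ) := by
  have : Nontrivial (W (ℓ i + 2)) := nontrivial_W (ℓ i + 1)
  have : Nontrivial (W (ℓ j + 2)) := nontrivial_W (ℓ j + 1)
  exact decomp_pi (fun i => W (ℓ i + 2)) i j hij

theorem not_decomp_RGrp_unique [Unique I] : ¬ Decomp (RGrp ℓ) := by
  intro h
  exact not_decomp_W (ℓ default + 1) (h.congr (MulEquiv.piUnique (fun i => W (ℓ i + 2))))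

/-- with a single index the kernel of the total parity is the kernel of `sg` -/
noncomputable def kerRSgUnique [Unique I] : ↥(RSg ℓ).ker ≃* ↥(sg (ℓ default + 2)).ker :=
  kerCongr (MulEquiv.piUnique (fun i => W (ℓ i + 2))) (RSg ℓ) (sg (ℓ default + 2)) (by
    intro g
    rw [RSg, piSg_apply, Fintype.prod_unique]
    rfl)

theorem decomp_kerRSg_unique_iff [Unique I] : Decomp ↥(RSg ℓ).ker ↔ ℓ default = 0 := by
  rw [decomp_congr_iff (kerRSgUnique ℓ)]
  constructor
  · intro h
    by_contra hne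
    obtain ⟨k, hk⟩ : ∃ k, ℓ default = k + 1 := ⟨ℓ default - 1, by omega⟩
    rw [hk] at h
    exact not_decomp_ker_sg k h
  · intro h
    rw [h]
    exact decomp_ker_sg_two

theorem not_decomp_kerRSg_of_ne (i j : I) (hij : i ≠ j) : ¬ Decomp ↥(RSg ℓ).ker :=
  not_decomp_ker_piSg (fun i => sg_surjective (ℓ i + 1)) ⟨i, j, hij⟩
    (fun i => comm_prod_W (ℓ i)) (fun i => center_le_ker_sg (ℓ i))
    (fun i => center_is_commutator (ℓ i))

end model

end Cfsg.Agent.Lib.H9.AltSyl
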