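/-
SYMPLECTIC PHASE 2 (helper9), task SP2-B6: `Sp_2m(F)` (m ≥ 2, |F| odd) does not normalise a finite 2-group `R` of
similitudes which is absolutely irreducible, of class 2 with scalar commutators, and with centre of order 2.
-/
import Cfsg.Agent.Lib.H11.SubspMax2
import Cfsg.Agent.Lib.H11.SimMax5
import Cfsg.Agent.Lib.H13.Witt

set_option autoImplicit false

namespace Cfsg.Agent.Lib.H9.AschSP2

open Cfsg Cfsg.Geo Cfsg.Agent.Lib.H11.SubspMax
open Cfsg.Agent.Lib.H4 (sympForm_self sympForm_add_left sympForm_add_right sympForm_smul_left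
  sympForm_smul_right sympForm_swap)
open scoped MatrixGroups Matrix

variable {F : Type*} [Field F] {m : ℕ}

local notation "VV" => (Fin m ⊕ Fin m → F)
local notation "GG" => GL (Fin m ⊕ Fin m) F
local notation "MM" => Matrix (Fin m ⊕ Fin m) (Fin m ⊕ Fin m) F

/-- conjugating a symplectic transvection by a similitude -/
theorem b6_conj_stv (x : GG) (μ : Fˣ)
    (hμ : ∀ u v : VV, Cfsg.sympForm m F ((x : MM) *ᵥ u) ((x : MM) *ᵥ v) = (μ : F) * Cfsg.sympForm m F u v)
    (u : VV) (c : F) : x * stv u c * x⁻¹ = stv ((x : MM) *ᵥ u) (c * (μ : F)⁻¹) := by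
  apply gl_ext
  intro w
  rw [gl_mul_mulVec, gl_mul_mulVec, stv_mulVec, stv_mulVec, Matrix.mulVec_add, Matrix.mulVec_smul,
    gl_mulVec_inv]
  congr 2
  have h := hμ (((x⁻¹ : GG) : MM) *ᵥ w) u
  rw [gl_mulVec_inv] at h
  rw [h]
  field_simp

theorem b6_stv_neg_mul (u : VV) (c : F) : stv u (-c) * stv u c = 1 := by
  apply gl_ext
  intro w
  rw [gl_mul_mulVec, stv_mulVec, stv_mulVec, sympForm_add_left, sympForm_smul_left, sympForm_self]
  simp only [Units.val_one, Matrix.one_mulVec]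
  rw [mul_zero, add_zero, add_assoc, ← add_smul]
  rw [show c * Cfsg.sympForm m F w u + -c * Cfsg.sympForm m F w u = 0 by ring, zero_smul, add_zero]

theorem b6_stv_inv (u : VV) (c : F) : (stv u c)⁻¹ = stv u (-c) :=
  inv_eq_of_mul_eq_one_left (b6_stv_neg_mul u c)

/-- scalar matrices are central in `GL` -/
theorem b6_scalar_comm {c : GG} (hc : c ∈ scalars (Fin m ⊕ Fin m) F) (g : GG) : c * g = g * c := by
  obtain ⟨a, ha⟩ := (mem_scalars_iff c).1 hc
  apply Units.ext
  rw [Units.val_mul, Units.val_mul, ha, Matrix.smul_mul, Matrix.mul_smul, one_mul, mul_one]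

/-- in a group `R` with scalar commutators and centre of order 2, which is absolutely irreducible, squares are scalar -/
theorem b6_sq_scalar (R : Subgroup GG) (habs : ActsAbsolutelyIrreducibly (matrixSet R))
    (hcl2 : ∀ x ∈ R, ∀ y ∈ R, x * y * x⁻¹ * y⁻¹ ∈ scalars (Fin m ⊕ Fin m) F)
    (hZ : Nat.card (Subgroup.center R) = 2) (x : GG) (hx : x ∈ R) :
    ∃ ε : F, (x : MM) * (x : MM) = ε • (1 : MM) := by
  apply habs.2
  rintro s ⟨y, hy, rfl⟩
  -- `c = [x, y]` is a scalar in `R`, hence central in `R`, hence of order ≤ 2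
  set c : GG := x * y * x⁻¹ * y⁻¹ with hcdef
  have hcs : c ∈ scalars (Fin m ⊕ Fin m) F := hcl2 x hx y hy
  have hcR : c ∈ R := R.mul_mem (R.mul_mem (R.mul_mem hx hy) (R.inv_mem hx)) (R.inv_mem hy)
  have hcc : (⟨c, hcR⟩ : R) ∈ Subgroup.center R := by
    rw [Subgroup.mem_center_iff]
    intro g
    apply Subtype.ext
    exact (b6_scalar_comm hcs (g : GG)).symm
  have hc2 : c * c = 1 := by
    have h1 : (⟨⟨c, hcR⟩, hcc⟩ : Subgroup.center R) ^ 2 = 1 := by
      rw [← hZ]; exact pow_card_eq_one'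
    have h2 := congrArg (fun z : Subgroup.center R => ((z : R) : GG)) h1
    simpa [pow_two] using h2
  have hxy : x * y = c * (y * x) := by
    rw [hcdef]; group
  have key : x * x * y = y * (x * x) := by
    calc x * x * y = x * (x * y) := by group
      _ = x * (c * (y * x)) := by rw [hxy]
      _ = c * (x * y) * x := by rw [← mul_assoc x c, ← b6_scalar_comm hcs x]; group
      _ = c * (c * (y * x)) * x := by rw [hxy]
      _ = (c * c) * (y * (x * x)) := by group
      _ = y * (x * x) := by rw [hc2, one_mul]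
  have := congrArg (fun g : GG => (g : MM)) key
  simpa [Units.val_mul] using this

theorem b6_two_ne_zero [Fintype F] (hodd : Odd (Fintype.card F)) : (2 : F) ≠ 0 := by
  intro h
  have h2 : ringChar F = 2 := by
    have hd : ringChar F ∣ 2 := (ringChar.spec F 2).1 (by exact_mod_cast h)
    have hp : (ringChar F).Prime := CharP.char_is_prime F (ringChar F)
    exact (Nat.prime_dvd_prime_iff_eq hp Nat.prime_two).1 hd
  have := FiniteField.even_card_of_char_two h2
  rw [Nat.odd_iff] at hodd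
  omega

/-- (∗): if `Sp` normalises the 2-group `R` of similitudes, `x ∈ R` and `f(u, x u) = 0`, then `u` is an eigenvector of `x`. -/
theorem b6_eigen [Fintype F] (hodd : Odd (Fintype.card F)) (R : Subgroup GG)
    (hsim : R ≤ similarityGroup (Cfsg.sympForm m F)) (k : ℕ) (hcard : Nat.card R = 2 ^ k)
    (hN : Cfsg.spGL m F ≤ subgroupNormalizer R) (x : GG) (hx : x ∈ R) (u : VV)
    (hu : Cfsg.sympForm m F u ((x : MM) *ᵥ u) = 0) : ∃ l : F, (x : MM) *ᵥ u = l • u := by
  by_cases hu0 : u = 0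
  · exact ⟨0, by rw [hu0, Matrix.mulVec_zero, smul_zero]⟩
  obtain ⟨μ, hμ⟩ := hsim hx
  have hτm : stv u (-1) ∈ subgroupNormalizer R := hN (stv_mem_spGL u (-1))
  unfold subgroupNormalizer at hτm
  rw [Subgroup.mem_normalizer_iff] at hτm
  have h1 : stv u (-1) * x * (stv u (-1))⁻¹ ∈ R := (hτm x).1 hx
  rw [b6_stv_inv, neg_neg] at h1
  set xu : VV := (x : MM) *ᵥ u with hxu
  have hxuu : Cfsg.sympForm m F xu u = 0 := sympForm_eq_swap hu
  -- the element `y`
  have hyR : stv u (-1) * stv xu (1 * (μ : F)⁻¹) ∈ R := by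
    have h2 : stv u (-1) * x * stv u 1 * x⁻¹ ∈ R := R.mul_mem h1 (R.inv_mem hx)
    have h3 : stv u (-1) * x * stv u 1 * x⁻¹ = stv u (-1) * (x * stv u 1 * x⁻¹) := by group
    rw [h3, b6_conj_stv x μ hμ u 1] at h2
    exact h2
  set y : GG := stv u (-1) * stv xu (1 * (μ : F)⁻¹) with hy
  set N : VV → VV := fun w => ((μ : F)⁻¹ * Cfsg.sympForm m F w xu) • xu + (- Cfsg.sympForm m F w u) • u with hNdef
  have hyw : ∀ w : VV, (y : MM) *ᵥ w = w + N w := by
    intro w
    rw [hy, gl_mul_mulVec, stv_mulVec, stv_mulVec, sympForm_add_left, sympForm_smul_left, hxuu]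
    simp only [hNdef]
    rw [mul_zero, add_zero, one_mul, neg_one_mul, add_assoc]
  have hNN : ∀ (w : VV) (c : F), N (w + c • N w) = N w := by
    intro w c
    simp only [hNdef]
    simp only [sympForm_add_left, sympForm_smul_left, sympForm_self, hu, hxuu]
    simp
  have hpow : ∀ (j : ℕ) (w : VV), ((y ^ j : GG) : MM) *ᵥ w = w + (j : F) • N w := by
    intro j
    induction j with
    | zero => intro w; simp
    | succ j ih =>
      intro w
      rw [pow_succ', gl_mul_mulVec, ih, hyw, hNN, Nat.cast_succ, add_smul, one_smul, add_assoc]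
  have hy1 : y ^ (2 ^ k) = 1 := by
    have h4 : (⟨y, hyR⟩ : R) ^ (2 ^ k) = 1 := by
      rw [← hcard]; exact pow_card_eq_one'
    have h5 := congrArg (fun z : R => (z : GG)) h4
    simpa using h5
  have h2k : ((2 ^ k : ℕ) : F) ≠ 0 := by
    rw [Nat.cast_pow, Nat.cast_ofNat]
    exact pow_ne_zero _ (b6_two_ne_zero hodd)
  have hN0 : ∀ w : VV, N w = 0 := by
    intro w
    have h6 := hpow (2 ^ k) w
    rw [hy1] at h6
    simp only [Units.val_one, Matrix.one_mulVec] at h6
    have h7 : ((2 ^ k : ℕ) : F) • N w = 0 := by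
      have := h6.symm
      rwa [add_eq_left] at this
    exact (smul_eq_zero.1 h7).resolve_left h2k
  obtain ⟨w₀, hw₀⟩ := exists_sympForm_ne u hu0
  have hw₀' : Cfsg.sympForm m F w₀ u ≠ 0 := sympForm_ne_swap hw₀
  have h8 := hN0 w₀
  simp only [hNdef] at h8
  -- `u = d • xu`
  set a : F := (μ : F)⁻¹ * Cfsg.sympForm m F w₀ xu with ha
  set b : F := Cfsg.sympForm m F w₀ u with hb
  have h9 : u = (b⁻¹ * a) • xu := by
    have h10 : b • u = a • xu := by
      have := h8
      rw [neg_smul, add_neg_eq_zero] at this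
      exact this.symm
    calc u = b⁻¹ • (b • u) := by rw [smul_smul, inv_mul_cancel₀ hw₀', one_smul]
      _ = (b⁻¹ * a) • xu := by rw [h10, smul_smul]
  have hd : b⁻¹ * a ≠ 0 := by
    intro h0
    rw [h0, zero_smul] at h9
    exact hu0 h9
  refine ⟨(b⁻¹ * a)⁻¹, ?_⟩
  conv_rhs => rw [h9]
  rw [smul_smul, inv_mul_cancel₀ hd, one_smul]

/-- Chevalley–Warning: the quadratic form `u ↦ f(u, x u)` in `2m ≥ 3` variables has a non-trivial zero. -/
theorem b6_exists_isotropic [Fintype F] (hm : 2 ≤ m) (x : GG) :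
    ∃ u : VV, u ≠ 0 ∧ Cfsg.sympForm m F u ((x : MM) *ᵥ u) = 0 := by
  let B : VV →ₗ[F] VV →ₗ[F] F := LinearMap.mk₂ F (fun u v => Cfsg.sympForm m F u ((x : MM) *ᵥ v))
    (fun u u' v => sympForm_add_left m u u' _)
    (fun c u v => by rw [sympForm_smul_left, smul_eq_mul])
    (fun u v v' => by rw [Matrix.mulVec_add, sympForm_add_right])
    (fun c u v => by rw [Matrix.mulVec_smul, sympForm_smul_right, smul_eq_mul])
  have h3 : 3 ≤ Module.finrank F VV := by
    rw [Module.finrank_fintype_fun_eq_card, Fintype.card_sum, Fintype.card_fin]; omega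
  obtain ⟨u, hu0, hu⟩ :=
    Cfsg.Agent.Lib.H13.exists_singular_of_three_le (LinearMap.BilinMap.toQuadraticMap B) h3
  refine ⟨u, hu0, ?_⟩
  rw [LinearMap.BilinMap.toQuadraticMap_apply] at hu
  exact hu

/-- **SP2-B6**. -/
theorem not_sp_le_subgroupNormalizer [Fintype F] (hm : 2 ≤ m) (hodd : Odd (Fintype.card F))
    (R : Subgroup GG) (habs : ActsAbsolutelyIrreducibly (matrixSet R))
    (hsim : R ≤ similarityGroup (Cfsg.sympForm m F))
    (hcl2 : ∀ x ∈ R, ∀ y ∈ R, x * y * x⁻¹ * y⁻¹ ∈ scalars (Fin m ⊕ Fin m) F)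
    (k : ℕ) (hcard : Nat.card R = 2 ^ k) (hZ : Nat.card (Subgroup.center R) = 2) :
    ¬ Cfsg.spGL m F ≤ subgroupNormalizer R := by
  intro hN
  have h2 : (2 : F) ≠ 0 := b6_two_ne_zero hodd
  -- a non-scalar element of `R`
  have hns : ∃ x ∈ R, ¬ ∃ c : F, (x : MM) = c • (1 : MM) := by
    by_contra hall
    push Not at hall
    let i0 : Fin m ⊕ Fin m := Sum.inl ⟨0, by omega⟩
    let i1 : Fin m ⊕ Fin m := Sum.inr ⟨0, by omega⟩
    obtain ⟨c, hc⟩ := habs.2 (Matrix.diagonal (Pi.single i0 (1 : F))) (by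
      rintro s ⟨y, hy, rfl⟩
      obtain ⟨a, ha⟩ := hall y hy
      change Matrix.diagonal (Pi.single i0 (1 : F)) * (y : MM) = (y : MM) * Matrix.diagonal (Pi.single i0 (1 : F))
      rw [ha, Matrix.smul_mul, Matrix.mul_smul, one_mul, mul_one])
    have e0 := congrFun (congrFun hc i0) i0
    have e1 := congrFun (congrFun hc i1) i1
    simp [i0, i1] at e0 e1
    rw [← e0] at e1
    exact one_ne_zero e1.symm
  obtain ⟨x, hx, hxns⟩ := hns
  obtain ⟨ε, hε⟩ := b6_sq_scalar R habs hcl2 hZ x hx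
  have hstar := b6_eigen hodd R hsim k hcard hN x hx
  obtain ⟨u0, hu0, hu0f⟩ := b6_exists_isotropic hm x
  obtain ⟨l, hl⟩ := hstar u0 hu0f
  have hxx : ∀ v : VV, (x : MM) *ᵥ ((x : MM) *ᵥ v) = ε • v := by
    intro v
    rw [Matrix.mulVec_mulVec, hε, Matrix.smul_mulVec, Matrix.one_mulVec]
  have hlε : l * l = ε := by
    have h1 := hxx u0
    rw [hl, Matrix.mulVec_smul, hl, smul_smul] at h1
    have h3 : (l * l - ε) • u0 = 0 := by rw [sub_smul, h1, sub_self]
    have := (smul_eq_zero.1 h3).resolve_right hu0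
    exact sub_eq_zero.1 this
  have hl0 : l ≠ 0 := by
    intro h0
    rw [h0, zero_smul] at hl
    have h9 := gl_inv_mulVec x u0
    rw [hl, Matrix.mulVec_zero] at h9
    exact hu0 h9.symm
  have h2l : 2 * l ≠ 0 := mul_ne_zero h2 hl0
  -- eigen-decomposition
  set pp : VV → VV := fun v => (2 * l)⁻¹ • ((x : MM) *ᵥ v + l • v) with hpp
  set qq : VV → VV := fun v => (2 * l)⁻¹ • (l • v - (x : MM) *ᵥ v) with hqq
  have hpq : ∀ v, pp v + qq v = v := by
    intro v
    simp only [hpp, hqq]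
    rw [← smul_add, show (x : MM) *ᵥ v + l • v + (l • v - (x : MM) *ᵥ v) = (2 * l) • v by
      rw [mul_smul, two_smul]; abel, smul_smul, inv_mul_cancel₀ h2l, one_smul]
  have hxp : ∀ v, (x : MM) *ᵥ pp v = l • pp v := by
    intro v
    simp only [hpp]
    rw [Matrix.mulVec_smul, Matrix.mulVec_add, hxx, Matrix.mulVec_smul, ← hlε]
    module
  have hxq : ∀ v, (x : MM) *ᵥ qq v = (-l) • qq v := by
    intro v
    simp only [hqq]
    rw [Matrix.mulVec_smul, Matrix.mulVec_sub, hxx, Matrix.mulVec_smul, ← hlε]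
    module
  clear hpp hqq
  clear_value pp qq
  -- both eigenspaces are non-zero
  have hex1 : ∃ u₁ : VV, u₁ ≠ 0 ∧ (x : MM) *ᵥ u₁ = l • u₁ := by
    by_contra hno
    push Not at hno
    apply hxns
    refine ⟨-l, ?_⟩
    apply Matrix.mulVec_injective
    funext v
    have hp0 : pp v = 0 := by
      by_contra hne
      exact hno (pp v) hne (hxp v)
    have hv : v = qq v := by
      have := hpq v
      rw [hp0, zero_add] at this
      exact this.symm
    rw [Matrix.smul_mulVec, Matrix.one_mulVec, hv, hxq]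
  have hex2 : ∃ u₂ : VV, u₂ ≠ 0 ∧ (x : MM) *ᵥ u₂ = (-l) • u₂ := by
    by_contra hno
    push Not at hno
    apply hxns
    refine ⟨l, ?_⟩
    apply Matrix.mulVec_injective
    funext v
    have hq0 : qq v = 0 := by
      by_contra hne
      exact hno (qq v) hne (hxq v)
    have hv : v = pp v := by
      have := hpq v
      rw [hq0, add_zero] at this
      exact this.symm
    rw [Matrix.smul_mulVec, Matrix.one_mulVec, hv, hxp]
  obtain ⟨u₁, hu₁0, hu₁⟩ := hex1
  obtain ⟨u₂, hu₂0, hu₂⟩ := hex2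
  -- an orthogonal pair
  have hpair : ∃ v₁ v₂ : VV, v₁ ≠ 0 ∧ v₂ ≠ 0 ∧ (x : MM) *ᵥ v₁ = l • v₁ ∧ (x : MM) *ᵥ v₂ = (-l) • v₂ ∧
      Cfsg.sympForm m F v₁ v₂ = 0 := by
    by_cases h12 : Cfsg.sympForm m F u₁ u₂ = 0
    · exact ⟨u₁, u₂, hu₁0, hu₂0, hu₁, hu₂, h12⟩
    set a : F := Cfsg.sympForm m F u₁ u₂ with ha
    have hne : Submodule.span F ({u₁, u₂} : Set VV) ≠ ⊤ := by
      intro htop
      classical
      have h1 : Module.finrank F (Submodule.span F ({u₁, u₂} : Set VV)) ≤ 2 := by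
        have h5 := finrank_span_finset_le_card (R := F) ({u₁, u₂} : Finset VV)
        rw [Set.finrank] at h5
        have h6 : (({u₁, u₂} : Finset VV) : Set VV) = {u₁, u₂} := by simp
        rw [h6] at h5
        exact h5.trans Finset.card_le_two
      rw [htop, finrank_top, Module.finrank_fintype_fun_eq_card, Fintype.card_sum, Fintype.card_fin] at h1
      omega
    obtain ⟨w, hw⟩ : ∃ w : VV, w ∉ Submodule.span F ({u₁, u₂} : Set VV) := by
      by_contra hall
      push Not at hall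
      exact hne (eq_top_iff.2 fun w _ => hall w)
    by_cases hwp : ∃ c : F, pp w = c • u₁
    · -- then `qq w ∉ F u₂`
      obtain ⟨c, hc⟩ := hwp
      have hwq : ∀ d : F, qq w ≠ d • u₂ := by
        intro d hd
        apply hw
        rw [Submodule.mem_span_pair]
        exact ⟨c, d, by rw [← hc, ← hd, hpq]⟩
      set v₂ : VV := qq w - (Cfsg.sympForm m F u₁ (qq w) / a) • u₂ with hv₂
      refine ⟨u₁, v₂, hu₁0, ?_, hu₁, ?_, ?_⟩
      · intro h0
        exact hwq _ (sub_eq_zero.1 h0)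
      · rw [hv₂, Matrix.mulVec_sub, Matrix.mulVec_smul, hxq, hu₂]
        module
      · rw [hv₂, sympForm_sub_right, sympForm_smul_right, ← ha, div_mul_cancel₀ _ h12, sub_self]
    · push Not at hwp
      set v₁ : VV := pp w - (Cfsg.sympForm m F (pp w) u₂ / a) • u₁ with hv₁
      refine ⟨v₁, u₂, ?_, hu₂0, ?_, hu₂, ?_⟩
      · intro h0
        exact hwp _ (sub_eq_zero.1 h0)
      · rw [hv₁, Matrix.mulVec_sub, Matrix.mulVec_smul, hxp, hu₁]
        module
      · rw [hv₁, sympForm_sub_left, sympForm_smul_left, ← ha, div_mul_cancel₀ _ h12, sub_self]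
  obtain ⟨v₁, v₂, hv₁0, hv₂0, hxv₁, hxv₂, hv12⟩ := hpair
  have hv21 : Cfsg.sympForm m F v₂ v₁ = 0 := sympForm_eq_swap hv12
  have hiso : Cfsg.sympForm m F (v₁ + v₂) ((x : MM) *ᵥ (v₁ + v₂)) = 0 := by
    rw [Matrix.mulVec_add, hxv₁, hxv₂]
    simp only [sympForm_add_left, sympForm_add_right, sympForm_smul_right, sympForm_self, hv12, hv21]
    ring
  obtain ⟨ν, hν⟩ := hstar (v₁ + v₂) hiso
  rw [Matrix.mulVec_add, hxv₁, hxv₂, smul_add] at hν
  -- `(l - ν) v₁ = (ν + l) v₂`; apply `x`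
  have e1 : (l - ν) • v₁ = (ν + l) • v₂ := by
    rw [sub_smul, add_smul, neg_smul] at *
    have := hν
    rw [← sub_eq_zero] at this ⊢
    rw [← this]; abel
  have e2 := congrArg (fun v => (x : MM) *ᵥ v) e1
  simp only [Matrix.mulVec_smul, hxv₁, hxv₂] at e2
  -- e2 : (l - ν) • l • v₁ = (ν + l) • (-l) • v₂
  have e3 : (2 * l * (l - ν)) • v₁ = 0 := by
    have e4 : (l - ν) • l • v₁ = -(l • ((ν + l) • v₂)) := by
      rw [e2, smul_comm (ν + l) (-l), neg_smul]
    rw [← e1, smul_comm l (l - ν)] at e4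
    have e5 : (2 : F) • ((l - ν) • l • v₁) = 0 := by
      rw [two_smul]
      nth_rewrite 1 [e4]
      rw [neg_add_cancel]
    rw [smul_smul, smul_smul] at e5
    rw [show 2 * l * (l - ν) = 2 * (l - ν) * l by ring]
    exact e5
  have hνl : ν = l := by
    have h5 := (smul_eq_zero.1 e3).resolve_right hv₁0
    have h6 := (mul_eq_zero.1 h5).resolve_left h2l
    exact (sub_eq_zero.1 h6).symm
  rw [hνl, sub_self, zero_smul] at e1
  have h7 := (smul_eq_zero.1 e1.symm).resolve_right hv₂0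
  have h8 : 2 * l = 0 := by rw [← h7]; ring
  exact h2l h8

end Cfsg.Agent.Lib.H9.AschSP2
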