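/-
SYMPLECTIC PHASE 2 (architect: helper9): generic assembly for the rows "every maximal subgroup of Sp_2m(q) is geometric or
residual" (S5787 S5790 S5805 S5823 S5844 S5868), from the landed pieces of the farm-out tools/blueprints/SP2_sigs.lean:
B1 B5 B8 E2 (helper25), F0 F1 F6 B2 (helper17), F3 (helper4), E1 (helper27), B3 B4 (helper26), B6 (helper9).
`srow_cases : MainStrongS m F → IsMaximalIn (spGL m F) H → NFS m F H ∨ InSymplecticResidualClass H`.
-/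
import Cfsg.Agent.Lib.H11.AschSDefs
import Cfsg.Agent.Lib.H11.SimMax5
import Cfsg.Agent.Lib.H9.AschSP2B6
import Cfsg.Agent.Lib.H25.AschSP2B1
import Cfsg.Agent.Lib.H25.AschSP2B5
import Cfsg.Agent.Lib.H25.AschSP2B8
import Cfsg.Agent.Lib.H25.AschSP2E2
import Cfsg.Agent.Lib.H17.AschSP2F0
import Cfsg.Agent.Lib.H17.AschSP2F1
import Cfsg.Agent.Lib.H17.AschSP2F6
import Cfsg.Agent.Lib.H17.AschSP2B2
import Cfsg.Agent.Lib.H4.AschSP2F3
import Cfsg.Agent.Lib.H27.AschSP2E1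
import Cfsg.Agent.Lib.H26.AschSP2B3
import Cfsg.Agent.Lib.H26.AschSP2B4

set_option autoImplicit false

namespace Cfsg.Agent.Lib.H9.AschSP2

open Cfsg Cfsg.Geo Cfsg.Agent.Lib.Lead.Asch Cfsg.Agent.Lib.H11.AschS
open Cfsg.Agent.Lib.H25.AschSP2 Cfsg.Agent.Lib.H17.AschSP2 Cfsg.Agent.Lib.H4.AschSP2
  Cfsg.Agent.Lib.H27.AschSP2 Cfsg.Agent.Lib.H26.AschSP2
open scoped MatrixGroups Matrix Kronecker

variable {F : Type*} [Field F] [Fintype F] {m : ℕ}

/-- The statement of `smain_strong` on `Fin m ⊕ Fin m`. -/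
def MainStrongS (m : ℕ) (F : Type*) [Field F] [Fintype F] : Prop :=
  ∀ H : Subgroup (GL (Fin m ⊕ Fin m) F), H ≤ spGL m F →
    STameS (sympForm m F) H ∨ InSymplecticResidualClass H

/-! ## Generic assembly -/

theorem eq_inf_of_maximal {G : Type*} [Group G] {K H M : Subgroup G} (hH : IsMaximalIn K H) (hHM : H ≤ M)
    (hM : ¬ K ≤ M) : H = M ⊓ K := by
  rcases hH.2 (M ⊓ K) (le_inf hHM hH.1.le) inf_le_right with h | h
  · exact h.symm
  · exact absurd (h ▸ inf_le_left) hM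

/-- Normal form of a maximal subgroup of `Sp_2m(F)`, `m ≥ 2`, which is not in the residual class.  Classes 6 and 7 are
kept in the raw form `H ≤ member` (they do not occur for 2m = 6, 10, 12 by arithmetic; the rows 2m = 4, 8 treat them
with the stretch lemmas). -/
def NFS (m : ℕ) (F : Type*) [Field F] [Fintype F] (H : Subgroup (GL (Fin m ⊕ Fin m) F)) : Prop :=
  (∃ W : Submodule F (Fin m ⊕ Fin m → F), W ≠ ⊥ ∧ IsTotallySingularFor (sympForm m F) W ∧
      H = subspaceStabilizer W ⊓ spGL m F) ∨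
  (∃ W : Submodule F (Fin m ⊕ Fin m → F), W ≠ ⊥ ∧ IsNondegenerateOn (sympForm m F) W ∧
      Module.finrank F W < m ∧ H = subspaceStabilizer W ⊓ spGL m F) ∨
  (∃ (t k : ℕ) (D : Fin t → Submodule F (Fin m ⊕ Fin m → F)), t * k = 2 * m ∧ Even k ∧ 2 ≤ t ∧
      (k = 2 → 3 ≤ Fintype.card F) ∧ IsNondegenerateMDecomposition (sympForm m F) k D ∧
      H = decompositionStabilizer D ⊓ spGL m F) ∨
  (Odd (Fintype.card F) ∧ ∃ D : Fin 2 → Submodule F (Fin m ⊕ Fin m → F), IsMDecomposition m D ∧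
      (∀ i, IsTotallySingularFor (sympForm m F) (D i)) ∧ H = decompositionStabilizer D ⊓ spGL m F) ∨
  (∃ (r : ℕ) (K : Subalgebra F (Matrix (Fin m ⊕ Fin m) (Fin m ⊕ Fin m) F)), r.Prime ∧ r ∣ m ∧
      IsFieldSubalgebra r K ∧ IsSelfAdjointFor (sympForm m F) K ∧
      (∀ k ∈ K, ∀ v : Fin m ⊕ Fin m → F, sympForm m F (k *ᵥ v) v = 0) ∧
      H = subalgebraNormalizer K ⊓ spGL m F) ∨
  (Odd (Fintype.card F) ∧ ∃ K : Subalgebra F (Matrix (Fin m ⊕ Fin m) (Fin m ⊕ Fin m) F),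
      IsFieldSubalgebra 2 K ∧ IsAdjointClosedFor (sympForm m F) K ∧ ¬ IsSelfAdjointFor (sympForm m F) K ∧
      H = subalgebraNormalizer K ⊓ spGL m F) ∨
  (Odd (Fintype.card F) ∧ ∃ (n₁ n₂ : ℕ) (e : Fin m ⊕ Fin m ≃ Fin n₁ × Fin n₂) (P : GL (Fin m ⊕ Fin m) F)
      (f₁ : (Fin n₁ → F) → (Fin n₁ → F) → F) (f₂ : (Fin n₂ → F) → (Fin n₂ → F) → F),
      n₁ * n₂ = 2 * m ∧ Even n₁ ∧ 3 ≤ n₂ ∧ (n₂ = 3 → 5 ≤ Fintype.card F) ∧ IsSymplecticForm f₁ ∧
      IsSymmetricForm f₂ ∧ IsTensorFormStructure id (sympForm m F) f₁ f₂ e P ∧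
      H = tensorProductSubgroup n₁ n₂ e P ⊓ spGL m F) ∨
  (∃ (F₀ : Subfield F) (r : ℕ) (P : GL (Fin m ⊕ Fin m) F) (ζ : F), r.Prime ∧
      Fintype.card F = Nat.card F₀ ^ r ∧ ζ ≠ 0 ∧ IsFormRationalStructure (sympForm m F) F₀ ζ P ∧
      H = subfieldSubgroup F₀ P ⊓ spGL m F) ∨
  (∃ (R : Subgroup (GL (Fin m ⊕ Fin m) F)) (p k : ℕ), 2 * m = 2 ^ k ∧ IsSymplecticTypeGroup 2 R ∧
      ActsAbsolutelyIrreducibly (matrixSet R) ∧ R ≤ similarityGroup (sympForm m F) ∧ p.Prime ∧ Odd p ∧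
      Fintype.card F = p ∧ Nat.card R = 2 ^ (1 + 2 * k) ∧ Nat.card (Subgroup.center R) = 2 ∧
      IsOfMinusType k R ∧ H = subgroupNormalizer R ⊓ spGL m F) ∨
  (∃ (k t : ℕ) (e : Fin m ⊕ Fin m ≃ (Fin t → Fin k)) (P : GL (Fin m ⊕ Fin m) F)
      (f₁ : (Fin k → F) → (Fin k → F) → F), k ^ t = 2 * m ∧ Odd (Fintype.card F) ∧ Odd t ∧ 3 ≤ t ∧
      ¬ (Fintype.card F = 3 ∧ k = 2) ∧ IsSymplecticForm f₁ ∧
      IsTensorPowerFormStructure id (sympForm m F) f₁ e P ∧ H ≤ tensorWreathSubgroup k t e P) ∨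
  (¬ Odd (Fintype.card F) ∧ ∃ Q : (Fin m ⊕ Fin m → F) → F, IsNondegenerateQuadraticForm Q ∧
      (∀ u v, QuadraticMap.polar Q u v = sympForm m F u v) ∧ H = quadSimilarityGroup Q ⊓ spGL m F)

theorem card_idx (m : ℕ) : Fintype.card (Fin m ⊕ Fin m) = 2 * m := by
  rw [Fintype.card_sum, Fintype.card_fin, two_mul]

theorem srow_cases (hm : 2 ≤ m) (hmain : MainStrongS m F) (H : Subgroup (GL (Fin m ⊕ Fin m) F))
    (hH : IsMaximalIn (spGL m F) H) : NFS m F H ∨ InSymplecticResidualClass H := by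
  have hHle : H ≤ spGL m F := hH.1.le
  rcases hmain H hHle with hS | hres
  swap
  · exact Or.inr hres
  left
  have hq2 : 2 ≤ Fintype.card F := Fintype.one_lt_card
  -- class 8
  have c8 : ∀ Q : (Fin m ⊕ Fin m → F) → F, ¬ Odd (Fintype.card F) → IsNondegenerateQuadraticForm Q →
      (∀ u v, QuadraticMap.polar Q u v = sympForm m F u v) → H ≤ quadSimilarityGroup Q → NFS m F H := by
    intro Q ho hQ hpol hle
    exact Or.inr (Or.inr (Or.inr (Or.inr (Or.inr (Or.inr (Or.inr (Or.inr (Or.inr (Or.inr ⟨ho, Q, hQ, hpol,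
      eq_inf_of_maximal hH hle (not_sp_le_quadSimilarityGroup hm Q hQ hpol)⟩)))))))))
  -- class 2a
  have c2a : ∀ (t k : ℕ) (D : Fin t → Submodule F (Fin m ⊕ Fin m → F)),
      IsNondegenerateMDecomposition (sympForm m F) k D → H ≤ decompositionStabilizer D → NFS m F H := by
    intro t k D hD hle
    have htk : t * k = 2 * m := by
      rw [mul_eq_of_isMDecomposition D hD.decomp, card_idx]
    have ht : 2 ≤ t := hD.decomp.two_le
    have hke : Even k := by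
      have h1 := even_finrank_of_nondegenerateOn (sympForm m F)
        (Cfsg.Agent.Lib.H11.SimMax.sympForm_isSymplectic F m).bilinear
        (Cfsg.Agent.Lib.H11.SimMax.sympForm_isSymplectic F m).alternating
        (D ⟨0, by omega⟩) (hD.nondegenerate _)
      rwa [hD.decomp.finrank_eq] at h1
    have hk2 : 2 ≤ k := by
      have := hD.decomp.pos
      obtain ⟨j, hj⟩ := hke
      omega
    by_cases hkq : k = 2 ∧ Fintype.card F = 2
    · obtain ⟨rfl, hq⟩ := hkq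
      obtain ⟨Q, hQ, hpol, hle'⟩ := c2a_two_q2 D hD hq
      exact c8 Q (by rw [hq]; decide) hQ hpol (hle.trans hle')
    exact Or.inr (Or.inr (Or.inl ⟨t, k, D, htk, hke, ht, fun h => by omega, hD,
      eq_inf_of_maximal hH hle (not_sp_le_decompositionStabilizer D hD.decomp hk2)⟩))
  rcases hS with h | h | h | h | h | h | h | h | h | h | h
  · -- SC1a
    obtain ⟨W, h0, hts, hle⟩ := h
    exact Or.inl ⟨W, h0, hts, eq_inf_of_maximal hH hle
      (not_sp_le_subspaceStabilizer (by omega) W h0 (ne_top_of_totallySingular (by omega) W hts))⟩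
  · -- SC1b
    obtain ⟨W, h0, hnd, hlt, hle⟩ := h
    rw [card_idx] at hlt
    have hlt' : Module.finrank F W < m := by omega
    exact Or.inr (Or.inl ⟨W, h0, hnd, hlt', eq_inf_of_maximal hH hle
      (not_sp_le_subspaceStabilizer (by omega) W h0 (ne_top_of_finrank_lt W hlt'))⟩)
  · -- SC2a
    obtain ⟨t, k, D, hD, hle⟩ := h
    exact c2a t k D hD hle
  · -- SC2b
    obtain ⟨k, D, ho, hk, hD, hts, hle⟩ := h
    rw [card_idx] at hk
    have hkm : k = m := by omega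
    subst hkm
    exact Or.inr (Or.inr (Or.inr (Or.inl ⟨ho, D, hD, hts,
      eq_inf_of_maximal hH hle (not_sp_le_decompositionStabilizer D hD hm)⟩)))
  · -- SC3a
    obtain ⟨r, K, hr, hK, hsa, halt, hle⟩ := h
    exact Or.inr (Or.inr (Or.inr (Or.inr (Or.inl ⟨r, K, hr, dvd_of_selfAdjoint r K hK hsa halt, hK, hsa, halt,
      eq_inf_of_maximal hH hle (not_sp_le_subalgebraNormalizer hm r K hr hK)⟩))))
  · -- SC3b
    obtain ⟨K, ho, hK, hac, hns, hle⟩ := h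
    exact Or.inr (Or.inr (Or.inr (Or.inr (Or.inr (Or.inl ⟨ho, K, hK, hac, hns,
      eq_inf_of_maximal hH hle (not_sp_le_subalgebraNormalizer hm 2 K Nat.prime_two hK)⟩)))))
  · -- SC4
    obtain ⟨n₁, n₂, e, P, f₁, f₂, ho, h3, hf₁, hf₂, hT, hle⟩ := h
    have hcard : n₁ * n₂ = 2 * m := by
      have := Fintype.card_congr e
      rw [card_idx] at this
      simpa [Fintype.card_prod] using this.symm
    have he1 : Even n₁ := by
      have := even_card_of_isSymplecticForm f₁ hf₁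
      simpa using this
    have h1 : 2 ≤ n₁ := by
      obtain ⟨j, hj⟩ := he1
      rcases Nat.eq_zero_or_pos n₁ with h0 | h0
      · rw [h0, zero_mul] at hcard; omega
      · omega
    by_cases h3q : n₂ = 3 ∧ Fintype.card F < 5
    · obtain ⟨rfl, hq5⟩ := h3q
      have hq : Fintype.card F = 3 := by
        obtain ⟨j, hj⟩ := ho
        omega
      obtain ⟨D, hD, hle'⟩ := c4_three_q3 (by omega) n₁ e P f₁ f₂ hf₁ hf₂ hT hq
      exact c2a 3 n₁ D hD (le_trans (le_inf hle hHle) hle')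
    exact Or.inr (Or.inr (Or.inr (Or.inr (Or.inr (Or.inr (Or.inl ⟨ho, n₁, n₂, e, P, f₁, f₂, hcard, he1, h3,
      fun h => by omega, hf₁, hf₂, hT,
      eq_inf_of_maximal hH hle (not_sp_le_tensorProductSubgroup n₁ n₂ e P h1 (by omega))⟩))))))
  · -- SC5
    obtain ⟨F₀, r, P, ζ, hr, hcard, hζ, hrat, hle⟩ := h
    exact Or.inr (Or.inr (Or.inr (Or.inr (Or.inr (Or.inr (Or.inr (Or.inl ⟨F₀, r, P, ζ, hr, hcard, hζ, hrat,
      eq_inf_of_maximal hH hle (not_sp_le_subfieldSubgroup (by omega) F₀ r P hr hcard)⟩)))))))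
  · -- SC6
    obtain ⟨R, p, k, h1, h2, h3, h4, h5, h6, h7, h8, h9, h10, hle⟩ := h
    exact Or.inr (Or.inr (Or.inr (Or.inr (Or.inr (Or.inr (Or.inr (Or.inr (Or.inl ⟨R, p, k,
      sc6_dim R h2 h10 k h7 h8, h1, h2, h3, h4, h5, h6, h7, h8, h9,
      eq_inf_of_maximal hH hle (not_sp_le_subgroupNormalizer hm (h6 ▸ h5) R h2 h3 h10 _ h7 h8)⟩))))))))
  · -- SC7
    obtain ⟨k, t, e, P, f₁, ho, hto, ht3, hne, hf₁, hT, hle⟩ := h
    have hcard : k ^ t = 2 * m := by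
      have := Fintype.card_congr e
      rw [card_idx] at this
      simpa using this.symm
    exact Or.inr (Or.inr (Or.inr (Or.inr (Or.inr (Or.inr (Or.inr (Or.inr (Or.inr (Or.inl ⟨k, t, e, P, f₁, hcard,
      ho, hto, ht3, hne, hf₁, hT, hle⟩)))))))))
  · -- SC8
    obtain ⟨Q, ho, hQ, hpol, hle⟩ := h
    exact c8 Q ho hQ hpol hle

end Cfsg.Agent.Lib.H9.AschSP2
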