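/-
SYMPLECTIC PHASE 2 (helper9): the stretch rows Sp4 (q odd) and Sp8 from `srow_cases`, SP2-B6 and the stretch pieces
SP2-S1 (helper4), SP2-S3 (helper8) [imported] and SP2-S2, SP2-S4, SP2-S5 [as hypotheses `S2Stmt`, `S4Stmt`, `S5Stmt`].
-/
import Cfsg.Agent.Lib.H9.AschSP2Rows
import Cfsg.Agent.Lib.H9.AschSP2C6
import Cfsg.Agent.Lib.H4.AschSP2S1
import Cfsg.Agent.Lib.H8.AschSP2S3

set_option autoImplicit false

namespace Cfsg.Agent.Lib.H9.AschSP2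

open Cfsg Cfsg.Geo Cfsg.Agent.Lib.Lead.Asch Cfsg.Agent.Lib.H11.AschS
open Cfsg.Agent.Lib.H17.AschSP2 Cfsg.Agent.Lib.H4.AschSP2 Cfsg.Agent.Lib.H8.AschSP2
open scoped MatrixGroups Matrix Kronecker

variable {F : Type*} [Field F] [Fintype F] {m : ℕ}

/-- The statement of **SP2-S2** (`c3b_q3_m2`) over `F`. -/
def S2Stmt (F : Type*) [Field F] [Fintype F] : Prop :=
  Fintype.card F = 3 →
    ∀ K : Subalgebra F (Matrix (Fin 2 ⊕ Fin 2) (Fin 2 ⊕ Fin 2) F), IsFieldSubalgebra 2 K →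
      IsAdjointClosedFor (sympForm 2 F) K → ¬ IsSelfAdjointFor (sympForm 2 F) K →
      ∃ R : Subgroup (GL (Fin 2 ⊕ Fin 2) F), C6Data 2 2 F R ∧
        subalgebraNormalizer K ⊓ spGL 2 F ≤ subgroupNormalizer R

/-- The statement of **SP2-S4** (`c4_plus`) over `F`. -/
def S4Stmt (F : Type*) [Field F] [Fintype F] : Prop :=
  Odd (Fintype.card F) → ∀ (e : Fin 4 ⊕ Fin 4 ≃ Fin 2 × Fin 4)
    (P : GL (Fin 4 ⊕ Fin 4) F) (f₁ : (Fin 2 → F) → (Fin 2 → F) → F)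
    (f₂ : (Fin 4 → F) → (Fin 4 → F) → F), IsSymplecticForm f₁ → IsSymmetricForm f₂ →
    IsPlusTypeOn (fun v : Fin 4 → F => f₂ v v) ⊤ →
    IsTensorFormStructure id (sympForm 4 F) f₁ f₂ e P →
    ∃ (e' : Fin 4 ⊕ Fin 4 ≃ (Fin 3 → Fin 2)) (P' : GL (Fin 4 ⊕ Fin 4) F)
      (f₁' : (Fin 2 → F) → (Fin 2 → F) → F), IsSymplecticForm f₁' ∧
      IsTensorPowerFormStructure id (sympForm 4 F) f₁' e' P' ∧
      tensorProductSubgroup 2 4 e P ⊓ spGL 4 F ≤ tensorWreathSubgroup 2 3 e' P'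

/-- The statement of **SP2-S5** (`c7_q3`) over `F`. -/
def S5Stmt (F : Type*) [Field F] [Fintype F] : Prop :=
  Fintype.card F = 3 → ∀ (e : Fin 4 ⊕ Fin 4 ≃ (Fin 3 → Fin 2))
    (P : GL (Fin 4 ⊕ Fin 4) F) (f₁ : (Fin 2 → F) → (Fin 2 → F) → F), IsSymplecticForm f₁ →
    IsTensorPowerFormStructure id (sympForm 4 F) f₁ e P →
    ∃ R : Subgroup (GL (Fin 4 ⊕ Fin 4) F), C6Data 4 3 F R ∧
      tensorWreathSubgroup 2 3 e P ≤ subgroupNormalizer R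

theorem card_three_of_odd_lt (ho : Odd (Fintype.card F)) (h5 : ¬ 5 ≤ Fintype.card F) :
    Fintype.card F = 3 := by
  have h2 : 2 ≤ Fintype.card F := Fintype.one_lt_card
  obtain ⟨j, hj⟩ := ho
  omega

theorem row_sp4_odd {F : Type*} [Field F] [Fintype F] (hmain : MainStrongS 2 F) (hS2 : S2Stmt F) (hodd : Odd (Fintype.card F)) (H : Subgroup (Matrix.GeneralLinearGroup (Fin 2 ⊕ Fin 2) F)) (hH : Cfsg.Geo.IsMaximalIn (Cfsg.spGL 2 F) H) :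
    (∃ W : Submodule F (Fin 2 ⊕ Fin 2 → F), W ≠ ⊥ ∧ Cfsg.Geo.IsTotallySingularFor (Cfsg.sympForm 2 F) W ∧ H = Cfsg.Geo.subspaceStabilizer W ⊓ Cfsg.spGL 2 F) ∨
    (∃ D : Fin 2 → Submodule F (Fin 2 ⊕ Fin 2 → F), Cfsg.Geo.IsNondegenerateMDecomposition (Cfsg.sympForm 2 F) 2 D ∧ H = Cfsg.Geo.decompositionStabilizer D ⊓ Cfsg.spGL 2 F) ∨
    (5 ≤ Fintype.card F ∧ ∃ D : Fin 2 → Submodule F (Fin 2 ⊕ Fin 2 → F), Cfsg.Geo.IsMDecomposition 2 D ∧ (∀ i, Cfsg.Geo.IsTotallySingularFor (Cfsg.sympForm 2 F) (D i)) ∧ H = Cfsg.Geo.decompositionStabilizer D ⊓ Cfsg.spGL 2 F) ∨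
    (∃ K : Subalgebra F (Matrix (Fin 2 ⊕ Fin 2) (Fin 2 ⊕ Fin 2) F), Cfsg.Geo.IsFieldSubalgebra 2 K ∧ Cfsg.Geo.IsSelfAdjointFor (Cfsg.sympForm 2 F) K ∧ (∀ k ∈ K, ∀ v : (Fin 2 ⊕ Fin 2 → F), (Cfsg.sympForm 2 F) (Matrix.mulVec k v) v = 0) ∧ H = Cfsg.Geo.subalgebraNormalizer K ⊓ Cfsg.spGL 2 F) ∨
    (5 ≤ Fintype.card F ∧ ∃ K : Subalgebra F (Matrix (Fin 2 ⊕ Fin 2) (Fin 2 ⊕ Fin 2) F), Cfsg.Geo.IsFieldSubalgebra 2 K ∧ Cfsg.Geo.IsAdjointClosedFor (Cfsg.sympForm 2 F) K ∧ ¬ Cfsg.Geo.IsSelfAdjointFor (Cfsg.sympForm 2 F) K ∧ H = Cfsg.Geo.subalgebraNormalizer K ⊓ Cfsg.spGL 2 F) ∨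
    (∃ (F₀ : Subfield F) (r : ℕ) (P : Matrix.GeneralLinearGroup (Fin 2 ⊕ Fin 2) F) (ζ : F), r.Prime ∧ Fintype.card F = Nat.card F₀ ^ r ∧ ζ ≠ 0 ∧ Cfsg.Geo.IsFormRationalStructure (Cfsg.sympForm 2 F) F₀ ζ P ∧ H = Cfsg.Geo.subfieldSubgroup F₀ P ⊓ Cfsg.spGL 2 F) ∨
    (∃ (p : ℕ) (R : Subgroup (Matrix.GeneralLinearGroup (Fin 2 ⊕ Fin 2) F)), p.Prime ∧ Fintype.card F = p ∧ Cfsg.Geo.IsSymplecticTypeGroup 2 R ∧ Cfsg.Geo.ActsAbsolutelyIrreducibly (Cfsg.Geo.matrixSet R) ∧ R ≤ Cfsg.Geo.similarityGroup (Cfsg.sympForm 2 F) ∧ Nat.card R = 32 ∧ Nat.card (Subgroup.center R) = 2 ∧ Cfsg.Geo.IsOfMinusType 2 R ∧ H = Cfsg.Geo.subgroupNormalizer R ⊓ Cfsg.spGL 2 F) ∨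
    Cfsg.Geo.InSymplecticResidualClass H := by
  have hsymp := Cfsg.Agent.Lib.H11.SimMax.sympForm_isSymplectic F 2
  rcases srow_cases (le_refl 2) hmain H hH with h | h
  swap
  · exact Or.inr (Or.inr (Or.inr (Or.inr (Or.inr (Or.inr (Or.inr (h)))))))
  rcases h with h | h | h | h | h | h | h | h | h | h | h
  · exact Or.inl h
  · obtain ⟨W, h0, hnd, hlt, -⟩ := h
    exfalso
    have he := even_finrank_of_nondegenerateOn (sympForm 2 F) hsymp.bilinear hsymp.alternating W hnd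
    have h00 : Module.finrank F W = 0 := by
      obtain ⟨j, hj⟩ := he
      omega
    exact h0 (Submodule.finrank_eq_zero.mp h00)
  · obtain ⟨t, k, D, htk, hke, ht, hq, hD, hHeq⟩ := h
    have htk2 : t = 2 ∧ k = 2 := by
      obtain ⟨j, hj⟩ := hke
      have h1 : t ≤ 4 := Nat.le_of_dvd (by norm_num) (Dvd.intro k htk)
      interval_cases t <;> omega
    obtain ⟨rfl, rfl⟩ := htk2
    exact Or.inr (Or.inl ⟨D, hD, hHeq⟩)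
  · obtain ⟨ho, D, hD, hts, hHeq⟩ := h
    by_cases h5 : 5 ≤ Fintype.card F
    · exact Or.inr (Or.inr (Or.inl ⟨h5, D, hD, hts, hHeq⟩))
    · obtain ⟨D', hD', hle⟩ := c2b_q3_m2 (card_three_of_odd_lt ho h5) D hD hts
      have hle' : H ≤ decompositionStabilizer D' := by
        rw [hHeq]; exact hle
      exact Or.inr (Or.inl ⟨D', hD', eq_inf_of_maximal hH hle' (not_sp_le_decompositionStabilizer D' hD'.decomp (le_refl 2))⟩)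
  · obtain ⟨r, K, hr, hrm, hK, hsa, halt, hHeq⟩ := h
    have hr2 : r = 2 := (Nat.prime_dvd_prime_iff_eq hr Nat.prime_two).mp hrm
    subst hr2
    exact Or.inr (Or.inr (Or.inr (Or.inl ⟨K, hK, hsa, halt, hHeq⟩)))
  · obtain ⟨ho, K, hK, hac, hns, hHeq⟩ := h
    by_cases h5 : 5 ≤ Fintype.card F
    · exact Or.inr (Or.inr (Or.inr (Or.inr (Or.inl ⟨h5, K, hK, hac, hns, hHeq⟩))))
    · have hq3 := card_three_of_odd_lt ho h5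
      obtain ⟨R, ⟨h1, h2, h3, h4, h5', h6, h7⟩, hle⟩ := hS2 hq3 K hK hac hns
      have hle' : H ≤ subgroupNormalizer R := by
        rw [hHeq]; exact hle
      exact Or.inr (Or.inr (Or.inr (Or.inr (Or.inr (Or.inr (Or.inl ⟨3, R, Nat.prime_three, hq3, h1, h2, h3, h4, h5', h6, eq_inf_of_maximal hH hle' (not_sp_le_subgroupNormalizer (le_refl 2) ho R h2 h3 h7 _ h4 h5')⟩))))))
  · obtain ⟨ho, n₁, n₂, e, P, f₁, f₂, hcard, he1, h3, -⟩ := h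
    exfalso
    obtain ⟨j, hj⟩ := he1
    have h1 : n₁ ≤ 4 := Nat.le_of_dvd (by norm_num) (Dvd.intro n₂ hcard)
    interval_cases n₁ <;> omega
  · exact Or.inr (Or.inr (Or.inr (Or.inr (Or.inr (Or.inl h)))))
  · obtain ⟨R, p, k, h2k, h1, h2, h3, h4, h5, h6, h7, h8, h9, hHeq⟩ := h
    have hk : k = 2 := by
      have : k ≤ 4 := by
        by_contra hk4
        have : 2 ^ 5 ≤ 2 ^ k := Nat.pow_le_pow_right (by norm_num) (by omega)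
        omega
      interval_cases k <;> omega
    subst hk
    exact Or.inr (Or.inr (Or.inr (Or.inr (Or.inr (Or.inr (Or.inl ⟨p, R, h4, h6, h1, h2, h3, h7, h8, h9, hHeq⟩))))))
  · obtain ⟨k, t, e, P, f₁, hkt, ho, hto, ht3, -⟩ := h
    exact absurd hkt (no_pow 4 (by norm_num) (by norm_num) (by norm_num) k t ht3)
  · exact absurd hodd h.1

theorem row_sp8 {F : Type*} [Field F] [Fintype F] (hmain : MainStrongS 4 F) (hS4 : S4Stmt F) (hS5 : S5Stmt F) (H : Subgroup (Matrix.GeneralLinearGroup (Fin 4 ⊕ Fin 4) F)) (hH : Cfsg.Geo.IsMaximalIn (Cfsg.spGL 4 F) H) :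
    (∃ W : Submodule F (Fin 4 ⊕ Fin 4 → F), W ≠ ⊥ ∧ Cfsg.Geo.IsTotallySingularFor (Cfsg.sympForm 4 F) W ∧ H = Cfsg.Geo.subspaceStabilizer W ⊓ Cfsg.spGL 4 F) ∨
    (∃ W : Submodule F (Fin 4 ⊕ Fin 4 → F), W ≠ ⊥ ∧ Cfsg.Geo.IsNondegenerateOn (Cfsg.sympForm 4 F) W ∧ Module.finrank F W < 4 ∧ H = Cfsg.Geo.subspaceStabilizer W ⊓ Cfsg.spGL 4 F) ∨
    (3 ≤ Fintype.card F ∧ ∃ D : Fin 4 → Submodule F (Fin 4 ⊕ Fin 4 → F), Cfsg.Geo.IsNondegenerateMDecomposition (Cfsg.sympForm 4 F) 2 D ∧ H = Cfsg.Geo.decompositionStabilizer D ⊓ Cfsg.spGL 4 F) ∨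
    (∃ D : Fin 2 → Submodule F (Fin 4 ⊕ Fin 4 → F), Cfsg.Geo.IsNondegenerateMDecomposition (Cfsg.sympForm 4 F) 4 D ∧ H = Cfsg.Geo.decompositionStabilizer D ⊓ Cfsg.spGL 4 F) ∨
    (Odd (Fintype.card F) ∧ ∃ D : Fin 2 → Submodule F (Fin 4 ⊕ Fin 4 → F), Cfsg.Geo.IsMDecomposition 4 D ∧ (∀ i, Cfsg.Geo.IsTotallySingularFor (Cfsg.sympForm 4 F) (D i)) ∧ H = Cfsg.Geo.decompositionStabilizer D ⊓ Cfsg.spGL 4 F) ∨
    (∃ K : Subalgebra F (Matrix (Fin 4 ⊕ Fin 4) (Fin 4 ⊕ Fin 4) F), Cfsg.Geo.IsFieldSubalgebra 2 K ∧ Cfsg.Geo.IsSelfAdjointFor (Cfsg.sympForm 4 F) K ∧ (∀ k ∈ K, ∀ v : (Fin 4 ⊕ Fin 4 → F), (Cfsg.sympForm 4 F) (Matrix.mulVec k v) v = 0) ∧ H = Cfsg.Geo.subalgebraNormalizer K ⊓ Cfsg.spGL 4 F) ∨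
    (Odd (Fintype.card F) ∧ ∃ K : Subalgebra F (Matrix (Fin 4 ⊕ Fin 4) (Fin 4 ⊕ Fin 4) F), Cfsg.Geo.IsFieldSubalgebra 2 K ∧ Cfsg.Geo.IsAdjointClosedFor (Cfsg.sympForm 4 F) K ∧ ¬ Cfsg.Geo.IsSelfAdjointFor (Cfsg.sympForm 4 F) K ∧ H = Cfsg.Geo.subalgebraNormalizer K ⊓ Cfsg.spGL 4 F) ∨
    (Odd (Fintype.card F) ∧ ∃ (e : (Fin 4 ⊕ Fin 4) ≃ Fin 2 × Fin 4) (P : Matrix.GeneralLinearGroup (Fin 4 ⊕ Fin 4) F) (f₁ : (Fin 2 → F) → (Fin 2 → F) → F) (f₂ : (Fin 4 → F) → (Fin 4 → F) → F), Cfsg.Geo.IsSymplecticForm f₁ ∧ Cfsg.Geo.IsSymmetricForm f₂ ∧ ¬ Cfsg.Geo.IsPlusTypeOn (fun v : Fin 4 → F => f₂ v v) ⊤ ∧ Cfsg.Geo.IsTensorFormStructure id (Cfsg.sympForm 4 F) f₁ f₂ e P ∧ H = Cfsg.Geo.tensorProductSubgroup 2 4 e P ⊓ Cfsg.spGL 4 F) ∨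
    (∃ (F₀ : Subfield F) (r : ℕ) (P : Matrix.GeneralLinearGroup (Fin 4 ⊕ Fin 4) F) (ζ : F), r.Prime ∧ Fintype.card F = Nat.card F₀ ^ r ∧ ζ ≠ 0 ∧ Cfsg.Geo.IsFormRationalStructure (Cfsg.sympForm 4 F) F₀ ζ P ∧ H = Cfsg.Geo.subfieldSubgroup F₀ P ⊓ Cfsg.spGL 4 F) ∨
    (∃ (p : ℕ) (R : Subgroup (Matrix.GeneralLinearGroup (Fin 4 ⊕ Fin 4) F)), p.Prime ∧ Odd p ∧ Fintype.card F = p ∧ Cfsg.Geo.IsSymplecticTypeGroup 2 R ∧ Cfsg.Geo.ActsAbsolutelyIrreducibly (Cfsg.Geo.matrixSet R) ∧ R ≤ Cfsg.Geo.similarityGroup (Cfsg.sympForm 4 F) ∧ Nat.card R = 128 ∧ Nat.card (Subgroup.center R) = 2 ∧ Cfsg.Geo.IsOfMinusType 3 R ∧ H = Cfsg.Geo.subgroupNormalizer R ⊓ Cfsg.spGL 4 F) ∨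
    (Odd (Fintype.card F) ∧ 5 ≤ Fintype.card F ∧ ∃ (e : (Fin 4 ⊕ Fin 4) ≃ (Fin 3 → Fin 2)) (P : Matrix.GeneralLinearGroup (Fin 4 ⊕ Fin 4) F) (f₁ : (Fin 2 → F) → (Fin 2 → F) → F), Cfsg.Geo.IsSymplecticForm f₁ ∧ Cfsg.Geo.IsTensorPowerFormStructure id (Cfsg.sympForm 4 F) f₁ e P ∧ H = Cfsg.Geo.tensorWreathSubgroup 2 3 e P ⊓ Cfsg.spGL 4 F) ∨
    (¬ Odd (Fintype.card F) ∧ ∃ Q : (Fin 4 ⊕ Fin 4 → F) → F, Cfsg.Geo.IsNondegenerateQuadraticForm Q ∧ (∀ u v : (Fin 4 ⊕ Fin 4 → F), QuadraticMap.polar Q u v = (Cfsg.sympForm 4 F) u v) ∧ H = Cfsg.Geo.quadSimilarityGroup Q ⊓ Cfsg.spGL 4 F) ∨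
    Cfsg.Geo.InSymplecticResidualClass H := by
  rcases srow_cases (by norm_num : 2 ≤ 4) hmain H hH with h | h
  swap
  · exact Or.inr (Or.inr (Or.inr (Or.inr (Or.inr (Or.inr (Or.inr (Or.inr (Or.inr (Or.inr (Or.inr (Or.inr (h))))))))))))
  rcases h with h | h | h | h | h | h | h | h | h | h | h
  · exact Or.inl h
  · exact Or.inr (Or.inl h)
  · obtain ⟨t, k, D, htk, hke, ht, hq, hD, hHeq⟩ := h
    have htk2 : (t = 4 ∧ k = 2) ∨ (t = 2 ∧ k = 4) := by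
      obtain ⟨j, hj⟩ := hke
      have h1 : t ≤ 8 := Nat.le_of_dvd (by norm_num) (Dvd.intro k htk)
      interval_cases t <;> omega
    rcases htk2 with ⟨rfl, rfl⟩ | ⟨rfl, rfl⟩
    · exact Or.inr (Or.inr (Or.inl ⟨hq rfl, D, hD, hHeq⟩))
    · exact Or.inr (Or.inr (Or.inr (Or.inl ⟨D, hD, hHeq⟩)))
  · exact Or.inr (Or.inr (Or.inr (Or.inr (Or.inl h))))
  · obtain ⟨r, K, hr, hrm, hK, hsa, halt, hHeq⟩ := h
    have hr2 : r = 2 := by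
      have h1 : r ≤ 4 := Nat.le_of_dvd (by norm_num) hrm
      interval_cases r <;> first | omega | (exfalso; revert hr; decide) | (exfalso; revert hrm; decide)
    subst hr2
    exact Or.inr (Or.inr (Or.inr (Or.inr (Or.inr (Or.inl ⟨K, hK, hsa, halt, hHeq⟩)))))
  · exact Or.inr (Or.inr (Or.inr (Or.inr (Or.inr (Or.inr (Or.inl h))))))
  · obtain ⟨ho, n₁, n₂, e, P, f₁, f₂, hcard, he1, h3, hq5, hf₁, hf₂, hT, hHeq⟩ := h
    have hn : n₁ = 2 ∧ n₂ = 4 := by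
      obtain ⟨j, hj⟩ := he1
      have h1 : n₁ ≤ 8 := Nat.le_of_dvd (by norm_num) (Dvd.intro n₂ hcard)
      interval_cases n₁ <;> omega
    obtain ⟨rfl, rfl⟩ := hn
    by_cases hplus : IsPlusTypeOn (fun v : Fin 4 → F => f₂ v v) ⊤
    · obtain ⟨e', P', f₁', hf₁', hT', hle⟩ := hS4 ho e P f₁ f₂ hf₁ hf₂ hplus hT
      have hle' : H ≤ tensorWreathSubgroup 2 3 e' P' := by
        rw [hHeq]; exact hle
      by_cases h5 : 5 ≤ Fintype.card F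
      · exact Or.inr (Or.inr (Or.inr (Or.inr (Or.inr (Or.inr (Or.inr (Or.inr (Or.inr (Or.inr (Or.inl ⟨ho, h5, e', P', f₁', hf₁', hT', eq_inf_of_maximal hH hle' (not_sp_le_tensorWreathSubgroup (by norm_num) ho 2 3 e' P' (le_refl 2) (by norm_num))⟩))))))))))
      · have hq3 := card_three_of_odd_lt ho h5
        obtain ⟨R, ⟨h1, h2, h3', h4, h5', h6, h7⟩, hleR⟩ := hS5 hq3 e' P' f₁' hf₁' hT'
        exact Or.inr (Or.inr (Or.inr (Or.inr (Or.inr (Or.inr (Or.inr (Or.inr (Or.inr (Or.inl ⟨3, R, Nat.prime_three, by decide, hq3, h1, h2, h3', h4, h5', h6, eq_inf_of_maximal hH (hle'.trans hleR) (not_sp_le_subgroupNormalizer (by norm_num) ho R h2 h3' h7 _ h4 h5')⟩)))))))))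
    · exact Or.inr (Or.inr (Or.inr (Or.inr (Or.inr (Or.inr (Or.inr (Or.inl ⟨ho, e, P, f₁, f₂, hf₁, hf₂, hplus, hT, hHeq⟩)))))))
  · exact Or.inr (Or.inr (Or.inr (Or.inr (Or.inr (Or.inr (Or.inr (Or.inr (Or.inl h))))))))
  · obtain ⟨R, p, k, h2k, h1, h2, h3, h4, h5, h6, h7, h8, h9, hHeq⟩ := h
    have hk : k = 3 := by
      have : k ≤ 4 := by
        by_contra hk4
        have : 2 ^ 5 ≤ 2 ^ k := Nat.pow_le_pow_right (by norm_num) (by omega)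
        omega
      interval_cases k <;> omega
    subst hk
    exact Or.inr (Or.inr (Or.inr (Or.inr (Or.inr (Or.inr (Or.inr (Or.inr (Or.inr (Or.inl ⟨p, R, h4, h5, h6, h1, h2, h3, h7, h8, h9, hHeq⟩)))))))))
  · obtain ⟨k, t, e, P, f₁, hkt, ho, hto, ht3, hne, hf₁, hT, hle⟩ := h
    have hkt2 : k = 2 ∧ t = 3 := by
      have hk2 : 2 ≤ k := by
        by_contra hk
        have : k = 0 ∨ k = 1 := by omega
        rcases this with rfl | rfl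
        · rw [zero_pow (by omega)] at hkt; omega
        · rw [one_pow] at hkt; omega
      have ht4 : t ≤ 3 := by
        by_contra ht
        have h16 : 2 ^ 4 ≤ k ^ t :=
          le_trans (Nat.pow_le_pow_right (by norm_num) (by omega)) (Nat.pow_le_pow_left hk2 t)
        omega
      have ht' : t = 3 := by omega
      subst ht'
      have hk3 : k ≤ 2 := by
        by_contra hk
        have h27 : 3 ^ 3 ≤ k ^ 3 := Nat.pow_le_pow_left (by omega) 3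
        omega
      exact ⟨by omega, rfl⟩
    obtain ⟨rfl, rfl⟩ := hkt2
    have h5 : 5 ≤ Fintype.card F := by
      by_contra h5
      exact hne ⟨card_three_of_odd_lt ho h5, rfl⟩
    exact Or.inr (Or.inr (Or.inr (Or.inr (Or.inr (Or.inr (Or.inr (Or.inr (Or.inr (Or.inr (Or.inl ⟨ho, h5, e, P, f₁, hf₁, hT, eq_inf_of_maximal hH hle (not_sp_le_tensorWreathSubgroup (by norm_num) ho 2 3 e P (le_refl 2) (by norm_num))⟩))))))))))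
  · exact Or.inr (Or.inr (Or.inr (Or.inr (Or.inr (Or.inr (Or.inr (Or.inr (Or.inr (Or.inr (Or.inr (Or.inl h)))))))))))

end Cfsg.Agent.Lib.H9.AschSP2
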