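import Mathlib
import Cfsg.Agent.Lib.H9.B60EIG

/-! # S4484 (BR3): eigenvalue list of `R x`, exact signature of `tools/blueprints/S4484_sigs.lean` (helper9) -/

set_option autoImplicit false

namespace Cfsg.Agent.Lib.H9.BB

open Cfsg.Agent.Lib.H1.Jordan Cfsg.Agent.Lib.H9.B60

/-- (BR3) eigenvalue list of `R x`: orthonormal eigenbasis, `p`-th roots of unity, power sums =
character values. -/
theorem exists_eigen_list {G : Type*} [Group G] {n : ℕ}
    (R : G →* (EuclideanSpace ℂ (Fin n) ≃ₗᵢ[ℂ] EuclideanSpace ℂ (Fin n))) (x : G) {p : ℕ}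
    (hx : x ^ p = 1) :
    ∃ (b : OrthonormalBasis (Fin n) ℂ (EuclideanSpace ℂ (Fin n))) (a : Fin n → ℂ),
      (∀ k, R x (b k) = a k • b k) ∧ (∀ k, a k ^ p = 1) ∧
      ∀ j : ℕ, LinearMap.trace ℂ _
        ((R (x ^ j)).toLinearEquiv : EuclideanSpace ℂ (Fin n) →ₗ[ℂ] EuclideanSpace ℂ (Fin n)) =
          ∑ k, a k ^ j := by
  obtain ⟨b, a, hb⟩ := exists_eigenbasis (R x) (n := n) (by simp)
  have facts := eigen_list_facts (R x) b a hb
  refine ⟨b, a, hb, fun k => facts.2.2.2 p (by rw [← map_pow, hx, map_one]) k, fun j => ?_⟩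
  rw [← facts.1 j, ← lin_pow, ← map_pow]

end Cfsg.Agent.Lib.H9.BB
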