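import Mathlib
import Cfsg.Agent.Lib.H16.B60Atoms
import Cfsg.Agent.Lib.H11.B60KI
import Cfsg.Agent.Lib.H18.B60X4
import Cfsg.Agent.Lib.H9.B60EIG
import Cfsg.Agent.Lib.H9.B60X3

/-! # S4484 (XFINAL): Blichfeldt's 60-degree theorem against an eigenvalue list (helper9)

Assembly of (X1) `H16.B60.blichfeldt60_core` (helper16, atoms route), (KI) `H11.B60.key_inequality_unit`
(helper11), (X3) `H9.B60.eq_one_of_eigenspace_eq_top`, (X4) `H18.B60.x4` (helper18) and the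
eigenvalue-list facts `H9.B60.eigen_list_facts`.  Exact signature of
`tools/blueprints/S4484_sigs.lean` (`b60_contra`), plus the general form on any finite-dimensional
complex inner product space. -/

set_option autoImplicit false

namespace Cfsg.Agent.Lib.H9.BB

open Cfsg.Agent.Lib.H1.Jordan Cfsg.Agent.Lib.H9.B60 Module.End
open scoped InnerProductSpace ComplexConjugate

variable {E : Type*} [NormedAddCommGroup E] [InnerProductSpace ℂ E]

/-- Eigenvalues of a conjugate are eigenvalues. -/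
theorem hasEigenvalue_of_conj {G : Type*} [Group G] (R : G →* (E ≃ₗᵢ[ℂ] E)) (g y : G) {μ : ℂ}
    (hμ : HasEigenvalue (lin (R (g * y * g⁻¹))) μ) : HasEigenvalue (lin (R y)) μ := by
  obtain ⟨v, hv⟩ := hμ.exists_hasEigenvector
  have hv1 : R (g * y * g⁻¹) v = μ • v := by
    simpa [lin_apply] using mem_eigenspace_iff.1 hv.1
  have hv0 : v ≠ 0 := hv.2
  have hu0 : R g⁻¹ v ≠ 0 := by
    intro h
    apply hv0
    have h2 : (R g * R g⁻¹) v = v := by
      rw [← map_mul, mul_inv_cancel, map_one]; rfl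
    have h3 : R g (R g⁻¹ v) = v := h2
    rw [← h3, h, map_zero]
  refine hasEigenvalue_of_hasEigenvector (x := R g⁻¹ v) ⟨mem_eigenspace_iff.2 ?_, hu0⟩
  show R y (R g⁻¹ v) = μ • R g⁻¹ v
  have h1 : R y (R g⁻¹ v) = R g⁻¹ (R (g * y * g⁻¹) v) := by
    have h2 : (R y * R g⁻¹) v = (R g⁻¹ * R (g * y * g⁻¹)) v := by
      rw [← map_mul, ← map_mul]
      congr 2
      group
    exact h2
  rw [h1, hv1, map_smul]

/-- **(XFINAL), general form.** -/
theorem b60_contra_gen [FiniteDimensional ℂ E] {G : Type*} [Group G] [Finite G] [IsSimpleGroup G]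
    (hna : ∃ g h : G, g * h ≠ h * g) {n : ℕ}
    (R : G →* (E ≃ₗᵢ[ℂ] E))
    (hirr : ∀ W : Submodule ℂ E, (∀ g, ∀ w ∈ W, R g w ∈ W) → W = ⊥ ∨ W = ⊤)
    (hinj : Function.Injective R) {p : ℕ} (hp : p.Prime) (x : G) (hx : orderOf x = p)
    (b : OrthonormalBasis (Fin n) ℂ E) (a : Fin n → ℂ)
    (hb : ∀ k, R x (b k) = a k • b k) (hcard : (Finset.univ.image a).card < p)
    (d : ℕ) (hd1 : 1 ≤ d) (hdp : d < p) (k₁ : Fin n)
    (hnear : ∀ k, 1 / 2 < ((starRingEnd ℂ) (a k₁ ^ d) * a k ^ d).re) : False := by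
  classical
  have hx1 : x ≠ 1 := by
    intro h
    rw [h, orderOf_one] at hx
    exact hp.one_lt.ne hx
  have hxp : x ^ p = 1 := hx ▸ pow_orderOf_eq_one x
  have hy1 : x ^ d ≠ 1 := by
    intro h
    have h1 := orderOf_dvd_of_pow_eq_one h
    rw [hx] at h1
    have := Nat.le_of_dvd (by omega) h1
    omega
  have hby : ∀ k, R (x ^ d) (b k) = (a k ^ d) • b k := by
    intro k
    have h1 := pow_apply_eigen (hb k) d
    rw [← lin_pow, ← map_pow] at h1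
    exact h1
  have fx := eigen_list_facts (R x) b a hb
  have fy := eigen_list_facts (R (x ^ d)) b (fun k => a k ^ d) hby
  have hεn : ‖a k₁ ^ d‖ = 1 := fy.2.2.1 k₁
  have h60 : ∀ μ : ℂ, HasEigenvalue (lin (R (x ^ d))) μ → 1 / 2 ≤ (conj (a k₁ ^ d) * μ).re := by
    intro μ hμ
    obtain ⟨k, rfl⟩ := (fy.2.1 μ).1 hμ
    exact (hnear k).le
  have hFbot : eigenspace (lin (R (x ^ d))) (a k₁ ^ d) ≠ ⊥ := (fy.2.1 (a k₁ ^ d)).2 ⟨k₁, rfl⟩
  have hR : ∃ g, R g ≠ 1 := ⟨x, fun h => hx1 (hinj (h.trans (map_one R).symm))⟩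
  by_cases hF : eigenspace (lin (R (x ^ d))) (a k₁ ^ d) = ⊤
  · exact hy1 (eq_one_of_eigenspace_eq_top hna R hR (x ^ d) (a k₁ ^ d) hF)
  · have hirr' : ∀ W : Submodule ℂ E, (∀ g, W.map (lin (R g)) ≤ W) → W = ⊥ ∨ W = ⊤ := by
      intro W hW
      apply hirr W
      intro g w hw
      exact hW g (Submodule.mem_map_of_mem (f := lin (R g)) hw)
    have hKI : ∀ g (w : E), ‖w‖ = 1 →
        (1 + ‖(eigenspace (lin (R (g * x ^ d * g⁻¹))) (a k₁ ^ d)).starProjection w‖ ^ 2) / 2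
          ≤ ‖⟪w, R (g * x ^ d * g⁻¹) w⟫_ℂ‖ := by
      intro g w hw
      refine Cfsg.Agent.Lib.H11.B60.key_inequality_unit (R (g * x ^ d * g⁻¹)) (a k₁ ^ d) hεn ?_ w hw
      intro μ hμ
      exact h60 μ (hasEigenvalue_of_conj R g (x ^ d) hμ)
    obtain ⟨𝓦, h2, hne, horth, -, hperm⟩ :=
      Cfsg.Agent.Lib.H16.B60.blichfeldt60_core R (x ^ d) (a k₁ ^ d) hirr' hFbot hF hKI
    have hbot : ⊥ ∉ 𝓦 := fun h => hne ⊥ h rfl
    have hle := Cfsg.Agent.Lib.H18.B60.x4 R hirr' 𝓦 h2 hbot hperm horth x p hp hxp hx1 a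
      (fun μ v hv0 hv => (fx.2.1 μ).1
        (hasEigenvalue_of_hasEigenvector (x := v) ⟨mem_eigenspace_iff.2 hv, hv0⟩))
    omega

/-- **(XFINAL)**, exact signature of `tools/blueprints/S4484_sigs.lean`. -/
theorem b60_contra {G : Type*} [Group G] [Finite G] [IsSimpleGroup G]
    (hna : ∃ g h : G, g * h ≠ h * g) {n : ℕ}
    (R : G →* (EuclideanSpace ℂ (Fin n) ≃ₗᵢ[ℂ] EuclideanSpace ℂ (Fin n)))
    (hirr : ∀ W : Submodule ℂ (EuclideanSpace ℂ (Fin n)), (∀ g, ∀ w ∈ W, R g w ∈ W) → W = ⊥ ∨ W = ⊤)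
    (hinj : Function.Injective R) {p : ℕ} (hp : p.Prime) (x : G) (hx : orderOf x = p)
    (b : OrthonormalBasis (Fin n) ℂ (EuclideanSpace ℂ (Fin n))) (a : Fin n → ℂ)
    (hb : ∀ k, R x (b k) = a k • b k) (hcard : (Finset.univ.image a).card < p)
    (d : ℕ) (hd1 : 1 ≤ d) (hdp : d < p) (k₁ : Fin n)
    (hnear : ∀ k, 1 / 2 < ((starRingEnd ℂ) (a k₁ ^ d) * a k ^ d).re) : False :=
  b60_contra_gen hna R hirr hinj hp x hx b a hb hcard d hd1 hdp k₁ hnear

end Cfsg.Agent.Lib.H9.BB
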