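import Mathlib
import Cfsg.Agent.Lib.H8.BQ0
import Cfsg.Agent.Lib.H16.WielandtFormula

/-!
S4719 Part II, piece G1 (helper9): a four-group `V` normalizing a subgroup `K` of odd order with
`|C_K(v)| ≤ n` for the three `v ≠ 1` of `V` has `|K| ≤ n ^ 3` (Wielandt's formula, H16).
-/

set_option autoImplicit false

universe u

namespace Cfsg.Agent.Lib.H9.BQ

open Subgroup Cfsg.Agent.Lib.H8.BQ

/-- a group of exponent 2 is commutative (elementwise form inside an ambient group) -/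
theorem comm_of_sq_eq_one {Γ : Type*} [Group Γ] (V : Subgroup Γ) (hV2 : ∀ v ∈ V, v * v = 1)
    (a : Γ) (ha : a ∈ V) (b : Γ) (hb : b ∈ V) : a * b = b * a := by
  have e1 : a⁻¹ = a := inv_eq_of_mul_eq_one_right (hV2 a ha)
  have e2 : b⁻¹ = b := inv_eq_of_mul_eq_one_right (hV2 b hb)
  have e3 : (a * b)⁻¹ = a * b := inv_eq_of_mul_eq_one_right (hV2 _ (V.mul_mem ha hb))
  calc a * b = (a * b)⁻¹ := e3.symm
    _ = b⁻¹ * a⁻¹ := mul_inv_rev _ _
    _ = b * a := by rw [e1, e2]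

theorem isEpp_two {Γ : Type*} [Group Γ] (V : Subgroup Γ) (hV4 : Nat.card V = 4)
    (hV2 : ∀ v ∈ V, v * v = 1) : Cfsg.Agent.Lib.H16.IsEpp 2 V where
  comm := comm_of_sq_eq_one V hV2
  exp := fun a ha => by rw [pow_two]; exact hV2 a ha
  card := by rw [hV4]; norm_num

/-- G1. A four-group acting on a group of odd order. -/
theorem card_le_cube_of_odd {Γ : Type u} [Group Γ] [Finite Γ] (K V : Subgroup Γ) (n : ℕ)
    (hV4 : Nat.card V = 4) (hV2 : ∀ v ∈ V, v * v = 1) (hK : Odd (Nat.card K))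
    (hVK : V ≤ normalizer (K : Set Γ))
    (hn : ∀ v ∈ V, v ≠ 1 → Nat.card ↥(K ⊓ centralizer {v}) ≤ n) :
    Nat.card K ≤ n ^ 3 := by
  classical
  have : Fact (Nat.Prime 2) := ⟨Nat.prime_two⟩
  have hK2 : ¬ 2 ∣ Nat.card K := by
    rw [← even_iff_two_dvd, Nat.not_even_iff_odd]
    exact hK
  have hW := Cfsg.Agent.Lib.H16.wielandt_formula (isEpp_two V hV4 hV2) K hK2 hVK
  have hcard : (Cfsg.Agent.Lib.H16.nz V).card = 3 := by
    rw [Cfsg.Agent.Lib.H16.card_nz, hV4]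
  have hle : ∏ a ∈ Cfsg.Agent.Lib.H16.nz V,
      Nat.card (K ⊓ centralizer ({a} : Set Γ) : Subgroup Γ) ≤ n ^ 3 := by
    rw [← hcard]
    apply Finset.prod_le_pow_card
    intro a ha
    rw [Cfsg.Agent.Lib.H16.mem_nz] at ha
    exact hn a ha.2 ha.1
  have hpos : 0 < Nat.card (K ⊓ centralizer (V : Set Γ) : Subgroup Γ) := Nat.card_pos
  calc Nat.card K = Nat.card K ^ (2 - 1) * 1 := by simp
    _ ≤ Nat.card K ^ (2 - 1) *
        Nat.card (K ⊓ centralizer (V : Set Γ) : Subgroup Γ) ^ (2 * (2 - 1)) :=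
      Nat.mul_le_mul_left _ (Nat.one_le_pow _ _ hpos)
    _ = _ := hW
    _ ≤ n ^ 3 := hle

end Cfsg.Agent.Lib.H9.BQ
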