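import Mathlib
import Cfsg.Agent.Lib.H8.BQ0
import Cfsg.Agent.Lib.H9.BQ1
import Cfsg.Agent.Lib.H16.BQQUOT

/-!
S4719 Part II, piece G2 (helper9, twin of helper15's): reduction of Theorem Q to the `OddFree` case.
`K` := an odd-order subgroup of `G` normalized by `G` and `V` of largest order; `|K| ≤ n ^ 3` (G1);
the quotient data of `exists_quotient` (helper16) is `OddFree` by maximality of `K`.
-/

set_option autoImplicit false

universe u

namespace Cfsg.Agent.Lib.H9.BQ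

open Subgroup Cfsg.Agent.Lib.H8.BQ

/-- G2 (reduction to `O(G) = 1`). -/
theorem qStmt_of_oddFree (a n B : ℕ)
    (hcore : ∀ (Γ : Type u) [Group Γ] [Finite Γ] (G V : Subgroup Γ), QHyp G V a n →
      OddFree G V → Nat.card G ≤ B) :
    QStmt.{u} a n (n ^ 3 * B) := by
  intro Γ _ _ G V h
  -- the family of odd-order subgroups of `G` normalized by `G` and `V`
  set 𝒦 : Set (Subgroup Γ) := {Y | Y ≤ G ∧ Odd (Nat.card Y) ∧ G ≤ normalizer (Y : Set Γ) ∧
    V ≤ normalizer (Y : Set Γ)} with h𝒦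
  have hbot : (⊥ : Subgroup Γ) ∈ 𝒦 := by
    refine ⟨bot_le, ?_, ?_, ?_⟩
    · rw [Subgroup.card_bot]; exact odd_one
    · intro g _
      rw [mem_normalizer_iff]
      intro x
      simp [Subgroup.mem_bot]
    · intro g _
      rw [mem_normalizer_iff]
      intro x
      simp [Subgroup.mem_bot]
  obtain ⟨K, hK𝒦, hKmax⟩ := Set.exists_max_image 𝒦 (fun Y : Subgroup Γ => Nat.card Y)
    (Set.toFinite 𝒦) ⟨⊥, hbot⟩
  obtain ⟨hKG, hKodd, hGK, hVK⟩ := hK𝒦
  -- `|K| ≤ n ^ 3`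
  have hKn : Nat.card K ≤ n ^ 3 := by
    apply card_le_cube_of_odd K V n h.card4 h.exp2 hKodd hVK
    intro v hv hv1
    refine le_trans ?_ (h.cent v hv hv1)
    exact Subgroup.card_le_of_le (inf_le_inf_right _ hKG)
  -- `V ⊓ K = ⊥`
  have hdisj : V ⊓ K = ⊥ := by
    apply (Subgroup.disjoint_of_coprime_natCard _).eq_bot
    rw [h.card4]
    have : Nat.Coprime 2 (Nat.card K) := (Nat.coprime_two_left).mpr hKodd
    exact Nat.Coprime.pow_left 2 this
  obtain ⟨Γ', _, _, G', V', hQ', hcard, hlift⟩ := Cfsg.Agent.Lib.H16.BQ.exists_quotient G V K a n h hKG hGK hVK hdisj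
  have hfree : OddFree G' V' := by
    intro Y' hY'G hY'odd hGY' hVY'
    obtain ⟨Y, hKY, hYG, hGY, hVY, hYc⟩ := hlift Y' hY'G hGY' hVY'
    have hY𝒦 : Y ∈ 𝒦 := ⟨hYG, by rw [hYc]; exact hY'odd.mul hKodd, hGY, hVY⟩
    have hle : Nat.card Y ≤ Nat.card K := hKmax Y hY𝒦
    rw [hYc] at hle
    have hKpos : 0 < Nat.card K := Nat.card_pos
    have h1 : Nat.card Y' ≤ 1 := by
      by_contra hlt
      push Not at hlt
      have : 2 * Nat.card K ≤ Nat.card Y' * Nat.card K := Nat.mul_le_mul_right _ hlt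
      omega
    exact Subgroup.eq_bot_of_card_le Y' h1
  have hB := hcore Γ' G' V' hQ' hfree
  calc Nat.card G = Nat.card G' * Nat.card K := hcard.symm
    _ ≤ B * n ^ 3 := Nat.mul_le_mul hB hKn
    _ = n ^ 3 * B := Nat.mul_comm _ _

end Cfsg.Agent.Lib.H9.BQ
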