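import Mathlib

set_option autoImplicit false

/-!
# Bochert's bound for primitive permutation groups

`isThreeCycle_commutator`: permutations whose supports share exactly one point have a 3-cycle
commutator; `bochert`: a primitive subgroup of `Perm Ω` not containing the alternating group has
index at least `⌊(n+1)/2⌋!`.
-/

namespace Cfsg.Agent.Lib.H9.Bochert

open Equiv Equiv.Perm

/-- two permutations whose supports meet in exactly one point have a `3`-cycle as commutator -/
theorem isThreeCycle_commutator {α : Type*} [DecidableEq α] [Fintype α] (x y : Perm α) (γ : α)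
    (hx : x γ ≠ γ) (hy : y γ ≠ γ) (hxy : ∀ ω, ω ≠ γ → x ω = ω ∨ y ω = ω) :
    (x * y * x⁻¹ * y⁻¹).IsThreeCycle := by
  have aps : ∀ (f : Perm α) (a : α), f (f⁻¹ a) = a := fun f a => by
    rw [← Perm.mul_apply, mul_inv_cancel, Perm.one_apply]
  have ips : ∀ (f : Perm α) (a : α), f⁻¹ (f a) = a := fun f a => by
    rw [← Perm.mul_apply, inv_mul_cancel, Perm.one_apply]
  have hxb : x (x γ) ≠ x γ := fun h => hx (x.injective h)
  have hyc : y (y γ) ≠ y γ := fun h => hy (y.injective h)
  have hyb : y (x γ) = x γ := (hxy _ hx).resolve_left hxb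
  have hxc : x (y γ) = y γ := (hxy _ hy).resolve_right hyc
  have hbc : x γ ≠ y γ := by
    intro h
    rw [h] at hyb
    exact hyc hyb
  -- general facts about inverses
  have hxinv : ∀ ω, x ω = ω → x⁻¹ ω = ω := fun ω h => by
    rw [Perm.inv_eq_iff_eq, h]
  have hyinv : ∀ ω, y ω = ω → y⁻¹ ω = ω := fun ω h => by
    rw [Perm.inv_eq_iff_eq, h]
  have key : x * y * x⁻¹ * y⁻¹ = swap γ (y γ) * swap γ (x γ) := by
    ext ω
    simp only [Perm.coe_mul, Function.comp_apply]
    by_cases h1 : ω = γ
    · subst h1
      rw [swap_apply_left, swap_apply_of_ne_of_ne hx hbc]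
      -- d = y⁻¹ ω
      have hd : y (y⁻¹ ω) ≠ y⁻¹ ω := by
        rw [aps]
        intro h
        apply hy
        conv_lhs => rw [h]
        rw [aps]
      have hdne : y⁻¹ ω ≠ ω := fun h => hy (by rw [Perm.inv_eq_iff_eq] at h; exact h.symm)
      have hxd : x (y⁻¹ ω) = y⁻¹ ω := (hxy _ hdne).resolve_right hd
      rw [hxinv _ hxd, aps]
    · by_cases h2 : ω = x γ
      · subst h2
        rw [swap_apply_right, swap_apply_left, hyinv _ hyb, ips, hxc]
      · by_cases h3 : ω = y γ
        · subst h3
          rw [swap_apply_of_ne_of_ne hy hbc.symm, swap_apply_right, ips]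
          -- a = x⁻¹ γ
          have ha : x (x⁻¹ γ) ≠ x⁻¹ γ := by
            rw [aps]
            intro h
            apply hx
            conv_lhs => rw [h]
            rw [aps]
          have hane : x⁻¹ γ ≠ γ := fun h => hx (by rw [Perm.inv_eq_iff_eq] at h; exact h.symm)
          have hya : y (x⁻¹ γ) = x⁻¹ γ := (hxy _ hane).resolve_left ha
          rw [hya, aps]
        · rw [swap_apply_of_ne_of_ne h1 h2, swap_apply_of_ne_of_ne h1 h3]
          by_cases hyω : y ω = ω
          · rw [hyinv _ hyω]
            by_cases hxω : x ω = ω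
            · rw [hxinv _ hxω, hyω, hxω]
            · have h4 : x (x⁻¹ ω) ≠ x⁻¹ ω := by
                rw [aps]
                intro h
                apply hxω
                conv_lhs => rw [h]
                rw [aps]
              have h5 : x⁻¹ ω ≠ γ := by
                intro h
                apply h2
                rw [← h, aps]
              have h6 : y (x⁻¹ ω) = x⁻¹ ω := (hxy _ h5).resolve_left h4
              rw [h6, aps]
          · have hxω : x ω = ω := (hxy _ h1).resolve_right hyω
            have h4 : y (y⁻¹ ω) ≠ y⁻¹ ω := by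
              rw [aps]
              intro h
              apply hyω
              conv_lhs => rw [h]
              rw [aps]
            have h5 : y⁻¹ ω ≠ γ := by
              intro h
              apply h3
              rw [← h, aps]
            have h6 : x (y⁻¹ ω) = y⁻¹ ω := (hxy _ h5).resolve_right h4
            rw [hxinv _ h6, aps, hxω]
  rw [key]
  exact isThreeCycle_swap_mul_swap_same hy.symm hx.symm hbc.symm


/-- **Bochert's bound**, for subgroups of the symmetric group -/
theorem bochert {Ω : Type*} [Fintype Ω] [DecidableEq Ω] (H : Subgroup (Perm Ω))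
    (hprim : MulAction.IsPreprimitive H Ω) (hA : ¬ alternatingGroup Ω ≤ H) :
    Nat.card H * Nat.factorial ((Fintype.card Ω + 1) / 2) ≤ Nat.factorial (Fintype.card Ω) := by
  classical
  let Triv : Finset Ω → Prop := fun Δ => ∀ h ∈ H, (∀ ω, ω ∉ Δ → h ω = ω) → h = 1
  have hT0 : Triv ∅ := fun h _ hfix => Perm.ext (fun ω => hfix ω (Finset.notMem_empty ω))
  obtain ⟨Δ, hΔ, hmax⟩ := Finset.exists_max_image (Finset.univ.filter Triv) Finset.card
    ⟨∅, by simp [hT0]⟩
  have hTΔ : Triv Δ := (Finset.mem_filter.mp hΔ).2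
  have hmax' : ∀ Δ', Triv Δ' → Δ'.card ≤ Δ.card := fun Δ' h =>
    hmax Δ' (Finset.mem_filter.mpr ⟨Finset.mem_univ _, h⟩)
  have hTc : Triv Δᶜ := by
    intro y hyH hyfix
    by_contra hy1
    obtain ⟨γ, hγ⟩ : ∃ γ, y γ ≠ γ := by
      by_contra hne
      push Not at hne
      exact hy1 (Perm.ext hne)
    have hγΔ : γ ∉ Δ := by
      intro h
      exact hγ (hyfix γ (by simp [h]))
    have hnT : ¬ Triv (insert γ Δ) := by
      intro hT
      have := hmax' _ hT
      rw [Finset.card_insert_of_notMem hγΔ] at this
      omega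
    simp only [Triv] at hnT
    push Not at hnT
    obtain ⟨x, hxH, hxfix, hx1⟩ := hnT
    have hxγ : x γ ≠ γ := by
      intro h
      apply hx1
      apply hTΔ x hxH
      intro ω hω
      by_cases hωγ : ω = γ
      · rw [hωγ]; exact h
      · exact hxfix ω (by simp [hωγ, hω])
    have h3 := isThreeCycle_commutator x y γ hxγ hγ (by
      intro ω hω
      by_cases hωΔ : ω ∈ Δ
      · right; exact hyfix ω (by simp [hωΔ])
      · left; exact hxfix ω (by simp [hω, hωΔ]))
    apply hA
    exact alternatingGroup_le_of_isPreprimitive_of_isThreeCycle_mem hprim h3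
      (H.mul_mem (H.mul_mem (H.mul_mem hxH hyH) (H.inv_mem hxH)) (H.inv_mem hyH))
  have hcard : (Fintype.card Ω + 1) / 2 ≤ Δ.card := by
    have := hmax' _ hTc
    rw [Finset.card_compl] at this
    omega
  -- the injection `Sym(Δ) × H → Sym(Ω)`
  let f : Perm {x // x ∈ Δ} × ↥H → Perm Ω := fun p => Perm.ofSubtype p.1 * (p.2 : Perm Ω)
  have hf : Function.Injective f := by
    rintro ⟨σ, h⟩ ⟨σ', h'⟩ hEq
    simp only [f] at hEq
    have h1 : Perm.ofSubtype (σ'⁻¹ * σ) = (h' : Perm Ω) * (h : Perm Ω)⁻¹ := by
      rw [map_mul, map_inv, inv_mul_eq_iff_eq_mul, ← mul_assoc, ← hEq, mul_assoc,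
        mul_inv_cancel, mul_one]
    have h2 : Perm.ofSubtype (σ'⁻¹ * σ) = 1 := by
      apply hTΔ _ (by rw [h1]; exact H.mul_mem h'.2 (H.inv_mem h.2))
      intro ω hω
      exact Perm.ofSubtype_apply_of_not_mem _ hω
    have h3 : σ'⁻¹ * σ = 1 := Perm.ofSubtype_injective (by rw [h2, map_one])
    have h4 : σ = σ' := by
      rw [inv_mul_eq_one] at h3; exact h3.symm
    rw [h2] at h1
    have h5 : h = h' := by
      apply Subtype.ext
      have := h1.symm
      rw [mul_inv_eq_one] at this
      exact this.symm
    rw [h4, h5]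
  have hle := Nat.card_le_card_of_injective f hf
  rw [Nat.card_prod, Nat.card_perm, Nat.card_perm, Nat.card_eq_fintype_card,
    Nat.card_eq_fintype_card (α := Ω), Fintype.card_coe] at hle
  calc Nat.card H * Nat.factorial ((Fintype.card Ω + 1) / 2)
      ≤ Nat.card H * Nat.factorial Δ.card := Nat.mul_le_mul_left _ (Nat.factorial_le hcard)
    _ = Nat.factorial Δ.card * Nat.card H := Nat.mul_comm _ _
    _ ≤ _ := hle

end Cfsg.Agent.Lib.H9.Bochert
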