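import Mathlib

/-!
S4645 pieces (C) and (B1)+(B3), PURE Mathlib, general form (helper9).

* `normalizer_le_of_cyclic`: for a finite cyclic subgroup `P` and `Q ≤ P`: `N_G(P) ≤ N_G(Q)`.
* `mem_centralizer_of_cyclic`: `P` a finite cyclic `p`-subgroup, `1 ≠ Q ≤ P`, `g ∈ N_G(P) ∩ C_G(Q)` and
  `g ^ r ∈ C_G(P)` for some `r` prime to `p`; then `g ∈ C_G(P)`.
-/

set_option autoImplicit false

namespace Cfsg.Agent.Lib.H9.CY

variable {G : Type*} [Group G]

/-- In a finite cyclic subgroup `P`, a subgroup `Q ≤ P` contains every `y ∈ P` with `y ^ |Q| = 1`. -/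
theorem mem_of_pow_card_eq_one (P Q : Subgroup G) [Finite P] (hcyc : IsCyclic P) (hQP : Q ≤ P)
    {y : G} (hy : y ∈ P) (hyn : y ^ Nat.card Q = 1) : y ∈ Q := by
  classical
  have hQfin : Finite Q :=
    Finite.of_injective (Subgroup.inclusion hQP) (Subgroup.inclusion_injective hQP)
  let _ : Fintype P := Fintype.ofFinite P
  set n := Nat.card Q with hn
  have hn0 : 0 < n := Nat.card_pos
  let S : Finset P := Finset.univ.filter (fun a : P => a ^ n = 1)
  let QS : Finset P := Finset.univ.filter (fun a : P => a ∈ Q.subgroupOf P)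
  have hsub : QS ⊆ S := by
    intro a ha
    have ha' : (a : G) ∈ Q := by
      have := (Finset.mem_filter.1 ha).2
      exact Subgroup.mem_subgroupOf.1 this
    refine Finset.mem_filter.2 ⟨Finset.mem_univ _, ?_⟩
    have h1 : (⟨(a : G), ha'⟩ : Q) ^ Nat.card Q = 1 := pow_card_eq_one'
    have h2 : (a : G) ^ Nat.card Q = 1 := by
      have h3 := congrArg Subtype.val h1
      rwa [Subgroup.coe_pow, Subgroup.coe_one] at h3
    apply Subtype.ext
    rw [Subgroup.coe_pow, Subgroup.coe_one]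
    exact h2
  have hcardQS : QS.card = n := by
    have h1 : QS.card = Nat.card (Q.subgroupOf P) := by
      rw [Nat.card_eq_fintype_card, Fintype.card_subtype]
    rw [h1, hn]
    exact Nat.card_congr (Subgroup.subgroupOfEquivOfLe hQP).toEquiv
  have hS : S.card ≤ n := IsCyclic.card_pow_eq_one_le hn0
  have heq : QS = S := Finset.eq_of_subset_of_card_le hsub (by rw [hcardQS]; exact hS)
  have hyS : (⟨y, hy⟩ : P) ∈ S := by
    refine Finset.mem_filter.2 ⟨Finset.mem_univ _, ?_⟩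
    apply Subtype.ext
    simpa using hyn
  rw [← heq] at hyS
  exact Subgroup.mem_subgroupOf.1 (Finset.mem_filter.1 hyS).2

/-- **(C)** For a finite cyclic subgroup `P` and `Q ≤ P`: `N_G(P) ≤ N_G(Q)`. -/
theorem normalizer_le_of_cyclic (P Q : Subgroup G) [Finite P] (hcyc : IsCyclic P) (hQP : Q ≤ P) :
    Subgroup.normalizer (P : Set G) ≤ Subgroup.normalizer (Q : Set G) := by
  have hQfin : Finite Q :=
    Finite.of_injective (Subgroup.inclusion hQP) (Subgroup.inclusion_injective hQP)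
  have key : ∀ g ∈ Subgroup.normalizer (P : Set G), ∀ h ∈ Q, g * h * g⁻¹ ∈ Q := by
    intro g hg h hh
    have hP : g * h * g⁻¹ ∈ P := (Subgroup.mem_normalizer_iff.1 hg h).1 (hQP hh)
    refine mem_of_pow_card_eq_one P Q hcyc hQP hP ?_
    rw [conj_pow]
    have h1 : (⟨h, hh⟩ : Q) ^ Nat.card Q = 1 := pow_card_eq_one'
    have h2 : h ^ Nat.card Q = 1 := by
      have h3 := congrArg Subtype.val h1
      rwa [Subgroup.coe_pow, Subgroup.coe_one] at h3
    rw [h2, mul_one, mul_inv_cancel]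
  intro g hg
  rw [Subgroup.mem_normalizer_iff]
  intro h
  constructor
  · exact key g hg h
  · intro hh
    have hg' : g⁻¹ ∈ Subgroup.normalizer (P : Set G) := Subgroup.inv_mem _ hg
    have := key g⁻¹ hg' _ hh
    have e : g⁻¹ * (g * h * g⁻¹) * g⁻¹⁻¹ = h := by group
    rw [e] at this
    exact this

/-- conjugating a generator by powers of `g` -/
theorem conj_pow_gen {g x : G} {k : ℤ} (hk : g * x * g⁻¹ = x ^ k) (i : ℕ) :
    g ^ i * x * (g ^ i)⁻¹ = x ^ (k ^ i) := by
  induction i with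
  | zero => simp
  | succ i ih =>
    have e : g ^ (i + 1) * x * (g ^ (i + 1))⁻¹ = g * (g ^ i * x * (g ^ i)⁻¹) * g⁻¹ := by
      rw [pow_succ']
      group
    rw [e, ih, ← conj_zpow, hk, ← zpow_mul, pow_succ, mul_comm]

/-- **(B1)+(B3)** A `p'`-automorphism (induced by `g`) of a finite cyclic `p`-group `P` which is trivial on a
nontrivial subgroup `Q` is trivial. -/
theorem mem_centralizer_of_cyclic {p : ℕ} [hp : Fact p.Prime] (P Q : Subgroup G) [Finite P]
    (hcyc : IsCyclic P) (hP : IsPGroup p P) (hQP : Q ≤ P) (hQ1 : Q ≠ ⊥) (g : G)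
    (hgN : g ∈ Subgroup.normalizer (P : Set G)) (hgQ : g ∈ Subgroup.centralizer (Q : Set G))
    (r : ℕ) (hr : ¬ p ∣ r) (hgr : g ^ r ∈ Subgroup.centralizer (P : Set G)) :
    g ∈ Subgroup.centralizer (P : Set G) := by
  obtain ⟨⟨x, hxP⟩, hgen⟩ := hcyc.exists_generator
  -- every element of `P` is a power of `x`
  have hpow : ∀ y ∈ P, ∃ z : ℤ, x ^ z = y := by
    intro y hy
    obtain ⟨z, hz⟩ := Subgroup.mem_zpowers_iff.1 (hgen ⟨y, hy⟩)
    refine ⟨z, ?_⟩
    have := congrArg Subtype.val hz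
    simpa using this
  -- it suffices that `g` commutes with `x`
  suffices hcomm : Commute g x by
    rw [Subgroup.mem_centralizer_iff]
    intro y hy
    obtain ⟨z, rfl⟩ := hpow y hy
    exact (hcomm.zpow_right z).eq.symm
  -- the order of `x`
  obtain ⟨n, hn⟩ := IsPGroup.exists_card_eq hP
  have hord : orderOf x = p ^ n := by
    have h1 : orderOf (⟨x, hxP⟩ : P) = Nat.card P := orderOf_eq_card_of_forall_mem_zpowers hgen
    rw [← hn, ← h1, Subgroup.orderOf_mk]
  -- the exponent `k`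
  obtain ⟨k, hk⟩ := hpow (g * x * g⁻¹) ((Subgroup.mem_normalizer_iff.1 hgN x).1 hxP)
  have hk' : g * x * g⁻¹ = x ^ k := hk.symm
  -- a nontrivial element of `Q`
  obtain ⟨⟨y, hyQ⟩, hy1'⟩ := Subgroup.ne_bot_iff_exists_ne_one.1 hQ1
  have hy1 : y ≠ 1 := fun h => hy1' (Subtype.ext h)
  obtain ⟨j, rfl⟩ := hpow y (hQP hyQ)
  have hj : ¬ ((p : ℤ) ^ n ∣ j) := by
    intro hdiv
    apply hy1
    have : (orderOf x : ℤ) ∣ j := by rw [hord]; exact_mod_cast hdiv
    exact (orderOf_dvd_iff_zpow_eq_one).1 this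
  -- `g` fixes `x ^ j`
  have hfix : g * x ^ j * g⁻¹ = x ^ j := by
    have := (Subgroup.mem_centralizer_iff.1 hgQ) (x ^ j) hyQ
    rw [← this]
    group
  have hkj : x ^ (k * j) = x ^ j := by
    rw [zpow_mul, ← hk', conj_zpow, hfix]
  have hdvd : (p : ℤ) ^ n ∣ (k - 1) * j := by
    have h1 : x ^ ((k - 1) * j) = 1 := by
      rw [sub_mul, one_mul, zpow_sub, hkj, mul_inv_cancel]
    have h2 := (orderOf_dvd_iff_zpow_eq_one).2 h1
    rw [hord] at h2
    exact_mod_cast h2
  have hpint : Prime (p : ℤ) := Nat.prime_iff_prime_int.1 hp.out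
  have hpk : (p : ℤ) ∣ k - 1 := by
    by_contra hnot
    exact hj (hpint.pow_dvd_of_dvd_mul_left n hnot hdvd)
  -- `n ≥ 1`
  have hn1 : 1 ≤ n := by
    rcases Nat.eq_zero_or_pos n with h0 | h0
    · exfalso
      apply hj
      rw [h0, pow_zero]
      exact one_dvd _
    · exact h0
  obtain ⟨n', rfl⟩ : ∃ n', n = n' + 1 := ⟨n - 1, by omega⟩
  have hbig : (p : ℤ) ^ (n' + 1) ∣ k ^ p ^ n' - 1 := by
    have := dvd_sub_pow_of_dvd_sub (R := ℤ) (p := p) (a := k) (b := 1) hpk n'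
    simpa using this
  -- `g ^ (p ^ n')` commutes with `x`
  have hc1 : Commute (g ^ p ^ n') x := by
    have h1 := conj_pow_gen hk' (p ^ n')
    have h2 : x ^ (k ^ p ^ n') = x := by
      have h3 : x ^ (k ^ p ^ n' - 1) = 1 := by
        apply (orderOf_dvd_iff_zpow_eq_one).1
        rw [hord]
        exact_mod_cast hbig
      have h4 : x ^ (k ^ p ^ n') = x ^ (k ^ p ^ n' - 1) * x := by
        rw [← zpow_add_one]
        congr 1
        ring
      rw [h4, h3, one_mul]
    rw [h2] at h1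
    -- `a * x * a⁻¹ = x` means `Commute a x`
    show g ^ p ^ n' * x = x * g ^ p ^ n'
    calc g ^ p ^ n' * x = (g ^ p ^ n' * x * (g ^ p ^ n')⁻¹) * g ^ p ^ n' := by group
      _ = x * g ^ p ^ n' := by rw [h1]
  -- `g ^ r` commutes with `x`
  have hc2 : Commute (g ^ r) x := by
    have := (Subgroup.mem_centralizer_iff.1 hgr) x hxP
    exact this.symm
  -- Bezout
  have hcop : Nat.Coprime r (p ^ n') :=
    Nat.Coprime.pow_right _ ((Nat.Prime.coprime_iff_not_dvd hp.out).2 hr).symm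
  have hbez := Nat.gcd_eq_gcd_ab r (p ^ n')
  rw [hcop.gcd_eq_one] at hbez
  have hg1 : g = (g ^ r) ^ (Nat.gcdA r (p ^ n')) * (g ^ p ^ n') ^ (Nat.gcdB r (p ^ n')) := by
    rw [← zpow_natCast g r, ← zpow_natCast g (p ^ n'), ← zpow_mul, ← zpow_mul, ← zpow_add]
    have : ((r : ℤ) * Nat.gcdA r (p ^ n') + ((p ^ n' : ℕ) : ℤ) * Nat.gcdB r (p ^ n')) = 1 := by
      rw [← hbez]
      simp
    rw [this, zpow_one]
  rw [hg1]
  exact (hc2.zpow_left _).mul_left (hc1.zpow_left _)

end Cfsg.Agent.Lib.H9.CY
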