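import Cfsg.Agent.Lib.H6.Co2M.GSDefs
import Cfsg.Agent.Lib.H6.McLM.GSide
import Cfsg.Agent.Lib.H6.McLM.Link
import Cfsg.Agent.Lib.H18.McL275
import Cfsg.Agent.Lib.H7.McLMBase4Map

set_option autoImplicit false
set_option maxRecDepth 100000

/-!
# S2044, piece (H4T): the McLaughlin data `Base4` for the subgroup `⟨aG, bG, cG, dG⟩` of `Co₂` (helper9)

The data `McLM.base4_G` of the permutation group `pd2.G` on 275 points (S2047) is transported along
`pd2.G ≃* pd.G ≃* MC` (helper18's `equivG`) and the inclusion `MC → C2L`; the words `aW27 bW27 cW27` in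
`s d v c` are the letters `8 10 12` of the table `GT4` (one computation on the 275 points per word).
-/

namespace Cfsg.Agent.Lib.H9.Co2M

open Equiv Cfsg.Agent.Lib.H27.LatW Cfsg.Agent.Lib.H27.PermN
open Cfsg.Agent.Lib.H6 Cfsg.Agent.Lib.H6.Co2M Cfsg.Agent.Lib.H27.McLOut
open Cfsg.Agent.Lib.H18

/-- the letters of `pd2` for the letters `s s⁻¹ d d⁻¹ v v⁻¹ c c⁻¹` -/
def trS (x : ℕ) : ℕ :=
  match x with
  | 0 => 0 | 1 => 4 | 2 => 1 | 3 => 5 | 4 => 2 | 5 => 6 | 6 => 3 | 7 => 7 | _ => 0

/-- the code of a word in `s d v c` -/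
def encS (w : List ℕ) : ℕ := w.foldl (fun acc x => Nat.add (Nat.mul acc 32) (Nat.succ (trS x))) 0

theorem trS_lt (x : ℕ) : trS x < 14 := by
  unfold trS
  split <;> norm_num

theorem evW_encS (w : List ℕ) : ∀ f : ℕ, w.length ≤ f →
    McLM.pd2.evW f (encS w) = (w.map fun x => McLM.pd2.bp (trS x)).prod := by
  induction w using List.reverseRecOn with
  | nil =>
    intro f _
    cases f with
    | zero => rfl
    | succ f => rfl
  | append_singleton u x ih =>
    intro f hf
    rw [List.length_append, List.length_singleton] at hf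
    obtain ⟨f', rfl⟩ : ∃ f', f = f' + 1 := ⟨f - 1, by omega⟩
    have henc : encS (u ++ [x]) = encS u * 32 + (trS x + 1) := by
      unfold encS
      rw [List.foldl_append]
      rfl
    have hlt := trS_lt x
    have hmod : Nat.mod (encS (u ++ [x])) 32 = trS x + 1 := by
      rw [henc]
      change (encS u * 32 + (trS x + 1)) % 32 = trS x + 1
      omega
    have hdiv : Nat.div (encS (u ++ [x])) 32 = encS u := by
      rw [henc]
      change (encS u * 32 + (trS x + 1)) / 32 = encS u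
      omega
    rw [McLM.pd2.evW_succ, hmod, hdiv]
    change McLM.pd2.evW f' (encS u) * McLM.pd2.bp (trS x) = _
    rw [ih f' (by omega), List.map_append, List.prod_append, List.map_singleton, List.prod_singleton]

theorem gl_permS (x : ℕ) (hx : x < 8) :
    McLM.gl (McLM.pd2.bp 0) (McLM.pd2.bp 1) (McLM.pd2.bp 2) (McLM.pd2.bp 3) x =
      McLM.pd2.bp (trS x) := by
  have h0 := McLM.pd2.bp_linv (by norm_num : 0 < 14)
  have h1 := McLM.pd2.bp_linv (by norm_num : 1 < 14)
  have h2 := McLM.pd2.bp_linv (by norm_num : 2 < 14)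
  have h3 := McLM.pd2.bp_linv (by norm_num : 3 < 14)
  interval_cases x
  · rfl
  · exact h0.symm
  · rfl
  · exact h1.symm
  · rfl
  · exact h2.symm
  · rfl
  · exact h3.symm

theorem wv_permS (w : List ℕ) (hw : ∀ x ∈ w, x < 8) (hl : w.length ≤ 64) :
    McLM.wv (McLM.pd2.bp 0) (McLM.pd2.bp 1) (McLM.pd2.bp 2) (McLM.pd2.bp 3) w =
      McLM.pd2.ev (encS w) := by
  unfold PD.ev
  rw [evW_encS w FUEL hl]
  unfold McLM.wv
  congr 1
  apply List.map_congr_left
  intro x hx
  exact gl_permS x (hw x hx)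

/-- the check that the word `w` in `s d v c` is the letter `d` of the table `GT4` -/
def chkS (w : List ℕ) (d : ℕ) : Bool :=
  Nat.ble w.length 64 && w.all (fun x => Nat.blt x 8) && digitsLt 14 FUEL (encS w) &&
    allLt 275 fun p => Nat.beq (trW McLM.GT4 FUEL (encS w) p) (lk McLM.GT4 d p)

theorem bp_eq_of_chkS (w : List ℕ) (d : ℕ) (hd : d < 14) (h : chkS w d = true) :
    McLM.pd2.bp d =
      McLM.wv (McLM.pd2.bp 0) (McLM.pd2.bp 1) (McLM.pd2.bp 2) (McLM.pd2.bp 3) w := by
  unfold chkS at h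
  simp only [Bool.and_eq_true] at h
  obtain ⟨⟨⟨h1, h2⟩, h3⟩, h4⟩ := h
  have hl : w.length ≤ 64 := Nat.le_of_ble_eq_true h1
  have hw : ∀ x ∈ w, x < 8 := fun x hx => Nat.le_of_ble_eq_true (List.all_eq_true.1 h2 x hx)
  rw [wv_permS w hw hl]
  ext p
  rw [McLM.pd2.ev_apply h3 p, McLM.pd2.bp_apply hd]
  exact (Nat.eq_of_beq_eq_true (allLt_spec h4 p p.2)).symm

theorem chk_a : chkS aW27 8 = true := by decide +kernel

theorem chk_b : chkS bW27 10 = true := by decide +kernel

theorem chk_c : chkS cW27 12 = true := by decide +kernel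

/-- the first four letters of the two tables agree -/
theorem hlk : allLt 4 (fun d => allLt 275 fun p =>
    Nat.beq (lk McLM.GT4 d p) (lk McL275.pd.GT d p)) = true := by
  decide +kernel

/-- the elements of `MC` with the words `aW27 bW27 cW27` -/
noncomputable def aM : ↥MC := McLM.wv sE dE vE cE aW27
/-- the elements of `MC` with the words `aW27 bW27 cW27` -/
noncomputable def bM : ↥MC := McLM.wv sE dE vE cE bW27
/-- the elements of `MC` with the words `aW27 bW27 cW27` -/
noncomputable def cM : ↥MC := McLM.wv sE dE vE cE cW27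

theorem incl_wv (w : List ℕ) (hw : ∀ i ∈ w, i < 8) :
    incl (McLM.wv sE dE vE cE w) = wv5 sC dC vC cC tC w := by
  rw [McLM.map_wv, wv5_eq_wv4 sC dC vC cC tC w hw]
  rfl

theorem incl_aM : incl aM = aG := incl_wv aW27 (by decide)

theorem incl_bM : incl bM = bG := incl_wv bW27 (by decide)

theorem incl_cM : incl cM = cG := incl_wv cW27 (by decide)

theorem bp2_eq {d : ℕ} (hd : d < 4) : McLM.pd2.bp d = McL275.pd.bp d :=
  McLM.pd2_bp_eq McL275.pd (by norm_num) hlk hd

theorem rho_wv (w : List ℕ) :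
    McL275.rho (McLM.wv sE dE vE cE w) =
      McLM.wv (McLM.pd2.bp 0) (McLM.pd2.bp 1) (McLM.pd2.bp 2) (McLM.pd2.bp 3) w := by
  rw [McLM.map_wv, McL275.rho_s, McL275.rho_d, McL275.rho_v, McL275.rho_c,
    bp2_eq (by norm_num : 0 < 4), bp2_eq (by norm_num : 1 < 4), bp2_eq (by norm_num : 2 < 4),
    bp2_eq (by norm_num : 3 < 4)]

theorem rho_aM : McL275.rho aM = McLM.aP := by
  unfold aM McLM.aP
  rw [rho_wv]
  exact (bp_eq_of_chkS aW27 8 (by norm_num) chk_a).symm

theorem rho_bM : McL275.rho bM = McLM.bP := by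
  unfold bM McLM.bP
  rw [rho_wv]
  exact (bp_eq_of_chkS bW27 10 (by norm_num) chk_b).symm

theorem rho_cM : McL275.rho cM = McLM.cP := by
  unfold cM McLM.cP
  rw [rho_wv]
  exact (bp_eq_of_chkS cW27 12 (by norm_num) chk_c).symm

theorem rho_sE : McL275.rho sE = McLM.dP := by
  unfold McLM.dP
  rw [McL275.rho_s, bp2_eq (by norm_num : 0 < 4)]

/-- the two permutation groups on 275 points are equal -/
noncomputable def e2 : ↥McLM.pd2.G ≃* ↥McL275.pd.G :=
  MulEquiv.subgroupCongr (McLM.pd2_G_eq McL275.pd (by norm_num) hlk)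

/-- the isomorphism of the permutation group of S2047 with `MC` -/
noncomputable def phi : ↥McLM.pd2.G ≃* ↥MC := e2.trans McL275.equivG.symm

theorem phi_eq (x : ↥McLM.pd2.G) (m : ↥MC) (h : McL275.rho m = (x : Perm (Fin 275))) :
    phi x = m := by
  unfold phi
  rw [MulEquiv.trans_apply, MulEquiv.symm_apply_eq]
  apply Subtype.ext
  rw [McL275.equivG_apply, h]
  rfl

/-- the embedding of the permutation group of S2047 in `C2L` -/
noncomputable def Phi : ↥McLM.pd2.G →* ↥C2L := incl.comp phi.toMonoidHom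

theorem Phi_apply (x : ↥McLM.pd2.G) : Phi x = incl (phi x) := rfl

theorem Phi_injective : Function.Injective Phi := fun _ _ h =>
  phi.injective (incl_injective h)

theorem Phi_a : Phi McLM.aG = aG := by
  rw [Phi_apply, phi_eq McLM.aG aM rho_aM, incl_aM]

theorem Phi_b : Phi McLM.bG = bG := by
  rw [Phi_apply, phi_eq McLM.bG bM rho_bM, incl_bM]

theorem Phi_c : Phi McLM.cG = cG := by
  rw [Phi_apply, phi_eq McLM.cG cM rho_cM, incl_cM]

theorem Phi_d : Phi McLM.dG = dG := by
  rw [Phi_apply, phi_eq McLM.dG sE rho_sE]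
  rfl

theorem range_Phi : Phi.range = HS4 aG bG cG dG := by
  have h := Cfsg.Agent.Lib.H7.McLM.closure4_map Phi McLM.aG McLM.bG McLM.cG McLM.dG
  rw [McLM.gen_G, ← MonoidHom.range_eq_map, Phi_a, Phi_b, Phi_c, Phi_d] at h
  exact h

/-- **(H4T) (1)** -/
theorem hs4_eq_range : HS4 aG bG cG dG = incl.range := by
  rw [← range_Phi]
  unfold Phi
  rw [← MonoidHom.map_range, (MonoidHom.range_eq_top (f := phi.toMonoidHom)).2 phi.surjective,
    ← MonoidHom.range_eq_map]

/-- **(H4T) (2)**: the McLaughlin data for the four marked elements of `⟨aG, bG, cG, dG⟩ ≤ C2L` -/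
theorem base4_HS4 :
    McLM.Base4 (aS aG bG cG dG) (bS aG bG cG dG) (cS aG bG cG dG) (dS aG bG cG dG) := by
  have hcard : Nat.card ↥McLM.pd2.G = 898128000 := by
    rw [Nat.card_congr e2.toEquiv]
    exact McL275.card_G
  have B := McLM.base4_G hcard
  let E : ↥McLM.pd2.G ≃* ↥(HS4 aG bG cG dG) :=
    (MonoidHom.ofInjective Phi_injective).trans (MulEquiv.subgroupCongr range_Phi)
  have hB := Cfsg.Agent.Lib.H7.McLM.base4_map E B
  have ha : E McLM.aG = aS aG bG cG dG := Subtype.ext Phi_a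
  have hb : E McLM.bG = bS aG bG cG dG := Subtype.ext Phi_b
  have hc : E McLM.cG = cS aG bG cG dG := Subtype.ext Phi_c
  have hd : E McLM.dG = dS aG bG cG dG := Subtype.ext Phi_d
  rw [ha, hb, hc, hd] at hB
  exact hB

end Cfsg.Agent.Lib.H9.Co2M
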