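import Mathlib
import Cfsg.Agent.Lib.H21.SplitAut
import Cfsg.Agent.Lib.H9.HallWielandt4

set_option autoImplicit false

namespace Cfsg.Agent.Lib.H9.E8Act

variable {P : Type*} [Group P] [Finite P]

/-- in a `p`-group with `p` odd, `x * x = 1` forces `x = 1` -/
theorem eq_one_of_mul_self {p : ℕ} (hp : p.Prime) (hp2 : p ≠ 2) (hP : IsPGroup p P)
    {x : P} (hx : x * x = 1) : x = 1 := by
  obtain ⟨k, hk⟩ := hP x
  have h2 : orderOf x ∣ 2 := orderOf_dvd_of_pow_eq_one (by rw [pow_two]; exact hx)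
  have hpk : orderOf x ∣ p ^ k := orderOf_dvd_of_pow_eq_one hk
  have hcop : Nat.Coprime 2 (p ^ k) := by
    apply Nat.Coprime.pow_right
    rw [Nat.coprime_primes Nat.prime_two hp]
    exact fun h => hp2 h.symm
  have : orderOf x ∣ 1 := by
    have := Nat.dvd_gcd h2 hpk
    rwa [hcop] at this
  exact orderOf_eq_one_iff.mp (Nat.dvd_one.mp this)

/-- an involutory automorphism stabilising a cyclic subgroup `⟨g⟩` of an odd `p`-group
fixes or inverts `g` -/
theorem map_eq_or_eq_inv {p : ℕ} (hp : p.Prime) (hp2 : p ≠ 2) (hP : IsPGroup p P)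
    (T : MulAut P) (hT : T * T = 1) (g : P) (hg : T g ∈ Subgroup.zpowers g) :
    T g = g ∨ T g = g⁻¹ := by
  obtain ⟨k, hk⟩ := hg
  have hk' : g ^ k = T g := hk
  have h1 : T (T g) = g := by
    have : (T * T) g = g := by rw [hT]; rfl
    simpa using this
  have h2 : g ^ (k * k) = g := by
    rw [zpow_mul, hk', ← map_zpow, hk', h1]
  have h3 : g ^ (k * k - 1) = 1 := by
    rw [zpow_sub, h2, zpow_one, mul_inv_cancel]
  have h4 : (orderOf g : ℤ) ∣ k * k - 1 := orderOf_dvd_iff_zpow_eq_one.mpr h3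
  obtain ⟨n, hn⟩ := hP g
  obtain ⟨m, -, hm⟩ := (Nat.dvd_prime_pow hp).mp (orderOf_dvd_of_pow_eq_one hn)
  have h5 : ((p : ℤ) ^ m) ∣ (k - 1) * (k + 1) := by
    have : (k - 1) * (k + 1) = k * k - 1 := by ring
    rw [this]
    have : ((p ^ m : ℕ) : ℤ) ∣ k * k - 1 := by rw [← hm]; exact h4
    simpa using this
  have hpi : Prime (p : ℤ) := Nat.prime_iff_prime_int.mp hp
  by_cases hd : (p : ℤ) ∣ k - 1
  · -- then p does not divide k + 1
    have hnd : ¬ (p : ℤ) ∣ k + 1 := by
      intro h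
      have h2 : (p : ℤ) ∣ 2 := by
        have := dvd_sub h hd
        have e : k + 1 - (k - 1) = 2 := by ring
        rwa [e] at this
      have h2' : p ∣ 2 := by exact_mod_cast h2
      exact hp2 ((Nat.prime_dvd_prime_iff_eq hp Nat.prime_two).mp h2')
    have hc : IsCoprime ((p : ℤ) ^ m) (k + 1) :=
      (hpi.irreducible.coprime_iff_not_dvd.mpr hnd).pow_left
    have h6 : ((p : ℤ) ^ m) ∣ k - 1 := hc.dvd_of_dvd_mul_right h5
    left
    have h7 : g ^ (k - 1) = 1 := by
      apply orderOf_dvd_iff_zpow_eq_one.mp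
      rw [hm]; exact_mod_cast h6
    rw [← hk']
    have : g ^ k = g ^ (k - 1) * g := by rw [← zpow_add_one]; congr 1; ring
    rw [this, h7, one_mul]
  · have hc : IsCoprime ((p : ℤ) ^ m) (k - 1) :=
      (hpi.irreducible.coprime_iff_not_dvd.mpr hd).pow_left
    have h6 : ((p : ℤ) ^ m) ∣ k + 1 := hc.dvd_of_dvd_mul_left h5
    right
    have h7 : g ^ (k + 1) = 1 := by
      apply orderOf_dvd_iff_zpow_eq_one.mp
      rw [hm]; exact_mod_cast h6
    rw [← hk']
    rw [zpow_add_one] at h7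
    exact eq_inv_of_mul_eq_one_left h7

/-- a fixed-point-free involutory automorphism on an invariant subgroup forces commutativity -/
theorem commute_of_fpf (σ : MulAut P) (hσ : σ * σ = 1) (H : Subgroup P)
    (hH : ∀ y ∈ H, σ y ∈ H) (hfix : ∀ y ∈ H, σ y = y → y = 1) :
    ∀ y ∈ H, ∀ z ∈ H, y * z = z * y := by
  have hσσ : ∀ x, σ (σ x) = x := by
    intro x
    have : (σ * σ) x = x := by rw [hσ]; rfl
    simpa using this
  let f : H → H := fun y => ⟨(y : P)⁻¹ * σ y, H.mul_mem (H.inv_mem y.2) (hH _ y.2)⟩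
  have hf : Function.Injective f := by
    intro y z hyz
    have h1 : (y : P)⁻¹ * σ y = (z : P)⁻¹ * σ z := congrArg Subtype.val hyz
    have h2 : σ ((z : P) * (y : P)⁻¹) = (z : P) * (y : P)⁻¹ := by
      rw [map_mul, map_inv]
      have : σ (z : P) = (z : P) * ((y : P)⁻¹ * σ y) := by rw [h1]; group
      rw [this]; group
    have h3 := hfix _ (H.mul_mem z.2 (H.inv_mem y.2)) h2
    apply Subtype.ext
    have : (z : P) = y := by
      have := mul_inv_eq_one.mp h3
      exact this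
    exact this.symm
  have hs : Function.Surjective f := Finite.injective_iff_surjective.mp hf
  have hinv : ∀ h ∈ H, σ h = h⁻¹ := by
    intro h hh
    obtain ⟨y, hy⟩ := hs ⟨h, hh⟩
    have : (y : P)⁻¹ * σ y = h := congrArg Subtype.val hy
    rw [← this, map_mul, map_inv, hσσ]
    group
  intro y hy z hz
  have h1 : σ (y * z) = (y * z)⁻¹ := hinv _ (H.mul_mem hy hz)
  rw [map_mul, hinv y hy, hinv z hz, mul_inv_rev] at h1
  have := congrArg (fun t => t⁻¹) h1
  have h2 : z * y = y * z := by simpa using this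
  exact h2.symm

section hyper

variable {G : Type*} [Group G]

/-- one extension step -/
theorem exists_extend (I I₀ : Subgroup G) [Finite I]
    (hc : ∀ x ∈ I, ∀ y ∈ I, x * y = y * x) (hsq : ∀ x ∈ I, x * x = 1)
    (h8 : Nat.card I = 8) (T : G) (hT : T ∈ I)
    (J : Subgroup G) (h0J : I₀ ≤ J) (hJI : J ≤ I) (hTJ : T ∉ J) (hJ2 : Nat.card J ≤ 2) :
    ∃ J' : Subgroup G, I₀ ≤ J' ∧ J' ≤ I ∧ T ∉ J' ∧ J < J' := by
  classical
  have hIfin : (I : Set G).Finite := Set.toFinite _
  have hJfin : (J : Set G).Finite := hIfin.subset hJI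
  -- find r in I outside J ∪ J*T
  have hcard : ((J : Set G) ∪ (fun j => j * T) '' (J : Set G)).ncard < (I : Set G).ncard := by
    have h1 : ((J : Set G) ∪ (fun j => j * T) '' (J : Set G)).ncard
        ≤ (J : Set G).ncard + ((fun j => j * T) '' (J : Set G)).ncard := Set.ncard_union_le _ _
    have h2 : ((fun j => j * T) '' (J : Set G)).ncard ≤ (J : Set G).ncard :=
      Set.ncard_image_le hJfin
    have h3 : (J : Set G).ncard = Nat.card J := rfl
    have h4 : (I : Set G).ncard = Nat.card I := rfl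
    omega
  obtain ⟨r, hrI, hr⟩ := Set.exists_mem_notMem_of_ncard_lt_ncard hcard
    (hJfin.union (hJfin.image _))
  have hrJ : r ∉ J := fun h => hr (Or.inl h)
  have hrT : ∀ j ∈ J, r ≠ j * T := fun j hj h => hr (Or.inr ⟨j, hj, h.symm⟩)
  have hrr : r * r = 1 := hsq r hrI
  let J' : Subgroup G :=
    { carrier := {x | x ∈ I ∧ (x ∈ J ∨ x * r ∈ J)}
      one_mem' := ⟨I.one_mem, Or.inl J.one_mem⟩
      mul_mem' := by
        rintro x y ⟨hxI, hx⟩ ⟨hyI, hy⟩
        refine ⟨I.mul_mem hxI hyI, ?_⟩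
        rcases hx with hx | hx <;> rcases hy with hy | hy
        · exact Or.inl (J.mul_mem hx hy)
        · right
          rw [mul_assoc]; exact J.mul_mem hx hy
        · right
          have : x * y * r = x * r * y := by
            rw [mul_assoc, hc y hyI r hrI, ← mul_assoc]
          rw [this]; exact J.mul_mem hx hy
        · left
          have : x * y = (x * r) * (y * r) := by
            have e1 : x * r * (y * r) = x * (r * y) * r := by group
            rw [e1, hc r hrI y hyI]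
            have e2 : x * (y * r) * r = x * y * (r * r) := by group
            rw [e2, hrr, mul_one]
          rw [this]; exact J.mul_mem hx hy
      inv_mem' := by
        rintro x ⟨hxI, hx⟩
        have : x⁻¹ = x := by
          have := hsq x hxI
          exact inv_eq_of_mul_eq_one_left this
        rw [this]
        exact ⟨hxI, hx⟩ }
  refine ⟨J', ?_, ?_, ?_, ?_⟩
  · intro x hx
    exact ⟨hJI (h0J hx), Or.inl (h0J hx)⟩
  · intro x hx
    exact hx.1
  · rintro ⟨-, h | h⟩
    · exact hTJ h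
    · apply hrT _ h
      rw [hc T hT r hrI, mul_assoc, hsq T hT, mul_one]
  · refine lt_of_le_of_ne (fun x hx => ⟨hJI hx, Or.inl hx⟩) ?_
    intro h
    apply hrJ
    rw [h]
    exact ⟨hrI, Or.inr (by rw [hrr]; exact J.one_mem)⟩

theorem card_mem_of_lt (I J : Subgroup G) [Finite I] (h8 : Nat.card I = 8) (hJI : J ≤ I)
    (hne : J ≠ I) : Nat.card J = 1 ∨ Nat.card J = 2 ∨ Nat.card J = 4 := by
  have hd : Nat.card J ∣ 8 := h8 ▸ Subgroup.card_dvd_of_le hJI
  have hle : Nat.card J ≤ 8 := Nat.le_of_dvd (by norm_num) hd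
  have hne8 : Nat.card J ≠ 8 := by
    intro h
    apply hne
    exact Subgroup.eq_of_le_of_card_ge hJI (by rw [h8, h])
  interval_cases h : Nat.card J <;> simp_all

/-- a hyperplane of an elementary abelian group of order 8 containing a given subgroup and
avoiding a given element -/
theorem exists_hyperplane (I I₀ : Subgroup G) [Finite I]
    (hc : ∀ x ∈ I, ∀ y ∈ I, x * y = y * x) (hsq : ∀ x ∈ I, x * x = 1)
    (h8 : Nat.card I = 8) (h0 : I₀ ≤ I) (T : G) (hT : T ∈ I) (hT0 : T ∉ I₀) :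
    ∃ J : Subgroup G, I₀ ≤ J ∧ J ≤ I ∧ T ∉ J ∧ Nat.card J = 4 := by
  classical
  let Q : ℕ → Prop := fun n => ∃ J : Subgroup G, I₀ ≤ J ∧ J ≤ I ∧ T ∉ J ∧ Nat.card J = n
  have hQ0 : Q (Nat.card I₀) := ⟨I₀, le_rfl, h0, hT0, rfl⟩
  have hle : Nat.card I₀ ≤ 8 := by
    rw [← h8]; exact Subgroup.card_le_of_le h0
  obtain ⟨J, h0J, hJI, hTJ, hJn⟩ := Nat.findGreatest_spec (P := Q) hle hQ0
  have hJne : J ≠ I := fun h => hTJ (h ▸ hT)
  rcases card_mem_of_lt I J h8 hJI hJne with h | h | h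
  · exfalso
    obtain ⟨J', h0J', hJ'I, hTJ', hlt⟩ := exists_extend I I₀ hc hsq h8 T hT J h0J hJI hTJ (by omega)
    have hJ'fin : Finite J' := Finite.of_injective _ (Subgroup.inclusion_injective hJ'I)
    have hcl : Nat.card J < Nat.card J' := by
      have := Subgroup.card_le_of_le hlt.le
      rcases this.lt_or_eq with h' | h'
      · exact h'
      · exact absurd (Subgroup.eq_of_le_of_card_ge hlt.le h'.ge) hlt.ne
    have hJ'8 : Nat.card J' ≤ 8 := by rw [← h8]; exact Subgroup.card_le_of_le hJ'I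
    have := Nat.le_findGreatest (P := Q) hJ'8 ⟨J', h0J', hJ'I, hTJ', rfl⟩
    omega
  · exfalso
    obtain ⟨J', h0J', hJ'I, hTJ', hlt⟩ := exists_extend I I₀ hc hsq h8 T hT J h0J hJI hTJ (by omega)
    have hJ'fin : Finite J' := Finite.of_injective _ (Subgroup.inclusion_injective hJ'I)
    have hcl : Nat.card J < Nat.card J' := by
      have := Subgroup.card_le_of_le hlt.le
      rcases this.lt_or_eq with h' | h'
      · exact h'
      · exact absurd (Subgroup.eq_of_le_of_card_ge hlt.le h'.ge) hlt.ne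
    have hJ'8 : Nat.card J' ≤ 8 := by rw [← h8]; exact Subgroup.card_le_of_le hJ'I
    have := Nat.le_findGreatest (P := Q) hJ'8 ⟨J', h0J', hJ'I, hTJ', rfl⟩
    omega
  · exact ⟨J, h0J, hJI, hTJ, h⟩

end hyper

section rank

variable (comm : ∀ x y : P, x * y = y * x)

/-- the `n`-th power endomorphism of a commutative group -/
def powHom (n : ℕ) : P →* P where
  toFun x := x ^ n
  map_one' := one_pow n
  map_mul' x y := (show Commute x y from comm x y).mul_pow n

/-- `x ↦ x * (T x)⁻¹` -/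
def theta (T : MulAut P) : P →* P where
  toFun x := x * (T x)⁻¹
  map_one' := by simp
  map_mul' x y := by
    rw [map_mul, mul_inv_rev]
    calc x * y * ((T y)⁻¹ * (T x)⁻¹) = x * (y * (T y)⁻¹) * (T x)⁻¹ := by group
      _ = x * ((T x)⁻¹ * (y * (T y)⁻¹)) := by rw [mul_assoc, comm (y * (T y)⁻¹) ((T x)⁻¹)]
      _ = x * (T x)⁻¹ * (y * (T y)⁻¹) := by group

omit [Finite P] in
theorem theta_apply (T : MulAut P) (x : P) : theta comm T x = x * (T x)⁻¹ := rfl

omit [Finite P] in
theorem powHom_apply (n : ℕ) (x : P) : powHom comm n x = x ^ n := rfl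

/-- key non-membership -/
theorem notMem_pow_sup {p : ℕ} (hp : p.Prime) (hp2 : p ≠ 2) (hP : IsPGroup p P)
    (T : MulAut P) (g : P) (hg : T g = g⁻¹) (hg1 : g ≠ 1) (K : Subgroup P)
    (hK : ∀ k ∈ K, T k = k) (hth : ∀ x, theta comm T x ∈ Subgroup.zpowers g) :
    g ∉ (powHom comm p).range ⊔ K := by
  intro hmem
  have hle : (powHom comm p).range ⊔ K ≤ (Subgroup.zpowers (g ^ p)).comap (theta comm T) := by
    apply sup_le
    · rintro _ ⟨w, rfl⟩
      rw [Subgroup.mem_comap, powHom_apply, map_pow]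
      obtain ⟨m, hm⟩ := hth w
      rw [← hm]
      refine ⟨m, ?_⟩
      show (g ^ p) ^ m = (g ^ m) ^ p
      rw [← zpow_natCast, ← zpow_natCast, ← zpow_mul, ← zpow_mul, mul_comm]
    · intro k hk
      rw [Subgroup.mem_comap, theta_apply, hK k hk, mul_inv_cancel]
      exact Subgroup.one_mem _
  have h1 := hle hmem
  rw [Subgroup.mem_comap, theta_apply, hg, inv_inv] at h1
  obtain ⟨m, hm⟩ := h1
  have hm' : (g ^ p) ^ m = g * g := hm
  have h2 : g ^ ((p : ℤ) * m - 2) = 1 := by
    rw [zpow_sub, zpow_mul, zpow_natCast, hm', zpow_ofNat, pow_two, mul_inv_cancel]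
  have h3 : (orderOf g : ℤ) ∣ (p : ℤ) * m - 2 := orderOf_dvd_iff_zpow_eq_one.mpr h2
  obtain ⟨n, hn⟩ := hP g
  obtain ⟨k, -, hk⟩ := (Nat.dvd_prime_pow hp).mp (orderOf_dvd_of_pow_eq_one hn)
  have hk0 : k ≠ 0 := by
    rintro rfl
    rw [pow_zero, orderOf_eq_one_iff] at hk
    exact hg1 hk
  have h4 : (p : ℤ) ∣ (p : ℤ) * m - 2 := by
    refine dvd_trans ?_ h3
    rw [hk]
    exact_mod_cast dvd_pow_self p hk0
  have h5 : (p : ℤ) ∣ 2 := by
    have := dvd_sub (dvd_mul_right (p : ℤ) m) h4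
    have e : (p : ℤ) * m - ((p : ℤ) * m - 2) = 2 := by ring
    rwa [e] at this
  have h6 : p ∣ 2 := by exact_mod_cast h5
  exact hp2 ((Nat.prime_dvd_prime_iff_eq hp Nat.prime_two).mp h6)

/-- a two-generated commutative group has at most `p² · |P^p|` elements -/
theorem card_le_of_two_gen {p : ℕ} (hp : p.Prime) (u v : P)
    (huv : Subgroup.closure {u, v} = ⊤) :
    Nat.card P ≤ p * p * Nat.card (powHom comm p).range := by
  classical
  have hp0 : 0 < p := hp.pos
  have : NeZero p := ⟨hp.ne_zero⟩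
  have hrep : ∀ x : P, ∃ m n : ℤ, x = u ^ m * v ^ n := by
    intro x
    have hx : x ∈ Subgroup.closure {u, v} := by rw [huv]; exact Subgroup.mem_top x
    induction hx using Subgroup.closure_induction with
    | mem y hy =>
      rcases hy with rfl | rfl
      · exact ⟨1, 0, by simp⟩
      · exact ⟨0, 1, by simp⟩
    | one => exact ⟨0, 0, by simp⟩
    | mul y z _ _ hy hz =>
      obtain ⟨m, n, rfl⟩ := hy
      obtain ⟨m', n', rfl⟩ := hz
      refine ⟨m + m', n + n', ?_⟩
      rw [zpow_add, zpow_add]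
      calc u ^ m * v ^ n * (u ^ m' * v ^ n') = u ^ m * (v ^ n * u ^ m') * v ^ n' := by group
        _ = u ^ m * (u ^ m' * v ^ n) * v ^ n' := by rw [comm (v ^ n) (u ^ m')]
        _ = u ^ m * u ^ m' * (v ^ n * v ^ n') := by group
    | inv y _ hy =>
      obtain ⟨m, n, rfl⟩ := hy
      refine ⟨-m, -n, ?_⟩
      rw [mul_inv_rev, zpow_neg, zpow_neg, comm]
  let f : (Fin p × Fin p) × (powHom comm p).range → P :=
    fun t => u ^ (t.1.1 : ℕ) * v ^ (t.1.2 : ℕ) * (t.2 : P)
  have hf : Function.Surjective f := by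
    intro x
    obtain ⟨m, n, rfl⟩ := hrep x
    have hm : m = (m % p) + p * (m / p) := (Int.emod_add_mul_ediv m p).symm
    have hn : n = (n % p) + p * (n / p) := (Int.emod_add_mul_ediv n p).symm
    have hm0 : 0 ≤ m % p := Int.emod_nonneg _ (by exact_mod_cast hp.ne_zero)
    have hn0 : 0 ≤ n % p := Int.emod_nonneg _ (by exact_mod_cast hp.ne_zero)
    have hm1 : m % p < p := Int.emod_lt_of_pos _ (by exact_mod_cast hp0)
    have hn1 : n % p < p := Int.emod_lt_of_pos _ (by exact_mod_cast hp0)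
    obtain ⟨i, hi⟩ := Int.eq_ofNat_of_zero_le hm0
    obtain ⟨j, hj⟩ := Int.eq_ofNat_of_zero_le hn0
    have hip : i < p := by rw [hi] at hm1; exact_mod_cast hm1
    have hjp : j < p := by rw [hj] at hn1; exact_mod_cast hn1
    let w : P := u ^ (m / p) * v ^ (n / p)
    refine ⟨((⟨i, hip⟩, ⟨j, hjp⟩), ⟨powHom comm p w, ⟨w, rfl⟩⟩), ?_⟩
    show u ^ i * v ^ j * (powHom comm p w) = u ^ m * v ^ n
    rw [powHom_apply]
    have hw : w ^ p = (u ^ (m / p)) ^ p * (v ^ (n / p)) ^ p :=
      (show Commute (u ^ (m / p)) (v ^ (n / p)) from comm _ _).mul_pow p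
    rw [hw]
    have e1 : u ^ m = u ^ i * (u ^ (m / p)) ^ p := by
      conv_lhs => rw [hm, hi]
      rw [zpow_add, zpow_natCast, mul_comm (p : ℤ), zpow_mul, zpow_natCast]
    have e2 : v ^ n = v ^ j * (v ^ (n / p)) ^ p := by
      conv_lhs => rw [hn, hj]
      rw [zpow_add, zpow_natCast, mul_comm (p : ℤ), zpow_mul, zpow_natCast]
    rw [e1, e2]
    calc u ^ i * v ^ j * ((u ^ (m / p)) ^ p * (v ^ (n / p)) ^ p)
        = u ^ i * (v ^ j * (u ^ (m / p)) ^ p) * (v ^ (n / p)) ^ p := by group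
      _ = u ^ i * ((u ^ (m / p)) ^ p * v ^ j) * (v ^ (n / p)) ^ p := by
          rw [comm (v ^ j) ((u ^ (m / p)) ^ p)]
      _ = u ^ i * (u ^ (m / p)) ^ p * (v ^ j * (v ^ (n / p)) ^ p) := by group
  have := Nat.card_le_card_of_surjective f hf
  rw [Nat.card_prod, Nat.card_prod, Nat.card_fin] at this
  exact this


omit [Finite P] in
theorem theta_mem_of_gens (T : MulAut P) (g : P) (S : Set P)
    (hgen : Subgroup.closure S = ⊤) (hS : ∀ s ∈ S, theta comm T s ∈ Subgroup.zpowers g) :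
    ∀ x, theta comm T x ∈ Subgroup.zpowers g := by
  intro x
  have hx : x ∈ Subgroup.closure S := by rw [hgen]; exact Subgroup.mem_top x
  have : Subgroup.closure S ≤ (Subgroup.zpowers g).comap (theta comm T) := by
    rw [Subgroup.closure_le]
    intro s hs
    exact hS s hs
  exact this hx

include comm in
theorem not_two_gen {p : ℕ} (hp : p.Prime) (hp2 : p ≠ 2) (hP : IsPGroup p P)
    (xa xb xc : P) (Ta Tb Tc : MulAut P)
    (hgen : Subgroup.closure {xa, xb, xc} = ⊤)
    (haa : Ta xa = xa⁻¹) (hab : Ta xb = xb) (hac : Ta xc = xc)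
    (hba : Tb xa = xa) (hbb : Tb xb = xb⁻¹) (hbc : Tb xc = xc)
    (hca : Tc xa = xa) (hcb : Tc xb = xb) (hcc : Tc xc = xc⁻¹)
    (hxa : xa ≠ 1) (hxb : xb ≠ 1) (hxc : xc ≠ 1) :
    ¬ ∃ u v : P, Subgroup.closure {u, v} = ⊤ := by
  rintro ⟨u, v, huv⟩
  have : Fact p.Prime := ⟨hp⟩
  have hub := card_le_of_two_gen comm hp u v huv
  set Pp := (powHom comm p).range with hPp
  -- theta images
  have hthc : ∀ x, theta comm Tc x ∈ Subgroup.zpowers xc := by
    apply theta_mem_of_gens comm Tc xc _ hgen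
    intro s hs
    rcases hs with rfl | rfl | rfl
    · rw [theta_apply, hca, mul_inv_cancel]; exact Subgroup.one_mem _
    · rw [theta_apply, hcb, mul_inv_cancel]; exact Subgroup.one_mem _
    · rw [theta_apply, hcc, inv_inv]
      exact Subgroup.mul_mem _ (Subgroup.mem_zpowers _) (Subgroup.mem_zpowers _)
  have hthb : ∀ x, theta comm Tb x ∈ Subgroup.zpowers xb := by
    apply theta_mem_of_gens comm Tb xb _ hgen
    intro s hs
    rcases hs with rfl | rfl | rfl
    · rw [theta_apply, hba, mul_inv_cancel]; exact Subgroup.one_mem _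
    · rw [theta_apply, hbb, inv_inv]
      exact Subgroup.mul_mem _ (Subgroup.mem_zpowers _) (Subgroup.mem_zpowers _)
    · rw [theta_apply, hbc, mul_inv_cancel]; exact Subgroup.one_mem _
  have htha : ∀ x, theta comm Ta x ∈ Subgroup.zpowers xa := by
    apply theta_mem_of_gens comm Ta xa _ hgen
    intro s hs
    rcases hs with rfl | rfl | rfl
    · rw [theta_apply, haa, inv_inv]
      exact Subgroup.mul_mem _ (Subgroup.mem_zpowers _) (Subgroup.mem_zpowers _)
    · rw [theta_apply, hab, mul_inv_cancel]; exact Subgroup.one_mem _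
    · rw [theta_apply, hac, mul_inv_cancel]; exact Subgroup.one_mem _
  -- fixed powers
  have fixpow : ∀ (T : MulAut P) (g : P), T g = g → ∀ k ∈ Subgroup.zpowers g, T k = k := by
    intro T g hg k hk
    obtain ⟨m, rfl⟩ := hk
    show T (g ^ m) = g ^ m
    rw [map_zpow, hg]
  have h1 : xc ∉ Pp ⊔ ⊥ :=
    notMem_pow_sup comm hp hp2 hP Tc xc hcc hxc ⊥ (by
      intro k hk; rw [Subgroup.mem_bot] at hk; rw [hk, map_one]) hthc
  have h2 : xb ∉ Pp ⊔ Subgroup.zpowers xc :=
    notMem_pow_sup comm hp hp2 hP Tb xb hbb hxb _ (fixpow Tb xc hbc) hthb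
  have h3 : xa ∉ Pp ⊔ (Subgroup.zpowers xc ⊔ Subgroup.zpowers xb) := by
    apply notMem_pow_sup comm hp hp2 hP Ta xa haa hxa _ _ htha
    intro k hk
    have hle : Subgroup.zpowers xc ⊔ Subgroup.zpowers xb ≤
        (MonoidHom.eqLocus (Ta : P →* P) (MonoidHom.id P)) := by
      apply sup_le
      · intro k hk; exact fixpow Ta xc hac k hk
      · intro k hk; exact fixpow Ta xb hab k hk
    exact hle hk
  rw [sup_bot_eq] at h1
  have l1 : Pp < Pp ⊔ Subgroup.zpowers xc := by
    refine lt_of_le_of_ne le_sup_left ?_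
    intro h
    apply h1
    rw [h]
    exact (le_sup_right : Subgroup.zpowers xc ≤ _) (Subgroup.mem_zpowers xc)
  have l2 : Pp ⊔ Subgroup.zpowers xc < Pp ⊔ (Subgroup.zpowers xc ⊔ Subgroup.zpowers xb) := by
    refine lt_of_le_of_ne (sup_le_sup_left le_sup_left _) ?_
    intro h
    apply h2
    rw [h]
    exact (le_sup_right.trans le_sup_right : Subgroup.zpowers xb ≤ _) (Subgroup.mem_zpowers xb)
  have l3 : Pp ⊔ (Subgroup.zpowers xc ⊔ Subgroup.zpowers xb) < ⊤ := by
    refine lt_of_le_of_ne le_top ?_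
    intro h
    apply h3
    rw [h]
    exact Subgroup.mem_top _
  have c1 := Cfsg.Agent.Lib.H9.HW.card_mul_le_of_lt hP l1
  have c2 := Cfsg.Agent.Lib.H9.HW.card_mul_le_of_lt hP l2
  have c3 := Cfsg.Agent.Lib.H9.HW.card_mul_le_of_lt hP l3
  rw [Subgroup.card_top] at c3
  have hpos : 0 < Nat.card Pp := Nat.card_pos
  have hp2' : 2 ≤ p := hp.two_le
  -- |Pp| p^3 ≤ |P| ≤ p^2 |Pp|
  have : Nat.card Pp * p * p * p ≤ p * p * Nat.card Pp := by
    calc Nat.card Pp * p * p * p ≤ Nat.card ↥(Pp ⊔ Subgroup.zpowers xc) * p * p := by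
          gcongr
      _ ≤ Nat.card ↥(Pp ⊔ (Subgroup.zpowers xc ⊔ Subgroup.zpowers xb)) * p := by gcongr
      _ ≤ Nat.card P := c3
      _ ≤ p * p * Nat.card Pp := hub
  have e : Nat.card Pp * p * p * p = (p * p * Nat.card Pp) * p := by ring
  rw [e] at this
  have hpp : 0 < p * p * Nat.card Pp := by positivity
  have : p ≤ 1 := by
    by_contra hcon
    push Not at hcon
    have : p * p * Nat.card Pp * 1 < p * p * Nat.card Pp * p :=
      Nat.mul_lt_mul_of_pos_left hcon hpp
    omega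
  omega

end rank

end Cfsg.Agent.Lib.H9.E8Act
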