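import Mathlib
import Cfsg.Prelude.Def_Transfer
import Cfsg.Agent.Lib.H21.SplitAut
import Cfsg.Agent.Lib.H9.E8Act

/-! Elementary abelian group of order 8 acting on an odd `p`-group: data extraction. -/

set_option autoImplicit false
set_option maxHeartbeats 1000000

namespace Cfsg.Agent.Lib.H9.E8Act

variable {P : Type*} [Group P] [Finite P]

/-- the fixed points of `T` form a cyclic subgroup -/
def Cyc (T : MulAut P) : Prop := ∃ g : P, ∀ x : P, (T x = x ↔ x ∈ Subgroup.zpowers g)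

/-- existence of a Klein four-group of non-broad elements with generation and the dual basis -/
theorem exists_data (p : ℕ) (hp : p.Prime) (hp2 : p ≠ 2) (hP : IsPGroup p P)
    (I : Subgroup (MulAut P)) (hI : Cfsg.IsElementaryAbelian 2 I) (hI8 : Nat.card ↥I = 8)
    (I₀ : Subgroup (MulAut P)) (hI₀ : I₀ < I)
    (hdisj : ∀ T ∈ I₀, T ≠ 1 → Cyc T)
    (hprod : ∀ T ∈ I, ∀ T' ∈ I, T ≠ 1 → T' ≠ 1 → ¬ Cyc T → ¬ Cyc T' → T * T' ∈ I₀) :
    ∃ a ∈ I, ∃ b ∈ I, ∃ xa xb xc : P, a ≠ 1 ∧ b ≠ 1 ∧ a ≠ b ∧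
      (∀ x, a x = x ↔ x ∈ Subgroup.zpowers xa) ∧
      (∀ x, b x = x ↔ x ∈ Subgroup.zpowers xb) ∧
      (∀ x, (a * b) x = x ↔ x ∈ Subgroup.zpowers xc) ∧
      Subgroup.closure {xa, xb, xc} = ⊤ := by
  classical
  have hIfin : Finite ↥I := Nat.finite_of_card_ne_zero (by rw [hI8]; norm_num)
  have hIc : ∀ x ∈ I, ∀ y ∈ I, x * y = y * x := by
    intro x hx y hy
    have := hI.1.is_comm.comm (⟨x, hx⟩ : I) ⟨y, hy⟩
    exact congrArg Subtype.val this
  have hIsq : ∀ x ∈ I, x * x = 1 := by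
    intro x hx
    have := hI.2 x hx
    rwa [pow_two] at this
  -- the hyperplane
  have hJ : ∃ J : Subgroup (MulAut P), J ≤ I ∧ Nat.card J = 4 ∧ ∀ S ∈ J, S ≠ 1 → Cyc S := by
    by_cases hB : ∃ T, T ∈ I ∧ T ≠ 1 ∧ ¬ Cyc T
    · obtain ⟨T, hTI, hT1, hTc⟩ := hB
      have hT0 : T ∉ I₀ := fun h => hTc (hdisj T h hT1)
      obtain ⟨J, h0J, hJI, hTJ, hJ4⟩ := exists_hyperplane I I₀ hIc hIsq hI8 hI₀.le T hTI hT0
      refine ⟨J, hJI, hJ4, ?_⟩
      intro S hS hS1
      by_contra hSc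
      have h1 : S * T ∈ I₀ := hprod S (hJI hS) T hTI hS1 hT1 hSc hTc
      have h2 : S * T ∈ J := h0J h1
      apply hTJ
      have : T = S⁻¹ * (S * T) := by group
      rw [this]
      exact J.mul_mem (J.inv_mem hS) h2
    · push Not at hB
      have hne : (I : Subgroup (MulAut P)) ≠ ⊥ := by
        intro h
        rw [h, Subgroup.card_bot] at hI8
        norm_num at hI8
      obtain ⟨T, hT1⟩ := (Subgroup.ne_bot_iff_exists_ne_one.mp hne)
      obtain ⟨J, -, hJI, -, hJ4⟩ := exists_hyperplane I ⊥ hIc hIsq hI8 bot_le T.1 T.2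
        (by
          rw [Subgroup.mem_bot]
          intro h
          exact hT1 (Subtype.ext h))
      exact ⟨J, hJI, hJ4, fun S hS hS1 => hB S (hJI hS) hS1⟩
  obtain ⟨J, hJI, hJ4, hJc⟩ := hJ
  have hJfin : Finite ↥J := Nat.finite_of_card_ne_zero (by rw [hJ4]; norm_num)
  have hJne : J ≠ ⊥ := by
    intro h
    rw [h, Subgroup.card_bot] at hJ4
    norm_num at hJ4
  obtain ⟨⟨a, haJ⟩, ha1'⟩ := Subgroup.ne_bot_iff_exists_ne_one.mp hJne
  have ha1 : a ≠ 1 := fun h => ha1' (Subtype.ext h)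
  have hcard : (({1, a} : Set (MulAut P))).ncard < (J : Set (MulAut P)).ncard := by
    have h1 : (({1, a} : Set (MulAut P))).ncard ≤ 2 := by
      have := Set.ncard_insert_le (1 : MulAut P) ({a} : Set (MulAut P))
      rw [Set.ncard_singleton] at this
      exact this
    have h2 : (J : Set (MulAut P)).ncard = Nat.card J := rfl
    omega
  obtain ⟨b, hbJ, hb⟩ := Set.exists_mem_notMem_of_ncard_lt_ncard hcard (Set.toFinite _)
  have hb1 : b ≠ 1 := fun h => hb (by rw [h]; exact Or.inl rfl)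
  have hab : a ≠ b := fun h => hb (by rw [← h]; exact Or.inr rfl)
  have haI := hJI haJ
  have hbI := hJI hbJ
  have hc1 : a * b ≠ 1 := by
    intro h
    apply hab
    have : a = b⁻¹ := eq_inv_of_mul_eq_one_left h
    rw [this]
    exact inv_eq_of_mul_eq_one_left (hIsq b hbI)
  obtain ⟨xa, hxa⟩ := hJc a haJ ha1
  obtain ⟨xb, hxb⟩ := hJc b hbJ hb1
  obtain ⟨xc, hxc⟩ := hJc (a * b) (J.mul_mem haJ hbJ) hc1
  refine ⟨a, haI, b, hbI, xa, xb, xc, ha1, hb1, hab, hxa, hxb, hxc, ?_⟩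
  -- generation
  have hI2 : IsPGroup 2 ↥I := IsPGroup.of_card (n := 3) (by rw [hI8]; norm_num)
  have hcop : (Nat.card P).Coprime 2 := by
    have : Fact p.Prime := ⟨hp⟩
    obtain ⟨n, hn⟩ := IsPGroup.iff_card.mp hP
    rw [hn]
    apply Nat.Coprime.pow_left
    exact (Nat.coprime_primes hp Nat.prime_two).mpr hp2
  have hsub : ∀ g ∈ ({xa, xb, xc} : Set P), g ∈ Subgroup.closure ({xa, xb, xc} : Set P) :=
    fun g hg => Subgroup.subset_closure hg
  refine Cfsg.Agent.Lib.H21.gen_abs (p := 2) I.subtype hI2 hcop ⟨a, haI⟩ ⟨b, hbI⟩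
    (Subtype.ext (hIc a haI b hbI)) (Subtype.ext (hI.2 a haI)) (Subtype.ext (hI.2 b hbI))
    (Subgroup.closure {xa, xb, xc}) ?_ ?_
  · intro k hk
    have hk' : a k = k := hk
    have : k ∈ Subgroup.zpowers xa := (hxa k).mp hk'
    exact (Subgroup.zpowers_le.mpr (hsub xa (by simp))) this
  · intro i k hk
    have hk' : (a ^ i * b) k = k := hk
    rcases Nat.even_or_odd' i with ⟨j, rfl | rfl⟩
    · have : a ^ (2 * j) = 1 := by rw [pow_mul, hI.2 a haI, one_pow]
      rw [this, one_mul] at hk'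
      have : k ∈ Subgroup.zpowers xb := (hxb k).mp hk'
      exact (Subgroup.zpowers_le.mpr (hsub xb (by simp))) this
    · have : a ^ (2 * j + 1) = a := by rw [pow_succ, pow_mul, hI.2 a haI, one_pow, one_mul]
      rw [this] at hk'
      have : k ∈ Subgroup.zpowers xc := (hxc k).mp hk'
      exact (Subgroup.zpowers_le.mpr (hsub xc (by simp))) this


omit [Finite P] in
/-- an automorphism fixing a generating set is trivial -/
theorem eq_one_of_fix_gens (S : Set P) (hgen : Subgroup.closure S = ⊤) (T : MulAut P)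
    (h : ∀ s ∈ S, T s = s) : T = 1 := by
  have hle : Subgroup.closure S ≤ MonoidHom.eqLocus (T : P →* P) (MonoidHom.id P) := by
    rw [Subgroup.closure_le]
    intro s hs
    exact h s hs
  apply MulEquiv.ext
  intro x
  have hx : x ∈ Subgroup.closure S := by rw [hgen]; exact Subgroup.mem_top x
  exact hle hx

/-- the dual basis -/
theorem exists_dual (p : ℕ) (hp : p.Prime) (hp2 : p ≠ 2) (hP : IsPGroup p P)
    (I : Subgroup (MulAut P)) (hI : Cfsg.IsElementaryAbelian 2 I) (hI8 : Nat.card ↥I = 8)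
    (a : MulAut P) (haI : a ∈ I) (b : MulAut P) (hbI : b ∈ I) (xa xb xc : P)
    (hxa : ∀ x, a x = x ↔ x ∈ Subgroup.zpowers xa)
    (hxb : ∀ x, b x = x ↔ x ∈ Subgroup.zpowers xb)
    (hxc : ∀ x, (a * b) x = x ↔ x ∈ Subgroup.zpowers xc)
    (hgen : Subgroup.closure {xa, xb, xc} = ⊤) :
    ∃ Ta ∈ I, ∃ Tb ∈ I, ∃ Tc ∈ I,
      Ta xa = xa⁻¹ ∧ Ta xb = xb ∧ Ta xc = xc ∧
      Tb xa = xa ∧ Tb xb = xb⁻¹ ∧ Tb xc = xc ∧
      Tc xa = xa ∧ Tc xb = xb ∧ Tc xc = xc⁻¹ ∧ xa ≠ 1 ∧ xb ≠ 1 ∧ xc ≠ 1 := by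
  classical
  have hIfin : Finite ↥I := Nat.finite_of_card_ne_zero (by rw [hI8]; norm_num)
  have hIc : ∀ x ∈ I, ∀ y ∈ I, x * y = y * x := by
    intro x hx y hy
    have := hI.1.is_comm.comm (⟨x, hx⟩ : I) ⟨y, hy⟩
    exact congrArg Subtype.val this
  have hIsq : ∀ x ∈ I, x * x = 1 := by
    intro x hx
    have := hI.2 x hx
    rwa [pow_two] at this
  have hcI : a * b ∈ I := I.mul_mem haI hbI
  -- signs
  have hsign : ∀ (σ : MulAut P) (g : P), σ ∈ I → (∀ x, σ x = x ↔ x ∈ Subgroup.zpowers g) →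
      ∀ T ∈ I, T g = g ∨ T g = g⁻¹ := by
    intro σ g hσ hg T hT
    apply map_eq_or_eq_inv hp hp2 hP T (hIsq T hT) g
    apply (hg (T g)).mp
    have h1 : σ g = g := (hg g).mpr (Subgroup.mem_zpowers g)
    have h2 : σ (T g) = (σ * T) g := rfl
    rw [h2, hIc σ hσ T hT]
    show T (σ g) = T g
    rw [h1]
  have hsa := hsign a xa haI hxa
  have hsb := hsign b xb hbI hxb
  have hsc := hsign (a * b) xc hcI hxc
  -- product fixes
  have hprodfix : ∀ (g : P), (∀ T ∈ I, T g = g ∨ T g = g⁻¹) → ∀ T ∈ I, ∀ T' ∈ I,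
      (T g = g ↔ T' g = g) → (T * T') g = g := by
    intro g hg T hT T' hT' hiff
    show T (T' g) = g
    by_cases h : T' g = g
    · rw [h]; exact hiff.mpr h
    · have h1 : T' g = g⁻¹ := (hg T' hT').resolve_left h
      have h2 : T g = g⁻¹ := (hg T hT).resolve_left (fun h' => h (hiff.mp h'))
      rw [h1, map_inv, h2, inv_inv]
  let f : ↥I → Bool × Bool × Bool := fun T =>
    (decide (T.1 xa = xa), decide (T.1 xb = xb), decide (T.1 xc = xc))
  have hf : Function.Injective f := by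
    intro T T' h
    have h1 : decide (T.1 xa = xa) = decide (T'.1 xa = xa) := congrArg Prod.fst h
    have h2 : decide (T.1 xb = xb) = decide (T'.1 xb = xb) := congrArg (fun t => t.2.1) h
    have h3 : decide (T.1 xc = xc) = decide (T'.1 xc = xc) := congrArg (fun t => t.2.2) h
    rw [decide_eq_decide] at h1 h2 h3
    have e : T.1 * T'.1 = 1 := by
      apply eq_one_of_fix_gens _ hgen
      intro s hs
      rcases hs with rfl | rfl | rfl
      · exact hprodfix _ hsa T.1 T.2 T'.1 T'.2 h1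
      · exact hprodfix _ hsb T.1 T.2 T'.1 T'.2 h2
      · exact hprodfix _ hsc T.1 T.2 T'.1 T'.2 h3
    apply Subtype.ext
    calc T.1 = T.1 * (T'.1 * T'.1) := by rw [hIsq T'.1 T'.2, mul_one]
      _ = (T.1 * T'.1) * T'.1 := by group
      _ = T'.1 := by rw [e, one_mul]
  have hbij : Function.Bijective f := by
    apply Function.Injective.bijective_of_nat_card_le hf
    rw [hI8]
    simp
  obtain ⟨Ta, hTa⟩ := hbij.2 (false, true, true)
  obtain ⟨Tb, hTb⟩ := hbij.2 (true, false, true)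
  obtain ⟨Tc, hTc⟩ := hbij.2 (true, true, false)
  have a1 : ¬ Ta.1 xa = xa := of_decide_eq_false (congrArg Prod.fst hTa)
  have a2 : Ta.1 xb = xb := of_decide_eq_true (congrArg (fun t => t.2.1) hTa)
  have a3 : Ta.1 xc = xc := of_decide_eq_true (congrArg (fun t => t.2.2) hTa)
  have b1 : Tb.1 xa = xa := of_decide_eq_true (congrArg Prod.fst hTb)
  have b2 : ¬ Tb.1 xb = xb := of_decide_eq_false (congrArg (fun t => t.2.1) hTb)
  have b3 : Tb.1 xc = xc := of_decide_eq_true (congrArg (fun t => t.2.2) hTb)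
  have c1 : Tc.1 xa = xa := of_decide_eq_true (congrArg Prod.fst hTc)
  have c2 : Tc.1 xb = xb := of_decide_eq_true (congrArg (fun t => t.2.1) hTc)
  have c3 : ¬ Tc.1 xc = xc := of_decide_eq_false (congrArg (fun t => t.2.2) hTc)
  refine ⟨Ta.1, Ta.2, Tb.1, Tb.2, Tc.1, Tc.2, (hsa Ta.1 Ta.2).resolve_left a1, a2, a3,
    b1, (hsb Tb.1 Tb.2).resolve_left b2, b3, c1, c2, (hsc Tc.1 Tc.2).resolve_left c3, ?_, ?_, ?_⟩
  · rintro rfl; exact a1 (map_one _)
  · rintro rfl; exact b2 (map_one _)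
  · rintro rfl; exact c3 (map_one _)


/-- criterion for a non-cyclic fixed-point subgroup -/
theorem not_cyc_of {p : ℕ} (hp : p.Prime) (hp2 : p ≠ 2) (hP : IsPGroup p P)
    (T S : MulAut P) (hTS : T * S = S * T) (hSS : S * S = 1) (y w : P)
    (hTy : T y = y) (hTw : T w = w) (hSy : S y ≠ y) (hSw : S w = w) (hw : w ≠ 1) : ¬ Cyc T := by
  rintro ⟨g, hg⟩
  obtain ⟨m, hm⟩ := (hg y).mp hTy
  obtain ⟨n, hn⟩ := (hg w).mp hTw
  have hm' : g ^ m = y := hm
  have hn' : g ^ n = w := hn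
  have hTg : T g = g := (hg g).mpr (Subgroup.mem_zpowers g)
  have hSg : S g ∈ Subgroup.zpowers g := by
    apply (hg (S g)).mp
    have : T (S g) = (T * S) g := rfl
    rw [this, hTS]
    show S (T g) = S g
    rw [hTg]
  rcases map_eq_or_eq_inv hp hp2 hP S hSS g hSg with h | h
  · apply hSy
    rw [← hm', map_zpow, h]
  · apply hw
    apply eq_one_of_mul_self hp hp2 hP
    have : S w = w⁻¹ := by rw [← hn', map_zpow, h, inv_zpow]
    rw [hSw] at this
    nth_rewrite 1 [this]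
    exact inv_mul_cancel w

/-- commutativity of the fixed points of `T` -/
theorem commute_fix {p : ℕ} (hp : p.Prime) (hp2 : p ≠ 2) (hP : IsPGroup p P)
    (T σ : MulAut P) (hTσ : T * σ = σ * T) (hσσ : σ * σ = 1) (g : P)
    (hg : ∀ x, σ x = x ↔ x ∈ Subgroup.zpowers g) (hTg : T g = g⁻¹) :
    ∀ y z, T y = y → T z = z → y * z = z * y := by
  intro y z hy hz
  let H : Subgroup P := MonoidHom.eqLocus (T : P →* P) (MonoidHom.id P)
  have hmem : ∀ x, x ∈ H ↔ T x = x := fun x => Iff.rfl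
  apply commute_of_fpf σ hσσ H
  · intro x hx
    rw [hmem] at hx ⊢
    have : T (σ x) = (T * σ) x := rfl
    rw [this, hTσ]
    show σ (T x) = σ x
    rw [hx]
  · intro x hx hσx
    rw [hmem] at hx
    obtain ⟨m, hm⟩ := (hg x).mp hσx
    have hm' : g ^ m = x := hm
    apply eq_one_of_mul_self hp hp2 hP
    have : T x = x⁻¹ := by rw [← hm', map_zpow, hTg, inv_zpow]
    rw [hx] at this
    nth_rewrite 1 [this]
    exact inv_mul_cancel x
  · exact (hmem y).mpr hy
  · exact (hmem z).mpr hz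

omit [Finite P] in
/-- pairwise commuting generators give a commutative group -/
theorem comm_of_gens (xa xb xc : P) (hgen : Subgroup.closure {xa, xb, xc} = ⊤)
    (hab : xa * xb = xb * xa) (hac : xa * xc = xc * xa) (hbc : xb * xc = xc * xb) :
    ∀ x y : P, x * y = y * x := by
  have key : ∀ s ∈ ({xa, xb, xc} : Set P), ∀ h : P, h * s = s * h := by
    intro s hs h
    have hle : Subgroup.closure ({xa, xb, xc} : Set P) ≤ Subgroup.centralizer {s} := by
      rw [Subgroup.closure_le]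
      intro t ht
      rw [SetLike.mem_coe, Subgroup.mem_centralizer_singleton_iff]
      rcases hs with rfl | rfl | rfl <;> rcases ht with rfl | rfl | rfl
      · rfl
      · exact hab.symm
      · exact hac.symm
      · exact hab
      · rfl
      · exact hbc.symm
      · exact hac
      · exact hbc
      · rfl
    have hh : h ∈ Subgroup.closure ({xa, xb, xc} : Set P) := by rw [hgen]; exact Subgroup.mem_top h
    have := hle hh
    rw [Subgroup.mem_centralizer_singleton_iff] at this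
    exact this
  have hcen : Subgroup.closure ({xa, xb, xc} : Set P) ≤ Subgroup.center P := by
    rw [Subgroup.closure_le]
    intro s hs
    rw [SetLike.mem_coe, Subgroup.mem_center_iff]
    exact key s hs
  intro x y
  have hy : y ∈ Subgroup.center P := hcen (by rw [hgen]; exact Subgroup.mem_top y)
  exact (Subgroup.mem_center_iff.mp hy x)

end Cfsg.Agent.Lib.H9.E8Act
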