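import Mathlib
import Cfsg.Prelude.Def_Transfer
import Cfsg.Agent.Lib.H9.E8Act2

/-! Elementary abelian group of order 8 acting on an odd `p`-group with few non-cyclic centralizers: main theorem (S4412). -/

set_option autoImplicit false
set_option maxHeartbeats 2000000

namespace Cfsg.Agent.Lib.H9.E8Act

variable {P : Type*} [Group P] [Finite P]

theorem main (p : ℕ) (hp : p.Prime) (hp2 : p ≠ 2) (hP : IsPGroup p P)
    (I : Subgroup (MulAut P)) (hI : Cfsg.IsElementaryAbelian 2 I) (hI8 : Nat.card ↥I = 8)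
    (I₀ : Subgroup (MulAut P)) (hI₀ : I₀ < I)
    (hdisj : ∀ T ∈ I₀, T ≠ 1 → Cyc T)
    (hprod : ∀ T ∈ I, ∀ T' ∈ I, T ≠ 1 → T' ≠ 1 → ¬ Cyc T → ¬ Cyc T' → T * T' ∈ I₀) :
    IsMulCommutative P ∧ (∃ a b c : P, Subgroup.closure {a, b, c} = ⊤) ∧
      (¬ ∃ a b : P, Subgroup.closure {a, b} = ⊤) ∧
      Nat.card {T : MulAut P // T ∈ I ∧ T ≠ 1 ∧ ¬ Cyc T} = 3 ∧
      Subgroup.closure {T : MulAut P | T ∈ I ∧ T ≠ 1 ∧ ¬ Cyc T} = I ∧
      (I₀ : Set (MulAut P)) = {S : MulAut P | ∃ T T' : MulAut P, T ∈ I ∧ T' ∈ I ∧ T ≠ 1 ∧ T' ≠ 1 ∧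
        (¬ Cyc T) ∧ (¬ Cyc T') ∧ S = T * T'} := by
  classical
  have hIfin : Finite ↥I := Nat.finite_of_card_ne_zero (by rw [hI8]; norm_num)
  have hIc : ∀ x ∈ I, ∀ y ∈ I, x * y = y * x := by
    intro x hx y hy
    have := hI.1.is_comm.comm (⟨x, hx⟩ : I) ⟨y, hy⟩
    exact congrArg Subtype.val this
  have hIsq : ∀ x ∈ I, x * x = 1 := by
    intro x hx
    have := hI.2 x hx
    rwa [pow_two] at this
  obtain ⟨a, haI, b, hbI, xa, xb, xc, ha1, hb1, hab, hxa, hxb, hxc, hgen⟩ :=
    exists_data p hp hp2 hP I hI hI8 I₀ hI₀ hdisj hprod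
  obtain ⟨Ta, hTaI, Tb, hTbI, Tc, hTcI, haa, hab', hac, hba, hbb, hbc, hca, hcb, hcc,
    hxa1, hxb1, hxc1⟩ := exists_dual p hp hp2 hP I hI hI8 a haI b hbI xa xb xc hxa hxb hxc hgen
  have hcI : a * b ∈ I := I.mul_mem haI hbI
  -- inverse ≠ self
  have hinvne : ∀ x : P, x ≠ 1 → x⁻¹ ≠ x := by
    intro x hx h
    apply hx
    apply eq_one_of_mul_self hp hp2 hP
    nth_rewrite 1 [← h]
    exact inv_mul_cancel x
  have hTa1 : Ta ≠ 1 := by
    rintro rfl
    exact hinvne xa hxa1 haa.symm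
  have hTb1 : Tb ≠ 1 := by
    rintro rfl
    exact hinvne xb hxb1 hbb.symm
  have hTc1 : Tc ≠ 1 := by
    rintro rfl
    exact hinvne xc hxc1 hcc.symm
  -- broadness
  have hTaB : ¬ Cyc Ta :=
    not_cyc_of hp hp2 hP Ta Tb (hIc Ta hTaI Tb hTbI) (hIsq Tb hTbI) xb xc hab' hac
      (by rw [hbb]; exact hinvne xb hxb1) hbc hxc1
  have hTbB : ¬ Cyc Tb :=
    not_cyc_of hp hp2 hP Tb Ta (hIc Tb hTbI Ta hTaI) (hIsq Ta hTaI) xa xc hba hbc
      (by rw [haa]; exact hinvne xa hxa1) hac hxc1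
  have hTcB : ¬ Cyc Tc :=
    not_cyc_of hp hp2 hP Tc Ta (hIc Tc hTcI Ta hTaI) (hIsq Ta hTaI) xa xb hca hcb
      (by rw [haa]; exact hinvne xa hxa1) hab' hxb1
  -- commutativity
  have cab : xa * xb = xb * xa :=
    commute_fix hp hp2 hP Tc (a * b) (hIc Tc hTcI _ hcI) (hIsq _ hcI) xc hxc hcc xa xb hca hcb
  have cbc : xb * xc = xc * xb :=
    commute_fix hp hp2 hP Ta a (hIc Ta hTaI _ haI) (hIsq _ haI) xa hxa haa xb xc hab' hac
  have cac : xa * xc = xc * xa :=
    commute_fix hp hp2 hP Tb b (hIc Tb hTbI _ hbI) (hIsq _ hbI) xb hxb hbb xa xc hba hbc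
  have comm : ∀ x y : P, x * y = y * x := comm_of_gens xa xb xc hgen cab cac cbc
  -- z inverts everything
  have hz : ∀ x : P, (Ta * Tb * Tc) x = x⁻¹ := by
    intro x
    have hx : x ∈ Subgroup.closure ({xa, xb, xc} : Set P) := by rw [hgen]; exact Subgroup.mem_top x
    induction hx using Subgroup.closure_induction with
    | mem y hy =>
      rcases hy with rfl | rfl | rfl
      · show Ta (Tb (Tc y)) = y⁻¹
        rw [hca, hba, haa]
      · show Ta (Tb (Tc y)) = y⁻¹
        rw [hcb, hbb, map_inv, hab']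
      · show Ta (Tb (Tc y)) = y⁻¹
        rw [hcc, map_inv, hbc, map_inv, hac]
    | one => rw [map_one, inv_one]
    | mul y z _ _ hy hz =>
      rw [map_mul, hy, hz, mul_inv_rev, comm]
    | inv y _ hy => rw [map_inv, hy]
  have hzC : Cyc (Ta * Tb * Tc) := by
    refine ⟨1, fun x => ?_⟩
    rw [hz x, Subgroup.zpowers_one_eq_bot, Subgroup.mem_bot]
    constructor
    · intro h
      by_contra hx
      exact hinvne x hx h
    · rintro rfl; exact inv_one
  -- evaluation of products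
  have e_ab_a : (Ta * Tb) xa = xa⁻¹ := by show Ta (Tb xa) = _; rw [hba, haa]
  have e_ab_b : (Ta * Tb) xb = xb⁻¹ := by show Ta (Tb xb) = _; rw [hbb, map_inv, hab']
  have e_ac_a : (Ta * Tc) xa = xa⁻¹ := by show Ta (Tc xa) = _; rw [hca, haa]
  have e_ac_b : (Ta * Tc) xb = xb := by show Ta (Tc xb) = _; rw [hcb, hab']
  have e_bc_a : (Tb * Tc) xa = xa := by show Tb (Tc xa) = _; rw [hca, hba]
  have e_bc_b : (Tb * Tc) xb = xb⁻¹ := by show Tb (Tc xb) = _; rw [hcb, hbb]
  have n1 : (1 : MulAut P) ≠ Ta * Tb := by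
    intro h
    have := DFunLike.congr_fun h xa
    simp only [MulAut.one_apply] at this
    rw [e_ab_a] at this
    exact hinvne xa hxa1 this.symm
  have n2 : (1 : MulAut P) ≠ Ta * Tc := by
    intro h
    have := DFunLike.congr_fun h xa
    simp only [MulAut.one_apply] at this
    rw [e_ac_a] at this
    exact hinvne xa hxa1 this.symm
  have n3 : (1 : MulAut P) ≠ Tb * Tc := by
    intro h
    have := DFunLike.congr_fun h xb
    simp only [MulAut.one_apply] at this
    rw [e_bc_b] at this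
    exact hinvne xb hxb1 this.symm
  have n4 : Ta * Tb ≠ Ta * Tc := by
    intro h
    have := DFunLike.congr_fun h xb
    rw [e_ab_b, e_ac_b] at this
    exact hinvne xb hxb1 this
  have n5 : Ta * Tb ≠ Tb * Tc := by
    intro h
    have := DFunLike.congr_fun h xa
    rw [e_ab_a, e_bc_a] at this
    exact hinvne xa hxa1 this
  have n6 : Ta * Tc ≠ Tb * Tc := by
    intro h
    have := DFunLike.congr_fun h xa
    rw [e_ac_a, e_bc_a] at this
    exact hinvne xa hxa1 this
  -- I₀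
  have hab0 : Ta * Tb ∈ I₀ := hprod Ta hTaI Tb hTbI hTa1 hTb1 hTaB hTbB
  have hac0 : Ta * Tc ∈ I₀ := hprod Ta hTaI Tc hTcI hTa1 hTc1 hTaB hTcB
  have hbc0 : Tb * Tc ∈ I₀ := hprod Tb hTbI Tc hTcI hTb1 hTc1 hTbB hTcB
  have hI₀card : Nat.card I₀ ≤ 4 := by
    rcases card_mem_of_lt I I₀ hI8 hI₀.le hI₀.ne with h | h | h <;> omega
  have hS0 : (({1, Ta * Tb, Ta * Tc, Tb * Tc} : Finset (MulAut P)) : Set (MulAut P)) =
      (I₀ : Set (MulAut P)) := by
    apply Set.eq_of_subset_of_ncard_le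
    · intro S hS
      simp only [Finset.coe_insert, Finset.coe_singleton, Set.mem_insert_iff,
        Set.mem_singleton_iff] at hS
      rcases hS with rfl | rfl | rfl | rfl
      · exact I₀.one_mem
      · exact hab0
      · exact hac0
      · exact hbc0
    · rw [Set.ncard_coe_finset]
      have : ({1, Ta * Tb, Ta * Tc, Tb * Tc} : Finset (MulAut P)).card = 4 := by
        rw [Finset.card_insert_of_notMem, Finset.card_insert_of_notMem,
          Finset.card_insert_of_notMem, Finset.card_singleton]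
        · simp only [Finset.mem_singleton]; exact n6
        · simp only [Finset.mem_insert, Finset.mem_singleton, not_or]; exact ⟨n4, n5⟩
        · simp only [Finset.mem_insert, Finset.mem_singleton, not_or]; exact ⟨n1, n2, n3⟩
      rw [this]
      exact hI₀card
    · have : Finite ↥I₀ := Finite.of_injective _ (Subgroup.inclusion_injective hI₀.le)
      exact Set.toFinite _
  have hmem0 : ∀ S, S ∈ I₀ ↔ S = 1 ∨ S = Ta * Tb ∨ S = Ta * Tc ∨ S = Tb * Tc := by
    intro S
    rw [← SetLike.mem_coe, ← hS0]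
    simp only [Finset.coe_insert, Finset.coe_singleton, Set.mem_insert_iff,
      Set.mem_singleton_iff]
  have hI₀4 : Nat.card I₀ = 4 := by
    have : (I₀ : Set (MulAut P)).ncard = 4 := by
      rw [← hS0, Set.ncard_coe_finset]
      rw [Finset.card_insert_of_notMem, Finset.card_insert_of_notMem,
        Finset.card_insert_of_notMem, Finset.card_singleton]
      · simp only [Finset.mem_singleton]; exact n6
      · simp only [Finset.mem_insert, Finset.mem_singleton, not_or]; exact ⟨n4, n5⟩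
      · simp only [Finset.mem_insert, Finset.mem_singleton, not_or]; exact ⟨n1, n2, n3⟩
    exact this
  -- the broad set
  have hB : {T : MulAut P | T ∈ I ∧ T ≠ 1 ∧ ¬ Cyc T} = {Ta, Tb, Tc} := by
    ext T
    simp only [Set.mem_ofPred_eq, Set.mem_insert_iff, Set.mem_singleton_iff]
    constructor
    · rintro ⟨hTI, hT1, hTB⟩
      have h1 : T * Ta ∈ I₀ := hprod T hTI Ta hTaI hT1 hTa1 hTB hTaB
      have hT : T = (T * Ta) * Ta := by rw [mul_assoc, hIsq Ta hTaI, mul_one]
      rcases (hmem0 _).mp h1 with h | h | h | h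
      · left
        rw [hT, h, one_mul]
      · right; left
        rw [hT, h, hIc Ta hTaI Tb hTbI, mul_assoc, hIsq Ta hTaI, mul_one]
      · right; right
        rw [hT, h, hIc Ta hTaI Tc hTcI, mul_assoc, hIsq Ta hTaI, mul_one]
      · exfalso
        apply hTB
        have : T = Ta * Tb * Tc := by
          rw [hT, h, hIc (Tb * Tc) (I.mul_mem hTbI hTcI) Ta hTaI, mul_assoc]
        rw [this]
        exact hzC
    · rintro (rfl | rfl | rfl)
      · exact ⟨hTaI, hTa1, hTaB⟩
      · exact ⟨hTbI, hTb1, hTbB⟩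
      · exact ⟨hTcI, hTc1, hTcB⟩
  have nab : Ta ≠ Tb := by
    intro h
    have := DFunLike.congr_fun h xa
    rw [haa, hba] at this
    exact hinvne xa hxa1 this
  have nac : Ta ≠ Tc := by
    intro h
    have := DFunLike.congr_fun h xa
    rw [haa, hca] at this
    exact hinvne xa hxa1 this
  have nbc : Tb ≠ Tc := by
    intro h
    have := DFunLike.congr_fun h xb
    rw [hbb, hcb] at this
    exact hinvne xb hxb1 this
  refine ⟨⟨⟨fun x y => comm x y⟩⟩, ⟨xa, xb, xc, hgen⟩, ?_, ?_, ?_, ?_⟩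
  · exact not_two_gen comm hp hp2 hP xa xb xc Ta Tb Tc hgen haa hab' hac hba hbb hbc hca hcb hcc
      hxa1 hxb1 hxc1
  · have : Nat.card {T : MulAut P // T ∈ I ∧ T ≠ 1 ∧ ¬ Cyc T} =
        ({T : MulAut P | T ∈ I ∧ T ≠ 1 ∧ ¬ Cyc T}).ncard := rfl
    rw [this, hB]
    have : ({Ta, Tb, Tc} : Set (MulAut P)) = (({Ta, Tb, Tc} : Finset (MulAut P)) : Set _) := by
      simp
    rw [this, Set.ncard_coe_finset, Finset.card_insert_of_notMem, Finset.card_insert_of_notMem,
      Finset.card_singleton]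
    · simp only [Finset.mem_singleton]; exact nbc
    · simp only [Finset.mem_insert, Finset.mem_singleton, not_or]; exact ⟨nab, nac⟩
  · rw [hB]
    set K := Subgroup.closure ({Ta, Tb, Tc} : Set (MulAut P)) with hK
    have hTaK : Ta ∈ K := Subgroup.subset_closure (by simp)
    have hTbK : Tb ∈ K := Subgroup.subset_closure (by simp)
    have hTcK : Tc ∈ K := Subgroup.subset_closure (by simp)
    have hKI : K ≤ I := by
      rw [hK, Subgroup.closure_le]
      intro T hT
      rcases hT with rfl | rfl | rfl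
      · exact hTaI
      · exact hTbI
      · exact hTcI
    have h0K : I₀ ≤ K := by
      intro S hS
      rcases (hmem0 S).mp hS with rfl | rfl | rfl | rfl
      · exact K.one_mem
      · exact K.mul_mem hTaK hTbK
      · exact K.mul_mem hTaK hTcK
      · exact K.mul_mem hTbK hTcK
    have hTa0 : Ta ∉ I₀ := fun h => hTaB (hdisj Ta h hTa1)
    have hKfin : Finite ↥K := Finite.of_injective _ (Subgroup.inclusion_injective hKI)
    have hd1 : Nat.card I₀ ∣ Nat.card K := Subgroup.card_dvd_of_le h0K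
    have hd2 : Nat.card K ∣ 8 := hI8 ▸ Subgroup.card_dvd_of_le hKI
    have hne4 : Nat.card K ≠ 4 := by
      intro h
      have : I₀ = K := Subgroup.eq_of_le_of_card_ge h0K (by rw [h, hI₀4])
      exact hTa0 (this ▸ hTaK)
    have hK8 : Nat.card K = 8 := by
      rw [hI₀4] at hd1
      have hle : Nat.card K ≤ 8 := Nat.le_of_dvd (by norm_num) hd2
      have hpos : 0 < Nat.card K := Nat.card_pos
      obtain ⟨t, ht⟩ := hd1
      have ht2 : t ≤ 2 := by
        by_contra hcon
        push Not at hcon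
        have : 4 * 3 ≤ 4 * t := Nat.mul_le_mul_left 4 hcon
        omega
      interval_cases t <;> omega
    exact Subgroup.eq_of_le_of_card_ge hKI (by rw [hK8, hI8])
  · ext S
    simp only [SetLike.mem_coe, Set.mem_ofPred_eq]
    constructor
    · intro hS
      rcases (hmem0 S).mp hS with rfl | rfl | rfl | rfl
      · exact ⟨Ta, Ta, hTaI, hTaI, hTa1, hTa1, hTaB, hTaB, (hIsq Ta hTaI).symm⟩
      · exact ⟨Ta, Tb, hTaI, hTbI, hTa1, hTb1, hTaB, hTbB, rfl⟩
      · exact ⟨Ta, Tc, hTaI, hTcI, hTa1, hTc1, hTaB, hTcB, rfl⟩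
      · exact ⟨Tb, Tc, hTbI, hTcI, hTb1, hTc1, hTbB, hTcB, rfl⟩
    · rintro ⟨T, T', hT, hT', hT1, hT'1, hTB, hT'B, rfl⟩
      exact hprod T hT T' hT' hT1 hT'1 hTB hT'B

end Cfsg.Agent.Lib.H9.E8Act
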