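import Mathlib
import Cfsg.Prelude.Def_GeometricClasses
import Cfsg.Agent.Lib.H9.ExtSpDefs

/-!
# S5664: a field subalgebra of a matrix algebra as an abstract field acting on `ι → F`
-/

set_option autoImplicit false

namespace Cfsg.Agent.Lib.H9.ExtSp

open Module

variable {ι : Type} [Fintype ι] [DecidableEq ι] {F : Type*} [Field F]

/-- a subalgebra of the matrix algebra which is a field -/
structure IsFldM (E : Subalgebra F (Matrix ι ι F)) : Prop where
  comm : ∀ x ∈ E, ∀ y ∈ E, x * y = y * x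
  inv : ∀ x ∈ E, x ≠ 0 → ∃ y ∈ E, x * y = 1

theorem isFldM_of {r : ℕ} {E : Subalgebra F (Matrix ι ι F)} (h : Cfsg.Geo.IsFieldSubalgebra r E) :
    IsFldM E := ⟨h.comm, h.inv⟩

variable (E : Subalgebra F (Matrix ι ι F)) [hE : Fact (IsFldM E)] [hι : Nonempty ι]

theorem isFieldM : IsField ↥E where
  exists_pair_ne := by
    refine ⟨0, 1, fun h => ?_⟩
    have h1 : ((0 : ↥E) : Matrix ι ι F) = ((1 : ↥E) : Matrix ι ι F) := by rw [h]
    obtain ⟨i⟩ := hι
    have h2 := congrFun (congrFun h1 i) i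
    simp at h2
  mul_comm := fun x y => Subtype.ext (hE.out.comm x x.2 y y.2)
  mul_inv_cancel := by
    intro a ha
    have ha' : (a : Matrix ι ι F) ≠ 0 := fun h => ha (Subtype.ext h)
    obtain ⟨y, hy, hxy⟩ := hE.out.inv a a.2 ha'
    exact ⟨⟨y, hy⟩, Subtype.ext hxy⟩

noncomputable instance fieldM : Field ↥E := (isFieldM E).toField

noncomputable instance moduleM : Module ↥E (ι → F) where
  smul e v := (e : Matrix ι ι F).mulVec v
  one_smul v := Matrix.one_mulVec v
  mul_smul a b v := (Matrix.mulVec_mulVec v (a : Matrix ι ι F) b).symm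
  smul_zero e := Matrix.mulVec_zero _
  smul_add e v w := Matrix.mulVec_add _ v w
  add_smul a b v := Matrix.add_mulVec _ _ v
  zero_smul v := Matrix.zero_mulVec v

theorem smulM_def (e : ↥E) (v : ι → F) : e • v = (e : Matrix ι ι F).mulVec v := rfl

instance towerM : IsScalarTower F ↥E (ι → F) where
  smul_assoc c e v := by
    rw [smulM_def, smulM_def]
    show ((c • (e : Matrix ι ι F))).mulVec v = _
    rw [Matrix.smul_mulVec]

instance finiteDimM : FiniteDimensional ↥E (ι → F) := FiniteDimensional.right F ↥E (ι → F)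

example (B : LinearMap.BilinForm ↥E (ι → F)) (lam : ↥E →ₗ[F] F) (M : Subgroup ((ι → F) ≃ₗ[F] (ι → F)))
    (S : Setup B lam M) (z : ι → F) (b : ↥E) : ktv (F := F) B S.alt z b ∈ M := ktv_mem S z b

end Cfsg.Agent.Lib.H9.ExtSp
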