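import Mathlib
import Cfsg.Prelude.Def_GeometricClasses
import Cfsg.Agent.Lib.H9.ExtSpBase

/-!
# S5664: the `K`-bilinear form `B` with `f = lam ∘ B`
-/

set_option autoImplicit false

namespace Cfsg.Agent.Lib.H9.ExtSp

open Module

section pairing

variable {F K : Type*} [Field F] [Field K] [Algebra F K]

theorem pair_eq_zero (lam : K →ₗ[F] F) (hlam : lam ≠ 0) (c : K) (h : ∀ k, lam (k * c) = 0) :
    c = 0 := by
  by_contra hc
  apply hlam
  ext x
  have := h (x * c⁻¹)
  rw [mul_assoc, inv_mul_cancel₀ hc, mul_one] at this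
  rw [this, LinearMap.zero_apply]

theorem pair_ext (lam : K →ₗ[F] F) (hlam : lam ≠ 0) (a b : K)
    (h : ∀ k, lam (k * a) = lam (k * b)) : a = b := by
  rw [← sub_eq_zero]
  apply pair_eq_zero lam hlam
  intro k
  rw [mul_sub, map_sub, h k, sub_self]

/-- the pairing `c ↦ (k ↦ lam (k * c))` -/
noncomputable def pairMap (lam : K →ₗ[F] F) : K →ₗ[F] (K →ₗ[F] F) :=
  (LinearMap.mul F K).flip.compr₂ lam

theorem pairMap_apply (lam : K →ₗ[F] F) (c k : K) : pairMap lam c k = lam (k * c) := by
  simp [pairMap, LinearMap.compr₂_apply, mul_comm]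

theorem pair_surj [FiniteDimensional F K] (lam : K →ₗ[F] F) (hlam : lam ≠ 0) (φ : K →ₗ[F] F) :
    ∃ c : K, ∀ k, φ k = lam (k * c) := by
  have hinj : Function.Injective (pairMap lam) := by
    rw [injective_iff_map_eq_zero]
    intro c hc
    apply pair_eq_zero lam hlam
    intro k
    rw [← pairMap_apply, hc, LinearMap.zero_apply]
  have hsurj : Function.Surjective (pairMap lam) :=
    (LinearMap.injective_iff_surjective_of_finrank_eq_finrank
      (Subspace.dual_finrank_eq (K := F) (V := K)).symm).1 hinj
  obtain ⟨c, hc⟩ := hsurj φ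
  exact ⟨c, fun k => by rw [← hc, pairMap_apply]⟩

theorem exists_lam_ne_zero [FiniteDimensional F K] : ∃ lam : K →ₗ[F] F, lam ≠ 0 := by
  by_contra h
  push Not at h
  have h1 : (1 : K) = 0 := by
    rw [← Module.forall_dual_apply_eq_zero_iff F]
    intro φ
    rw [h φ, LinearMap.zero_apply]
  exact one_ne_zero h1

end pairing

section form

variable {ι : Type} [Fintype ι] [DecidableEq ι] {F : Type*} [Field F]
variable (E : Subalgebra F (Matrix ι ι F)) [hE : Fact (IsFldM E)] [hι : Nonempty ι]

/-- the functional `k ↦ f (k • x) y` -/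
noncomputable def evalFun (f : LinearMap.BilinForm F (ι → F)) (x y : ι → F) : ↥E →ₗ[F] F where
  toFun k := f (k • x) y
  map_add' a b := by rw [add_smul, map_add, LinearMap.add_apply]
  map_smul' a k := by
    rw [smul_assoc, map_smul, LinearMap.smul_apply, RingHom.id_apply]

theorem evalFun_apply (f : LinearMap.BilinForm F (ι → F)) (x y : ι → F) (k : ↥E) :
    evalFun E f x y k = f (k • x) y := rfl

variable (lam : ↥E →ₗ[F] F) (hlam : lam ≠ 0) (f : LinearMap.BilinForm F (ι → F))

/-- the value `B x y`, characterised by `lam (k * B x y) = f (k • x) y` -/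
noncomputable def Bval (x y : ι → F) : ↥E :=
  Classical.choose (pair_surj lam hlam (evalFun E f x y))

theorem Bval_spec (x y : ι → F) (k : ↥E) :
    lam (k * Bval E lam hlam f x y) = f (k • x) y :=
  ((Classical.choose_spec (pair_surj lam hlam (evalFun E f x y))) k).symm

variable (hsa : ∀ (k : ↥E) (u v : ι → F), f (k • u) v = f u (k • v))

/-- the `K`-bilinear form -/
noncomputable def Bform : LinearMap.BilinForm ↥E (ι → F) :=
  LinearMap.mk₂ ↥E (Bval E lam hlam f)
    (fun x x' y => by
      apply pair_ext lam hlam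
      intro k
      rw [mul_add, map_add, Bval_spec, Bval_spec, Bval_spec, smul_add, map_add,
        LinearMap.add_apply])
    (fun c x y => by
      apply pair_ext lam hlam
      intro k
      rw [smul_eq_mul, ← mul_assoc, Bval_spec, Bval_spec, mul_smul])
    (fun x y y' => by
      apply pair_ext lam hlam
      intro k
      rw [mul_add, map_add, Bval_spec, Bval_spec, Bval_spec, map_add])
    (fun c x y => by
      apply pair_ext lam hlam
      intro k
      rw [smul_eq_mul, ← mul_assoc, Bval_spec, Bval_spec, ← hsa, mul_smul, ← mul_smul,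
        mul_comm, mul_smul])

theorem Bform_spec (x y : ι → F) (k : ↥E) :
    lam (k * Bform E lam hlam f hsa x y) = f (k • x) y := Bval_spec E lam hlam f x y k

theorem lam_Bform (x y : ι → F) : lam (Bform E lam hlam f hsa x y) = f x y := by
  have := Bform_spec E lam hlam f hsa x y 1
  rwa [one_mul, one_smul] at this

theorem Bform_alt (halt : ∀ (k : ↥E) (v : ι → F), f (k • v) v = 0) (x : ι → F) :
    Bform E lam hlam f hsa x x = 0 := by
  apply pair_eq_zero lam hlam
  intro k
  rw [Bform_spec, halt]

theorem Bform_nondeg (hnd : ∀ x, (∀ y, f x y = 0) → x = 0) (x : ι → F)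
    (h : ∀ y, Bform E lam hlam f hsa x y = 0) : x = 0 := by
  apply hnd
  intro y
  rw [← lam_Bform E lam hlam f hsa, h, map_zero]

end form

end Cfsg.Agent.Lib.H9.ExtSp
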