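import Mathlib
import Cfsg.Prelude.Def_GeometricClasses
import Cfsg.Agent.Lib.H9.ExtSpForm
import Cfsg.Agent.Lib.H1.C3MaxBase
import Cfsg.Agent.Lib.H11.SubspMax2
import Cfsg.Agent.Lib.H2.SpSimple

/-!
# S5664: bridge between matrices and the abstract setting
-/

set_option autoImplicit false

namespace Cfsg.Agent.Lib.H9.ExtSp

open Module Matrix

section gl

variable {ι : Type} [Fintype ι] [DecidableEq ι] {F : Type*} [Field F]

/-- matrices as linear automorphisms -/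
noncomputable def glEquiv : GL ι F ≃* ((ι → F) ≃ₗ[F] (ι → F)) :=
  Matrix.GeneralLinearGroup.toLin.trans
    (LinearMap.GeneralLinearGroup.generalLinearEquiv F (ι → F))

theorem glEquiv_apply (g : GL ι F) (v : ι → F) : glEquiv g v = (g : Matrix ι ι F) *ᵥ v := by
  simp [glEquiv, Matrix.GeneralLinearGroup.toLin]

theorem glEquiv_symm_mulVec (h : (ι → F) ≃ₗ[F] (ι → F)) (v : ι → F) :
    ((glEquiv.symm h : GL ι F) : Matrix ι ι F) *ᵥ v = h v := by
  rw [← glEquiv_apply, MulEquiv.apply_symm_apply]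

/-- a subgroup of `GL` as a group of linear automorphisms -/
noncomputable def toAbs (M : Subgroup (GL ι F)) : Subgroup ((ι → F) ≃ₗ[F] (ι → F)) :=
  M.comap (glEquiv (ι := ι) (F := F)).symm.toMonoidHom

theorem mem_toAbs (M : Subgroup (GL ι F)) (h : (ι → F) ≃ₗ[F] (ι → F)) :
    h ∈ toAbs M ↔ glEquiv.symm h ∈ M := Iff.rfl

theorem glEquiv_mem_toAbs (M : Subgroup (GL ι F)) (g : GL ι F) : glEquiv g ∈ toAbs M ↔ g ∈ M := by
  rw [mem_toAbs, MulEquiv.symm_apply_apply]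

theorem mat_ext_mulVec {A B : Matrix ι ι F} (h : ∀ v, A *ᵥ v = B *ᵥ v) : A = B := by
  apply Matrix.toLin'.injective
  apply LinearMap.ext
  intro v
  rw [Matrix.toLin'_apply, Matrix.toLin'_apply]
  exact h v

end gl

section main

variable {m : ℕ} {F : Type*} [Field F]

/-- `sympForm` as a bilinear form -/
noncomputable def sympBil (m : ℕ) (F : Type*) [Field F] :
    LinearMap.BilinForm F (Fin m ⊕ Fin m → F) :=
  LinearMap.mk₂ F (Cfsg.sympForm m F)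
    (fun u u' v => Cfsg.Agent.Lib.H4.sympForm_add_left m u u' v)
    (fun a u v => by rw [smul_eq_mul]; exact Cfsg.Agent.Lib.H4.sympForm_smul_left m a u v)
    (fun u v v' => Cfsg.Agent.Lib.H4.sympForm_add_right m u v v')
    (fun a u v => by rw [smul_eq_mul]; exact Cfsg.Agent.Lib.H4.sympForm_smul_right m a u v)

theorem sympBil_apply (u v : Fin m ⊕ Fin m → F) : sympBil m F u v = Cfsg.sympForm m F u v := rfl

variable (K : Subalgebra F (Matrix (Fin m ⊕ Fin m) (Fin m ⊕ Fin m) F)) [hE : Fact (IsFldM K)]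
  [hι : Nonempty (Fin m ⊕ Fin m)]

theorem hsa_smul (hsa : Cfsg.Geo.IsSelfAdjointFor (Cfsg.sympForm m F) K) (k : ↥K)
    (u v : Fin m ⊕ Fin m → F) :
    sympBil m F (k • u) v = sympBil m F u (k • v) := hsa k.1 k.2 u v

/-- the `K`-bilinear form of S5664 -/
noncomputable def BK (lam : ↥K →ₗ[F] F) (hlam : lam ≠ 0)
    (hsa : Cfsg.Geo.IsSelfAdjointFor (Cfsg.sympForm m F) K) :
    LinearMap.BilinForm ↥K (Fin m ⊕ Fin m → F) :=
  Bform K lam hlam (sympBil m F) (hsa_smul K hsa)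

theorem lam_BK (lam : ↥K →ₗ[F] F) (hlam : lam ≠ 0)
    (hsa : Cfsg.Geo.IsSelfAdjointFor (Cfsg.sympForm m F) K) (x y : Fin m ⊕ Fin m → F) :
    lam (BK K lam hlam hsa x y) = Cfsg.sympForm m F x y :=
  lam_Bform K lam hlam (sympBil m F) (hsa_smul K hsa) x y

theorem BK_alt (lam : ↥K →ₗ[F] F) (hlam : lam ≠ 0)
    (hsa : Cfsg.Geo.IsSelfAdjointFor (Cfsg.sympForm m F) K)
    (halt : ∀ k ∈ K, ∀ v : (Fin m ⊕ Fin m → F), Cfsg.sympForm m F (Matrix.mulVec k v) v = 0)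
    (x : Fin m ⊕ Fin m → F) : BK K lam hlam hsa x x = 0 :=
  Bform_alt K lam hlam (sympBil m F) (hsa_smul K hsa) (fun k v => halt k.1 k.2 v) x

theorem BK_nondeg (lam : ↥K →ₗ[F] F) (hlam : lam ≠ 0)
    (hsa : Cfsg.Geo.IsSelfAdjointFor (Cfsg.sympForm m F) K) (x : Fin m ⊕ Fin m → F)
    (h : ∀ y, BK K lam hlam hsa x y = 0) : x = 0 :=
  Bform_nondeg K lam hlam (sympBil m F) (hsa_smul K hsa)
    (fun x hx => Cfsg.Agent.Lib.H2.Sp.eq_zero_of_forall x hx) x h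

omit hE hι in
/-- an element commuting with `K` normalises `K` -/
theorem mem_normalizer_of_comm (g : GL (Fin m ⊕ Fin m) F)
    (h : ∀ k ∈ K, g.1 * k = k * g.1) :
    g ∈ Cfsg.Geo.subalgebraNormalizer K := by
  have hg1 : g.1 * (g⁻¹ : GL _ F).1 = 1 := by
    rw [← Units.val_mul, mul_inv_cancel]; rfl
  have hg2 : (g⁻¹ : GL _ F).1 * g.1 = 1 := by
    rw [← Units.val_mul, inv_mul_cancel]; rfl
  intro k
  show k ∈ K ↔ g.1 * k * (g⁻¹ : GL _ F).1 ∈ K
  constructor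
  · intro hk
    rw [h k hk, mul_assoc, hg1, mul_one]
    exact hk
  · intro hk
    have h1 := h _ hk
    have hc : (g⁻¹ : GL _ F).1 * ((g.1 * k * (g⁻¹ : GL _ F).1) * g.1) =
        g.1 * k * (g⁻¹ : GL _ F).1 := by
      rw [← h1, ← mul_assoc, hg2, one_mul]
    have hk' : (g⁻¹ : GL _ F).1 * ((g.1 * k * (g⁻¹ : GL _ F).1) * g.1) = k := by
      rw [mul_assoc (g.1 * k), hg2, mul_one, ← mul_assoc, hg2, one_mul]
    have h2 : k = g.1 * k * (g⁻¹ : GL _ F).1 := by rw [← hc, hk']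
    rw [h2]; exact hk

theorem setup_toAbs (lam : ↥K →ₗ[F] F) (hlam : lam ≠ 0)
    (hsa : Cfsg.Geo.IsSelfAdjointFor (Cfsg.sympForm m F) K)
    (halt : ∀ k ∈ K, ∀ v : (Fin m ⊕ Fin m → F), Cfsg.sympForm m F (Matrix.mulVec k v) v = 0)
    (M : Subgroup (GL (Fin m ⊕ Fin m) F))
    (hNM : Cfsg.Geo.subalgebraNormalizer K ⊓ Cfsg.spGL m F ≤ M) (hM : M ≤ Cfsg.spGL m F) :
    Setup (BK K lam hlam hsa) lam (toAbs M) where
  alt := BK_alt K lam hlam hsa halt
  nondeg := BK_nondeg K lam hlam hsa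
  lam_ne := hlam
  sp := by
    intro g hg x y
    rw [lam_BK, lam_BK]
    have h1 := hM ((mem_toAbs M g).1 hg)
    have h2 := (Cfsg.Agent.Lib.H11.SubspMax.mem_spGL_iff _).1 h1 x y
    rwa [glEquiv_symm_mulVec, glEquiv_symm_mulVec] at h2
  cent := by
    intro g hlin hf
    rw [mem_toAbs]
    apply hNM
    refine ⟨?_, ?_⟩
    · apply mem_normalizer_of_comm
      intro k hk
      apply mat_ext_mulVec
      intro v
      rw [← Matrix.mulVec_mulVec, ← Matrix.mulVec_mulVec, glEquiv_symm_mulVec,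
        glEquiv_symm_mulVec]
      exact hlin ⟨k, hk⟩ v
    · refine (Cfsg.Agent.Lib.H11.SubspMax.mem_spGL_iff _).2 ?_
      intro u v
      rw [glEquiv_symm_mulVec, glEquiv_symm_mulVec, ← lam_BK K lam hlam hsa, hf, lam_BK]

omit hE hι in
theorem conj_cancel (g : GL (Fin m ⊕ Fin m) F) (X : Matrix (Fin m ⊕ Fin m) (Fin m ⊕ Fin m) F) :
    (g⁻¹ : GL _ F).1 * (g.1 * X * (g⁻¹ : GL _ F).1) * g.1 = X := by
  have hg2 : (g⁻¹ : GL _ F).1 * g.1 = 1 := by
    rw [← Units.val_mul, inv_mul_cancel]; rfl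
  calc (g⁻¹ : GL _ F).1 * (g.1 * X * (g⁻¹ : GL _ F).1) * g.1
      = ((g⁻¹ : GL _ F).1 * g.1) * X * ((g⁻¹ : GL _ F).1 * g.1) := by simp only [mul_assoc]
    _ = X := by rw [hg2, one_mul, mul_one]

/-- Step 0, matrix form: an element normalising the `K`-scalars normalises the subalgebra `K` -/
theorem mem_normalizer_of_normK (g : GL (Fin m ⊕ Fin m) F)
    (h : Cfsg.Agent.Lib.H1.C3Max.NormK ↥K (glEquiv g)) :
    g ∈ Cfsg.Geo.subalgebraNormalizer K := by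
  have hg1 : g.1 * (g⁻¹ : GL _ F).1 = 1 := by
    rw [← Units.val_mul, mul_inv_cancel]; rfl
  have hg2 : (g⁻¹ : GL _ F).1 * g.1 = 1 := by
    rw [← Units.val_mul, inv_mul_cancel]; rfl
  -- conjugation maps `K` into `K`
  have hconj : ∀ κ : ↥K, ∃ κ' : ↥K, g.1 * κ.1 * (g⁻¹ : GL _ F).1 = κ'.1 := by
    intro κ
    obtain ⟨κ', hκ'⟩ := h κ
    refine ⟨κ', ?_⟩
    have h1 : g.1 * κ.1 = κ'.1 * g.1 := by
      apply mat_ext_mulVec
      intro v
      rw [← Matrix.mulVec_mulVec, ← Matrix.mulVec_mulVec, ← glEquiv_apply, ← glEquiv_apply]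
      exact hκ' v
    rw [h1, mul_assoc, hg1, mul_one]
  choose c hc using hconj
  let φ : ↥K →ₗ[F] ↥K :=
    { toFun := c
      map_add' := fun a b => by
        apply Subtype.ext
        rw [Subalgebra.coe_add, ← hc a, ← hc b, ← hc (a + b), Subalgebra.coe_add, mul_add, add_mul]
      map_smul' := fun a b => by
        apply Subtype.ext
        rw [RingHom.id_apply, Subalgebra.coe_smul, ← hc b, ← hc (a • b), Subalgebra.coe_smul,
          mul_smul_comm, smul_mul_assoc] }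
  have hφ : ∀ κ, φ κ = c κ := fun κ => rfl
  have hinj : Function.Injective φ := by
    intro a b hab
    apply Subtype.ext
    have h1 : g.1 * a.1 * (g⁻¹ : GL _ F).1 = g.1 * b.1 * (g⁻¹ : GL _ F).1 := by
      rw [hc, hc, ← hφ, ← hφ, hab]
    have h2 : (g⁻¹ : GL _ F).1 * (g.1 * a.1 * (g⁻¹ : GL _ F).1) * g.1 = a.1 := conj_cancel g _
    have h3 : (g⁻¹ : GL _ F).1 * (g.1 * b.1 * (g⁻¹ : GL _ F).1) * g.1 = b.1 := conj_cancel g _
    rw [← h2, h1, h3]
  have hsurj : Function.Surjective φ := LinearMap.injective_iff_surjective.1 hinj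
  intro k
  show k ∈ K ↔ g.1 * k * (g⁻¹ : GL _ F).1 ∈ K
  constructor
  · intro hk
    rw [hc ⟨k, hk⟩]
    exact (c ⟨k, hk⟩).2
  · intro hk
    obtain ⟨κ₀, hκ₀⟩ := hsurj ⟨_, hk⟩
    have h1 : g.1 * κ₀.1 * (g⁻¹ : GL _ F).1 = g.1 * k * (g⁻¹ : GL _ F).1 := by
      rw [hc, ← hφ, hκ₀]
    have h2 : (g⁻¹ : GL _ F).1 * (g.1 * κ₀.1 * (g⁻¹ : GL _ F).1) * g.1 = κ₀.1 := conj_cancel g _
    have h3 : (g⁻¹ : GL _ F).1 * (g.1 * k * (g⁻¹ : GL _ F).1) * g.1 = k := conj_cancel g _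
    rw [← h3, ← h1, h2]
    exact κ₀.2

theorem hx_of_not_mem (hd2 : 2 ≤ finrank ↥K (Fin m ⊕ Fin m → F))
    (M : Subgroup (GL (Fin m ⊕ Fin m) F)) (g : GL (Fin m ⊕ Fin m) F) (hgM : g ∈ M)
    (hg : g ∉ Cfsg.Geo.subalgebraNormalizer K) :
    ∃ h ∈ toAbs M, ∃ (v : Fin m ⊕ Fin m → F) (k : ↥K), h (k • v) ∉ Submodule.span ↥K {h v} := by
  by_contra hcon
  push Not at hcon
  apply hg
  apply mem_normalizer_of_normK
  apply Cfsg.Agent.Lib.H1.C3Max.normK_of_map_kline hd2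
  intro a κ
  rw [Cfsg.Agent.Lib.H1.C3Max.mem_kline]
  have := hcon (glEquiv g) ((glEquiv_mem_toAbs M g).2 hgM) a κ
  exact Submodule.mem_span_singleton.1 this

end main

end Cfsg.Agent.Lib.H9.ExtSp
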