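import Mathlib
import Cfsg.Agent.Lib.H9.ExtSpDefs
import Cfsg.Agent.Lib.H18.ExtSpTR
import Cfsg.Agent.Lib.H5.ExtSpP1a
import Cfsg.Agent.Lib.H5.ExtSpP4
import Cfsg.Agent.Lib.H18.ExtSpP3c
import Cfsg.Agent.Lib.H21.ExtSpP3a
import Cfsg.Agent.Lib.H3.ExtSpP3b
import Cfsg.Agent.Lib.H24.ExtSpP1bFinal
import Cfsg.Agent.Lib.H20.ExtSpP2a
import Cfsg.Agent.Lib.H5.ExtSpP2b

/-!
# S5664: the abstract main theorem, assembled from the farmed-out pieces

FL helper2/helper29, TR helper18, P1a helper5, P1b helper24, P2a helper20, P2b helper5,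
P3a helper21, P3b helper3, P3c helper18, P4 helper5.
-/

set_option autoImplicit false

namespace Cfsg.Agent.Lib.H9.ExtSp

open Module

variable {F K V : Type*} [Field F] [Field K] [Algebra F K] [AddCommGroup V] [Module F V]
  [Module K V] [IsScalarTower F K V]
  {B : LinearMap.BilinForm K V} {lam : K →ₗ[F] F} {M : Subgroup (V ≃ₗ[F] V)}

theorem exists_max_gp [FiniteDimensional F V]
    (h : ∃ (v : V) (L' : Submodule F V), GP B M v L' ∧ kpt F K v ⊓ L' ≠ ⊥) :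
    ∃ (v : V) (L' : Submodule F V), GP B M v L' ∧ kpt F K v ⊓ L' ≠ ⊥ ∧
      ∀ (v' : V) (L'' : Submodule F V), GP B M v' L'' →
        finrank F ↥(kpt F K v' ⊓ L'') ≤ finrank F ↥(kpt F K v ⊓ L') := by
  classical
  obtain ⟨v₀, L₀, hgp₀, hne₀⟩ := h
  let P : ℕ → Prop := fun n => ∃ (v : V) (L' : Submodule F V), GP B M v L' ∧
    finrank F ↥(kpt F K v ⊓ L') = n
  have hP0 : P (finrank F ↥(kpt F K v₀ ⊓ L₀)) := ⟨v₀, L₀, hgp₀, rfl⟩
  have hbd : ∀ n, P n → n ≤ finrank F V := by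
    rintro n ⟨v, L', -, rfl⟩
    exact Submodule.finrank_le _
  have hg := Nat.findGreatest_spec (P := P) (hbd _ hP0) hP0
  obtain ⟨v, L', hgp, hn⟩ := hg
  refine ⟨v, L', hgp, ?_, ?_⟩
  · intro hbot
    have h1 : finrank F ↥(kpt F K v₀ ⊓ L₀) ≤ Nat.findGreatest P (finrank F V) :=
      Nat.le_findGreatest (hbd _ hP0) hP0
    rw [← hn, hbot, finrank_bot] at h1
    have h2 : finrank F ↥(kpt F K v₀ ⊓ L₀) = 0 := Nat.le_zero.1 h1
    rw [Submodule.finrank_eq_zero] at h2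
    exact hne₀ h2
  · intro v' L'' hgp'
    rw [hn]
    exact Nat.le_findGreatest (hbd _ ⟨v', L'', hgp', rfl⟩) ⟨v', L'', hgp', rfl⟩

theorem main_abstract [Finite F] [FiniteDimensional F K] [FiniteDimensional K V]
    [FiniteDimensional F V] (S : Setup B lam M) (hr : (finrank F K).Prime)
    (hd : Nat.card F = 2 → finrank F K = 2 → 4 ≤ finrank K V)
    (hx : ∃ g ∈ M, ∃ (v : V) (k : K), g (k • v) ∉ Submodule.span K {g v}) (c : V) (a : F) :
    ftv B lam S.alt c a ∈ M := by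
  refine Cfsg.Agent.Lib.H5.ExtSp.all_ftv_of_hasFtv S ?_ c a
  by_cases h22 : Nat.card F = 2 ∧ finrank F K = 2
  · have hd' := hd h22.1 h22.2
    exact Cfsg.Agent.Lib.H18.ExtSp.hasFtv_of_rel_all S h22.1 h22.2.ge hd'
      (Cfsg.Agent.Lib.H3.ExtSp.rel_all S h22.1 h22.2 hd'
        (Cfsg.Agent.Lib.H21.ExtSp.rel_of_same_kpt S h22.1 h22.2) hx)
  · obtain ⟨v, L', hgp, hne, hmax⟩ := exists_max_gp (Cfsg.Agent.Lib.H5.ExtSp.exists_gp S hx)
    obtain ⟨w₀, θ, hw, hθ, hstar⟩ := Cfsg.Agent.Lib.H24.ExtSp.ascent S hr hgp hne hmax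
    exact Cfsg.Agent.Lib.H5.ExtSp.hasFtv_of_star_all S hw
      (Cfsg.Agent.Lib.H20.ExtSp.star_all S hw hθ hstar) hr.two_le h22

end Cfsg.Agent.Lib.H9.ExtSp
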