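import Mathlib
import Cfsg.Agent.Lib.H9.ExtSpConc

/-!
# S5664: `Sp_2m(F)` does not normalise `K`
-/

set_option autoImplicit false

namespace Cfsg.Agent.Lib.H9.ExtSp

open Module Matrix

variable {m : ℕ} {F : Type*} [Field F]

theorem not_spGL_le_normalizer (hm : 1 ≤ m) (r : ℕ) (hr : r.Prime)
    (K : Subalgebra F (Matrix (Fin m ⊕ Fin m) (Fin m ⊕ Fin m) F))
    (hK : Cfsg.Geo.IsFieldSubalgebra r K)
    (hsa : Cfsg.Geo.IsSelfAdjointFor (Cfsg.sympForm m F) K)
    (halt : ∀ k ∈ K, ∀ v : (Fin m ⊕ Fin m → F), Cfsg.sympForm m F (Matrix.mulVec k v) v = 0) :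
    ¬ Cfsg.spGL m F ≤ Cfsg.Geo.subalgebraNormalizer K := by
  have hE : Fact (IsFldM K) := ⟨isFldM_of hK⟩
  have hι : Nonempty (Fin m ⊕ Fin m) := ⟨Sum.inl ⟨0, by omega⟩⟩
  have hrK : finrank F ↥K = r := hK.finrank_eq
  obtain ⟨lam, hlam⟩ := exists_lam_ne_zero (F := F) (K := ↥K)
  intro hle
  -- a non-zero element of the kernel of `lam`
  have hker : ∃ e : ↥K, e ≠ 0 ∧ lam e = 0 := by
    by_contra hcon
    push Not at hcon
    have hinj : Function.Injective lam := by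
      rw [injective_iff_map_eq_zero]
      intro a ha
      by_contra ha0
      exact hcon a ha0 ha
    have h1 := LinearMap.finrank_le_finrank_of_injective hinj
    rw [hrK, Module.finrank_self] at h1
    have := hr.two_le
    omega
  obtain ⟨e, he0, hle0⟩ := hker
  set B := BK K lam hlam hsa with hBdef
  have halt' := BK_alt K lam hlam hsa halt
  have hnd := BK_nondeg K lam hlam hsa
  -- a non-zero vector
  let v : Fin m ⊕ Fin m → F := Pi.single (Sum.inl ⟨0, by omega⟩) 1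
  have hv : v ≠ 0 := by
    intro h
    have := congrFun h (Sum.inl ⟨0, by omega⟩)
    simp [v] at this
  obtain ⟨y, hy⟩ : ∃ y, B v y ≠ 0 := by
    by_contra hcon
    push Not at hcon
    exact hv (hnd v hcon)
  have hyv : B y v ≠ 0 := by
    rw [B_skew B halt' y v]
    exact neg_ne_zero.2 hy
  let x : Fin m ⊕ Fin m → F := (e / B y v) • y
  have hxv : B x v = e := by
    show B ((e / B y v) • y) v = e
    rw [map_smul, LinearMap.smul_apply, smul_eq_mul, div_mul_cancel₀ _ hyv]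
  obtain ⟨k, hk⟩ : ∃ k : ↥K, lam (k * e) ≠ 0 := by
    by_contra hcon
    push Not at hcon
    exact he0 (pair_eq_zero lam hlam e hcon)
  -- the transvection
  let t : GL (Fin m ⊕ Fin m) F := Cfsg.Agent.Lib.H11.SubspMax.stv v 1
  have htN : t ∈ Cfsg.Geo.subalgebraNormalizer K :=
    hle (Cfsg.Agent.Lib.H11.SubspMax.stv_mem_spGL v 1)
  have hk' : t.1 * k.1 * (t⁻¹ : GL _ F).1 ∈ K := (htN k.1).1 k.2
  set k' : ↥K := ⟨_, hk'⟩ with hk'def
  have ht2 : (t⁻¹ : GL _ F).1 * t.1 = 1 := by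
    rw [← Units.val_mul, inv_mul_cancel]; rfl
  have hcomm : t.1 * k.1 = k'.1 * t.1 := by
    show t.1 * k.1 = t.1 * k.1 * (t⁻¹ : GL _ F).1 * t.1
    rw [mul_assoc (t.1 * k.1), ht2, mul_one]
  have htx : t.1 *ᵥ x = x := by
    rw [Cfsg.Agent.Lib.H11.SubspMax.stv_mulVec, ← lam_BK K lam hlam hsa, ← hBdef, hxv, hle0,
      mul_zero, zero_smul, add_zero]
  have htkx : t.1 *ᵥ (k • x) = k • x + lam (k * e) • v := by
    rw [Cfsg.Agent.Lib.H11.SubspMax.stv_mulVec, ← lam_BK K lam hlam hsa, ← hBdef, map_smul,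
      LinearMap.smul_apply, hxv, smul_eq_mul, one_mul]
  have h1 : t.1 *ᵥ (k • x) = k' • x := by
    rw [smulM_def, Matrix.mulVec_mulVec, hcomm, ← Matrix.mulVec_mulVec, htx, smulM_def]
  rw [htkx] at h1
  have h2 : lam (k * e) • v = (k' - k) • x := by
    rw [sub_smul, ← h1]; abel
  have h3 : v = ((algebraMap F ↥K (lam (k * e))⁻¹) * (k' - k)) • x := by
    rw [mul_smul, ← h2, algebraMap_smul, smul_smul, inv_mul_cancel₀ hk, one_smul]
  have h4 : B x v = 0 := by
    rw [h3, map_smul, smul_eq_mul, halt', mul_zero]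
  rw [hxv] at h4
  exact he0 h4

end Cfsg.Agent.Lib.H9.ExtSp
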