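import Mathlib
import Cfsg.Agent.Lib.H9.ExtSpConc
import Cfsg.Agent.Lib.H9.ExtSpMain
import Cfsg.Agent.Lib.H9.ExtSpProper

/-!
# S5664: final assembly
-/

set_option autoImplicit false

namespace Cfsg.Agent.Lib.H9.ExtSp

open Module Matrix

variable {m : ℕ} {F : Type*} [Field F] [Fintype F]

theorem finrank_tower (K : Subalgebra F (Matrix (Fin m ⊕ Fin m) (Fin m ⊕ Fin m) F))
    [hE : Fact (IsFldM K)] [hι : Nonempty (Fin m ⊕ Fin m)] :
    finrank F ↥K * finrank ↥K (Fin m ⊕ Fin m → F) = 2 * m := by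
  rw [Module.finrank_mul_finrank F ↥K (Fin m ⊕ Fin m → F), Module.finrank_fintype_fun_eq_card,
    Fintype.card_sum, Fintype.card_fin, two_mul]

theorem maximal_of (hm : 7 ≤ m) (r : ℕ) (hr : r.Prime)
    (K : Subalgebra F (Matrix (Fin m ⊕ Fin m) (Fin m ⊕ Fin m) F))
    (hK : Cfsg.Geo.IsFieldSubalgebra r K)
    (hsa : Cfsg.Geo.IsSelfAdjointFor (Cfsg.sympForm m F) K)
    (halt : ∀ k ∈ K, ∀ v : (Fin m ⊕ Fin m → F), Cfsg.sympForm m F (Matrix.mulVec k v) v = 0) :
    Cfsg.Geo.IsMaximalIn (Cfsg.spGL m F) (Cfsg.Geo.subalgebraNormalizer K ⊓ Cfsg.spGL m F) := by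
  have hproper := not_spGL_le_normalizer (by omega) r hr K hK hsa halt
  have hE : Fact (IsFldM K) := ⟨isFldM_of hK⟩
  have hι : Nonempty (Fin m ⊕ Fin m) := ⟨Sum.inl ⟨0, by omega⟩⟩
  have hrK : finrank F ↥K = r := hK.finrank_eq
  have htower := finrank_tower (m := m) (F := F) K
  rw [hrK] at htower
  have hr2 := hr.two_le
  -- the `K`-dimension
  have hd2 : 2 ≤ finrank ↥K (Fin m ⊕ Fin m → F) := by
    by_contra hlt
    push Not at hlt
    interval_cases hd : finrank ↥K (Fin m ⊕ Fin m → F)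
    · omega
    · rw [mul_one] at htower
      rw [htower] at hr
      have := (Nat.prime_mul_iff.1 hr)
      omega
  refine ⟨⟨inf_le_right, fun hle => hproper (hle.trans inf_le_left)⟩, ?_⟩
  intro M hNM hM
  by_cases hMN : M = Cfsg.Geo.subalgebraNormalizer K ⊓ Cfsg.spGL m F
  · exact Or.inl hMN
  right
  obtain ⟨lam, hlam⟩ := exists_lam_ne_zero (F := F) (K := ↥K)
  have S := setup_toAbs K lam hlam hsa halt M hNM hM
  -- an element of `M` outside the normaliser
  have hex : ∃ g ∈ M, g ∉ Cfsg.Geo.subalgebraNormalizer K := by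
    by_contra hcon
    push Not at hcon
    exact hMN (le_antisymm (fun g hg => ⟨hcon g hg, hM hg⟩) hNM)
  obtain ⟨g, hgM, hgN⟩ := hex
  have hx := hx_of_not_mem K hd2 M g hgM hgN
  have hd : Nat.card F = 2 → finrank F ↥K = 2 → 4 ≤ finrank ↥K (Fin m ⊕ Fin m → F) := by
    intro _ h2
    rw [hrK] at h2
    rw [h2] at htower
    omega
  have hall := main_abstract S (hrK ▸ hr) hd hx
  apply le_antisymm hM
  apply Cfsg.Agent.Lib.H11.SubspMax.sp_le_of_stv
  intro v c
  have h1 := hall v c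
  rw [mem_toAbs] at h1
  have h2 : glEquiv.symm (ftv (BK K lam hlam hsa) lam S.alt v c) =
      Cfsg.Agent.Lib.H11.SubspMax.stv v c := by
    apply glEquiv.injective
    rw [MulEquiv.apply_symm_apply]
    apply LinearEquiv.ext
    intro x
    rw [ftv_apply, glEquiv_apply, Cfsg.Agent.Lib.H11.SubspMax.stv_mulVec, lam_BK]
  rwa [h2] at h1

end Cfsg.Agent.Lib.H9.ExtSp
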