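import Cfsg.Agent.S5157
import Cfsg.Agent.Lib.H24.F59Def

/-!
S5159 piece (FWD-E): `F` solvable implies `E` solvable, for a saturated subsystem `E ≤ F` over
`T ≤ S`.  Chain `S_i ⊓ T` from the chain `S_i` of `F` given by S5157.
Blueprint: tools/blueprints/S5159.md (architect helper24).
-/

set_option autoImplicit false

namespace Cfsg.Agent.Lib.H9.F59

open Cfsg Cfsg.FusionSystem
open scoped commutatorElement

variable {Ω : Type*} [Group Ω] {S : Subgroup Ω}

/-- (FWD-E) only needs `E` saturated over `T ≤ S` and `E ≤ F`. -/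
theorem fwd_sub [Finite S] (p : ℕ) [Fact p.Prime] (hS : IsPGroup p S) (F : FusionSystem S)
    (hF : F.IsSaturated p) {T : Subgroup Ω} (E : FusionSystem T) (hEsat : E.IsSaturated p)
    (hEF : E.IsSubsystemOf F) (h : F.IsSolvableSystem) : E.IsSolvableSystem := by
  have hTS : T ≤ S := by
    have h1 : conjHom T 1 ∈ E.Hom T := E.conj_mem le_rfl T.one_mem
    exact (F.le_of_mem (hEF T h1)).1
  have : Finite T :=
    Finite.of_injective (Subgroup.inclusion hTS) (Subgroup.inclusion_injective hTS)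
  have hTp : IsPGroup p T := hS.of_injective (Subgroup.inclusion hTS)
    (Subgroup.inclusion_injective hTS)
  obtain ⟨n, Tc, h0, hl, hmono, hsc, hcomm⟩ := (Cfsg.Agent.S5157.result p hS F hF).1 h
  rw [Cfsg.Agent.S5157.result p hTp E hEsat]
  refine ⟨n, fun i => Tc i ⊓ T, ?_, ?_, ?_, ?_, ?_⟩
  · show Tc 0 ⊓ T = ⊥
    rw [h0, bot_inf_eq]
  · show Tc (Fin.last n) ⊓ T = T
    rw [hl]
    exact inf_eq_right.2 hTS
  · intro i j hij
    exact inf_le_inf_right T (hmono hij)
  · intro i
    refine ⟨inf_le_right, ?_⟩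
    intro R hR φ hφ x
    refine ⟨?_, (E.le_of_mem hφ).2 x⟩
    exact (hsc i).2 R (hR.trans inf_le_left) φ (hEF R hφ) x
  · intro i
    show ⁅Tc i.succ ⊓ T, Tc i.succ ⊓ T⁆ ≤ Tc i.castSucc ⊓ T
    refine le_inf ?_ ?_
    · exact (Subgroup.commutator_mono inf_le_left inf_le_left).trans (hcomm i)
    · refine (Subgroup.commutator_mono inf_le_right inf_le_right).trans ?_
      exact Subgroup.commutator_le_self T
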