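import Cfsg.Agent.Lib.H14.FCDefs

/-!
# S4427 piece AVG (helper9): averaging idempotents of subgroups, augmentation
-/

set_option autoImplicit false

namespace Cfsg.Agent.Lib.H9.FC

open Cfsg MonoidAlgebra Cfsg.Agent.Lib.H23 Cfsg.Agent.Lib.H24 Cfsg.Agent.Lib.L0
open Cfsg.Agent.Lib.H14.FC
open scoped ComplexConjugate

section
variable {G : Type*} [Group G] [Fintype G]

open Classical in
theorem coeff_avg (H : Subgroup G) (g : G) :
    (avg H).coeff g = if g ∈ H then ((Nat.card H : ℂ))⁻¹ else 0 := by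
  rfl

theorem card_ne_zero_aux (H : Subgroup G) : (Nat.card H : ℂ) ≠ 0 := by
  have : Nat.card H ≠ 0 := Nat.card_pos.ne'
  exact_mod_cast this

open Classical in
theorem sum_ite_mem_aux (H : Subgroup G) (c : ℂ) :
    ∑ g : G, (if g ∈ H then c else 0) = (Nat.card H : ℂ) * c := by
  rw [← Finset.sum_filter, Finset.sum_const, nsmul_eq_mul]
  congr 2
  rw [Nat.card_eq_fintype_card, Fintype.card_subtype]

theorem avg_mul_self (H : Subgroup G) : avg H * avg H = avg H := by
  classical
  apply MonoidAlgebra.ext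
  ext g
  rw [coeff_mul_eq_sum]
  simp only [coeff_avg]
  by_cases hg : g ∈ H
  · have : ∀ h : G, (if h ∈ H then ((Nat.card H : ℂ))⁻¹ else 0) *
        (if h⁻¹ * g ∈ H then ((Nat.card H : ℂ))⁻¹ else 0) =
        if h ∈ H then ((Nat.card H : ℂ))⁻¹ * ((Nat.card H : ℂ))⁻¹ else 0 := by
      intro h
      by_cases hh : h ∈ H
      · have : h⁻¹ * g ∈ H := H.mul_mem (H.inv_mem hh) hg
        simp [hh, this]
      · simp [hh]
    simp only [this]
    rw [sum_ite_mem_aux, if_pos hg, ← mul_assoc, mul_inv_cancel₀ (card_ne_zero_aux H), one_mul]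
  · have : ∀ h : G, (if h ∈ H then ((Nat.card H : ℂ))⁻¹ else 0) *
        (if h⁻¹ * g ∈ H then ((Nat.card H : ℂ))⁻¹ else 0) = 0 := by
      intro h
      by_cases hh : h ∈ H
      · have : h⁻¹ * g ∉ H := by
          intro h2
          apply hg
          have := H.mul_mem hh h2
          simpa using this
        simp [this]
      · simp [hh]
    simp only [this]
    rw [if_neg hg]
    simp

theorem sum_coeff_avg (H : Subgroup G) : ∑ g : G, (avg H).coeff g = 1 := by
  classical
  simp only [coeff_avg]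
  rw [sum_ite_mem_aux, mul_inv_cancel₀ (card_ne_zero_aux H)]

theorem avg_mem_intCoeff {p : ℕ} {M : Ideal AlgInt} (hM : IsPModular p M) [M.IsPrime]
    (H : Subgroup G) (hH : ¬ p ∣ Nat.card H) : avg H ∈ intCoeff (G := G) M := by
  classical
  intro g
  rw [coeff_avg]
  split_ifs
  · exact memLocalRing_inv_natCast hM hH
  · exact memLocalRing_zero (Ideal.IsPrime.ne_top inferInstance)

/-- double coset count: if `Q ∩ g R g⁻¹ = 1` for all `g` then the corner trace is `|G|/(|Q||R|)`. -/
theorem sum_avg_avg (Q R : Subgroup G)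
    (hQR : ∀ g h : G, h ∈ Q → g⁻¹ * h⁻¹ * g ∈ R → h = 1) :
    ∑ g : G, ∑ h : G, (avg Q).coeff h * (avg R).coeff (g⁻¹ * h⁻¹ * g) =
      (Nat.card G : ℂ) / ((Nat.card Q : ℂ) * (Nat.card R : ℂ)) := by
  classical
  have key : ∀ g : G, ∑ h : G, (avg Q).coeff h * (avg R).coeff (g⁻¹ * h⁻¹ * g) =
      ((Nat.card Q : ℂ))⁻¹ * ((Nat.card R : ℂ))⁻¹ := by
    intro g
    rw [Finset.sum_eq_single (1 : G)]
    · simp [coeff_avg, Q.one_mem, R.one_mem]
    · intro h _ hh
      simp only [coeff_avg]
      by_cases h1 : h ∈ Q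
      · by_cases h2 : g⁻¹ * h⁻¹ * g ∈ R
        · exact absurd (hQR g h h1 h2) hh
        · simp [h2]
      · simp [h1]
    · intro h
      exact absurd (Finset.mem_univ _) h
  simp only [key]
  rw [Finset.sum_const, Finset.card_univ, nsmul_eq_mul, Nat.card_eq_fintype_card (α := G),
    div_eq_mul_inv, mul_inv]

theorem augHom_apply (z : MonoidAlgebra ℂ G) : augHom z = ∑ g : G, z.coeff g := by
  classical
  conv_lhs => rw [eq_sum_single z]
  rw [map_sum]
  apply Finset.sum_congr rfl
  intro g _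
  simp [augHom]

end

end Cfsg.Agent.Lib.H9.FC
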