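import Mathlib
import Cfsg.Prelude.Def_G2

set_option autoImplicit false

/-!
# The split octonion algebra (Zorn vector matrices) and its automorphism group: basics

`AutO F` is the group of linear automorphisms of `F⁸` preserving Zorn's product, as a subgroup of
`(Fin 8 → F) ≃ₗ[F] (Fin 8 → F)`; `g2Equiv : ↥(Cfsg.Lie.G2 F) ≃* ↥(AutO F)`.
Explicit automorphisms: `tauL` (the swap `[[α,a],[b,β]] ↦ [[β,-b],[-a,α]]`) and
`thetaL c` (`exp` of the nilpotent derivation attached to `c ∈ F³`).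
-/

namespace Cfsg.Agent.Lib.H9.G2Oct

open Cfsg.Lie Matrix

variable {F : Type*} [Field F]

theorem zornMul_0 (x y : Fin 8 → F) :
    zornMul x y 0 = x 0 * y 0 + (x 1 * y 4 + x 2 * y 5 + x 3 * y 6) := by
  simp [zornMul, dot3]

theorem zornMul_1 (x y : Fin 8 → F) :
    zornMul x y 1 = x 0 * y 1 + y 7 * x 1 - (x 5 * y 6 - x 6 * y 5) := by
  simp [zornMul, cross3]

theorem zornMul_2 (x y : Fin 8 → F) :
    zornMul x y 2 = x 0 * y 2 + y 7 * x 2 - (x 6 * y 4 - x 4 * y 6) := by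
  simp [zornMul, cross3]

theorem zornMul_3 (x y : Fin 8 → F) :
    zornMul x y 3 = x 0 * y 3 + y 7 * x 3 - (x 4 * y 5 - x 5 * y 4) := by
  simp [zornMul, cross3]

theorem zornMul_4 (x y : Fin 8 → F) :
    zornMul x y 4 = y 0 * x 4 + x 7 * y 4 + (x 2 * y 3 - x 3 * y 2) := by
  simp [zornMul, cross3]

theorem zornMul_5 (x y : Fin 8 → F) :
    zornMul x y 5 = y 0 * x 5 + x 7 * y 5 + (x 3 * y 1 - x 1 * y 3) := by
  simp [zornMul, cross3]

theorem zornMul_6 (x y : Fin 8 → F) :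
    zornMul x y 6 = y 0 * x 6 + x 7 * y 6 + (x 1 * y 2 - x 2 * y 1) := by
  simp [zornMul, cross3]

theorem zornMul_7 (x y : Fin 8 → F) :
    zornMul x y 7 = (x 4 * y 1 + x 5 * y 2 + x 6 * y 3) + x 7 * y 7 := by
  simp [zornMul, dot3]

/-- equality of vectors in `F⁸`, coordinate by coordinate -/
theorem ext8 {x y : Fin 8 → F} (h0 : x 0 = y 0) (h1 : x 1 = y 1) (h2 : x 2 = y 2) (h3 : x 3 = y 3)
    (h4 : x 4 = y 4) (h5 : x 5 = y 5) (h6 : x 6 = y 6) (h7 : x 7 = y 7) : x = y := by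
  funext i
  fin_cases i
  · exact h0
  · exact h1
  · exact h2
  · exact h3
  · exact h4
  · exact h5
  · exact h6
  · exact h7

/-- the group of automorphisms of Zorn's algebra -/
def AutO (F : Type*) [Field F] : Subgroup ((Fin 8 → F) ≃ₗ[F] (Fin 8 → F)) where
  carrier := {f | ∀ x y, f (zornMul x y) = zornMul (f x) (f y)}
  mul_mem' {f g} hf hg := by
    intro x y
    show f (g (zornMul x y)) = zornMul (f (g x)) (f (g y))
    rw [hg, hf]
  one_mem' := by
    intro x y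
    rfl
  inv_mem' {f} hf := by
    intro x y
    show f.symm (zornMul x y) = zornMul (f.symm x) (f.symm y)
    apply f.injective
    rw [hf, LinearEquiv.apply_symm_apply, LinearEquiv.apply_symm_apply,
      LinearEquiv.apply_symm_apply]

theorem mem_AutO {f : (Fin 8 → F) ≃ₗ[F] (Fin 8 → F)} :
    f ∈ AutO F ↔ ∀ x y, f (zornMul x y) = zornMul (f x) (f y) := Iff.rfl

/-- `GL₈(F)` as the group of linear automorphisms of `F⁸` -/
def glEquiv (F : Type*) [Field F] : GL (Fin 8) F ≃* ((Fin 8 → F) ≃ₗ[F] (Fin 8 → F)) :=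
  Matrix.GeneralLinearGroup.toLin.trans
    (LinearMap.GeneralLinearGroup.generalLinearEquiv F (Fin 8 → F))

theorem glEquiv_apply (g : GL (Fin 8) F) (x : Fin 8 → F) :
    glEquiv F g x = (g : Matrix (Fin 8) (Fin 8) F) *ᵥ x := rfl

theorem mem_G2_iff (g : GL (Fin 8) F) : g ∈ G2 F ↔ glEquiv F g ∈ AutO F := Iff.rfl

/-- `G₂(F)` is isomorphic to `AutO F` -/
def g2Equiv (F : Type*) [Field F] : ↥(G2 F) ≃* ↥(AutO F) where
  toFun g := ⟨glEquiv F g.1, (mem_G2_iff g.1).1 g.2⟩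
  invFun f := ⟨(glEquiv F).symm f.1, (mem_G2_iff _).2 (by
    rw [MulEquiv.apply_symm_apply]; exact f.2)⟩
  left_inv g := Subtype.ext ((glEquiv F).symm_apply_apply _)
  right_inv f := Subtype.ext ((glEquiv F).apply_symm_apply _)
  map_mul' a b := Subtype.ext (map_mul (glEquiv F) _ _)

theorem g2Equiv_coe (g : ↥(G2 F)) : ((g2Equiv F g : ↥(AutO F)) : (Fin 8 → F) ≃ₗ[F] (Fin 8 → F)) =
    glEquiv F g.1 := rfl

instance [Finite F] : Finite ((Fin 8 → F) ≃ₗ[F] (Fin 8 → F)) :=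
  Finite.of_injective (fun f => (f : (Fin 8 → F) → (Fin 8 → F))) DFunLike.coe_injective

/-- build a linear automorphism of `F⁸` from a function and its inverse -/
def mkLin (f g : (Fin 8 → F) → (Fin 8 → F)) (hadd : ∀ x y, f (x + y) = f x + f y)
    (hsmul : ∀ (c : F) x, f (c • x) = c • f x) (hl : ∀ x, g (f x) = x) (hr : ∀ x, f (g x) = x) :
    (Fin 8 → F) ≃ₗ[F] (Fin 8 → F) where
  toFun := f
  map_add' := hadd
  map_smul' := hsmul
  invFun := g
  left_inv := hl
  right_inv := hr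

@[simp] theorem mkLin_apply (f g : (Fin 8 → F) → (Fin 8 → F)) (hadd hsmul hl hr) (x : Fin 8 → F) :
    mkLin f g hadd hsmul hl hr x = f x := rfl

/-- the identity of Zorn's algebra -/
def one8 (F : Type*) [Field F] : Fin 8 → F := ![1, 0, 0, 0, 0, 0, 0, 1]

/-- the standard idempotent -/
def e0 (F : Type*) [Field F] : Fin 8 → F := ![1, 0, 0, 0, 0, 0, 0, 0]

theorem zornMul_one8 (x : Fin 8 → F) : zornMul x (one8 F) = x := by
  apply ext8 <;>
  simp [zornMul_0, zornMul_1, zornMul_2, zornMul_3, zornMul_4, zornMul_5, zornMul_6, zornMul_7,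
    one8]

theorem one8_zornMul (x : Fin 8 → F) : zornMul (one8 F) x = x := by
  apply ext8 <;>
  simp [zornMul_0, zornMul_1, zornMul_2, zornMul_3, zornMul_4, zornMul_5, zornMul_6, zornMul_7,
    one8]

theorem map_one8 {f : (Fin 8 → F) ≃ₗ[F] (Fin 8 → F)} (hf : f ∈ AutO F) : f (one8 F) = one8 F := by
  have h1 : ∀ y, zornMul (f (one8 F)) y = y := by
    intro y
    obtain ⟨z, rfl⟩ := f.surjective y
    rw [← hf, one8_zornMul]
  have h2 := h1 (one8 F)
  rwa [zornMul_one8] at h2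

/-! ### the swap automorphism -/

/-- `[[α,a],[b,β]] ↦ [[β,-b],[-a,α]]` -/
def tauFun (x : Fin 8 → F) : Fin 8 → F := ![x 7, -x 4, -x 5, -x 6, -x 1, -x 2, -x 3, x 0]

theorem tauFun_tauFun (x : Fin 8 → F) : tauFun (tauFun x) = x := by
  apply ext8 <;> simp [tauFun]

/-- the swap automorphism as a linear equivalence -/
def tauL (F : Type*) [Field F] : (Fin 8 → F) ≃ₗ[F] (Fin 8 → F) :=
  mkLin tauFun tauFun
    (by intro x y; apply ext8 <;> simp [tauFun] <;> ring)
    (by intro c x; apply ext8 <;> simp [tauFun])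
    tauFun_tauFun tauFun_tauFun

theorem tauL_apply (x : Fin 8 → F) : tauL F x = tauFun x := rfl

theorem tauL_mem : tauL F ∈ AutO F := by
  intro x y
  rw [tauL_apply, tauL_apply, tauL_apply]
  apply ext8 <;>
  simp [zornMul_0, zornMul_1, zornMul_2, zornMul_3, zornMul_4, zornMul_5, zornMul_6, zornMul_7,
    tauFun] <;> ring

theorem tauL_mul_self : tauL F * tauL F = 1 := by
  ext x i
  show tauFun (tauFun x) i = x i
  rw [tauFun_tauFun]

/-! ### the unipotent automorphisms `θ_c` -/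

/-- `exp` of the nilpotent derivation attached to `c ∈ F³` -/
def thetaFun (c : Fin 3 → F) (x : Fin 8 → F) : Fin 8 → F :=
  ![x 0 - (c 0 * x 4 + c 1 * x 5 + c 2 * x 6),
    x 1 + (x 0 - x 7) * c 0 - (c 0 * x 4 + c 1 * x 5 + c 2 * x 6) * c 0,
    x 2 + (x 0 - x 7) * c 1 - (c 0 * x 4 + c 1 * x 5 + c 2 * x 6) * c 1,
    x 3 + (x 0 - x 7) * c 2 - (c 0 * x 4 + c 1 * x 5 + c 2 * x 6) * c 2,
    x 4 + (c 1 * x 3 - c 2 * x 2),
    x 5 + (c 2 * x 1 - c 0 * x 3),
    x 6 + (c 0 * x 2 - c 1 * x 1),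
    x 7 + (c 0 * x 4 + c 1 * x 5 + c 2 * x 6)]

theorem thetaFun_neg (c : Fin 3 → F) (x : Fin 8 → F) : thetaFun (-c) (thetaFun c x) = x := by
  apply ext8 <;> simp [thetaFun] <;> ring

/-- `θ_c` as a linear equivalence -/
def thetaL (c : Fin 3 → F) : (Fin 8 → F) ≃ₗ[F] (Fin 8 → F) :=
  mkLin (thetaFun c) (thetaFun (-c))
    (by intro x y; apply ext8 <;> simp [thetaFun] <;> ring)
    (by intro k x; apply ext8 <;> simp [thetaFun] <;> ring)
    (thetaFun_neg c) (by intro x; have := thetaFun_neg (-c) x; rwa [neg_neg] at this)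

theorem thetaL_apply (c : Fin 3 → F) (x : Fin 8 → F) : thetaL c x = thetaFun c x := rfl

theorem thetaL_mem (c : Fin 3 → F) : thetaL c ∈ AutO F := by
  intro x y
  rw [thetaL_apply, thetaL_apply, thetaL_apply]
  apply ext8 <;>
  simp [zornMul_0, zornMul_1, zornMul_2, zornMul_3, zornMul_4, zornMul_5, zornMul_6, zornMul_7,
    thetaFun] <;> ring

end Cfsg.Agent.Lib.H9.G2Oct
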