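import Mathlib
import Cfsg.Agent.Lib.H9.G2OctA

set_option autoImplicit false

/-!
# Idempotents of Zorn's algebra; transitivity of the automorphism group on them
-/

namespace Cfsg.Agent.Lib.H9.G2Oct

open Cfsg.Lie Matrix

variable {F : Type*} [Field F]

/-- the non-trivial idempotents -/
def Idem (F : Type*) [Field F] : Set (Fin 8 → F) :=
  {x | zornMul x x = x ∧ x ≠ 0 ∧ x ≠ one8 F}

theorem mem_Idem_iff (x : Fin 8 → F) :
    x ∈ Idem F ↔ x 0 + x 7 = 1 ∧ x 1 * x 4 + x 2 * x 5 + x 3 * x 6 = x 0 * x 7 := by
  constructor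
  · rintro ⟨h, hne0, hne1⟩
    have c0 := congrFun h 0
    have c1 := congrFun h 1
    have c2 := congrFun h 2
    have c3 := congrFun h 3
    have c4 := congrFun h 4
    have c5 := congrFun h 5
    have c6 := congrFun h 6
    have c7 := congrFun h 7
    rw [zornMul_0] at c0
    rw [zornMul_1] at c1
    rw [zornMul_2] at c2
    rw [zornMul_3] at c3
    rw [zornMul_4] at c4
    rw [zornMul_5] at c5
    rw [zornMul_6] at c6
    rw [zornMul_7] at c7
    by_cases hs : x 0 + x 7 = 1
    · refine ⟨hs, ?_⟩
      have h7 : x 7 = 1 - x 0 := by linear_combination hs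
      rw [h7]
      linear_combination c0
    · exfalso
      have hs' : x 0 + x 7 - 1 ≠ 0 := fun h' => hs (by linear_combination h')
      have d1 : x 1 = 0 := by
        have : (x 0 + x 7 - 1) * x 1 = 0 := by linear_combination c1
        exact (mul_eq_zero.1 this).resolve_left hs'
      have d2 : x 2 = 0 := by
        have : (x 0 + x 7 - 1) * x 2 = 0 := by linear_combination c2
        exact (mul_eq_zero.1 this).resolve_left hs'
      have d3 : x 3 = 0 := by
        have : (x 0 + x 7 - 1) * x 3 = 0 := by linear_combination c3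
        exact (mul_eq_zero.1 this).resolve_left hs'
      have d4 : x 4 = 0 := by
        have : (x 0 + x 7 - 1) * x 4 = 0 := by linear_combination c4
        exact (mul_eq_zero.1 this).resolve_left hs'
      have d5 : x 5 = 0 := by
        have : (x 0 + x 7 - 1) * x 5 = 0 := by linear_combination c5
        exact (mul_eq_zero.1 this).resolve_left hs'
      have d6 : x 6 = 0 := by
        have : (x 0 + x 7 - 1) * x 6 = 0 := by linear_combination c6
        exact (mul_eq_zero.1 this).resolve_left hs'
      rw [d1, d2, d3, d4, d5, d6] at c0 c7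
      have q0 : x 0 * (x 0 - 1) = 0 := by linear_combination c0
      have q7 : x 7 * (x 7 - 1) = 0 := by linear_combination c7
      rcases mul_eq_zero.1 q0 with a0 | a0 <;> rcases mul_eq_zero.1 q7 with a7 | a7
      · apply hne0
        apply ext8 <;> simp [a0, a7, d1, d2, d3, d4, d5, d6]
      · apply hs
        rw [a0]
        linear_combination a7
      · apply hs
        rw [a7]
        linear_combination a0
      · apply hne1
        have b0 : x 0 = 1 := by linear_combination a0
        have b7 : x 7 = 1 := by linear_combination a7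
        apply ext8 <;> simp [one8, b0, b7, d1, d2, d3, d4, d5, d6]
  · rintro ⟨hs, hd⟩
    have h7 : x 7 = 1 - x 0 := by linear_combination hs
    refine ⟨?_, ?_, ?_⟩
    · apply ext8
      · rw [zornMul_0]
        linear_combination hd + x 0 * hs
      · rw [zornMul_1]
        linear_combination x 1 * hs
      · rw [zornMul_2]
        linear_combination x 2 * hs
      · rw [zornMul_3]
        linear_combination x 3 * hs
      · rw [zornMul_4]
        linear_combination x 4 * hs
      · rw [zornMul_5]
        linear_combination x 5 * hs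
      · rw [zornMul_6]
        linear_combination x 6 * hs
      · rw [zornMul_7]
        linear_combination hd + x 7 * hs
    · intro h0
      rw [h0] at hs
      simp at hs
    · intro h1
      rw [h1] at hs
      simp [one8] at hs

theorem e0_mem_Idem : e0 F ∈ Idem F := by
  rw [mem_Idem_iff]
  simp [e0]

theorem map_mem_Idem {f : (Fin 8 → F) ≃ₗ[F] (Fin 8 → F)} (hf : f ∈ AutO F) {x : Fin 8 → F}
    (hx : x ∈ Idem F) : f x ∈ Idem F := by
  obtain ⟨h, hne0, hne1⟩ := hx
  refine ⟨?_, ?_, ?_⟩
  · rw [← hf, h]
  · intro h0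
    apply hne0
    apply f.injective
    rw [h0, map_zero]
  · intro h1
    apply hne1
    apply f.injective
    rw [h1, map_one8 hf]

/-- an idempotent with first coordinate `1` is conjugate to `e0` -/
theorem exists_aut_of_zero_eq_one {x : Fin 8 → F} (hx : x ∈ Idem F) (hx0 : x 0 = 1) :
    ∃ f ∈ AutO F, f x = e0 F := by
  rw [mem_Idem_iff] at hx
  obtain ⟨hs, hd⟩ := hx
  have hx7 : x 7 = 0 := by linear_combination hs - hx0
  rw [hx0, hx7, mul_zero] at hd
  refine ⟨tauL F * thetaL (![-x 4, -x 5, -x 6]) * tauL F * thetaL (![-x 1, -x 2, -x 3]),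
    Subgroup.mul_mem _ (Subgroup.mul_mem _ (Subgroup.mul_mem _ tauL_mem (thetaL_mem _)) tauL_mem)
      (thetaL_mem _), ?_⟩
  show tauFun (thetaFun _ (tauFun (thetaFun _ x))) = e0 F
  have h1 : thetaFun (![-x 1, -x 2, -x 3]) x = ![1, 0, 0, 0, x 4, x 5, x 6, 0] := by
    apply ext8 <;>
      simp only [thetaFun, Matrix.cons_val_zero, Matrix.cons_val_one, Matrix.cons_val]
    · linear_combination hx0 + hd
    · linear_combination (-x 1) * hx0 + x 1 * hx7 + (-x 1) * hd
    · linear_combination (-x 2) * hx0 + x 2 * hx7 + (-x 2) * hd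
    · linear_combination (-x 3) * hx0 + x 3 * hx7 + (-x 3) * hd
    · ring
    · ring
    · ring
    · linear_combination hx7 - hd
  rw [h1]
  have h2 : tauFun (![1, 0, 0, 0, x 4, x 5, x 6, 0] : Fin 8 → F) =
      ![0, -x 4, -x 5, -x 6, 0, 0, 0, 1] := by
    apply ext8 <;> simp [tauFun]
  rw [h2]
  have h3 : thetaFun (![-x 4, -x 5, -x 6]) (![0, -x 4, -x 5, -x 6, 0, 0, 0, 1] : Fin 8 → F) =
      ![0, 0, 0, 0, 0, 0, 0, 1] := by
    apply ext8 <;> simp [thetaFun] <;> ring
  rw [h3]
  apply ext8 <;> simp [tauFun, e0]

/-- every idempotent can be moved to one with first coordinate `1` -/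
theorem exists_aut_zero_eq_one {x : Fin 8 → F} (hx : x ∈ Idem F) :
    ∃ f ∈ AutO F, (f x) 0 = 1 := by
  have hx' := (mem_Idem_iff x).1 hx
  obtain ⟨hs, hd⟩ := hx'
  by_cases h4 : x 4 = 0
  · by_cases h5 : x 5 = 0
    · by_cases h6 : x 6 = 0
      · rw [h4, h5, h6] at hd
        simp only [mul_zero, add_zero] at hd
        rcases mul_eq_zero.1 hd.symm with a0 | a7
        · refine ⟨tauL F, tauL_mem, ?_⟩
          show tauFun x 0 = 1
          simp only [tauFun, Matrix.cons_val_zero]
          rw [a0, zero_add] at hs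
          exact hs
        · refine ⟨1, Subgroup.one_mem _, ?_⟩
          show x 0 = 1
          rw [a7, add_zero] at hs
          exact hs
      · refine ⟨tauL F * thetaL (![0, 0, x 0 / x 6]),
          Subgroup.mul_mem _ tauL_mem (thetaL_mem _), ?_⟩
        show tauFun (thetaFun _ x) 0 = 1
        simp only [tauFun, thetaFun, Matrix.cons_val_zero]
        simp
        field_simp
        linear_combination hs
    · refine ⟨tauL F * thetaL (![0, x 0 / x 5, 0]),
        Subgroup.mul_mem _ tauL_mem (thetaL_mem _), ?_⟩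
      show tauFun (thetaFun _ x) 0 = 1
      simp only [tauFun, thetaFun, Matrix.cons_val_zero]
      simp
      field_simp
      linear_combination hs
  · refine ⟨tauL F * thetaL (![x 0 / x 4, 0, 0]),
      Subgroup.mul_mem _ tauL_mem (thetaL_mem _), ?_⟩
    show tauFun (thetaFun _ x) 0 = 1
    simp only [tauFun, thetaFun, Matrix.cons_val_zero]
    simp
    field_simp
    linear_combination hs

/-- the automorphism group is transitive on the non-trivial idempotents -/
theorem exists_aut_e0 {x : Fin 8 → F} (hx : x ∈ Idem F) : ∃ f ∈ AutO F, f x = e0 F := by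
  obtain ⟨f, hf, h0⟩ := exists_aut_zero_eq_one hx
  obtain ⟨g, hg, h1⟩ := exists_aut_of_zero_eq_one (map_mem_Idem hf hx) h0
  exact ⟨g * f, Subgroup.mul_mem _ hg hf, h1⟩

end Cfsg.Agent.Lib.H9.G2Oct
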