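import Mathlib
import Cfsg.Agent.Lib.H9.G2OctB

set_option autoImplicit false

/-!
# Counting the non-trivial idempotents of Zorn's algebra over a finite field

`card_Idem : Nat.card (Idem F) = q ^ 3 * (q ^ 3 + 1)`.
-/

namespace Cfsg.Agent.Lib.H9.G2Oct

open Cfsg.Lie Matrix

variable {F : Type*} [Field F] [Fintype F] [DecidableEq F]

/-- the linear functional `b ↦ a ⬝ᵥ b` -/
def dotL (a : Fin 3 → F) : (Fin 3 → F) →ₗ[F] F where
  toFun b := a ⬝ᵥ b
  map_add' := dotProduct_add a
  map_smul' k b := by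
    rw [dotProduct_smul]
    rfl

theorem dotL_apply (a b : Fin 3 → F) : dotL a b = a ⬝ᵥ b := rfl

theorem dotL_surjective {a : Fin 3 → F} (ha : a ≠ 0) : Function.Surjective (dotL a) := by
  obtain ⟨i, hi⟩ : ∃ i, a i ≠ 0 := by
    by_contra h
    push Not at h
    exact ha (funext h)
  intro c
  refine ⟨Pi.single i (c / a i), ?_⟩
  rw [dotL_apply, dotProduct_single, mul_div_cancel₀ _ hi]

theorem card_ker_dotL {a : Fin 3 → F} (ha : a ≠ 0) :
    Nat.card ↥(LinearMap.ker (dotL a)) = Fintype.card F ^ 2 := by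
  have h1 := Submodule.card_eq_card_quotient_mul_card (LinearMap.ker (dotL a))
  have h2 : Nat.card ((Fin 3 → F) ⧸ LinearMap.ker (dotL a)) = Fintype.card F := by
    rw [Nat.card_congr ((dotL a).quotKerEquivOfSurjective (dotL_surjective ha)).toEquiv,
      Nat.card_eq_fintype_card]
  rw [h2, Nat.card_eq_fintype_card, Fintype.card_fun, Fintype.card_fin] at h1
  have hq : 0 < Fintype.card F := Fintype.card_pos
  have h3 : Fintype.card F ^ 2 * Fintype.card F =
      Nat.card ↥(LinearMap.ker (dotL a)) * Fintype.card F := by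
    rw [← h1]
    ring
  exact (Nat.eq_of_mul_eq_mul_right hq h3).symm

theorem card_fiber_dot {a : Fin 3 → F} (ha : a ≠ 0) (c : F) :
    Nat.card {b : Fin 3 → F // a ⬝ᵥ b = c} = Fintype.card F ^ 2 := by
  obtain ⟨b0, hb0⟩ := dotL_surjective ha c
  rw [← card_ker_dotL ha]
  apply Nat.card_congr
  refine ⟨fun b => ⟨b.1 - b0, ?_⟩, fun b => ⟨b.1 + b0, ?_⟩, ?_, ?_⟩
  · rw [LinearMap.mem_ker, map_sub, hb0, dotL_apply, b.2, sub_self]
  · have := b.2
    rw [LinearMap.mem_ker] at this
    rw [← dotL_apply, map_add, this, hb0, zero_add]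
  · intro b
    apply Subtype.ext
    simp
  · intro b
    apply Subtype.ext
    simp

theorem card_fiber_zero (c : F) :
    Nat.card {b : Fin 3 → F // (0 : Fin 3 → F) ⬝ᵥ b = c} =
      if c = 0 then Fintype.card F ^ 3 else 0 := by
  split_ifs with hc
  · subst hc
    have : Nat.card {b : Fin 3 → F // (0 : Fin 3 → F) ⬝ᵥ b = 0} = Nat.card (Fin 3 → F) := by
      apply Nat.card_congr
      exact ⟨fun b => b.1, fun b => ⟨b, zero_dotProduct b⟩, fun b => rfl, fun b => rfl⟩
    rw [this, Nat.card_eq_fintype_card, Fintype.card_fun, Fintype.card_fin]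
  · have : IsEmpty {b : Fin 3 → F // (0 : Fin 3 → F) ⬝ᵥ b = c} := by
      constructor
      rintro ⟨b, hb⟩
      rw [zero_dotProduct] at hb
      exact hc hb.symm
    exact Nat.card_of_isEmpty

/-- the number of pairs `(a, b)` of vectors of `F³` with `a ⬝ᵥ b = c` -/
theorem card_pairs_dot (c : F) :
    Nat.card {p : (Fin 3 → F) × (Fin 3 → F) // p.1 ⬝ᵥ p.2 = c} =
      (if c = 0 then Fintype.card F ^ 3 else 0) +
        (Fintype.card F ^ 3 - 1) * Fintype.card F ^ 2 := by
  classical
  rw [Nat.card_congr (Equiv.subtypeProdEquivSigmaSubtype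
    (fun (a b : Fin 3 → F) => a ⬝ᵥ b = c)), Nat.card_sigma,
    ← Finset.add_sum_erase Finset.univ _ (Finset.mem_univ (0 : Fin 3 → F)), card_fiber_zero]
  congr 1
  rw [Finset.sum_congr rfl (fun a ha => card_fiber_dot (Finset.ne_of_mem_erase ha) c),
    Finset.sum_const, Finset.card_erase_of_mem (Finset.mem_univ _), Finset.card_univ,
    Fintype.card_fun, Fintype.card_fin, smul_eq_mul]

/-- the parametrisation of idempotents -/
def idemEquiv (F : Type*) [Field F] :
    ↥(Idem F) ≃ {p : F × ((Fin 3 → F) × (Fin 3 → F)) // p.2.1 ⬝ᵥ p.2.2 = p.1 * (1 - p.1)} where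
  toFun x := ⟨(x.1 0, (![x.1 1, x.1 2, x.1 3], ![x.1 4, x.1 5, x.1 6])), by
    have h := (mem_Idem_iff x.1).1 x.2
    obtain ⟨hs, hd⟩ := h
    have h7 : x.1 7 = 1 - x.1 0 := by linear_combination hs
    simp only [dotProduct, Fin.sum_univ_three, Matrix.cons_val_zero, Matrix.cons_val_one,
      Matrix.cons_val]
    rw [← h7]
    exact hd⟩
  invFun p := ⟨![p.1.1, p.1.2.1 0, p.1.2.1 1, p.1.2.1 2, p.1.2.2 0, p.1.2.2 1, p.1.2.2 2,
      1 - p.1.1], by
    rw [mem_Idem_iff]
    have h := p.2
    simp only [dotProduct, Fin.sum_univ_three] at h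
    refine ⟨?_, ?_⟩
    · simp
    · simp only [Matrix.cons_val_zero, Matrix.cons_val_one, Matrix.cons_val]
      exact h⟩
  left_inv x := by
    have h := (mem_Idem_iff x.1).1 x.2
    obtain ⟨hs, hd⟩ := h
    apply Subtype.ext
    apply ext8 <;> simp
    linear_combination (-1 : F) * hs
  right_inv p := by
    apply Subtype.ext
    apply Prod.ext
    · simp
    · apply Prod.ext
      · funext i
        fin_cases i <;> simp
      · funext i
        fin_cases i <;> simp

theorem card_Idem :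
    Nat.card ↥(Idem F) = Fintype.card F ^ 3 * (Fintype.card F ^ 3 + 1) := by
  classical
  rw [Nat.card_congr (idemEquiv F), Nat.card_congr (Equiv.subtypeProdEquivSigmaSubtype
    (fun (α : F) (p : (Fin 3 → F) × (Fin 3 → F)) => p.1 ⬝ᵥ p.2 = α * (1 - α))), Nat.card_sigma]
  rw [Finset.sum_congr rfl (fun α _ => card_pairs_dot (α * (1 - α))), Finset.sum_add_distrib,
    Finset.sum_const, Finset.card_univ, smul_eq_mul, ← Finset.sum_filter, Finset.sum_const,
    smul_eq_mul]
  have hf : (Finset.univ.filter fun α : F => α * (1 - α) = 0) = {0, 1} := by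
    ext α
    simp only [Finset.mem_filter, Finset.mem_univ, true_and, Finset.mem_insert,
      Finset.mem_singleton, mul_eq_zero]
    constructor
    · rintro (h | h)
      · exact Or.inl h
      · right
        linear_combination -h
    · rintro (h | h)
      · exact Or.inl h
      · right
        rw [h, sub_self]
  rw [hf, Finset.card_pair (zero_ne_one)]
  have hq : 1 ≤ Fintype.card F ^ 3 := Nat.one_le_pow _ _ Fintype.card_pos
  obtain ⟨Q, hQ⟩ : ∃ Q, Fintype.card F ^ 3 = Q + 1 := ⟨Fintype.card F ^ 3 - 1, by omega⟩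
  have h3 : Fintype.card F * ((Q + 1 - 1) * Fintype.card F ^ 2) = Q * (Q + 1) := by
    rw [Nat.add_sub_cancel, ← hQ]
    ring
  rw [hQ, h3]
  ring

end Cfsg.Agent.Lib.H9.G2Oct
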