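import Mathlib
import Cfsg.Agent.Lib.H9.G2OctB

set_option autoImplicit false

/-!
# The stabiliser of the standard idempotent embeds into `SL₃(F)`
-/

namespace Cfsg.Agent.Lib.H9.G2Oct

open Cfsg.Lie Matrix

variable {F : Type*} [Field F]

/-- `a ↦ [[0,a],[0,0]]` -/
def aPL (F : Type*) [Field F] : (Fin 3 → F) →ₗ[F] (Fin 8 → F) where
  toFun a := ![0, a 0, a 1, a 2, 0, 0, 0, 0]
  map_add' a c := by apply ext8 <;> simp
  map_smul' k a := by apply ext8 <;> simp

/-- `b ↦ [[0,0],[b,0]]` -/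
def bML (F : Type*) [Field F] : (Fin 3 → F) →ₗ[F] (Fin 8 → F) where
  toFun b := ![0, 0, 0, 0, b 0, b 1, b 2, 0]
  map_add' a c := by apply ext8 <;> simp
  map_smul' k a := by apply ext8 <;> simp

/-- projection to the `a`-part -/
def prA (F : Type*) [Field F] : (Fin 8 → F) →ₗ[F] (Fin 3 → F) where
  toFun x := ![x 1, x 2, x 3]
  map_add' a c := by funext i; fin_cases i <;> simp
  map_smul' k a := by funext i; fin_cases i <;> simp

/-- projection to the `b`-part -/
def prB (F : Type*) [Field F] : (Fin 8 → F) →ₗ[F] (Fin 3 → F) where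
  toFun x := ![x 4, x 5, x 6]
  map_add' a c := by funext i; fin_cases i <;> simp
  map_smul' k a := by funext i; fin_cases i <;> simp

theorem aPL_apply (a : Fin 3 → F) : aPL F a = ![0, a 0, a 1, a 2, 0, 0, 0, 0] := rfl
theorem bML_apply (b : Fin 3 → F) : bML F b = ![0, 0, 0, 0, b 0, b 1, b 2, 0] := rfl
theorem prA_apply (x : Fin 8 → F) : prA F x = ![x 1, x 2, x 3] := rfl
theorem prB_apply (x : Fin 8 → F) : prB F x = ![x 4, x 5, x 6] := rfl

/-- the second standard idempotent -/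
def e1 (F : Type*) [Field F] : Fin 8 → F := ![0, 0, 0, 0, 0, 0, 0, 1]

theorem e0_add_e1 : e0 F + e1 F = one8 F := by
  apply ext8 <;> simp [e0, e1, one8]

theorem e0_zornMul (x : Fin 8 → F) : zornMul (e0 F) x = ![x 0, x 1, x 2, x 3, 0, 0, 0, 0] := by
  apply ext8 <;>
  simp [zornMul_0, zornMul_1, zornMul_2, zornMul_3, zornMul_4, zornMul_5, zornMul_6, zornMul_7, e0]

theorem zornMul_e0 (x : Fin 8 → F) : zornMul x (e0 F) = ![x 0, 0, 0, 0, x 4, x 5, x 6, 0] := by
  apply ext8 <;>
  simp [zornMul_0, zornMul_1, zornMul_2, zornMul_3, zornMul_4, zornMul_5, zornMul_6, zornMul_7, e0]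

theorem decomp8 (x : Fin 8 → F) :
    x = x 0 • e0 F + aPL F (prA F x) + bML F (prB F x) + x 7 • e1 F := by
  apply ext8 <;> simp [e0, e1, aPL_apply, bML_apply, prA_apply, prB_apply]

section stab

variable {f : (Fin 8 → F) ≃ₗ[F] (Fin 8 → F)} (hf : f ∈ AutO F) (h0 : f (e0 F) = e0 F)
include hf h0

theorem map_e1 : f (e1 F) = e1 F := by
  have h1 := map_one8 hf
  rw [← e0_add_e1, map_add, h0] at h1
  exact add_left_cancel h1

theorem map_aPL (a : Fin 3 → F) : f (aPL F a) = aPL F (prA F (f (aPL F a))) := by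
  have h1 : zornMul (e0 F) (aPL F a) = aPL F a := by
    rw [e0_zornMul]
    apply ext8 <;> simp [aPL_apply]
  have h2 : zornMul (aPL F a) (e0 F) = 0 := by
    rw [zornMul_e0]
    apply ext8 <;> simp [aPL_apply]
  have h3 := congrArg f h1
  rw [hf, h0, e0_zornMul] at h3
  have h4 := congrArg f h2
  rw [hf, h0, zornMul_e0, map_zero] at h4
  have c0 := congrFun h4 0
  have c4 := congrFun h3 4
  have c5 := congrFun h3 5
  have c6 := congrFun h3 6
  have c7 := congrFun h3 7
  simp at c0 c4 c5 c6 c7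
  generalize f (aPL F a) = y at c0 c4 c5 c6 c7 ⊢
  apply ext8 <;>
    simp only [aPL_apply, prA_apply, Matrix.cons_val_zero, Matrix.cons_val_one, Matrix.cons_val]
  · exact c0
  · exact c4.symm
  · exact c5.symm
  · exact c6.symm
  · exact c7.symm

theorem map_bML (b : Fin 3 → F) : f (bML F b) = bML F (prB F (f (bML F b))) := by
  have h1 : zornMul (bML F b) (e0 F) = bML F b := by
    rw [zornMul_e0]
    apply ext8 <;> simp [bML_apply]
  have h2 : zornMul (e0 F) (bML F b) = 0 := by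
    rw [e0_zornMul]
    apply ext8 <;> simp [bML_apply]
  have h3 := congrArg f h1
  rw [hf, h0, zornMul_e0] at h3
  have h4 := congrArg f h2
  rw [hf, h0, e0_zornMul, map_zero] at h4
  have c0 := congrFun h4 0
  have c1 := congrFun h4 1
  have c2 := congrFun h4 2
  have c3 := congrFun h4 3
  have c7 := congrFun h3 7
  simp at c0 c1 c2 c3 c7
  generalize f (bML F b) = y at c0 c1 c2 c3 c7 ⊢
  apply ext8 <;>
    simp only [bML_apply, prB_apply, Matrix.cons_val_zero, Matrix.cons_val_one, Matrix.cons_val]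
  · exact c0
  · exact c1
  · exact c2
  · exact c3
  · exact c7.symm

end stab

/-- the action on the `a`-part -/
def AofF (f : (Fin 8 → F) ≃ₗ[F] (Fin 8 → F)) : (Fin 3 → F) →ₗ[F] (Fin 3 → F) :=
  (prA F).comp (f.toLinearMap.comp (aPL F))

/-- the action on the `b`-part -/
def BofF (f : (Fin 8 → F) ≃ₗ[F] (Fin 8 → F)) : (Fin 3 → F) →ₗ[F] (Fin 3 → F) :=
  (prB F).comp (f.toLinearMap.comp (bML F))

theorem AofF_apply (f : (Fin 8 → F) ≃ₗ[F] (Fin 8 → F)) (a : Fin 3 → F) :
    AofF f a = prA F (f (aPL F a)) := rfl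

theorem BofF_apply (f : (Fin 8 → F) ≃ₗ[F] (Fin 8 → F)) (b : Fin 3 → F) :
    BofF f b = prB F (f (bML F b)) := rfl

section stab2

variable {f : (Fin 8 → F) ≃ₗ[F] (Fin 8 → F)} (hf : f ∈ AutO F) (h0 : f (e0 F) = e0 F)
include hf h0

theorem map_aPL' (a : Fin 3 → F) : f (aPL F a) = aPL F (AofF f a) := map_aPL hf h0 a

theorem map_bML' (b : Fin 3 → F) : f (bML F b) = bML F (BofF f b) := map_bML hf h0 b

theorem dot_AB (a b : Fin 3 → F) :
    AofF f a 0 * BofF f b 0 + AofF f a 1 * BofF f b 1 + AofF f a 2 * BofF f b 2 =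
      a 0 * b 0 + a 1 * b 1 + a 2 * b 2 := by
  have h1 : zornMul (aPL F a) (bML F b) = (a 0 * b 0 + a 1 * b 1 + a 2 * b 2) • e0 F := by
    apply ext8 <;>
    simp [zornMul_0, zornMul_1, zornMul_2, zornMul_3, zornMul_4, zornMul_5, zornMul_6, zornMul_7,
      aPL_apply, bML_apply, e0]
  have h2 := congrArg f h1
  rw [hf, map_smul, h0, map_aPL' hf h0, map_bML' hf h0] at h2
  have c0 := congrFun h2 0
  rw [zornMul_0] at c0
  simpa [aPL_apply, bML_apply, e0] using c0

theorem cross_AB (a c : Fin 3 → F) :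
    BofF f (cross3 a c) = cross3 (AofF f a) (AofF f c) := by
  have h1 : zornMul (aPL F a) (aPL F c) = bML F (cross3 a c) := by
    apply ext8 <;>
    simp [zornMul_0, zornMul_1, zornMul_2, zornMul_3, zornMul_4, zornMul_5, zornMul_6, zornMul_7,
      aPL_apply, bML_apply, cross3]
  have h2 := congrArg f h1
  rw [hf, map_aPL' hf h0, map_aPL' hf h0, map_bML' hf h0] at h2
  have c4 := congrFun h2 4
  have c5 := congrFun h2 5
  have c6 := congrFun h2 6
  rw [zornMul_4] at c4
  rw [zornMul_5] at c5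
  rw [zornMul_6] at c6
  simp [aPL_apply, bML_apply] at c4 c5 c6
  have d0 : BofF f (cross3 a c) 0 = cross3 (AofF f a) (AofF f c) 0 := by
    rw [← c4]
    simp [cross3]
  have d1 : BofF f (cross3 a c) 1 = cross3 (AofF f a) (AofF f c) 1 := by
    rw [← c5]
    simp [cross3]
  have d2 : BofF f (cross3 a c) 2 = cross3 (AofF f a) (AofF f c) 2 := by
    rw [← c6]
    simp [cross3]
  funext i
  fin_cases i
  · exact d0
  · exact d1
  · exact d2

theorem det_AofF : (LinearMap.toMatrix' (AofF f)).det = 1 := by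
  have hc := cross_AB hf h0 (Pi.single 1 1) (Pi.single 2 1)
  have hcr : cross3 (Pi.single 1 1 : Fin 3 → F) (Pi.single 2 1) = Pi.single 0 1 := by
    funext i
    fin_cases i <;> simp [cross3]
  rw [hcr] at hc
  have hd := dot_AB hf h0 (Pi.single 0 1) (Pi.single 0 1)
  rw [hc] at hd
  rw [Matrix.det_fin_three]
  simp only [LinearMap.toMatrix'_apply]
  simp [cross3] at hd
  linear_combination hd

end stab2

/-- the stabiliser of the standard idempotent -/
def stab0 (F : Type*) [Field F] : Subgroup ((Fin 8 → F) ≃ₗ[F] (Fin 8 → F)) where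
  carrier := {f | f ∈ AutO F ∧ f (e0 F) = e0 F}
  mul_mem' {f g} hf hg := ⟨Subgroup.mul_mem _ hf.1 hg.1, by
    show f (g (e0 F)) = e0 F
    rw [hg.2, hf.2]⟩
  one_mem' := ⟨Subgroup.one_mem _, rfl⟩
  inv_mem' {f} hf := ⟨Subgroup.inv_mem _ hf.1, by
    show f.symm (e0 F) = e0 F
    apply f.injective
    rw [LinearEquiv.apply_symm_apply, hf.2]⟩

theorem mem_stab0 {f : (Fin 8 → F) ≃ₗ[F] (Fin 8 → F)} :
    f ∈ stab0 F ↔ f ∈ AutO F ∧ f (e0 F) = e0 F := Iff.rfl

theorem AofF_mul {f g : (Fin 8 → F) ≃ₗ[F] (Fin 8 → F)} (hg : g ∈ stab0 F) :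
    AofF (f * g) = (AofF f).comp (AofF g) := by
  apply LinearMap.ext
  intro a
  rw [LinearMap.comp_apply, AofF_apply, AofF_apply]
  show prA F (f (g (aPL F a))) = _
  rw [map_aPL' hg.1 hg.2]

/-- the homomorphism from the stabiliser of `e0` to `SL₃(F)` -/
def stabToSL (F : Type*) [Field F] : ↥(stab0 F) →* Matrix.SpecialLinearGroup (Fin 3) F where
  toFun f := ⟨LinearMap.toMatrix' (AofF f.1), det_AofF f.2.1 f.2.2⟩
  map_one' := by
    apply Subtype.ext
    show LinearMap.toMatrix' (AofF (1 : (Fin 8 → F) ≃ₗ[F] (Fin 8 → F))) = 1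
    have : AofF (1 : (Fin 8 → F) ≃ₗ[F] (Fin 8 → F)) = LinearMap.id := by
      apply LinearMap.ext
      intro a
      rw [AofF_apply]
      show prA F (aPL F a) = a
      funext i
      fin_cases i <;> simp [prA_apply, aPL_apply]
    rw [this, LinearMap.toMatrix'_id]
  map_mul' f g := by
    apply Subtype.ext
    show LinearMap.toMatrix' (AofF (f.1 * g.1)) =
      LinearMap.toMatrix' (AofF f.1) * LinearMap.toMatrix' (AofF g.1)
    rw [AofF_mul g.2, LinearMap.toMatrix'_comp]

theorem stabToSL_injective : Function.Injective (stabToSL F) := by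
  rw [injective_iff_map_eq_one]
  intro f hf1
  have hA : AofF f.1 = LinearMap.id := by
    have h1 : LinearMap.toMatrix' (AofF f.1) = 1 := congrArg Subtype.val hf1
    rw [← LinearMap.toMatrix'_id] at h1
    exact LinearMap.toMatrix'.injective h1
  have hB : ∀ b, BofF f.1 b = b := by
    intro b
    have key : ∀ a : Fin 3 → F, a 0 * BofF f.1 b 0 + a 1 * BofF f.1 b 1 + a 2 * BofF f.1 b 2 =
        a 0 * b 0 + a 1 * b 1 + a 2 * b 2 := by
      intro a
      have := dot_AB f.2.1 f.2.2 a b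
      rwa [hA] at this
    funext i
    fin_cases i
    · simpa using key (Pi.single 0 1)
    · simpa using key (Pi.single 1 1)
    · simpa using key (Pi.single 2 1)
  apply Subtype.ext
  apply LinearEquiv.ext
  intro x
  show f.1 x = x
  conv_lhs => rw [decomp8 x]
  rw [map_add, map_add, map_add, map_smul, map_smul, f.2.2, map_e1 f.2.1 f.2.2,
    map_aPL' f.2.1 f.2.2, map_bML' f.2.1 f.2.2, hA, hB, LinearMap.id_apply]
  exact (decomp8 x).symm

end Cfsg.Agent.Lib.H9.G2Oct
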