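import Mathlib
import Cfsg.Agent.Lib.H9.G2OctC
import Cfsg.Agent.Lib.H9.G2OctD
import Cfsg.Agent.Lib.H9.SqCommF
import Cfsg.Agent.Lib.H9.OmSylK

set_option autoImplicit false

/-!
# The 2-part of the order of `G₂(q)`, `q` odd

`v2_card_G2 : padicValNat 2 (Nat.card ↥(G2 F)) ≤ 2 * (v₂(q - 1) + v₂(q + 1))`.
-/

namespace Cfsg.Agent.Lib.H9.G2Oct

open Cfsg.Lie Matrix Cfsg.Agent.Lib.H9.SqC Cfsg.Agent.Lib.H9.OmSyl

variable {F : Type*} [Field F] [Fintype F]

theorem smul_def' (g : ↥(AutO F)) (x : Fin 8 → F) : g • x = g.1 x := rfl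

theorem orbit_e0 : MulAction.orbit ↥(AutO F) (e0 F) = Idem F := by
  ext x
  constructor
  · rintro ⟨g, rfl⟩
    exact map_mem_Idem g.2 e0_mem_Idem
  · intro hx
    obtain ⟨f, hf, hfx⟩ := exists_aut_e0 hx
    refine ⟨⟨f, hf⟩⁻¹, ?_⟩
    show f.symm (e0 F) = x
    rw [← hfx, LinearEquiv.symm_apply_apply]

/-- the stabiliser of `e0` embeds in `SL₃(F)` -/
def stabHom (F : Type*) [Field F] :
    ↥(MulAction.stabilizer ↥(AutO F) (e0 F)) →* Matrix.SpecialLinearGroup (Fin 3) F :=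
  (stabToSL F).comp
    { toFun := fun g => ⟨g.1.1, ⟨g.1.2, g.2⟩⟩
      map_one' := rfl
      map_mul' := fun _ _ => rfl }

theorem stabHom_injective : Function.Injective (stabHom F) := by
  intro g h hgh
  have h1 : (⟨g.1.1, ⟨g.1.2, g.2⟩⟩ : ↥(stab0 F)) = ⟨h.1.1, ⟨h.1.2, h.2⟩⟩ :=
    stabToSL_injective hgh
  have h2 : g.1.1 = h.1.1 := by
    have := congrArg (fun z : ↥(stab0 F) => z.1) h1
    exact this
  exact Subtype.ext (Subtype.ext h2)

theorem card_AutO : Nat.card ↥(AutO F) = Fintype.card F ^ 3 * (Fintype.card F ^ 3 + 1) *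
    Nat.card ↥(MulAction.stabilizer ↥(AutO F) (e0 F)) := by
  classical
  rw [Subgroup.card_eq_card_quotient_mul_card_subgroup (MulAction.stabilizer ↥(AutO F) (e0 F)),
    ← Nat.card_congr (MulAction.orbitEquivQuotientStabilizer ↥(AutO F) (e0 F)), orbit_e0,
    card_Idem]

theorem v2_card_AutO (hq : Odd (Fintype.card F)) :
    padicValNat 2 (Nat.card ↥(AutO F)) ≤
      2 * (padicValNat 2 (Fintype.card F - 1) + padicValNat 2 (Fintype.card F + 1)) := by
  have hq1 : 1 < Fintype.card F := Fintype.one_lt_card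
  have h2q : ¬ 2 ∣ Fintype.card F := by
    rcases hq with ⟨k, hk⟩
    omega
  have hfin : Finite ↥(AutO F) := inferInstance
  have hdvd : Nat.card ↥(MulAction.stabilizer ↥(AutO F) (e0 F)) ∣
      Nat.card (Matrix.SpecialLinearGroup (Fin 3) F) :=
    Subgroup.card_dvd_of_injective (stabHom F) stabHom_injective
  have hsl : padicValNat 2 (Nat.card (Matrix.SpecialLinearGroup (Fin 3) F)) =
      2 * padicValNat 2 (Fintype.card F - 1) + padicValNat 2 (Fintype.card F + 1) := by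
    have := v2_card_SL_odd (F := F) hq 1
    rw [this, mul_one, v2_card_GL2 hq]
  have hne : Nat.card (Matrix.SpecialLinearGroup (Fin 3) F) ≠ 0 := Nat.card_pos.ne'
  have hs : padicValNat 2 (Nat.card ↥(MulAction.stabilizer ↥(AutO F) (e0 F))) ≤
      2 * padicValNat 2 (Fintype.card F - 1) + padicValNat 2 (Fintype.card F + 1) := by
    rw [← hsl]
    exact (padicValNat_dvd_iff_le hne).1 (dvd_trans pow_padicValNat_dvd hdvd)
  have hne1 : Fintype.card F ^ 3 ≠ 0 := by positivity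
  have hne2 : Fintype.card F ^ 3 + 1 ≠ 0 := by omega
  have hne3 : Nat.card ↥(MulAction.stabilizer ↥(AutO F) (e0 F)) ≠ 0 := Nat.card_pos.ne'
  rw [card_AutO, padicValNat.mul (mul_ne_zero hne1 hne2) hne3, padicValNat.mul hne1 hne2,
    padicValNat.pow, padicValNat.eq_zero_of_not_dvd h2q, mul_zero, zero_add,
    v2_pow_add_one_odd _ hq hq1 3 (by decide)]
  omega

omit [Fintype F] in
theorem card_G2_eq : Nat.card ↥(G2 F) = Nat.card ↥(AutO F) :=
  Nat.card_congr (g2Equiv F).toEquiv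

theorem v2_card_G2 (hq : Odd (Fintype.card F)) :
    padicValNat 2 (Nat.card ↥(G2 F)) ≤
      2 * (padicValNat 2 (Fintype.card F - 1) + padicValNat 2 (Fintype.card F + 1)) := by
  rw [card_G2_eq]
  exact v2_card_AutO hq

end Cfsg.Agent.Lib.H9.G2Oct
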