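import Mathlib
import Cfsg.Prelude.Def_Transfer
import Cfsg.Agent.Lib.H9.OmSylA
import Cfsg.Agent.Lib.H9.SqCommE
import Cfsg.Agent.Lib.H9.SqCommH

set_option autoImplicit false

/-!
# Normal 2-rank: abstract tools

`NRT r H`: the group `H` has a normal elementary abelian 2-subgroup of order at least `2 ^ r`, and
every normal elementary abelian 2-subgroup has order at most `2 ^ r`.  The property is invariant
under isomorphism (`NRT.of_equiv`) and can be checked on subgroups of an ambient group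
(`nrt_of_subgroup`).
-/

namespace Cfsg.Agent.Lib.H9.Nrk

open Cfsg.Agent.Lib.H9.SqC

/-- the normal 2-rank of `H` is `r` -/
def NRT (r : ℕ) (H : Type*) [Group H] : Prop :=
  (∃ E : Subgroup H, E.Normal ∧ Cfsg.IsElementaryAbelian 2 E ∧ 2 ^ r ≤ Nat.card ↥E) ∧
  ∀ E : Subgroup H, E.Normal → Cfsg.IsElementaryAbelian 2 E → Nat.card ↥E ≤ 2 ^ r

theorem elemAb_map {H H' : Type*} [Group H] [Group H'] (f : H →* H') (E : Subgroup H)
    (hE : Cfsg.IsElementaryAbelian 2 E) : Cfsg.IsElementaryAbelian 2 (E.map f) := by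
  obtain ⟨hc, hs⟩ := hE
  refine ⟨⟨⟨?_⟩⟩, ?_⟩
  · rintro ⟨_, x, hx, rfl⟩ ⟨_, y, hy, rfl⟩
    apply Subtype.ext
    show f x * f y = f y * f x
    have h1 : (⟨x, hx⟩ : ↥E) * ⟨y, hy⟩ = ⟨y, hy⟩ * ⟨x, hx⟩ := hc.is_comm.comm _ _
    have h3 : x * y = y * x := congrArg Subtype.val h1
    rw [← map_mul, ← map_mul, h3]
  · rintro _ ⟨x, hx, rfl⟩
    rw [← map_pow, hs x hx, map_one]

theorem NRT.of_equiv {r : ℕ} {H H' : Type*} [Group H] [Group H'] (e : H ≃* H') (h : NRT r H) :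
    NRT r H' := by
  obtain ⟨⟨E, hn, hE, hcard⟩, hall⟩ := h
  constructor
  · refine ⟨E.map e.toMonoidHom, hn.map _ e.surjective, elemAb_map _ E hE, ?_⟩
    rw [Subgroup.card_map_of_injective e.injective]
    exact hcard
  · intro E' hn' hE'
    have h1 := hall (E'.map e.symm.toMonoidHom) (hn'.map _ e.symm.surjective)
      (elemAb_map _ E' hE')
    rwa [Subgroup.card_map_of_injective e.symm.injective] at h1

theorem nrt_of_subgroup {G : Type*} [Group G] {r : ℕ} (P₀ : Subgroup G)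
    (hex : ∃ E : Subgroup G, E ≤ P₀ ∧ (∀ p ∈ P₀, ∀ x ∈ E, p * x * p⁻¹ ∈ E) ∧
      (∀ x ∈ E, ∀ y ∈ E, x * y = y * x) ∧ (∀ x ∈ E, x * x = 1) ∧ 2 ^ r ≤ Nat.card ↥E)
    (hall : ∀ E : Subgroup G, E ≤ P₀ → (∀ p ∈ P₀, ∀ x ∈ E, p * x * p⁻¹ ∈ E) →
      (∀ x ∈ E, x * x = 1) → Nat.card ↥E ≤ 2 ^ r) : NRT r ↥P₀ := by
  constructor
  · obtain ⟨E, hle, hnorm, hcomm, hsq, hcard⟩ := hex
    refine ⟨E.subgroupOf P₀, ⟨?_⟩, ⟨⟨⟨?_⟩⟩, ?_⟩, ?_⟩
    · intro x hx p
      rw [Subgroup.mem_subgroupOf] at hx ⊢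
      rw [Subgroup.coe_mul, Subgroup.coe_mul, Subgroup.coe_inv]
      exact hnorm p.1 p.2 x.1 hx
    · rintro ⟨x, hx⟩ ⟨y, hy⟩
      apply Subtype.ext
      apply Subtype.ext
      rw [Subgroup.mem_subgroupOf] at hx hy
      exact hcomm x.1 hx y.1 hy
    · intro x hx
      rw [Subgroup.mem_subgroupOf] at hx
      apply Subtype.ext
      rw [Subgroup.coe_pow, pow_two, Subgroup.coe_one]
      exact hsq x.1 hx
    · rw [Nat.card_congr (Subgroup.subgroupOfEquivOfLe hle).toEquiv]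
      exact hcard
  · intro E hn hE
    obtain ⟨_, hs⟩ := hE
    have h1 := hall (E.map P₀.subtype) (Subgroup.map_subtype_le E) ?_ ?_
    · rwa [Subgroup.card_map_of_injective (Subgroup.subtype_injective _)] at h1
    · rintro p hp _ ⟨x, hx, rfl⟩
      refine ⟨⟨p, hp⟩ * x * ⟨p, hp⟩⁻¹, hn.conj_mem x hx _, ?_⟩
      simp
    · rintro _ ⟨x, hx, rfl⟩
      have := hs x hx
      rw [← map_mul, ← pow_two, this, map_one]

end Cfsg.Agent.Lib.H9.Nrk
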