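import Mathlib
import Cfsg.Agent.Lib.H9.NrkA
import Cfsg.Agent.Lib.H9.OmSylB

set_option autoImplicit false

/-!
# Normal 2-rank of wreath-type subgroups

For `D : WrData A G k`, `Q ≤ A`, `T ≤ Perm (Fin k)` and a subgroup `C` of exponent 2 commuting
with the images of `D.Φ` and `D.Ψ`: if `Q` has an element whose square is not 1 and every
`Q`-invariant subgroup of `Q` of exponent 2 has order at most 2, then every subgroup of exponent
2 normalized by `D.sub Q T ⊔ C` has order at most `2 ^ k |C|` (`card_le_of_normal`).  A central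
subgroup `Z₂` of `Q` of exponent 2 gives a normalized elementary abelian subgroup of order
`|Z₂| ^ k |C|` (`exists_normal_elem`).
-/

namespace Cfsg.Agent.Lib.H9.Nrk

open Cfsg.Agent.Lib.H9.SqC Cfsg.Agent.Lib.H9.OmSyl Equiv

variable {A G : Type*} [Group A] [Group G] {k : ℕ} (D : WrData A G k)

theorem conj_single (g : Fin k → A) (j : Fin k) (β : A) :
    g * Pi.mulSingle j β * g⁻¹ = Pi.mulSingle j (g j * β * (g j)⁻¹) := by
  funext x
  by_cases h : x = j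
  · subst h
    simp
  · simp [Pi.mulSingle_eq_of_ne h]

theorem mem_sup_comm (H C : Subgroup G) (hcomm : ∀ c ∈ C, ∀ h ∈ H, c * h = h * c) (x : G)
    (hx : x ∈ H ⊔ C) : ∃ h ∈ H, ∃ c ∈ C, x = h * c := by
  have h1 : x ∈ Subgroup.closure (H : Set G) ⊔ C := by rwa [Subgroup.closure_eq]
  obtain ⟨b, hb, τ, hτ, rfl⟩ := mem_sup_decomp (H : Set G) C (fun τ hτ s hs => by
    rw [hcomm τ hτ s hs, mul_assoc, mul_inv_cancel, mul_one]
    exact hs) x h1
  rw [Subgroup.closure_eq] at hb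
  exact ⟨b, hb, τ, hτ, rfl⟩

theorem comm_of_sq {H : Type*} [Group H] (x y : H) (hx : x * x = 1) (hy : y * y = 1)
    (hxy : (x * y) * (x * y) = 1) : x * y = y * x := by
  have hx' : x⁻¹ = x := inv_eq_of_mul_eq_one_right hx
  have hy' : y⁻¹ = y := inv_eq_of_mul_eq_one_right hy
  have h1 : (x * y)⁻¹ = x * y := inv_eq_of_mul_eq_one_right hxy
  rw [_root_.mul_inv_rev, hx', hy'] at h1
  exact h1.symm

section upper

variable [Finite A]

theorem card_le_of_base (Q : Subgroup A)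
    (hQ2 : ∀ N : Subgroup A, N ≤ Q → (∀ β ∈ Q, ∀ x ∈ N, β * x * β⁻¹ ∈ N) →
      (∀ x ∈ N, x * x = 1) → Nat.card ↥N ≤ 2)
    (E' : Subgroup G) (hle : E' ≤ D.base Q)
    (hnorm : ∀ b ∈ D.base Q, ∀ x ∈ E', b * x * b⁻¹ ∈ E') (hsq : ∀ x ∈ E', x * x = 1) :
    Nat.card ↥E' ≤ 2 ^ k := by
  classical
  -- the preimage
  let E'' : Subgroup (Fin k → A) := E'.comap D.Φ ⊓ Subgroup.pi Set.univ fun _ => Q
  have hE''sq : ∀ x ∈ E'', x * x = 1 := by
    intro x hx
    apply D.inj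
    rw [map_mul, map_one]
    exact hsq _ hx.1
  let N : Fin k → Subgroup A := fun i => E''.map (Pi.evalMonoidHom (fun _ => A) i)
  have hN : ∀ i, Nat.card ↥(N i) ≤ 2 := by
    intro i
    apply hQ2
    · rintro _ ⟨x, hx, rfl⟩
      exact hx.2 i (Set.mem_univ i)
    · rintro β hβ _ ⟨x, hx, rfl⟩
      refine ⟨Pi.mulSingle i β * x * (Pi.mulSingle i β)⁻¹, ⟨?_, ?_⟩, ?_⟩
      · show D.Φ (Pi.mulSingle i β * x * (Pi.mulSingle i β)⁻¹) ∈ E'
        rw [map_mul, map_mul, map_inv]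
        apply hnorm _ _ _ hx.1
        refine ⟨Pi.mulSingle i β, ?_, rfl⟩
        intro j _
        by_cases hj : j = i
        · subst hj
          rw [Pi.mulSingle_eq_same]
          exact hβ
        · rw [Pi.mulSingle_eq_of_ne hj]
          exact Q.one_mem
      · intro j _
        show ((Pi.mulSingle i β : Fin k → A) * x * (Pi.mulSingle i β : Fin k → A)⁻¹) j ∈ Q
        simp only [Pi.mul_apply, Pi.inv_apply]
        have hxj : x j ∈ Q := hx.2 j (Set.mem_univ j)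
        have hbj : (Pi.mulSingle i β : Fin k → A) j ∈ Q := by
          by_cases hj : j = i
          · subst hj
            rw [Pi.mulSingle_eq_same]
            exact hβ
          · rw [Pi.mulSingle_eq_of_ne hj]
            exact Q.one_mem
        exact Q.mul_mem (Q.mul_mem hbj hxj) (Q.inv_mem hbj)
      · simp
    · rintro _ ⟨x, hx, rfl⟩
      have := congrFun (hE''sq x hx) i
      exact this
  -- E' has the same order as E''
  have hmap : E''.map D.Φ = E' := by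
    apply le_antisymm
    · rintro _ ⟨x, hx, rfl⟩
      exact hx.1
    · intro y hy
      obtain ⟨x, hx, rfl⟩ := hle hy
      exact ⟨x, ⟨hy, hx⟩, rfl⟩
  rw [← hmap, Subgroup.card_map_of_injective D.inj]
  let J : ↥E'' → (∀ i : Fin k, ↥(N i)) := fun x i => ⟨x.1 i, ⟨x.1, x.2, rfl⟩⟩
  have hJ : Function.Injective J := by
    intro x y hxy
    apply Subtype.ext
    funext i
    exact congrArg Subtype.val (congrFun hxy i)
  have h1 := Nat.card_le_card_of_injective J hJ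
  rw [Nat.card_pi] at h1
  refine h1.trans ?_
  calc ∏ i : Fin k, Nat.card ↥(N i) ≤ ∏ _i : Fin k, 2 :=
        Finset.prod_le_prod (fun i _ => Nat.zero_le _) (fun i _ => hN i)
    _ = 2 ^ k := by simp

theorem card_le_of_normal [Finite G] (Q : Subgroup A) (T : Subgroup (Perm (Fin k)))
    (C : Subgroup G)
    (hCΦ : ∀ c ∈ C, ∀ g, Commute c (D.Φ g)) (hCΨ : ∀ c ∈ C, ∀ σ, Commute c (D.Ψ σ))
    (hCsq : ∀ c ∈ C, c * c = 1)
    (hQ1 : ∃ β ∈ Q, β * β ≠ 1)
    (hQ2 : ∀ N : Subgroup A, N ≤ Q → (∀ β ∈ Q, ∀ x ∈ N, β * x * β⁻¹ ∈ N) →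
      (∀ x ∈ N, x * x = 1) → Nat.card ↥N ≤ 2)
    (E : Subgroup G) (hE : E ≤ D.sub Q T ⊔ C)
    (hnorm : ∀ p ∈ D.sub Q T ⊔ C, ∀ x ∈ E, p * x * p⁻¹ ∈ E) (hsq : ∀ x ∈ E, x * x = 1) :
    Nat.card ↥E ≤ 2 ^ k * Nat.card ↥C := by
  classical
  -- C is central in P₀
  have hCH : ∀ c ∈ C, ∀ h ∈ D.sub Q T, c * h = h * c := by
    intro c hc
    have : D.sub Q T ≤ Subgroup.centralizer ({c} : Set G) := by
      unfold WrData.sub
      rw [sup_le_iff]
      constructor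
      · rintro _ ⟨σ, -, rfl⟩
        rw [Subgroup.mem_centralizer_iff]
        rintro _ rfl
        exact (hCΨ _ hc σ).eq
      · rintro _ ⟨g, -, rfl⟩
        rw [Subgroup.mem_centralizer_iff]
        rintro _ rfl
        exact (hCΦ _ hc g).eq
    intro h hh
    exact Subgroup.mem_centralizer_iff.1 (this hh) c rfl
  have hCC : ∀ c ∈ C, ∀ c' ∈ C, c * c' = c' * c := fun c hc c' hc' =>
    comm_of_sq c c' (hCsq c hc) (hCsq c' hc') (hCsq _ (mul_mem hc hc'))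
  have hCP : ∀ c ∈ C, ∀ p ∈ D.sub Q T ⊔ C, c * p = p * c := by
    intro c hc p hp
    obtain ⟨h, hh, c', hc', rfl⟩ := mem_sup_comm _ C hCH p hp
    rw [← mul_assoc, hCH c hc h hh, mul_assoc, hCC c hc c' hc', mul_assoc]
  obtain ⟨β, hβQ, hβ⟩ := hQ1
  -- Step 1
  have step1 : ∀ e ∈ E, ∃ g : Fin k → A, (∀ i, g i ∈ Q) ∧ ∃ c ∈ C, e = D.Φ g * c := by
    intro e he
    obtain ⟨h, hh, c, hc, rfl⟩ := mem_sup_comm _ C hCH e (hE he)
    obtain ⟨g, hg, σ, hσ, rfl⟩ := D.mem_sub_decomp Q T hh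
    by_cases hσ1 : σ = 1
    · subst hσ1
      exact ⟨g, hg, c, hc, by rw [map_one, mul_one]⟩
    exfalso
    obtain ⟨i, hi⟩ : ∃ i, σ i ≠ i := by
      by_contra hcon
      push Not at hcon
      exact hσ1 (Equiv.ext hcon)
    set e := D.Φ g * D.Ψ σ * c with he_def
    set b := D.Φ (Pi.mulSingle i β) with hb_def
    have hbH : b ∈ D.sub Q T := by
      refine Subgroup.mem_sup_right ⟨Pi.mulSingle i β, ?_, rfl⟩
      intro j _
      by_cases hj : j = i
      · subst hj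
        rw [Pi.mulSingle_eq_same]
        exact hβQ
      · rw [Pi.mulSingle_eq_of_ne hj]
        exact Q.one_mem
    have hw : e * b * e⁻¹ * b⁻¹ ∈ E := by
      have h1 : b * e⁻¹ * b⁻¹ ∈ E := hnorm b (Subgroup.mem_sup_left hbH) _ (inv_mem he)
      have h3 : e * b * e⁻¹ * b⁻¹ = e * (b * e⁻¹ * b⁻¹) := by group
      rw [h3]
      exact mul_mem he h1
    have hconj : e * b * e⁻¹ =
        D.Φ (Pi.mulSingle (σ i) (g (σ i) * β * (g (σ i))⁻¹)) := by
      have h1 : c * b = b * c := hCH c hc b hbH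
      have h3 : e * b * e⁻¹ = D.Φ g * (D.Ψ σ * b * (D.Ψ σ)⁻¹) * (D.Φ g)⁻¹ := by
        rw [he_def]
        have : D.Φ g * D.Ψ σ * c * b * (D.Φ g * D.Ψ σ * c)⁻¹ =
            D.Φ g * D.Ψ σ * (c * b) * c⁻¹ * (D.Ψ σ)⁻¹ * (D.Φ g)⁻¹ := by group
        rw [this, h1]
        group
      rw [h3, hb_def, D.conj, mulSingle_comp_perm, ← map_inv, ← map_mul, ← map_mul, conj_single]
    have hw2 := hsq _ hw
    rw [hconj, hb_def, ← map_inv, ← map_mul, ← map_mul, ← map_one D.Φ] at hw2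
    have hw3 := congrFun (D.inj hw2) i
    simp only [Pi.mul_apply, Pi.inv_apply, Pi.mulSingle_eq_same, Pi.one_apply,
      Pi.mulSingle_eq_of_ne (Ne.symm hi), one_mul] at hw3
    apply hβ
    have : (β * β)⁻¹ = 1 := by
      rw [_root_.mul_inv_rev]
      exact hw3
    rwa [inv_eq_one] at this
  -- Step 2
  let E' : Subgroup G := (E ⊔ C) ⊓ D.base Q
  have hEC : ∀ x ∈ E ⊔ C, ∃ e ∈ E, ∃ c ∈ C, x = e * c :=
    mem_sup_comm E C (fun c hc e he => hCP c hc e (hE he))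
  have hE'sq : ∀ x ∈ E', x * x = 1 := by
    intro x hx
    obtain ⟨e, he, c, hc, rfl⟩ := hEC x hx.1
    have h1 : c * e = e * c := hCP c hc e (hE he)
    calc e * c * (e * c) = e * (c * e) * c := by group
      _ = e * (e * c) * c := by rw [h1]
      _ = (e * e) * (c * c) := by group
      _ = 1 := by rw [hsq e he, hCsq c hc, one_mul]
  have hbaseP : D.base Q ≤ D.sub Q T ⊔ C := le_trans le_sup_right le_sup_left
  have hE'norm : ∀ b ∈ D.base Q, ∀ x ∈ E', b * x * b⁻¹ ∈ E' := by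
    intro b hb x hx
    refine Subgroup.mem_inf.2 ⟨?_, Subgroup.mul_mem _ (Subgroup.mul_mem _ hb hx.2) (Subgroup.inv_mem _ hb)⟩
    obtain ⟨e, he, c, hc, rfl⟩ := hEC x hx.1
    have h1 : c * b⁻¹ = b⁻¹ * c := hCP c hc _ (Subgroup.inv_mem _ (hbaseP hb))
    have : b * (e * c) * b⁻¹ = (b * e * b⁻¹) * c := by
      rw [mul_assoc b, mul_assoc b, mul_assoc e, h1]
      group
    rw [this]
    exact Subgroup.mul_mem _ (Subgroup.mem_sup_left (hnorm b (hbaseP hb) e he)) (Subgroup.mem_sup_right hc)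
  have hE'card := card_le_of_base D Q hQ2 E' inf_le_right hE'norm hE'sq
  -- injection E → E' × C
  have hdec : ∀ e : ↥E, ∃ p : ↥E' × ↥C, (e : G) = (p.1 : G) * (p.2 : G) := by
    intro e
    obtain ⟨g, hg, c, hc, h⟩ := step1 e.1 e.2
    refine ⟨⟨⟨D.Φ g, ⟨?_, ⟨g, fun i _ => hg i, rfl⟩⟩⟩, ⟨c, hc⟩⟩, h⟩
    have : D.Φ g = e.1 * c⁻¹ := by rw [h, mul_inv_cancel_right]
    rw [this]
    exact mul_mem (Subgroup.mem_sup_left e.2) (Subgroup.mem_sup_right (inv_mem hc))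
  choose J hJ using hdec
  have hJinj : Function.Injective J := by
    intro e e' hee'
    apply Subtype.ext
    rw [hJ e, hJ e', hee']
  have h1 := Nat.card_le_card_of_injective J hJinj
  rw [Nat.card_prod] at h1
  exact h1.trans (Nat.mul_le_mul_right _ hE'card)

end upper

theorem exists_normal_elem [Finite G] (Q : Subgroup A) (T : Subgroup (Perm (Fin k)))
    (C : Subgroup G)
    (hCΦ : ∀ c ∈ C, ∀ g, Commute c (D.Φ g)) (hCΨ : ∀ c ∈ C, ∀ σ, Commute c (D.Ψ σ))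
    (hCsq : ∀ c ∈ C, c * c = 1) (hdisj : D.sub Q T ⊓ C = ⊥)
    (Z₂ : Subgroup A) (hZQ : Z₂ ≤ Q) (hZc : ∀ z ∈ Z₂, ∀ β ∈ Q, z * β = β * z)
    (hZsq : ∀ z ∈ Z₂, z * z = 1) :
    ∃ E : Subgroup G, E ≤ D.sub Q T ⊔ C ∧ (∀ p ∈ D.sub Q T ⊔ C, ∀ x ∈ E, p * x * p⁻¹ ∈ E) ∧
      (∀ x ∈ E, ∀ y ∈ E, x * y = y * x) ∧ (∀ x ∈ E, x * x = 1) ∧
      Nat.card ↥Z₂ ^ k * Nat.card ↥C ≤ Nat.card ↥E := by
  have hCH : ∀ c ∈ C, ∀ h ∈ D.sub Q T, c * h = h * c := by
    intro c hc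
    have : D.sub Q T ≤ Subgroup.centralizer ({c} : Set G) := by
      unfold WrData.sub
      rw [sup_le_iff]
      constructor
      · rintro _ ⟨σ, -, rfl⟩
        rw [Subgroup.mem_centralizer_iff]
        rintro _ rfl
        exact (hCΨ _ hc σ).eq
      · rintro _ ⟨g, -, rfl⟩
        rw [Subgroup.mem_centralizer_iff]
        rintro _ rfl
        exact (hCΦ _ hc g).eq
    intro h hh
    exact Subgroup.mem_centralizer_iff.1 (this hh) c rfl
  have hCC : ∀ c ∈ C, ∀ c' ∈ C, c * c' = c' * c := fun c hc c' hc' =>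
    comm_of_sq c c' (hCsq c hc) (hCsq c' hc') (hCsq _ (mul_mem hc hc'))
  have hZbase : D.base Z₂ ≤ D.sub Q T := by
    refine le_trans ?_ le_sup_right
    rintro _ ⟨z, hz, rfl⟩
    exact ⟨z, fun i hi => hZQ (hz i hi), rfl⟩
  have hEdec : ∀ x ∈ D.base Z₂ ⊔ C, ∃ y ∈ D.base Z₂, ∃ c ∈ C, x = y * c :=
    mem_sup_comm _ C (fun c hc y hy => hCH c hc y (hZbase hy))
  -- the sub normalizes base Z₂
  have hnormZ : ∀ h ∈ D.sub Q T, ∀ y ∈ D.base Z₂, h * y * h⁻¹ ∈ D.base Z₂ := by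
    intro h hh y hy
    obtain ⟨g, hg, σ, hσ, rfl⟩ := D.mem_sub_decomp Q T hh
    obtain ⟨z, hz, rfl⟩ := hy
    have h1 : D.Φ g * D.Ψ σ * D.Φ z * (D.Φ g * D.Ψ σ)⁻¹ =
        D.Φ g * (D.Ψ σ * D.Φ z * (D.Ψ σ)⁻¹) * (D.Φ g)⁻¹ := by group
    rw [h1, D.conj, ← map_inv, ← map_mul, ← map_mul]
    refine ⟨_, ?_, rfl⟩
    intro i _
    show g i * z (σ⁻¹ i) * (g i)⁻¹ ∈ Z₂
    have hzi : z (σ⁻¹ i) ∈ Z₂ := hz _ (Set.mem_univ _)
    rw [← hZc _ hzi _ (hg i), mul_inv_cancel_right]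
    exact hzi
  refine ⟨D.base Z₂ ⊔ C, sup_le (hZbase.trans le_sup_left) le_sup_right, ?_, ?_, ?_, ?_⟩
  · intro p hp x hx
    obtain ⟨h, hh, c', hc', rfl⟩ := mem_sup_comm _ C hCH p hp
    obtain ⟨y, hy, c, hc, rfl⟩ := hEdec x hx
    have h1 : c' * (y * c) = (y * c) * c' := by
      rw [← mul_assoc, hCH c' hc' y (hZbase hy), mul_assoc, hCC c' hc' c hc, mul_assoc]
    have h3 : c * h⁻¹ = h⁻¹ * c := hCH c hc _ (inv_mem hh)
    have : h * c' * (y * c) * (h * c')⁻¹ = (h * y * h⁻¹) * c := by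
      calc h * c' * (y * c) * (h * c')⁻¹ = h * (c' * (y * c)) * c'⁻¹ * h⁻¹ := by group
        _ = h * ((y * c) * c') * c'⁻¹ * h⁻¹ := by rw [h1]
        _ = h * y * (c * h⁻¹) := by group
        _ = h * y * (h⁻¹ * c) := by rw [h3]
        _ = (h * y * h⁻¹) * c := by group
    rw [this]
    exact mul_mem (Subgroup.mem_sup_left (hnormZ h hh y hy)) (Subgroup.mem_sup_right hc)
  · intro x hx x' hx'
    obtain ⟨y, hy, c, hc, rfl⟩ := hEdec x hx
    obtain ⟨y', hy', c', hc', rfl⟩ := hEdec x' hx'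
    have hyy' : y * y' = y' * y := by
      obtain ⟨z, hz, rfl⟩ := hy
      obtain ⟨z', hz', rfl⟩ := hy'
      rw [← map_mul, ← map_mul]
      congr 1
      funext i
      exact hZc _ (hz i (Set.mem_univ i)) _ (hZQ (hz' i (Set.mem_univ i)))
    have h1 : c * y' = y' * c := hCH c hc y' (hZbase hy')
    have h3 : c' * y = y * c' := hCH c' hc' y (hZbase hy)
    calc y * c * (y' * c') = y * (c * y') * c' := by group
      _ = y * (y' * c) * c' := by rw [h1]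
      _ = (y * y') * (c * c') := by group
      _ = (y' * y) * (c' * c) := by rw [hyy', hCC c hc c' hc']
      _ = y' * (y * c') * c := by group
      _ = y' * (c' * y) * c := by rw [h3]
      _ = y' * c' * (y * c) := by group
  · intro x hx
    obtain ⟨y, hy, c, hc, rfl⟩ := hEdec x hx
    have h1 : c * y = y * c := hCH c hc y (hZbase hy)
    have hyy : y * y = 1 := by
      obtain ⟨z, hz, rfl⟩ := hy
      rw [← map_mul]
      have : z * z = 1 := by
        funext i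
        exact hZsq _ (hz i (Set.mem_univ i))
      rw [this, map_one]
    calc y * c * (y * c) = y * (c * y) * c := by group
      _ = y * (y * c) * c := by rw [h1]
      _ = (y * y) * (c * c) := by group
      _ = 1 := by rw [hyy, hCsq c hc, one_mul]
  · let J : (Fin k → ↥Z₂) × ↥C → ↥(D.base Z₂ ⊔ C) := fun x =>
      ⟨D.Φ (fun i => (x.1 i : A)) * (x.2 : G),
        mul_mem (Subgroup.mem_sup_left ⟨_, fun i _ => (x.1 i).2, rfl⟩)
          (Subgroup.mem_sup_right x.2.2)⟩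
    have hJ : Function.Injective J := by
      rintro ⟨z, c⟩ ⟨z', c'⟩ hx
      have h1 : D.Φ (fun i => (z i : A)) * (c : G) = D.Φ (fun i => (z' i : A)) * (c' : G) :=
        congrArg Subtype.val hx
      have h3 : (D.Φ (fun i => (z' i : A)))⁻¹ * D.Φ (fun i => (z i : A)) = (c' : G) * (c : G)⁻¹ := by
        rw [inv_mul_eq_iff_eq_mul, ← mul_assoc, ← h1, mul_inv_cancel_right]
      have h4 : (D.Φ (fun i => (z' i : A)))⁻¹ * D.Φ (fun i => (z i : A)) ∈ D.sub Q T ⊓ C := by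
        refine Subgroup.mem_inf.2 ⟨?_, ?_⟩
        · exact Subgroup.mul_mem _ (Subgroup.inv_mem _ (hZbase ⟨_, fun i _ => (z' i).2, rfl⟩))
            (hZbase ⟨_, fun i _ => (z i).2, rfl⟩)
        · rw [h3]
          exact Subgroup.mul_mem _ c'.2 (Subgroup.inv_mem _ c.2)
      rw [hdisj, Subgroup.mem_bot] at h4
      have h5 : D.Φ (fun i => (z i : A)) = D.Φ (fun i => (z' i : A)) := by
        rw [inv_mul_eq_one] at h4
        exact h4.symm
      have h6 := D.inj h5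
      have hz : z = z' := by
        funext i
        exact Subtype.ext (congrFun h6 i)
      subst hz
      have hc : (c : G) = (c' : G) := mul_left_cancel h1
      rw [Subtype.ext hc]
    have h1 := Nat.card_le_card_of_injective J hJ
    rwa [Nat.card_prod, Nat.card_fun, Nat.card_fin] at h1

theorem nrt_wr [Finite A] [Finite G] (Q : Subgroup A) (T : Subgroup (Perm (Fin k)))
    (C : Subgroup G) {l : ℕ}
    (hCΦ : ∀ c ∈ C, ∀ g, Commute c (D.Φ g)) (hCΨ : ∀ c ∈ C, ∀ σ, Commute c (D.Ψ σ))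
    (hCsq : ∀ c ∈ C, c * c = 1) (hdisj : D.sub Q T ⊓ C = ⊥) (hCcard : Nat.card ↥C = 2 ^ l)
    (hQ1 : ∃ β ∈ Q, β * β ≠ 1)
    (hQ2 : ∀ N : Subgroup A, N ≤ Q → (∀ β ∈ Q, ∀ x ∈ N, β * x * β⁻¹ ∈ N) →
      (∀ x ∈ N, x * x = 1) → Nat.card ↥N ≤ 2)
    (Z₂ : Subgroup A) (hZQ : Z₂ ≤ Q) (hZc : ∀ z ∈ Z₂, ∀ β ∈ Q, z * β = β * z)
    (hZsq : ∀ z ∈ Z₂, z * z = 1) (hZcard : Nat.card ↥Z₂ = 2) :
    NRT (k + l) ↥(D.sub Q T ⊔ C) := by
  apply nrt_of_subgroup
  · obtain ⟨E, h1, h2, h3, h4, h5⟩ := exists_normal_elem D Q T C hCΦ hCΨ hCsq hdisj Z₂ hZQ hZc hZsq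
    refine ⟨E, h1, h2, h3, h4, ?_⟩
    rw [hZcard, hCcard, ← pow_add] at h5
    exact h5
  · intro E hE hnorm hsq
    have := card_le_of_normal D Q T C hCΦ hCΨ hCsq hQ1 hQ2 E hE hnorm hsq
    rwa [hCcard, ← pow_add] at this

end Cfsg.Agent.Lib.H9.Nrk
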