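import Mathlib
import Cfsg.Prelude.Def_CaseTheorems

set_option autoImplicit false

/-!
# Invariant subgroups of exponent 2 in quasi-dihedral groups and in cyclic groups

In a quasi-dihedral group a normal subgroup of exponent 2 has order at most 2
(`qd_normal_exp2`), and some element has non-trivial square (`qd_exists_sq_ne`).
-/

namespace Cfsg.Agent.Lib.H9.Nrk

theorem card_le_two_of_subset_pair {S : Type*} [Group S] (N : Subgroup S) (z : S)
    (h : ∀ a ∈ N, a = 1 ∨ a = z) : Nat.card ↥N ≤ 2 := by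
  have h1 : (N : Set S) ⊆ {1, z} := by
    intro a ha
    rcases h a ha with h | h
    · left; exact h
    · right; exact h
  have h2 : Nat.card ↥N = (N : Set S).ncard := Nat.card_coe_set_eq _
  rw [h2]
  calc (N : Set S).ncard ≤ ({1, z} : Set S).ncard := Set.ncard_le_ncard h1 (Set.toFinite _)
    _ ≤ ({z} : Set S).ncard + 1 := Set.ncard_insert_le _ _
    _ = 2 := by rw [Set.ncard_singleton]

/-- in a cyclic group generated by `x` of order `2 ^ n`, an element of `zpowers x` with trivial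
square is `1` or `x ^ 2 ^ (n - 1)` -/
theorem eq_one_or_of_sq {S : Type*} [Group S] (x : S) (n : ℕ) (hn : 1 ≤ n)
    (hx : orderOf x = 2 ^ n) (a : S) (ha : a ∈ Subgroup.zpowers x) (hsq : a * a = 1) :
    a = 1 ∨ a = x ^ 2 ^ (n - 1) := by
  obtain ⟨i, rfl⟩ := Subgroup.mem_zpowers_iff.1 ha
  rw [← zpow_add, ← two_mul] at hsq
  have h1 := (orderOf_dvd_iff_zpow_eq_one).2 hsq
  rw [hx] at h1
  have hpow : (2 : ℤ) ^ n = 2 * 2 ^ (n - 1) := by
    have : n = (n - 1) + 1 := by omega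
    conv_lhs => rw [this, pow_succ]
    ring
  have h3 : ((2 : ℤ) ^ (n - 1)) ∣ i := by
    have h4 : ((2 : ℤ) * 2 ^ (n - 1)) ∣ 2 * i := by
      rw [← hpow]
      exact_mod_cast h1
    exact (mul_dvd_mul_iff_left (by norm_num : (2 : ℤ) ≠ 0)).1 h4
  obtain ⟨t, rfl⟩ := h3
  have hz2 : (x ^ 2 ^ (n - 1)) ^ (2 : ℤ) = 1 := by
    rw [← zpow_natCast, ← zpow_mul]
    have : ((2 ^ (n - 1) : ℕ) : ℤ) * 2 = ((2 ^ n : ℕ) : ℤ) := by
      push_cast
      rw [hpow]; ring
    rw [this, zpow_natCast, ← hx, pow_orderOf_eq_one]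
  have hxt : x ^ ((2 : ℤ) ^ (n - 1) * t) = (x ^ 2 ^ (n - 1)) ^ t := by
    rw [← zpow_natCast, ← zpow_mul]
    push_cast
    rfl
  rw [hxt]
  rcases Int.even_or_odd' t with ⟨s, rfl | rfl⟩
  · left
    rw [zpow_mul, hz2, one_zpow]
  · right
    rw [zpow_add, zpow_mul, hz2, one_zpow, one_mul, zpow_one]

theorem qd_exists_sq_ne {S : Type*} [Group S] (h : Cfsg.IsQuasiDihedral S) :
    ∃ β : S, β * β ≠ 1 := by
  obtain ⟨n, hn, -, x, -, hx, -, -⟩ := h
  refine ⟨x, fun h1 => ?_⟩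
  have h3 := orderOf_dvd_of_pow_eq_one (show x ^ 2 = 1 by rw [pow_two, h1])
  rw [hx] at h3
  have h4 : (2 : ℕ) ^ 3 ≤ 2 ^ n := Nat.pow_le_pow_right (by norm_num) hn
  have := Nat.le_of_dvd (by norm_num) h3
  omega

theorem qd_normal_exp2 {S : Type*} [Group S] [Finite S] (h : Cfsg.IsQuasiDihedral S)
    (N : Subgroup S) (hN : N.Normal) (hsq : ∀ a ∈ N, a * a = 1) : Nat.card ↥N ≤ 2 := by
  obtain ⟨n, hn, hcard, x, y, hx, hy, hxy⟩ := h
  have hpow3 : (2 : ℕ) ^ 3 ≤ 2 ^ n := Nat.pow_le_pow_right (by norm_num) hn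
  have hpow : 2 ^ n = 2 * 2 ^ (n - 1) := by
    have : n = (n - 1) + 1 := by omega
    conv_lhs => rw [this, pow_succ]
    ring
  have hpow' : (4 : ℕ) ≤ 2 ^ (n - 1) := by omega
  -- index two
  have hidx : (Subgroup.zpowers x).index = 2 := by
    have h1 := Subgroup.card_mul_index (Subgroup.zpowers x)
    rw [Nat.card_zpowers, hx, hcard, pow_succ] at h1
    exact Nat.eq_of_mul_eq_mul_left (by positivity) h1
  -- y is not a power of x
  have hynot : y ∉ Subgroup.zpowers x := by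
    intro hmem
    obtain ⟨j, hj⟩ := Subgroup.mem_zpowers_iff.1 hmem
    have hcomm : y * x * y⁻¹ = x := by
      rw [← hj]
      group
    rw [hxy] at hcomm
    have h1 : x ^ (2 ^ (n - 1) - 2) = 1 := by
      have h2 : x ^ (2 ^ (n - 1) - 1) = x ^ (2 ^ (n - 1) - 2) * x := by
        rw [← pow_succ]
        congr 1
        omega
      rw [h2] at hcomm
      exact mul_eq_right.1 hcomm
    have h3 := orderOf_dvd_of_pow_eq_one h1
    rw [hx] at h3
    have := Nat.le_of_dvd (by omega) h3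
    omega
  -- N lies in the cyclic subgroup
  have hNle : ∀ a ∈ N, a ∈ Subgroup.zpowers x := by
    intro a ha
    by_contra hnot
    have h1 : y⁻¹ * a ∈ Subgroup.zpowers x := by
      rw [Subgroup.mul_mem_iff_of_index_two hidx, inv_mem_iff]
      exact ⟨fun h => absurd h hynot, fun h => absurd h hnot⟩
    obtain ⟨i, hi⟩ := Subgroup.mem_zpowers_iff.1 h1
    have ha' : a = y * x ^ i := by
      rw [hi, mul_inv_cancel_left]
    have hconj : a * x * a⁻¹ = x ^ (2 ^ (n - 1) - 1) := by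
      rw [ha', ← hxy]
      have : y * x ^ i * x * (y * x ^ i)⁻¹ = y * (x ^ i * x * (x ^ i)⁻¹) * y⁻¹ := by group
      rw [this]
      have : x ^ i * x * (x ^ i)⁻¹ = x := by
        rw [← zpow_add_one, ← zpow_neg, ← zpow_add]
        simp
      rw [this]
    have hw : a * x * a⁻¹ * x⁻¹ ∈ N := by
      have h3 : x * a⁻¹ * x⁻¹ ∈ N := hN.conj_mem _ (inv_mem ha) x
      have : a * x * a⁻¹ * x⁻¹ = a * (x * a⁻¹ * x⁻¹) := by group
      rw [this]
      exact mul_mem ha h3
    rw [hconj] at hw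
    have hw2 : x ^ (2 ^ (n - 1) - 1) * x⁻¹ = x ^ (2 ^ (n - 1) - 2) := by
      have h2 : x ^ (2 ^ (n - 1) - 1) = x ^ (2 ^ (n - 1) - 2) * x := by
        rw [← pow_succ]
        congr 1
        omega
      rw [h2, mul_inv_cancel_right]
    rw [hw2] at hw
    have h5 := hsq _ hw
    rw [← pow_add] at h5
    have h6 := orderOf_dvd_of_pow_eq_one h5
    rw [hx] at h6
    have := Nat.le_of_dvd (by omega) h6
    omega
  apply card_le_two_of_subset_pair N (x ^ 2 ^ (n - 1))
  intro a ha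
  exact eq_one_or_of_sq x n (by omega) hx a (hNle a ha) (hsq a ha)

end Cfsg.Agent.Lib.H9.Nrk
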