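import Mathlib
import Cfsg.Agent.Lib.H9.NrkB
import Cfsg.Agent.Lib.H9.NrkC
import Cfsg.Agent.Lib.H9.SqCommC
import Cfsg.Agent.Lib.H9.SqCommF
import Cfsg.Agent.Lib.H9.SqCommH
import Cfsg.Agent.Lib.H9.SylSymC
import Cfsg.Agent.Lib.H9.OmSylD

set_option autoImplicit false

/-!
# Normal 2-rank of Sylow 2-subgroups of `GL_n(q)`, `q ≡ 1 (mod 4)`

The monomial wreath data `monWr F n : WrData Fˣ (GL (Fin n) F) n` and the theorem
`nrt_gl_one`: every Sylow 2-subgroup `S` of `GL (Fin n) F` satisfies `NRT n ↥S`.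
-/

namespace Cfsg.Agent.Lib.H9.Nrk

open Matrix Equiv Cfsg.Agent.Lib.H9.SqC Cfsg.Agent.Lib.H9.SylSym Cfsg.Agent.Lib.H9.OmSyl

section mon

variable {F : Type*} [Field F] {n : ℕ}

/-- diagonal matrices -/
def mPhi : (Fin n → Fˣ) →* GL (Fin n) F :=
  MonoidHom.toHomUnits
    { toFun := fun z => diagonal fun i => ((z i : Fˣ) : F)
      map_one' := by
        simp only [Pi.one_apply, Units.val_one]
        exact diagonal_one
      map_mul' := fun z z' => by
        rw [diagonal_mul_diagonal]
        congr 1 }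

theorem mPhi_val (z : Fin n → Fˣ) :
    ((mPhi z : GL (Fin n) F) : Matrix (Fin n) (Fin n) F) = diagonal fun i => ((z i : Fˣ) : F) :=
  rfl

/-- permutation matrices -/
def mPsi : Perm (Fin n) →* GL (Fin n) F :=
  MonoidHom.toHomUnits
    { toFun := fun σ => pM σ
      map_one' := pM_one
      map_mul' := pM_mul }

theorem mPsi_val (σ : Perm (Fin n)) :
    ((mPsi σ : GL (Fin n) F) : Matrix (Fin n) (Fin n) F) = pM σ := rfl

/-- the monomial wreath product data -/
def monWr (F : Type*) [Field F] (n : ℕ) : WrData Fˣ (GL (Fin n) F) n where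
  Φ := mPhi
  Ψ := mPsi
  inj := by
    intro z z' h
    have h1 := congrArg Units.val h
    rw [mPhi_val, mPhi_val] at h1
    have h3 := diagonal_injective h1
    funext i
    exact Units.ext (congrFun h3 i)
  conj := by
    intro σ z
    have h1 : mPsi σ * mPhi z = mPhi (fun i => z (σ⁻¹ i)) * mPsi (F := F) σ := by
      apply Units.ext
      rw [Units.val_mul, Units.val_mul, mPsi_val, mPhi_val, mPhi_val, pM_mul_diagonal]
    rw [h1, mul_assoc, mul_inv_cancel, mul_one]
  disj := by
    intro z σ h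
    have h1 := congrArg Units.val h
    rw [mPhi_val, mPsi_val] at h1
    ext j
    by_contra hne
    have h3 := congrFun (congrFun h1 (σ j)) j
    rw [pM_apply, if_pos rfl, diagonal_apply, if_neg] at h3
    · exact zero_ne_one h3
    · intro h4
      apply hne
      rw [h4]
      simp

end mon

section arith

theorem v2_pow_sub_one_mod_four (q : ℕ) (hq : Odd q) (hq1 : 1 < q) (h4 : q % 4 = 1) (j : ℕ)
    (hj : j ≠ 0) : padicValNat 2 (q ^ j - 1) = padicValNat 2 (q - 1) + padicValNat 2 j := by
  have hA2 : padicValNat 2 (q + 1) = 1 := padicValNat_two_of_mod_four (by omega)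
  rcases Nat.even_or_odd' j with ⟨i, rfl | rfl⟩
  · have hi : i ≠ 0 := by omega
    rw [v2_pow_sub_one_even q hq hq1 i hi, hA2, padicValNat.mul (by norm_num) hi, padicValNat_self]
    ring
  · rw [v2_pow_sub_one_odd q hq hq1 _ ⟨i, rfl⟩]
    have : padicValNat 2 (2 * i + 1) = 0 := padicValNat.eq_zero_of_not_dvd (by omega)
    rw [this, add_zero]

variable {F : Type*} [Field F] [Fintype F]

theorem v2_card_GL_mod_four (hq : Odd (Fintype.card F)) (h4 : Fintype.card F % 4 = 1) (n : ℕ) :
    padicValNat 2 (Nat.card (GL (Fin n) F)) =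
      n * padicValNat 2 (Fintype.card F - 1) + padicValNat 2 n.factorial := by
  have hq1 : 1 < Fintype.card F := Fintype.one_lt_card
  rw [v2_card_GL hq]
  induction n with
  | zero => simp
  | succ n ih =>
    rw [Finset.sum_range_succ, ih, v2_pow_sub_one_mod_four _ hq hq1 h4 (n + 1) (by omega),
      Nat.factorial_succ, padicValNat.mul (by omega) (Nat.factorial_ne_zero n)]
    ring

end arith

section main

variable {F : Type*} [Field F] [Fintype F]

theorem units_exp2 (N : Subgroup Fˣ) (hsq : ∀ x ∈ N, x * x = 1) : Nat.card ↥N ≤ 2 := by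
  apply card_le_two_of_subset_pair N (-1)
  intro a ha
  have h1 := congrArg Units.val (hsq a ha)
  rw [Units.val_mul, Units.val_one] at h1
  have h3 : ((a : F) - 1) * ((a : F) + 1) = 0 := by linear_combination h1
  rcases mul_eq_zero.1 h3 with h | h
  · left
    apply Units.ext
    rw [Units.val_one]
    linear_combination h
  · right
    apply Units.ext
    rw [Units.val_neg, Units.val_one]
    linear_combination h

theorem zpowers_neg_one_card {M : Type*} [Group M] [HasDistribNeg M] (h : (-1 : M) ≠ 1) :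
    Nat.card ↥(Subgroup.zpowers (-1 : M)) = 2 := by
  rw [Nat.card_zpowers]
  exact orderOf_eq_prime (by simp) h

theorem zpowers_neg_one_sq {M : Type*} [Group M] [HasDistribNeg M] (z : M)
    (hz : z ∈ Subgroup.zpowers (-1 : M)) : z * z = 1 := by
  obtain ⟨i, rfl⟩ := Subgroup.mem_zpowers_iff.1 hz
  rw [← _root_.zpow_add, ← two_mul, _root_.zpow_mul]
  simp

/-- every Sylow 2-subgroup of `GL_n(q)`, `q ≡ 1 (mod 4)`, has normal 2-rank `n` -/
theorem nrt_gl_one (hq : Odd (Fintype.card F)) (h4 : Fintype.card F % 4 = 1) (n : ℕ)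
    (S : Sylow 2 (GL (Fin n) F)) : NRT n ↥(S : Subgroup (GL (Fin n) F)) := by
  have h2 := two_ne_zero_of_odd_card hq
  have hne : (-1 : Fˣ) ≠ 1 := neg_one_units_ne_one h2
  let Z : Sylow 2 Fˣ := default
  obtain ⟨T, -, -⟩ := exists_sylow_genIn (p := 2) n
  have hTcard : Nat.card ↥(T : Subgroup (Perm (Fin n))) = 2 ^ padicValNat 2 n.factorial := by
    rw [card_sylow_perm, Nat.factorization_def _ Nat.prime_two]
  have hZcard := card_units_sylow Z
  have hA1 : 2 ≤ padicValNat 2 (Fintype.card F - 1) := by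
    have h1 : (Fintype.card F - 1) ≠ 0 := by
      have : 1 < Fintype.card F := Fintype.one_lt_card
      omega
    exact (padicValNat_dvd_iff_le h1).1 (by
      have : Fintype.card F - 1 = 4 * (Fintype.card F / 4) := by omega
      rw [this]
      exact Dvd.intro _ rfl)
  -- an element of Z with non-trivial square
  have hQ1 : ∃ β ∈ (Z : Subgroup Fˣ), β * β ≠ 1 := by
    obtain ⟨ζ, hζ⟩ := exists_units_sylow_generator Z
    refine ⟨ζ, by rw [← hζ]; exact Subgroup.mem_zpowers _, fun h1 => ?_⟩
    have h3 := orderOf_dvd_of_pow_eq_one (show ζ ^ 2 = 1 by rw [pow_two, h1])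
    rw [← Nat.card_zpowers, hζ, hZcard] at h3
    have h5 : (2 : ℕ) ^ 2 ≤ 2 ^ padicValNat 2 (Fintype.card F - 1) :=
      Nat.pow_le_pow_right (by norm_num) hA1
    have := Nat.le_of_dvd (by norm_num) h3
    omega
  have hZ2le : Subgroup.zpowers (-1 : Fˣ) ≤ (Z : Subgroup Fˣ) := by
    apply units_two_subgroup_le
    apply IsPGroup.of_card (n := 1)
    rw [zpowers_neg_one_card hne, pow_one]
  set D := monWr F n with hD
  have hnrt : NRT (n + 0) ↥(D.sub (Z : Subgroup Fˣ) (T : Subgroup (Perm (Fin n))) ⊔ ⊥) := by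
    apply nrt_wr D _ _ ⊥ (l := 0)
    · intro c hc g
      rw [Subgroup.mem_bot] at hc
      rw [hc]
      exact Commute.one_left _
    · intro c hc σ
      rw [Subgroup.mem_bot] at hc
      rw [hc]
      exact Commute.one_left _
    · intro c hc
      rw [Subgroup.mem_bot] at hc
      rw [hc, one_mul]
    · exact inf_bot_eq _
    · rw [Subgroup.card_bot, pow_zero]
    · exact hQ1
    · intro N _ _ hsq
      exact units_exp2 N hsq
    · exact hZ2le
    · intro z _ β _
      exact mul_comm _ _
    · exact zpowers_neg_one_sq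
    · exact zpowers_neg_one_card hne
  rw [sup_bot_eq, add_zero] at hnrt
  -- the explicit subgroup is a Sylow 2-subgroup
  have hP : IsPGroup 2 ↥(D.sub (Z : Subgroup Fˣ) (T : Subgroup (Perm (Fin n)))) :=
    D.sub_isPGroup _ _ Z.isPGroup' T.isPGroup'
  have hcard : 2 ^ padicValNat 2 (Nat.card (GL (Fin n) F)) ≤
      Nat.card ↥(D.sub (Z : Subgroup Fˣ) (T : Subgroup (Perm (Fin n)))) := by
    refine le_trans ?_ (D.sub_card_le _ _)
    rw [v2_card_GL_mod_four hq h4, hZcard, hTcard, ← pow_mul, ← pow_add, mul_comm]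
  obtain ⟨e⟩ := sylow_equiv_of_card_le (MonoidHom.id (GL (Fin n) F)) Function.injective_id _ hP
    (by rw [MonoidHom.range_eq_top.2 Function.surjective_id]; exact le_top) hcard S
  exact hnrt.of_equiv e.symm

end main

end Cfsg.Agent.Lib.H9.Nrk
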