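import Mathlib
import Cfsg.Agent.Lib.H9.NrkD
import Cfsg.Agent.Lib.H9.OmSylG
import Cfsg.Agent.Lib.H9.OmSylJ
import Cfsg.Agent.Lib.H6.GL2Syl
import Cfsg.Agent.Lib.H11.IsoReindex

set_option autoImplicit false

/-!
# Normal 2-rank of Sylow 2-subgroups of `GL_n(q)`, `q ≡ 3 (mod 4)`

`nrt_gl_three`: every Sylow 2-subgroup `S` of `GL (Fin (2 * m + l)) F`, `l ≤ 1`, satisfies
`NRT (m + l) ↥S`.
-/

namespace Cfsg.Agent.Lib.H9.Nrk

open Matrix Equiv Cfsg.Agent.Lib.H9.SqC Cfsg.Agent.Lib.H9.SylSym Cfsg.Agent.Lib.H9.OmSyl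

theorem card_mul_le_card_sup {G : Type*} [Group G] [Finite G] (H C : Subgroup G)
    (hdisj : H ⊓ C = ⊥) : Nat.card ↥H * Nat.card ↥C ≤ Nat.card ↥(H ⊔ C) := by
  let J : ↥H × ↥C → ↥(H ⊔ C) := fun x =>
    ⟨(x.1 : G) * (x.2 : G), Subgroup.mul_mem _ (Subgroup.mem_sup_left x.1.2)
      (Subgroup.mem_sup_right x.2.2)⟩
  have hJ : Function.Injective J := by
    rintro ⟨h, c⟩ ⟨h', c'⟩ hx
    have h1 : (h : G) * (c : G) = (h' : G) * (c' : G) := congrArg Subtype.val hx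
    have h3 : (h' : G)⁻¹ * (h : G) = (c' : G) * (c : G)⁻¹ := by
      rw [inv_mul_eq_iff_eq_mul, ← mul_assoc, ← h1, mul_inv_cancel_right]
    have h4 : (h' : G)⁻¹ * (h : G) ∈ H ⊓ C := by
      refine Subgroup.mem_inf.2 ⟨Subgroup.mul_mem _ (Subgroup.inv_mem _ h'.2) h.2, ?_⟩
      rw [h3]
      exact Subgroup.mul_mem _ c'.2 (Subgroup.inv_mem _ c.2)
    rw [hdisj, Subgroup.mem_bot, inv_mul_eq_one] at h4
    have hh : h = h' := Subtype.ext h4.symm
    subst hh
    have hc : (c : G) = (c' : G) := mul_left_cancel h1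
    rw [Subtype.ext hc]
  have h1 := Nat.card_le_card_of_injective J hJ
  rwa [Nat.card_prod] at h1

theorem central_le_sylow {G : Type*} [Group G] [Finite G] {p : ℕ} [Fact p.Prime] (P : Sylow p G)
    (Z : Subgroup G) (hZ : IsPGroup p ↥Z) (hc : ∀ z ∈ Z, ∀ g : G, z * g = g * z) :
    Z ≤ (P : Subgroup G) := by
  obtain ⟨P', hP'⟩ := hZ.exists_le_sylow
  obtain ⟨g, hg⟩ := MulAction.exists_smul_eq G P' P
  intro z hz
  have h1 : z ∈ ((g • P' : Sylow p G) : Subgroup G) := by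
    rw [Sylow.coe_subgroup_smul, Subgroup.mem_smul_pointwise_iff_exists]
    refine ⟨z, hP' hz, ?_⟩
    rw [MulAut.smul_def, MulAut.conj_apply, ← hc z hz g, mul_inv_cancel_right]
  rwa [hg] at h1

section main

variable {F : Type*} [Field F] [Fintype F]

theorem neg_one_gl_ne_one (h2 : (2 : F) ≠ 0) : (-1 : GL (Fin 2) F) ≠ 1 := by
  intro h
  have h0 : ((-1 : GL (Fin 2) F) : Matrix (Fin 2) (Fin 2) F) = 1 := by rw [h, Units.val_one]
  rw [Units.val_neg, Units.val_one] at h0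
  have h1 : (-1 : Matrix (Fin 2) (Fin 2) F) 0 0 = (1 : Matrix (Fin 2) (Fin 2) F) 0 0 := by
    rw [h0]
  rw [Matrix.neg_apply, Matrix.one_apply_eq] at h1
  apply h2
  linear_combination -h1

/-- every Sylow 2-subgroup of `GL_n(q)`, `q ≡ 3 (mod 4)`, `n = 2m + l`, `l ≤ 1`, has normal
2-rank `m + l` -/
theorem nrt_gl_three (hq : Odd (Fintype.card F)) (h4 : Fintype.card F % 4 = 3) (m l : ℕ)
    (hl : l ≤ 1) (S : Sylow 2 (GL (Fin (2 * m + l)) F)) :
    NRT (m + l) ↥(S : Subgroup (GL (Fin (2 * m + l)) F)) := by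
  have h2 := two_ne_zero_of_odd_card hq
  have hq1 : 1 < Fintype.card F := Fintype.one_lt_card
  have hne : (-1 : GL (Fin 2) F) ≠ 1 := neg_one_gl_ne_one h2
  let SD : Sylow 2 (GL (Fin 2) F) := default
  have hqd := Cfsg.Agent.Lib.H6.GL2Syl.qd_case SD h4
  obtain ⟨T, -, -⟩ := exists_sylow_genIn (p := 2) m
  have hTcard : Nat.card ↥(T : Subgroup (Perm (Fin m))) = 2 ^ padicValNat 2 m.factorial := by
    rw [card_sylow_perm, Nat.factorization_def _ Nat.prime_two]
  have hSDcard : Nat.card ↥(SD : Subgroup (GL (Fin 2) F)) =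
      2 ^ (2 * padicValNat 2 (Fintype.card F - 1) + padicValNat 2 (Fintype.card F + 1)) := by
    rw [Sylow.card_eq_multiplicity, Nat.factorization_def _ Nat.prime_two, v2_card_GL2 hq]
  have hA1 : padicValNat 2 (Fintype.card F - 1) = 1 := padicValNat_two_of_mod_four (by omega)
  set D := D0 F m l with hD
  set C : Subgroup (GL (Idx m l) F) := (E2 (F := F) (k := m) (l := l)).range with hC
  have hCΦ : ∀ c ∈ C, ∀ g, Commute c (D.Φ g) := by
    rintro _ ⟨ε, rfl⟩ g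
    exact (E1_E2_commute _ _).symm
  have hCΨ : ∀ c ∈ C, ∀ σ, Commute c (D.Ψ σ) := by
    rintro _ ⟨ε, rfl⟩ σ
    exact (E1_E2_commute _ _).symm
  have hCsq : ∀ c ∈ C, c * c = 1 := by
    rintro _ ⟨ε, rfl⟩
    rw [← map_mul]
    have : ε * ε = 1 := by
      funext j
      rw [Pi.mul_apply, Int.units_mul_self, Pi.one_apply]
    rw [this, map_one]
  have hsubval : ∀ w ∈ D.sub (SD : Subgroup (GL (Fin 2) F)) (T : Subgroup (Perm (Fin m))),
      ∃ g : GL (Pl m) F, w = E1 g := by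
    intro w hw
    obtain ⟨g, -, σ, -, rfl⟩ := D.mem_sub_decomp _ _ hw
    exact ⟨gPhi g * gPsi σ, by rw [hD, D0_Φ, D0_Ψ, map_mul]⟩
  have hdisj : D.sub (SD : Subgroup (GL (Fin 2) F)) (T : Subgroup (Perm (Fin m))) ⊓ C = ⊥ := by
    rw [eq_bot_iff]
    rintro w ⟨hw1, ⟨ε, hε⟩⟩
    obtain ⟨g, rfl⟩ := hsubval w hw1
    have := (E1_eq_E2 h2 hε.symm).1
    rw [Subgroup.mem_bot, this, map_one]
  have hCcard : Nat.card ↥C = 2 ^ l := by
    rw [hC, ← Nat.card_congr (MonoidHom.ofInjective (E2_injective (F := F) (k := m) (l := l) h2)).toEquiv,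
      card_signs]
  have hnrt : NRT (m + l)
      ↥(D.sub (SD : Subgroup (GL (Fin 2) F)) (T : Subgroup (Perm (Fin m))) ⊔ C) := by
    apply nrt_wr D _ _ C hCΦ hCΨ hCsq hdisj hCcard
    · obtain ⟨β, hβ⟩ := qd_exists_sq_ne hqd
      refine ⟨β.1, β.2, fun h => hβ ?_⟩
      apply Subtype.ext
      rw [Subgroup.coe_mul, h, Subgroup.coe_one]
    · intro N hle hnorm hsq
      have h1 := qd_normal_exp2 hqd (N.subgroupOf (SD : Subgroup (GL (Fin 2) F))) ⟨?_⟩ ?_
      · rwa [Nat.card_congr (Subgroup.subgroupOfEquivOfLe hle).toEquiv] at h1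
      · intro x hx p
        rw [Subgroup.mem_subgroupOf] at hx ⊢
        rw [Subgroup.coe_mul, Subgroup.coe_mul, Subgroup.coe_inv]
        exact hnorm p.1 p.2 x.1 hx
      · intro a ha
        rw [Subgroup.mem_subgroupOf] at ha
        apply Subtype.ext
        rw [Subgroup.coe_mul, Subgroup.coe_one]
        exact hsq a.1 ha
    · apply central_le_sylow SD
      · apply IsPGroup.of_card (n := 1)
        rw [zpowers_neg_one_card hne, pow_one]
      · intro z hz g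
        obtain ⟨i, rfl⟩ := Subgroup.mem_zpowers_iff.1 hz
        exact ((Commute.neg_one_left g).zpow_left i).eq
    · intro z hz β _
      obtain ⟨i, rfl⟩ := Subgroup.mem_zpowers_iff.1 hz
      exact ((Commute.neg_one_left β).zpow_left i).eq
    · exact zpowers_neg_one_sq
    · exact zpowers_neg_one_card hne
  -- the explicit subgroup is a 2-group of the right order
  have hH : IsPGroup 2 ↥(D.sub (SD : Subgroup (GL (Fin 2) F)) (T : Subgroup (Perm (Fin m)))) :=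
    D.sub_isPGroup _ _ SD.isPGroup' T.isPGroup'
  have hCp : IsPGroup 2 ↥C := IsPGroup.of_card hCcard
  have hP : IsPGroup 2
      ↥(D.sub (SD : Subgroup (GL (Fin 2) F)) (T : Subgroup (Perm (Fin m))) ⊔ C) := by
    apply IsPGroup.to_sup_of_normal_right' hH hCp
    refine le_trans ?_ (Subgroup.centralizer_le_normalizer _)
    intro h hh
    rw [Subgroup.mem_centralizer_iff]
    intro c hc
    obtain ⟨g, rfl⟩ := hsubval h hh
    obtain ⟨ε, rfl⟩ := hc
    exact ((E1_E2_commute g ε).symm).eq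
  let e : Fin (2 * m + l) ≃ Idx m l :=
    (Fintype.equivFinOfCardEq (card_Idx m l)).symm
  let Θ : GL (Fin (2 * m + l)) F ≃* GL (Idx m l) F := Cfsg.Agent.Lib.H11.IsoReindex.glReindex e
  have hv2 : padicValNat 2 (Nat.card (GL (Fin (2 * m + l)) F)) =
      m * (2 * padicValNat 2 (Fintype.card F - 1) + padicValNat 2 (Fintype.card F + 1)) +
        padicValNat 2 m.factorial + l := by
    have h0 := (v2_card_GL (F := F) hq (2 * m)).symm.trans (v2_card_GL_even hq m)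
    rw [v2_card_GL hq]
    rcases Nat.le_one_iff_eq_zero_or_eq_one.1 hl with rfl | rfl
    · rw [add_zero, add_zero, h0]
    · rw [Finset.sum_range_succ, h0, v2_pow_sub_one_odd _ hq hq1 (2 * m + 1) ⟨m, rfl⟩, hA1]
  have hcard : 2 ^ padicValNat 2 (Nat.card (GL (Fin (2 * m + l)) F)) ≤
      Nat.card ↥(D.sub (SD : Subgroup (GL (Fin 2) F)) (T : Subgroup (Perm (Fin m))) ⊔ C) := by
    refine le_trans ?_ (card_mul_le_card_sup _ C hdisj)
    refine le_trans ?_ (Nat.mul_le_mul_right _ (D.sub_card_le _ _))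
    rw [hv2, hSDcard, hTcard, hCcard, ← pow_mul, ← pow_add, ← pow_add, mul_comm m]
  obtain ⟨e'⟩ := sylow_equiv_of_card_le Θ.toMonoidHom Θ.injective _ hP
    (fun x _ => ⟨Θ.symm x, Θ.apply_symm_apply x⟩) hcard S
  exact hnrt.of_equiv e'.symm

end main

end Cfsg.Agent.Lib.H9.Nrk
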