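import Mathlib
import Cfsg.Agent.Lib.H9.G2OctA
import Cfsg.Agent.Lib.H9.SqCommH
import Cfsg.Agent.Lib.H9.NrkE

set_option autoImplicit false

/-!
# A Sylow 2-subgroup of `G₂(q)` for `q ≡ 1 (mod 4)`

The group `(Z × Z) ⋊ ⟨w, τ⟩` where `Z` is the Sylow 2-subgroup of `Fˣ` acting diagonally (inside the
subgroup `SL₃(F)`), `w` a monomial element of `SL₃(F)` and `τ` the swap automorphism.
-/

namespace Cfsg.Agent.Lib.H9.G2Oct

open Cfsg.Lie Matrix Cfsg.Agent.Lib.H9.SqC

variable {F : Type*} [Field F]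

/-- the diagonal automorphism with parameters `a`, `b` -/
def diagF (a b : F) (x : Fin 8 → F) : Fin 8 → F :=
  ![x 0, a * x 1, b * x 2, (a * b)⁻¹ * x 3, a⁻¹ * x 4, b⁻¹ * x 5, (a * b) * x 6, x 7]

theorem diagF_diagF {a b : F} (ha : a ≠ 0) (hb : b ≠ 0) (x : Fin 8 → F) :
    diagF a⁻¹ b⁻¹ (diagF a b x) = x := by
  apply ext8 <;> simp [diagF] <;> field_simp

/-- the diagonal automorphism as a linear equivalence -/
def dL (u v : Fˣ) : (Fin 8 → F) ≃ₗ[F] (Fin 8 → F) :=
  mkLin (diagF (u : F) (v : F)) (diagF (u : F)⁻¹ (v : F)⁻¹)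
    (by intro x y; apply ext8 <;> simp [diagF] <;> ring)
    (by intro k x; apply ext8 <;> simp [diagF] <;> ring)
    (diagF_diagF u.ne_zero v.ne_zero)
    (by
      intro x
      have := diagF_diagF (inv_ne_zero u.ne_zero) (inv_ne_zero v.ne_zero) x
      rwa [inv_inv, inv_inv] at this)

theorem dL_apply (u v : Fˣ) (x : Fin 8 → F) : dL u v x = diagF (u : F) (v : F) x := rfl

theorem dL_mem (u v : Fˣ) : dL u v ∈ AutO F := by
  intro x y
  rw [dL_apply, dL_apply, dL_apply]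
  have hu := u.ne_zero
  have hv := v.ne_zero
  apply ext8 <;>
  simp [zornMul_0, zornMul_1, zornMul_2, zornMul_3, zornMul_4, zornMul_5, zornMul_6, zornMul_7,
    diagF] <;> field_simp <;> ring

/-- the diagonal torus -/
def dHom (F : Type*) [Field F] : Fˣ × Fˣ →* ((Fin 8 → F) ≃ₗ[F] (Fin 8 → F)) :=
  MonoidHom.mk' (fun p => dL p.1 p.2) (by
    intro p r
    apply LinearEquiv.ext
    intro x
    show diagF _ _ x = diagF _ _ (diagF _ _ x)
    have h1 := p.1.ne_zero
    have h2 := p.2.ne_zero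
    have h3 := r.1.ne_zero
    have h4 := r.2.ne_zero
    apply ext8 <;> simp [diagF] <;> field_simp)

theorem dHom_apply (p : Fˣ × Fˣ) (x : Fin 8 → F) :
    dHom F p x = diagF (p.1 : F) (p.2 : F) x := rfl

theorem dHom_mem (p : Fˣ × Fˣ) : dHom F p ∈ AutO F := dL_mem p.1 p.2

theorem dHom_injective : Function.Injective (dHom F) := by
  rw [injective_iff_map_eq_one]
  intro p hp
  have h1 := congrArg (fun f : (Fin 8 → F) ≃ₗ[F] (Fin 8 → F) => f (Pi.single 1 1) 1) hp
  have h2 := congrArg (fun f : (Fin 8 → F) ≃ₗ[F] (Fin 8 → F) => f (Pi.single 2 1) 2) hp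
  simp only [dHom_apply, diagF] at h1 h2
  simp at h1 h2
  exact Prod.ext h1 h2

/-- the monomial element -/
def wFun (x : Fin 8 → F) : Fin 8 → F := ![x 0, x 2, x 1, -x 3, x 5, x 4, -x 6, x 7]

theorem wFun_wFun (x : Fin 8 → F) : wFun (wFun x) = x := by
  apply ext8 <;> simp [wFun]

/-- the monomial element as a linear equivalence -/
def wL (F : Type*) [Field F] : (Fin 8 → F) ≃ₗ[F] (Fin 8 → F) :=
  mkLin wFun wFun
    (by intro x y; apply ext8 <;> simp [wFun] <;> ring)
    (by intro c x; apply ext8 <;> simp [wFun])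
    wFun_wFun wFun_wFun

theorem wL_apply (x : Fin 8 → F) : wL F x = wFun x := rfl

theorem wL_mem : wL F ∈ AutO F := by
  intro x y
  rw [wL_apply, wL_apply, wL_apply]
  apply ext8 <;>
  simp [zornMul_0, zornMul_1, zornMul_2, zornMul_3, zornMul_4, zornMul_5, zornMul_6, zornMul_7,
    wFun] <;> ring

theorem wL_mul_self : wL F * wL F = 1 := by
  ext x i
  show wFun (wFun x) i = x i
  rw [wFun_wFun]

theorem wL_inv : (wL F)⁻¹ = wL F := inv_eq_of_mul_eq_one_right wL_mul_self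

theorem tauL_inv : (tauL F)⁻¹ = tauL F := inv_eq_of_mul_eq_one_right tauL_mul_self

theorem wL_conj (p : Fˣ × Fˣ) : wL F * dHom F p * (wL F)⁻¹ = dHom F p.swap := by
  rw [wL_inv]
  apply LinearEquiv.ext
  intro x
  show wFun (diagF _ _ (wFun x)) = diagF _ _ x
  have h1 := p.1.ne_zero
  have h2 := p.2.ne_zero
  apply ext8 <;> simp [diagF, wFun] <;> (try field_simp) <;> (try simp)

theorem tauL_conj (p : Fˣ × Fˣ) : tauL F * dHom F p * (tauL F)⁻¹ = dHom F p⁻¹ := by
  rw [tauL_inv]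
  apply LinearEquiv.ext
  intro x
  show tauFun (diagF _ _ (tauFun x)) = diagF _ _ x
  have h1 := p.1.ne_zero
  have h2 := p.2.ne_zero
  apply ext8 <;> simp [diagF, tauFun] <;> (try field_simp) <;> (try simp)

theorem tauL_wL : tauL F * wL F = wL F * tauL F := by
  apply LinearEquiv.ext
  intro x
  show tauFun (wFun x) = wFun (tauFun x)
  apply ext8 <;> simp [tauFun, wFun]

/-- elements fixing the coordinates `0` -/
def fixZero (F : Type*) [Field F] : Subgroup ((Fin 8 → F) ≃ₗ[F] (Fin 8 → F)) where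
  carrier := {f | ∀ x, f x 0 = x 0}
  mul_mem' {f g} hf hg := by
    intro x
    show f (g x) 0 = x 0
    rw [hf, hg]
  one_mem' := fun x => rfl
  inv_mem' {f} hf := by
    intro x
    show f.symm x 0 = x 0
    have := hf (f.symm x)
    rw [LinearEquiv.apply_symm_apply] at this
    exact this.symm

theorem zpowers_invol {G : Type*} [Group G] {g : G} (h2 : g * g = 1) {x : G}
    (hx : x ∈ Subgroup.zpowers g) : x = 1 ∨ x = g := by
  obtain ⟨k, rfl⟩ := Subgroup.mem_zpowers_iff.1 hx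
  have hk : g ^ k = g ^ (k % 2) := by
    conv_lhs => rw [← Int.emod_add_mul_ediv k 2]
    rw [_root_.zpow_add, _root_.zpow_mul, zpow_two, h2, _root_.one_zpow, mul_one]
  rw [hk]
  rcases Int.emod_two_eq_zero_or_one k with h | h
  · left
    rw [h, zpow_zero]
  · right
    rw [h, zpow_one]

theorem zpowers_invol_inf {G : Type*} [Group G] {g : G} (h2 : g * g = 1) {H : Subgroup G}
    (hg : g ∉ H) : H ⊓ Subgroup.zpowers g = ⊥ := by
  rw [eq_bot_iff]
  rintro x ⟨hx1, hx2⟩
  rcases zpowers_invol h2 hx2 with h | h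
  · rw [Subgroup.mem_bot]
    exact h
  · rw [h] at hx1
    exact absurd hx1 hg

theorem card_zpowers_invol {G : Type*} [Group G] {g : G} (h2 : g * g = 1) (h1 : g ≠ 1) :
    Nat.card ↥(Subgroup.zpowers g) = 2 := by
  rw [Nat.card_zpowers]
  apply orderOf_eq_prime
  · rw [pow_two, h2]
  · exact h1

section main

variable [Fintype F]

/-- the diagonal part -/
def H1 (Z : Subgroup Fˣ) : Subgroup ((Fin 8 → F) ≃ₗ[F] (Fin 8 → F)) := (Z.prod Z).map (dHom F)

/-- `H1` extended by `w` -/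
def P1 (Z : Subgroup Fˣ) : Subgroup ((Fin 8 → F) ≃ₗ[F] (Fin 8 → F)) :=
  Subgroup.zpowers (wL F) ⊔ H1 Z

/-- `P1` extended by `τ` -/
def P2 (Z : Subgroup Fˣ) : Subgroup ((Fin 8 → F) ≃ₗ[F] (Fin 8 → F)) :=
  Subgroup.zpowers (tauL F) ⊔ P1 Z

variable (Z : Subgroup Fˣ)

omit [Fintype F] in
theorem card_H1 : Nat.card ↥(H1 (F := F) Z) = Nat.card ↥Z * Nat.card ↥Z := by
  rw [H1, Subgroup.card_map_of_injective dHom_injective,
    Nat.card_congr (Subgroup.prodEquiv Z Z).toEquiv, Nat.card_prod]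

omit [Fintype F] in
theorem H1_le_fixZero : H1 (F := F) Z ≤ fixZero F := by
  rintro _ ⟨p, -, rfl⟩ x
  rw [dHom_apply]
  simp [diagF]

theorem P1_le_fixZero : P1 (F := F) Z ≤ fixZero F := by
  apply sup_le
  · rw [Subgroup.zpowers_le]
    intro x
    rw [wL_apply]
    simp [wFun]
  · exact H1_le_fixZero Z

theorem tauL_not_mem_P1 (h2 : (2 : F) ≠ 0) : tauL F ∉ P1 (F := F) Z := by
  intro h
  have h1 := P1_le_fixZero Z h (![1, 0, 0, 0, 0, 0, 0, -1])
  rw [tauL_apply] at h1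
  simp [tauFun] at h1
  apply h2
  linear_combination -h1

omit [Fintype F] in
theorem wL_not_mem_H1 : wL F ∉ H1 (F := F) Z := by
  rintro ⟨p, -, hp⟩
  have h1 := congrArg (fun f : (Fin 8 → F) ≃ₗ[F] (Fin 8 → F) => f (Pi.single 1 1) 2) hp
  simp only [dHom_apply, diagF, wL_apply, wFun] at h1
  simp at h1

theorem wL_mem_normalizer : wL F ∈ Subgroup.normalizer (H1 (F := F) Z : Set _) := by
  apply Subgroup.mem_normalizer_fintype
  rintro _ ⟨p, hp, rfl⟩
  rw [wL_conj]
  exact ⟨p.swap, ⟨hp.2, hp.1⟩, rfl⟩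

theorem tauL_mem_normalizer_H1 : tauL F ∈ Subgroup.normalizer (H1 (F := F) Z : Set _) := by
  apply Subgroup.mem_normalizer_fintype
  rintro _ ⟨p, hp, rfl⟩
  rw [tauL_conj]
  exact ⟨p⁻¹, Subgroup.inv_mem _ hp, rfl⟩

theorem tauL_mem_normalizer_P1 : tauL F ∈ Subgroup.normalizer (P1 (F := F) Z : Set _) := by
  have h1 : P1 (F := F) Z ≤ (P1 (F := F) Z).comap (MulAut.conj (tauL F)).toMonoidHom := by
    apply sup_le
    · rw [Subgroup.zpowers_le, Subgroup.mem_comap]
      show tauL F * wL F * (tauL F)⁻¹ ∈ _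
      rw [tauL_wL, mul_assoc, mul_inv_cancel, mul_one]
      exact Subgroup.mem_sup_left (Subgroup.mem_zpowers _)
    · intro h hh
      rw [Subgroup.mem_comap]
      show tauL F * h * (tauL F)⁻¹ ∈ _
      have := (tauL_mem_normalizer_H1 Z h).1 hh
      exact Subgroup.mem_sup_right this
  apply Subgroup.mem_normalizer_fintype
  intro n hn
  exact h1 hn

theorem P1_isPGroup (hZ : IsPGroup 2 ↥Z) : IsPGroup 2 ↥(P1 (F := F) Z) := by
  apply IsPGroup.to_sup_of_normal_right'
  · apply IsPGroup.of_card (n := 1)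
    rw [pow_one]
    apply card_zpowers_invol wL_mul_self
    intro h
    apply wL_not_mem_H1 (F := F) Z
    rw [h]
    exact Subgroup.one_mem _
  · apply IsPGroup.map
    obtain ⟨n, hn⟩ := hZ.exists_card_eq
    apply IsPGroup.of_card (n := 2 * n)
    rw [Nat.card_congr (Subgroup.prodEquiv Z Z).toEquiv, Nat.card_prod, hn]
    ring
  · rw [Subgroup.zpowers_le]
    exact wL_mem_normalizer Z

theorem P2_isPGroup (h2 : (2 : F) ≠ 0) (hZ : IsPGroup 2 ↥Z) : IsPGroup 2 ↥(P2 (F := F) Z) := by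
  apply IsPGroup.to_sup_of_normal_right' _ (P1_isPGroup Z hZ)
  · rw [Subgroup.zpowers_le]
    exact tauL_mem_normalizer_P1 Z
  · apply IsPGroup.of_card (n := 1)
    rw [pow_one]
    apply card_zpowers_invol tauL_mul_self
    intro h
    apply tauL_not_mem_P1 (F := F) Z h2
    rw [h]
    exact Subgroup.one_mem _

theorem card_P2 (h2 : (2 : F) ≠ 0) :
    Nat.card ↥Z * Nat.card ↥Z * 2 * 2 ≤ Nat.card ↥(P2 (F := F) Z) := by
  have hw1 : wL F ≠ 1 := by
    intro h
    apply wL_not_mem_H1 (F := F) Z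
    rw [h]
    exact Subgroup.one_mem _
  have ht1 : tauL F ≠ 1 := by
    intro h
    apply tauL_not_mem_P1 (F := F) Z h2
    rw [h]
    exact Subgroup.one_mem _
  have e1 := Cfsg.Agent.Lib.H9.Nrk.card_mul_le_card_sup (H1 (F := F) Z)
    (Subgroup.zpowers (wL F)) (zpowers_invol_inf wL_mul_self (wL_not_mem_H1 Z))
  have e2 := Cfsg.Agent.Lib.H9.Nrk.card_mul_le_card_sup (P1 (F := F) Z)
    (Subgroup.zpowers (tauL F)) (zpowers_invol_inf tauL_mul_self (tauL_not_mem_P1 Z h2))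
  rw [card_zpowers_invol wL_mul_self hw1, card_H1, sup_comm] at e1
  rw [card_zpowers_invol tauL_mul_self ht1, sup_comm] at e2
  calc Nat.card ↥Z * Nat.card ↥Z * 2 * 2 ≤ Nat.card ↥(P1 (F := F) Z) * 2 :=
        Nat.mul_le_mul_right 2 e1
    _ ≤ _ := e2

omit [Fintype F] in
theorem P2_le_AutO : P2 (F := F) Z ≤ AutO F := by
  apply sup_le
  · rw [Subgroup.zpowers_le]
    exact tauL_mem
  · apply sup_le
    · rw [Subgroup.zpowers_le]
      exact wL_mem
    · rintro _ ⟨p, -, rfl⟩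
      exact dHom_mem p

theorem P2_sqComm : SqComm (P2 (F := F) Z) := by
  have hcl : Subgroup.closure ({tauL F} ∪ ({wL F} ∪ (H1 (F := F) Z : Set _))) = P2 Z := by
    rw [Subgroup.closure_union, Subgroup.closure_union, Subgroup.closure_eq,
      ← Subgroup.zpowers_eq_closure, ← Subgroup.zpowers_eq_closure]
    rfl
  apply sqComm_of_closure _ hcl
  intro s hs
  rcases hs with hs | hs | hs
  · rw [Set.mem_singleton_iff] at hs
    rw [hs, pow_two, tauL_mul_self]
    exact Subgroup.one_mem _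
  · rw [Set.mem_singleton_iff] at hs
    rw [hs, pow_two, wL_mul_self]
    exact Subgroup.one_mem _
  · obtain ⟨p, hp, rfl⟩ := hs
    have ht : tauL F ∈ P2 (F := F) Z := Subgroup.mem_sup_left (Subgroup.mem_zpowers _)
    have hd : dHom F p ∈ P2 (F := F) Z :=
      Subgroup.mem_sup_right (Subgroup.mem_sup_right ⟨p, hp, rfl⟩)
    have hc := Subgroup.commutator_mem_commutator ht hd
    rw [commutatorElement_def, tauL_conj] at hc
    have : (dHom F p) ^ 2 = (dHom F p⁻¹ * (dHom F p)⁻¹)⁻¹ := by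
      rw [map_inv, _root_.mul_inv_rev, inv_inv]
      exact pow_two _
    rw [this]
    exact Subgroup.inv_mem _ hc

end main

end Cfsg.Agent.Lib.H9.G2Oct
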