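import Mathlib
import Cfsg.Agent.Lib.H9.G2OctA

set_option autoImplicit false

/-!
# Cayley–Dickson coordinates on the split octonions and the automorphisms from `GL₂ × GL₂`

* `cdE F : (Fin 8 → F) ≃ₗ[F] M2 F × M2 F`, `cdE_zornMul`
* `rhoHom F : GL₂(F) × GL₂(F) →* ((Fin 8 → F) ≃ₗ[F] (Fin 8 → F))`
* `rhoHom_mem : det p = det q → rhoHom F (p, q) ∈ AutO F`
* `rhoHom_eq_one`
-/

namespace Cfsg.Agent.Lib.H9.G2Oct
open Cfsg.Lie Matrix
variable {F : Type*} [Field F]

abbrev M2 (F : Type*) := Matrix (Fin 2) (Fin 2) F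

/-- the Cayley–Dickson coordinates -/
def cdE (F : Type*) [Field F] : (Fin 8 → F) ≃ₗ[F] (M2 F × M2 F) where
  toFun x := (!![x 0, x 1; x 4, x 7], !![x 2, x 6; x 3, -x 5])
  map_add' x y := by
    apply Prod.ext
    · ext i j; fin_cases i <;> fin_cases j <;> simp
    · ext i j; fin_cases i <;> fin_cases j <;> simp [neg_add, add_comm]
  map_smul' k x := by
    apply Prod.ext
    · ext i j; fin_cases i <;> fin_cases j <;> simp
    · ext i j; fin_cases i <;> fin_cases j <;> simp
  invFun z := ![z.1 0 0, z.1 0 1, z.2 0 0, z.2 1 0, z.1 1 0, -z.2 1 1, z.2 0 1, z.1 1 1]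
  left_inv x := by
    apply ext8 <;> simp
  right_inv z := by
    apply Prod.ext
    · ext i j; fin_cases i <;> fin_cases j <;> simp
    · ext i j; fin_cases i <;> fin_cases j <;> simp

theorem cdE_apply (x : Fin 8 → F) :
    cdE F x = (!![x 0, x 1; x 4, x 7], !![x 2, x 6; x 3, -x 5]) := rfl

/-- the Cayley–Dickson product -/
def starMul (z z' : M2 F × M2 F) : M2 F × M2 F :=
  (z.1 * z'.1 - adjugate z'.2 * z.2, z'.2 * z.1 + z.2 * adjugate z'.1)

theorem cdE_zornMul (x y : Fin 8 → F) : cdE F (zornMul x y) = starMul (cdE F x) (cdE F y) := by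
  rw [cdE_apply, cdE_apply, cdE_apply]
  apply Prod.ext
  · ext i j
    fin_cases i <;> fin_cases j <;>
    simp [starMul, zornMul_0, zornMul_1, zornMul_2, zornMul_3, zornMul_4, zornMul_5, zornMul_6,
      zornMul_7, Matrix.mul_apply, Fin.sum_univ_two, Matrix.adjugate_fin_two] <;> ring
  · ext i j
    fin_cases i <;> fin_cases j <;>
    simp [starMul, zornMul_0, zornMul_1, zornMul_2, zornMul_3, zornMul_4, zornMul_5, zornMul_6,
      zornMul_7, Matrix.mul_apply, Fin.sum_univ_two, Matrix.adjugate_fin_two] <;> ring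

theorem adj_of_mul_eq_one {P P' : M2 F} (h : P * P' = 1) : adjugate P = det P • P' := by
  have h1 := congrArg (· * P') (adjugate_mul P)
  simp only [Matrix.mul_assoc, h, Matrix.mul_one, Matrix.smul_mul, Matrix.one_mul] at h1
  exact h1

/-- the action of a pair of matrices -/
def psiFun (P P' Q : M2 F) (z : M2 F × M2 F) : M2 F × M2 F := (P * z.1 * P', Q * z.2 * P')

theorem psiFun_starMul {P P' Q : M2 F} (hPP' : P * P' = 1) (hP'P : P' * P = 1)
    (hdet : det Q = det P) (z z' : M2 F × M2 F) :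
    starMul (psiFun P P' Q z) (psiFun P P' Q z') = psiFun P P' Q (starMul z z') := by
  have hadjP' : adjugate P' = det P' • P := adj_of_mul_eq_one hP'P
  have hadjP : adjugate P = det P • P' := adj_of_mul_eq_one hPP'
  have hdd : det P' * det P = 1 := by rw [← det_mul, hP'P, det_one]
  apply Prod.ext
  · simp only [starMul, psiFun]
    rw [adjugate_mul_distrib, adjugate_mul_distrib, hadjP']
    have e1 : P * z.1 * P' * (P * z'.1 * P') = P * (z.1 * z'.1) * P' := by
      calc P * z.1 * P' * (P * z'.1 * P') = P * z.1 * (P' * P) * z'.1 * P' := by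
            simp only [Matrix.mul_assoc]
        _ = _ := by rw [hP'P]; simp only [Matrix.mul_assoc, Matrix.mul_one]
    have e2 : det P' • P * (adjugate z'.2 * adjugate Q) * (Q * z.2 * P') =
        P * (adjugate z'.2 * z.2) * P' := by
      calc det P' • P * (adjugate z'.2 * adjugate Q) * (Q * z.2 * P')
          = det P' • (P * adjugate z'.2 * (adjugate Q * Q) * z.2 * P') := by
            simp only [Matrix.mul_assoc, Matrix.smul_mul]
        _ = (det P' * det Q) • (P * adjugate z'.2 * z.2 * P') := by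
            rw [adjugate_mul]
            simp only [Matrix.mul_assoc, Matrix.smul_mul, Matrix.mul_smul, Matrix.one_mul,
              smul_smul]
        _ = _ := by rw [hdet, hdd, one_smul]; simp only [Matrix.mul_assoc]
    rw [e1, e2, Matrix.mul_sub, Matrix.sub_mul]
  · simp only [starMul, psiFun]
    rw [adjugate_mul_distrib, adjugate_mul_distrib, hadjP', hadjP]
    have e1 : Q * z'.2 * P' * (P * z.1 * P') = Q * (z'.2 * z.1) * P' := by
      calc Q * z'.2 * P' * (P * z.1 * P') = Q * z'.2 * (P' * P) * z.1 * P' := by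
            simp only [Matrix.mul_assoc]
        _ = _ := by rw [hP'P]; simp only [Matrix.mul_assoc, Matrix.mul_one]
    have e2 : Q * z.2 * P' * (det P' • P * (adjugate z'.1 * det P • P')) =
        Q * (z.2 * adjugate z'.1) * P' := by
      calc Q * z.2 * P' * (det P' • P * (adjugate z'.1 * det P • P'))
          = (det P' * det P) • (Q * z.2 * (P' * P) * adjugate z'.1 * P') := by
            simp only [Matrix.mul_assoc, Matrix.smul_mul, Matrix.mul_smul, smul_smul]
            rw [mul_comm]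
        _ = _ := by rw [hdd, one_smul, hP'P]; simp only [Matrix.mul_assoc, Matrix.mul_one]
    rw [e1, e2, Matrix.mul_add, Matrix.add_mul]

theorem psiFun_psiFun {P P' Q Q' : M2 F} (hP'P : P' * P = 1) (hQ'Q : Q' * Q = 1)
    (z : M2 F × M2 F) : psiFun P' P Q' (psiFun P P' Q z) = z := by
  apply Prod.ext
  · simp only [psiFun]
    calc P' * (P * z.1 * P') * P = (P' * P) * z.1 * (P' * P) := by simp only [Matrix.mul_assoc]
      _ = _ := by rw [hP'P, Matrix.one_mul, Matrix.mul_one]
  · simp only [psiFun]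
    calc Q' * (Q * z.2 * P') * P = (Q' * Q) * z.2 * (P' * P) := by simp only [Matrix.mul_assoc]
      _ = _ := by rw [hP'P, hQ'Q, Matrix.one_mul, Matrix.mul_one]

theorem gl_mul_inv (p : GL (Fin 2) F) : (p : M2 F) * ((p⁻¹ : GL (Fin 2) F) : M2 F) = 1 := by
  rw [← Units.val_mul, mul_inv_cancel, Units.val_one]

theorem gl_inv_mul (p : GL (Fin 2) F) : ((p⁻¹ : GL (Fin 2) F) : M2 F) * (p : M2 F) = 1 := by
  rw [← Units.val_mul, inv_mul_cancel, Units.val_one]

/-- the linear automorphism of `M₂ × M₂` given by a pair of invertible matrices -/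
def psiL (p q : GL (Fin 2) F) : (M2 F × M2 F) ≃ₗ[F] (M2 F × M2 F) where
  toFun z := psiFun (p : M2 F) ((p⁻¹ : GL (Fin 2) F) : M2 F) (q : M2 F) z
  map_add' x y := by
    simp only [psiFun, Prod.fst_add, Prod.snd_add, Matrix.mul_add, Matrix.add_mul, Prod.mk_add_mk]
  map_smul' k x := by
    simp only [psiFun, Prod.smul_fst, Prod.smul_snd, Matrix.mul_smul, Matrix.smul_mul,
      Prod.smul_mk, RingHom.id_apply]
  invFun z := psiFun ((p⁻¹ : GL (Fin 2) F) : M2 F) (p : M2 F) ((q⁻¹ : GL (Fin 2) F) : M2 F) z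
  left_inv z := psiFun_psiFun (gl_inv_mul p) (gl_inv_mul q) z
  right_inv z := psiFun_psiFun (gl_mul_inv p) (gl_mul_inv q) z

theorem psiL_apply (p q : GL (Fin 2) F) (z : M2 F × M2 F) :
    psiL p q z = ((p : M2 F) * z.1 * ((p⁻¹ : GL (Fin 2) F) : M2 F),
      (q : M2 F) * z.2 * ((p⁻¹ : GL (Fin 2) F) : M2 F)) := rfl

/-- the linear automorphism of `F⁸` given by a pair of invertible matrices -/
def rhoL (p q : GL (Fin 2) F) : (Fin 8 → F) ≃ₗ[F] (Fin 8 → F) :=
  (cdE F).trans ((psiL p q).trans (cdE F).symm)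

theorem rhoL_apply (p q : GL (Fin 2) F) (x : Fin 8 → F) :
    rhoL p q x = (cdE F).symm (psiL p q (cdE F x)) := rfl

theorem cdE_rhoL (p q : GL (Fin 2) F) (x : Fin 8 → F) :
    cdE F (rhoL p q x) = psiL p q (cdE F x) := by
  rw [rhoL_apply, LinearEquiv.apply_symm_apply]

theorem rhoL_mem {p q : GL (Fin 2) F} (h : det (q : M2 F) = det (p : M2 F)) :
    rhoL p q ∈ AutO F := by
  rw [mem_AutO]
  intro x y
  apply (cdE F).injective
  rw [cdE_zornMul, cdE_rhoL, cdE_rhoL, cdE_rhoL, cdE_zornMul]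
  exact (psiFun_starMul (gl_mul_inv p) (gl_inv_mul p) h _ _).symm

/-- the homomorphism `GL₂ × GL₂ → GL(F⁸)` -/
def rhoHom (F : Type*) [Field F] :
    GL (Fin 2) F × GL (Fin 2) F →* ((Fin 8 → F) ≃ₗ[F] (Fin 8 → F)) where
  toFun pq := rhoL pq.1 pq.2
  map_one' := by
    apply LinearEquiv.ext
    intro x
    apply (cdE F).injective
    rw [cdE_rhoL, psiL_apply]
    simp
  map_mul' a b := by
    apply LinearEquiv.ext
    intro x
    apply (cdE F).injective
    rw [LinearEquiv.mul_apply, cdE_rhoL, cdE_rhoL, cdE_rhoL, psiL_apply, psiL_apply, psiL_apply]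
    simp only [Prod.fst_mul, Prod.snd_mul, _root_.mul_inv_rev, Units.val_mul, Matrix.mul_assoc]

theorem rhoHom_apply (p q : GL (Fin 2) F) : rhoHom F (p, q) = rhoL p q := rfl

theorem rhoHom_eq_one {p q : GL (Fin 2) F} (h : rhoHom F (p, q) = 1) :
    q = p ∧ ∃ c : F, (p : M2 F) = Matrix.scalar (Fin 2) c := by
  have hz : ∀ z, psiL p q z = z := by
    intro z
    have h1 := congrArg (fun f => f ((cdE F).symm z)) h
    simp only [rhoHom_apply, LinearEquiv.coe_one, id_eq] at h1
    have h2 := congrArg (cdE F) h1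
    rwa [cdE_rhoL, LinearEquiv.apply_symm_apply] at h2
  have hcomm : ∀ a : M2 F, (p : M2 F) * a = a * (p : M2 F) := by
    intro a
    have h1 := congrArg Prod.fst (hz (a, 0))
    rw [psiL_apply] at h1
    simp only at h1
    have h2 := congrArg (· * (p : M2 F)) h1
    simp only [Matrix.mul_assoc, gl_inv_mul, Matrix.mul_one] at h2
    exact h2
  have hq : q = p := by
    have h1 := congrArg Prod.snd (hz (0, 1))
    rw [psiL_apply] at h1
    simp only [Matrix.mul_one] at h1
    have h2 := congrArg (· * (p : M2 F)) h1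
    simp only [Matrix.mul_assoc, gl_inv_mul, Matrix.mul_one, Matrix.one_mul] at h2
    exact Units.ext h2
  refine ⟨hq, ?_⟩
  have h3 : (p : M2 F) ∈ Set.range (Matrix.scalar (Fin 2)) := by
    rw [mem_range_scalar_iff_commute_single']
    intro i j
    exact (hcomm _).symm
  obtain ⟨c, hc⟩ := h3
  exact ⟨c, hc.symm⟩

end Cfsg.Agent.Lib.H9.G2Oct
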