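import Mathlib
import Cfsg.Agent.Lib.H9.SqCommA
import Cfsg.Agent.Lib.H9.SqCommE
import Cfsg.Agent.Lib.H9.SqCommF
import Cfsg.Agent.Lib.H9.SylSymC
import Cfsg.Agent.Lib.H6.GL2Syl

/-!
# Sylow 2-subgroups of `GL2(q)` and `SL(2m+1,q)`, `q ≡ 3 mod 4`: squares are commutators
-/

set_option autoImplicit false

namespace Cfsg.Agent.Lib.H9.SqC

open Matrix Equiv
open scoped commutatorElement

theorem sqComm_of_subtype_top {G : Type*} [Group G] {H : Subgroup G}
    (h : SqComm (⊤ : Subgroup ↥H)) : SqComm H := by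
  have h1 := h.map H.subtype
  rwa [← MonoidHom.range_eq_map, Subgroup.range_subtype] at h1

variable {F : Type*} [Field F] [Fintype F]

/-- Sylow 2-subgroups of `GL2(q)`, `q ≡ 3 mod 4`, have elementary abelian abelianisation. -/
theorem sylow_gl2_sqComm (h3 : Fintype.card F % 4 = 3) (P : Sylow 2 (GL (Fin 2) F)) :
    SqComm (P : Subgroup (GL (Fin 2) F)) :=
  sqComm_of_subtype_top
    (sqComm_top_of_quasiDihedral (Cfsg.Agent.Lib.H6.GL2Syl.qd_case P h3))

/-- Sylow 2-subgroups of `SL(2m+1, q)`, `q ≡ 3 mod 4`. -/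
theorem sylow_sl_odd_sqComm (h3 : Fintype.card F % 4 = 3) (m : ℕ)
    (P : Sylow 2 (SpecialLinearGroup (Fin (2 * m + 1)) F)) :
    SqComm (P : Subgroup (SpecialLinearGroup (Fin (2 * m + 1)) F)) := by
  have hq : Odd (Fintype.card F) := by rw [Nat.odd_iff]; omega
  let SD : Sylow 2 (GL (Fin 2) F) := default
  have hSD := sylow_gl2_sqComm h3 SD
  obtain ⟨S, hS, -⟩ := Cfsg.Agent.Lib.H9.SylSym.exists_sylow_genIn (p := 2) m
  have hcardN : Fintype.card ((Fin m ⊕ Fin m) ⊕ Unit) = 2 * m + 1 := by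
    simp; ring
  let e : (Fin m ⊕ Fin m) ⊕ Unit ≃ Fin (2 * m + 1) := Fintype.equivFinOfCardEq hcardN
  let D : WrData (GL (Fin 2) F) (SpecialLinearGroup (Fin (2 * m + 1)) F) m :=
    (glWr F m).comp ((slReindex e).comp (glToSl (Fin m ⊕ Fin m)))
      ((slReindex_injective e).comp (glToSl_injective _))
  have hP0 := D.sub_isPGroup (SD : Subgroup (GL (Fin 2) F)) (S : Subgroup (Perm (Fin m)))
    SD.isPGroup' S.isPGroup'
  have hcard := D.sub_card_le (SD : Subgroup (GL (Fin 2) F)) (S : Subgroup (Perm (Fin m)))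
  have hsq := D.sub_sqComm (SD : Subgroup (GL (Fin 2) F)) (S : Subgroup (Perm (Fin m))) hSD
    (genIn_two_sqComm hS)
  set P0 := D.sub (SD : Subgroup (GL (Fin 2) F)) (S : Subgroup (Perm (Fin m))) with hP0def
  obtain ⟨P1, hP1⟩ := hP0.exists_le_sylow
  have hSDcard : Nat.card ↥(SD : Subgroup (GL (Fin 2) F)) =
      2 ^ (2 * padicValNat 2 (Fintype.card F - 1) + padicValNat 2 (Fintype.card F + 1)) := by
    rw [Sylow.card_eq_multiplicity, Nat.factorization_def _ Nat.prime_two, v2_card_GL2 hq]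
  have hScard : Nat.card ↥(S : Subgroup (Perm (Fin m))) = 2 ^ padicValNat 2 m.factorial := by
    rw [Cfsg.Agent.Lib.H9.SylSym.card_sylow_perm, Nat.factorization_def _ Nat.prime_two]
  have hP1card : Nat.card ↥(P1 : Subgroup (SpecialLinearGroup (Fin (2 * m + 1)) F)) ≤
      Nat.card ↥P0 := by
    rw [Sylow.card_eq_multiplicity, Nat.factorization_def _ Nat.prime_two, v2_card_SL_odd hq,
      v2_card_GL_even hq]
    refine le_trans (le_of_eq ?_) hcard
    rw [hScard, hSDcard, ← pow_mul, ← pow_add]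
    congr 1
    ring
  have heq : P0 = (P1 : Subgroup (SpecialLinearGroup (Fin (2 * m + 1)) F)) :=
    Subgroup.eq_of_le_of_card_ge hP1 hP1card
  rw [heq] at hsq
  exact sqComm_of_mulEquiv (Sylow.equiv P1 P) hsq

end Cfsg.Agent.Lib.H9.SqC
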