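import Mathlib
import Cfsg.Agent.Lib.H9.G2OctG
import Cfsg.Agent.Lib.H9.SqCommG
import Cfsg.Agent.Lib.H9.SqCommH
import Cfsg.Agent.Lib.H9.NrkC

set_option autoImplicit false

/-!
# A large 2-subgroup of the automorphisms of the split octonions, `q ≡ 3 mod 4`

The image `P3 S` of `{(p, q) ∈ S × S | det p = det q}` under `rhoHom`, for `S` a Sylow
2-subgroup of `GL₂(q)`.
-/

namespace Cfsg.Agent.Lib.H9.G2Oct
open Cfsg.Lie Matrix Cfsg.Agent.Lib.H9.SqC
open scoped commutatorElement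
variable {F : Type*} [Field F] [Fintype F]

theorem elt_pm_one (h3 : Fintype.card F % 4 = 3) (c : F) (k : ℕ) (hc : c ^ (2 ^ k) = 1) :
    c = 1 ∨ c = -1 := by
  have hc0 : c ≠ 0 := by
    rintro rfl
    rw [zero_pow (by positivity)] at hc
    exact zero_ne_one hc
  set u : Fˣ := Units.mk0 c hc0 with hu
  have hu1 : u ^ (2 ^ k) = 1 := by
    apply Units.ext
    rw [Units.val_pow_eq_pow_val, Units.val_one, hu, Units.val_mk0, hc]
  have h1 : orderOf u ∣ 2 ^ k := orderOf_dvd_of_pow_eq_one hu1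
  have h2 : orderOf u ∣ Fintype.card F - 1 := by
    have h := orderOf_dvd_natCard u
    rwa [Nat.card_units, Nat.card_eq_fintype_card] at h
  obtain ⟨j, hj, hoj⟩ := (Nat.dvd_prime_pow Nat.prime_two).1 h1
  have hj1 : j ≤ 1 := by
    by_contra hcon
    push Not at hcon
    have h4 : 4 ∣ Fintype.card F - 1 := by
      refine dvd_trans ?_ h2
      rw [hoj]
      exact pow_dvd_pow 2 hcon
    omega
  have h5 : u ^ 2 = 1 := by
    apply orderOf_dvd_iff_pow_eq_one.1
    rw [hoj]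
    exact pow_dvd_pow 2 hj1
  have h6 : c ^ 2 = 1 := by
    have := congrArg Units.val h5
    rwa [Units.val_pow_eq_pow_val, Units.val_one, hu, Units.val_mk0] at this
  exact sq_eq_one_iff.1 h6

theorem unit_pm_one (h3 : Fintype.card F % 4 = 3) (u : Fˣ) (k : ℕ) (hu : u ^ (2 ^ k) = 1) :
    u = 1 ∨ u = -1 := by
  have h1 : (u : F) ^ (2 ^ k) = 1 := by
    rw [← Units.val_pow_eq_pow_val, hu, Units.val_one]
  rcases elt_pm_one h3 (u : F) k h1 with h | h
  · left; exact Units.ext h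
  · right; apply Units.ext; rw [h, Units.val_neg, Units.val_one]

variable (S : Sylow 2 (GL (Fin 2) F))

theorem det_pm_one (h3 : Fintype.card F % 4 = 3) {s : GL (Fin 2) F}
    (hs : s ∈ (S : Subgroup (GL (Fin 2) F))) :
    Matrix.GeneralLinearGroup.det s = 1 ∨ Matrix.GeneralLinearGroup.det s = -1 := by
  obtain ⟨k, hk⟩ := S.isPGroup' ⟨s, hs⟩
  have hk' : s ^ (2 ^ k) = 1 := by
    have := congrArg (fun z : ↥(S : Subgroup (GL (Fin 2) F)) => z.1) hk
    simpa using this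
  apply unit_pm_one h3 _ k
  rw [← map_pow, hk', map_one]

/-- the ratio of determinants -/
def detRatio (F : Type*) [Field F] : GL (Fin 2) F × GL (Fin 2) F →* Fˣ :=
  MonoidHom.mk' (fun pq => Matrix.GeneralLinearGroup.det pq.1 *
    (Matrix.GeneralLinearGroup.det pq.2)⁻¹) (by
    intro a b
    simp only [Prod.fst_mul, Prod.snd_mul, map_mul, mul_inv]
    exact mul_mul_mul_comm _ _ _ _)

theorem detRatio_apply (p q : GL (Fin 2) F) : detRatio F (p, q) =
    Matrix.GeneralLinearGroup.det p * (Matrix.GeneralLinearGroup.det q)⁻¹ := rfl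

/-- the pairs in `S × S` with equal determinants -/
def St : Subgroup (GL (Fin 2) F × GL (Fin 2) F) :=
  ((S : Subgroup (GL (Fin 2) F)).prod (S : Subgroup (GL (Fin 2) F))) ⊓ (detRatio F).ker

theorem mem_St {p q : GL (Fin 2) F} : (p, q) ∈ St S ↔ p ∈ (S : Subgroup (GL (Fin 2) F)) ∧
    q ∈ (S : Subgroup (GL (Fin 2) F)) ∧
    Matrix.GeneralLinearGroup.det p = Matrix.GeneralLinearGroup.det q := by
  rw [St, Subgroup.mem_inf, Subgroup.mem_prod, MonoidHom.mem_ker, detRatio_apply,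
    mul_inv_eq_one, and_assoc]

theorem prod_commutator {A B : Type*} [Group A] [Group B] (a c : A) (b d : B) :
    ⁅((a, b) : A × B), (c, d)⁆ = (⁅a, c⁆, ⁅b, d⁆) := by
  simp only [commutatorElement_def, Prod.mk_mul_mk, Prod.inv_mk]

theorem det_cases (h3 : Fintype.card F % 4 = 3) {s1 s2 : GL (Fin 2) F}
    (h1 : s1 ∈ (S : Subgroup (GL (Fin 2) F))) (h2 : s2 ∈ (S : Subgroup (GL (Fin 2) F))) :
    Matrix.GeneralLinearGroup.det s1 = 1 ∨ Matrix.GeneralLinearGroup.det s2 = 1 ∨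
      Matrix.GeneralLinearGroup.det s1 = Matrix.GeneralLinearGroup.det s2 := by
  rcases det_pm_one S h3 h1 with h | h
  · left; exact h
  · rcases det_pm_one S h3 h2 with h' | h'
    · right; left; exact h'
    · right; right; rw [h, h']

theorem inl_comm_mem (h3 : Fintype.card F % 4 = 3) {c : GL (Fin 2) F}
    (hc : c ∈ ⁅(S : Subgroup (GL (Fin 2) F)), (S : Subgroup (GL (Fin 2) F))⁆) :
    (c, (1 : GL (Fin 2) F)) ∈ ⁅St S, St S⁆ := by
  have h : ⁅(S : Subgroup (GL (Fin 2) F)), (S : Subgroup (GL (Fin 2) F))⁆ ≤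
      (⁅St S, St S⁆).comap (MonoidHom.inl (GL (Fin 2) F) (GL (Fin 2) F)) := by
    rw [Subgroup.commutator_le]
    intro s1 h1 s2 h2
    rw [Subgroup.mem_comap, MonoidHom.inl_apply]
    rcases det_cases S h3 h1 h2 with h | h | h
    · have e : ((⁅s1, s2⁆, 1) : GL (Fin 2) F × GL (Fin 2) F) = ⁅((s1, 1) : GL (Fin 2) F × GL (Fin 2) F), (s2, s2)⁆ := by
        rw [prod_commutator, commutatorElement_one_left]
      rw [e]
      apply Subgroup.commutator_mem_commutator
      · rw [mem_St]; exact ⟨h1, Subgroup.one_mem _, by rw [h, map_one]⟩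
      · rw [mem_St]; exact ⟨h2, h2, rfl⟩
    · have e : ((⁅s1, s2⁆, 1) : GL (Fin 2) F × GL (Fin 2) F) = ⁅((s1, s1) : GL (Fin 2) F × GL (Fin 2) F), (s2, 1)⁆ := by
        rw [prod_commutator, commutatorElement_one_right]
      rw [e]
      apply Subgroup.commutator_mem_commutator
      · rw [mem_St]; exact ⟨h1, h1, rfl⟩
      · rw [mem_St]; exact ⟨h2, Subgroup.one_mem _, by rw [h, map_one]⟩
    · have e : ((⁅s1, s2⁆, 1) : GL (Fin 2) F × GL (Fin 2) F) = ⁅(s1, s1), (s2, s1)⁆ := by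
        rw [prod_commutator, commutatorElement_self]
      rw [e]
      apply Subgroup.commutator_mem_commutator
      · rw [mem_St]; exact ⟨h1, h1, rfl⟩
      · rw [mem_St]; exact ⟨h2, h1, h.symm⟩
  exact h hc

theorem inr_comm_mem (h3 : Fintype.card F % 4 = 3) {c : GL (Fin 2) F}
    (hc : c ∈ ⁅(S : Subgroup (GL (Fin 2) F)), (S : Subgroup (GL (Fin 2) F))⁆) :
    ((1 : GL (Fin 2) F), c) ∈ ⁅St S, St S⁆ := by
  have h : ⁅(S : Subgroup (GL (Fin 2) F)), (S : Subgroup (GL (Fin 2) F))⁆ ≤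
      (⁅St S, St S⁆).comap (MonoidHom.inr (GL (Fin 2) F) (GL (Fin 2) F)) := by
    rw [Subgroup.commutator_le]
    intro s1 h1 s2 h2
    rw [Subgroup.mem_comap, MonoidHom.inr_apply]
    rcases det_cases S h3 h1 h2 with h | h | h
    · have e : ((1, ⁅s1, s2⁆) : GL (Fin 2) F × GL (Fin 2) F) = ⁅((1, s1) : GL (Fin 2) F × GL (Fin 2) F), (s2, s2)⁆ := by
        rw [prod_commutator, commutatorElement_one_left]
      rw [e]
      apply Subgroup.commutator_mem_commutator
      · rw [mem_St]; exact ⟨Subgroup.one_mem _, h1, by rw [h, map_one]⟩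
      · rw [mem_St]; exact ⟨h2, h2, rfl⟩
    · have e : ((1, ⁅s1, s2⁆) : GL (Fin 2) F × GL (Fin 2) F) = ⁅((s1, s1) : GL (Fin 2) F × GL (Fin 2) F), (1, s2)⁆ := by
        rw [prod_commutator, commutatorElement_one_right]
      rw [e]
      apply Subgroup.commutator_mem_commutator
      · rw [mem_St]; exact ⟨h1, h1, rfl⟩
      · rw [mem_St]; exact ⟨Subgroup.one_mem _, h2, by rw [h, map_one]⟩
    · have e : ((1, ⁅s1, s2⁆) : GL (Fin 2) F × GL (Fin 2) F) = ⁅(s1, s1), (s1, s2)⁆ := by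
        rw [prod_commutator, commutatorElement_self]
      rw [e]
      apply Subgroup.commutator_mem_commutator
      · rw [mem_St]; exact ⟨h1, h1, rfl⟩
      · rw [mem_St]; exact ⟨h1, h2, h⟩
  exact h hc

theorem sqComm_St (h3 : Fintype.card F % 4 = 3) : SqComm (St S) := by
  intro g hg
  obtain ⟨s, t⟩ := g
  have hst := (mem_St S).1 hg
  have hS := sylow_gl2_sqComm h3 S
  have e : ((s, t) : GL (Fin 2) F × GL (Fin 2) F) ^ 2 = (s ^ 2, 1) * (1, t ^ 2) := by
    rw [Prod.pow_mk, Prod.mk_mul_mk, mul_one, one_mul]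
  rw [e]
  exact Subgroup.mul_mem _ (inl_comm_mem S h3 (hS s hst.1)) (inr_comm_mem S h3 (hS t hst.2.1))

theorem card_S (h3 : Fintype.card F % 4 = 3) :
    Nat.card ↥(S : Subgroup (GL (Fin 2) F)) = 2 ^ (2 + padicValNat 2 (Fintype.card F + 1)) := by
  have hq : Odd (Fintype.card F) := by
    rw [Nat.odd_iff]; omega
  rw [Sylow.card_eq_multiplicity, Nat.factorization_def _ Nat.prime_two, v2_card_GL2 hq,
    padicValNat_two_of_mod_four (n := Fintype.card F - 1) (by omega)]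

theorem card_prod_S : Nat.card ↥((S : Subgroup (GL (Fin 2) F)).prod (S : Subgroup (GL (Fin 2) F)))
    = Nat.card ↥(S : Subgroup (GL (Fin 2) F)) * Nat.card ↥(S : Subgroup (GL (Fin 2) F)) := by
  rw [Nat.card_congr (Subgroup.prodEquiv _ _).toEquiv, Nat.card_prod]

theorem isPGroup_prod_S :
    IsPGroup 2 ↥((S : Subgroup (GL (Fin 2) F)).prod (S : Subgroup (GL (Fin 2) F))) := by
  intro g
  obtain ⟨⟨s, t⟩, hst⟩ := g
  rw [Subgroup.mem_prod] at hst
  obtain ⟨k1, hk1⟩ := S.isPGroup' ⟨s, hst.1⟩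
  obtain ⟨k2, hk2⟩ := S.isPGroup' ⟨t, hst.2⟩
  have hk1' : s ^ (2 ^ k1) = 1 := by
    have := congrArg (fun z : ↥(S : Subgroup (GL (Fin 2) F)) => z.1) hk1
    simpa using this
  have hk2' : t ^ (2 ^ k2) = 1 := by
    have := congrArg (fun z : ↥(S : Subgroup (GL (Fin 2) F)) => z.1) hk2
    simpa using this
  refine ⟨k1 + k2, ?_⟩
  apply Subtype.ext
  rw [Subgroup.coe_pow, Subgroup.coe_one]
  simp only [Prod.pow_mk]
  rw [pow_add, pow_mul, hk1', one_pow, mul_comm, pow_mul, hk2', one_pow]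
  rfl

theorem St_le_prod : St S ≤ (S : Subgroup (GL (Fin 2) F)).prod (S : Subgroup (GL (Fin 2) F)) :=
  inf_le_left

theorem isPGroup_St : IsPGroup 2 ↥(St S) := (isPGroup_prod_S S).to_le (St_le_prod S)

theorem card_image_detRatio (h3 : Fintype.card F % 4 = 3) :
    Nat.card ↥(((S : Subgroup (GL (Fin 2) F)).prod (S : Subgroup (GL (Fin 2) F))).map
      (detRatio F)) ≤ 2 := by
  apply Cfsg.Agent.Lib.H9.Nrk.card_le_two_of_subset_pair _ (-1 : Fˣ)
  intro a ha
  obtain ⟨⟨s, t⟩, hst, rfl⟩ := ha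
  rw [SetLike.mem_coe, Subgroup.mem_prod] at hst
  rw [detRatio_apply]
  rcases det_pm_one S h3 hst.1 with h | h <;> rcases det_pm_one S h3 hst.2 with h' | h' <;>
    rw [h, h'] <;> simp

theorem card_St_ge (h3 : Fintype.card F % 4 = 3) :
    Nat.card ↥(S : Subgroup (GL (Fin 2) F)) * Nat.card ↥(S : Subgroup (GL (Fin 2) F)) ≤
      Nat.card ↥(St S) * 2 := by
  rw [← card_prod_S, card_eq_card_inf_ker_mul (detRatio F)
    ((S : Subgroup (GL (Fin 2) F)).prod (S : Subgroup (GL (Fin 2) F)))]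
  exact Nat.mul_le_mul_left _ (card_image_detRatio S h3)

theorem St_ker_cases (h3 : Fintype.card F % 4 = 3) :
    ∀ a ∈ St S ⊓ (rhoHom F).ker, a = 1 ∨ a = ((-1 : GL (Fin 2) F), (-1 : GL (Fin 2) F)) := by
  intro a ha
  obtain ⟨p, q⟩ := a
  rw [Subgroup.mem_inf, MonoidHom.mem_ker] at ha
  obtain ⟨ha1, ha2⟩ := ha
  obtain ⟨hqp, c, hc⟩ := rhoHom_eq_one ha2
  have hpS := ((mem_St S).1 ha1).1
  obtain ⟨k, hk⟩ := S.isPGroup' ⟨p, hpS⟩
  have hk' : p ^ (2 ^ k) = 1 := by
    have := congrArg (fun z : ↥(S : Subgroup (GL (Fin 2) F)) => z.1) hk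
    simpa using this
  have hk2 : (p : M2 F) ^ (2 ^ k) = 1 := by
    rw [← Units.val_pow_eq_pow_val, hk', Units.val_one]
  rw [hc, ← map_pow] at hk2
  have hck : c ^ (2 ^ k) = 1 := by
    have := congrFun (congrFun hk2 0) 0
    simpa using this
  rcases elt_pm_one h3 c k hck with h | h
  · left
    have hp1 : p = 1 := by
      apply Units.ext
      rw [hc, h, map_one, Units.val_one]
    rw [hqp, hp1]
    rfl
  · right
    have hp1 : p = -1 := by
      apply Units.ext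
      rw [hc, h, map_neg, map_one, Units.val_neg, Units.val_one]
    rw [hqp, hp1]

theorem card_St_ker (h3 : Fintype.card F % 4 = 3) :
    Nat.card ↥(St S ⊓ (rhoHom F).ker) ≤ 2 :=
  Cfsg.Agent.Lib.H9.Nrk.card_le_two_of_subset_pair _ _ (St_ker_cases S h3)

/-- the large 2-subgroup of `AutO F`, `q ≡ 3 mod 4` -/
def P3 : Subgroup ((Fin 8 → F) ≃ₗ[F] (Fin 8 → F)) := (St S).map (rhoHom F)

theorem P3_isPGroup : IsPGroup 2 ↥(P3 S) := (isPGroup_St S).map (rhoHom F)

theorem P3_sqComm (h3 : Fintype.card F % 4 = 3) : SqComm (P3 S) :=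
  (sqComm_St S h3).map (rhoHom F)

theorem P3_le_AutO : P3 S ≤ AutO F := by
  rintro f ⟨⟨p, q⟩, hpq, rfl⟩
  rw [rhoHom_apply]
  apply rhoL_mem
  have h := ((mem_St S).1 hpq).2.2
  have h' := congrArg Units.val h
  rw [Matrix.GeneralLinearGroup.val_det_apply, Matrix.GeneralLinearGroup.val_det_apply] at h'
  exact h'.symm

theorem card_P3 (h3 : Fintype.card F % 4 = 3) :
    2 ^ (2 * (padicValNat 2 (Fintype.card F - 1) + padicValNat 2 (Fintype.card F + 1))) ≤
      Nat.card ↥(P3 S) := by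
  have h1 := card_St_ge S h3
  have h2 := card_eq_card_inf_ker_mul (rhoHom F) (St S)
  have h4 := card_St_ker S h3
  rw [card_S S h3] at h1
  rw [padicValNat_two_of_mod_four (n := Fintype.card F - 1) (by omega)]
  have e1 : 2 ^ (2 + padicValNat 2 (Fintype.card F + 1)) =
      4 * 2 ^ padicValNat 2 (Fintype.card F + 1) := by
    rw [pow_add]; norm_num
  have e2 : 2 ^ (2 * (1 + padicValNat 2 (Fintype.card F + 1))) =
      4 * (2 ^ padicValNat 2 (Fintype.card F + 1) * 2 ^ padicValNat 2 (Fintype.card F + 1)) := by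
    rw [mul_add, pow_add, two_mul (padicValNat 2 (Fintype.card F + 1)), pow_add]; norm_num
  rw [e1] at h1
  rw [e2]
  change _ ≤ Nat.card ↥((St S).map (rhoHom F))
  have h5 : Nat.card ↥(St S) ≤ 2 * Nat.card ↥((St S).map (rhoHom F)) := by
    rw [h2]; exact Nat.mul_le_mul_right _ h4
  nlinarith

end Cfsg.Agent.Lib.H9.G2Oct
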