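import Mathlib
import Cfsg.Agent.Lib.H17.GHDefs

/-!
# S4402 piece TR: transport of `Data` along an isomorphism of the subgroups

`Data.ofEquiv (e : ↥P ≃* ↥P') (D' : Data P') : Data P`: the objects `z A1 A2 As Om` are the images under
`x ↦ ((e.symm x : ↥P) : S)`, and every field is pushed through.
-/

set_option autoImplicit false
set_option linter.dupNamespace false

namespace Cfsg.Agent.Lib.H9.GH

open Cfsg.Agent.Lib.H17.GH Subgroup

section

variable {S S' : Type*} [Group S] [Group S'] {P : Subgroup S} {P' : Subgroup S'}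

/-- the transport map `↥P' →* S`, `y ↦ ((e.symm y : ↥P) : S)` -/
noncomputable def trφ (e : ↥P ≃* ↥P') : ↥P' →* S := P.subtype.comp e.symm.toMonoidHom

theorem trφ_apply (e : ↥P ≃* ↥P') (y : ↥P') : trφ e y = ((e.symm y : ↥P) : S) := rfl

theorem trφ_inj (e : ↥P ≃* ↥P') : Function.Injective (trφ e) := by
  intro a b h
  have : (e.symm a : ↥P) = e.symm b := Subtype.ext h
  exact e.symm.injective this

theorem trφ_mem (e : ↥P ≃* ↥P') (y : ↥P') : trφ e y ∈ P := (e.symm y).2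

theorem trφ_surj (e : ↥P ≃* ↥P') {x : S} (hx : x ∈ P) : ∃ y : ↥P', trφ e y = x :=
  ⟨e ⟨x, hx⟩, by simp [trφ_apply]⟩

/-- the transported subgroup -/
noncomputable def trK (e : ↥P ≃* ↥P') (K : Subgroup S') : Subgroup S := (K.subgroupOf P').map (trφ e)

theorem mem_trK {e : ↥P ≃* ↥P'} {K : Subgroup S'} {x : S} :
    x ∈ trK e K ↔ ∃ y : ↥P', (y : S') ∈ K ∧ trφ e y = x := by
  unfold trK
  rw [Subgroup.mem_map]
  constructor
  · rintro ⟨y, hy, rfl⟩
    exact ⟨y, Subgroup.mem_subgroupOf.1 hy, rfl⟩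
  · rintro ⟨y, hy, rfl⟩
    exact ⟨y, Subgroup.mem_subgroupOf.2 hy, rfl⟩

theorem trφ_mem_trK {e : ↥P ≃* ↥P'} {K : Subgroup S'} {y : ↥P'} :
    trφ e y ∈ trK e K ↔ (y : S') ∈ K := by
  rw [mem_trK]
  constructor
  · rintro ⟨y', hy', h⟩
    rwa [← trφ_inj e h]
  · intro h
    exact ⟨y, h, rfl⟩

theorem trK_le (e : ↥P ≃* ↥P') (K : Subgroup S') : trK e K ≤ P := by
  intro x hx
  obtain ⟨y, -, rfl⟩ := mem_trK.1 hx
  exact trφ_mem e y

theorem trK_card (e : ↥P ≃* ↥P') {K : Subgroup S'} (hK : K ≤ P') : Nat.card (trK e K) = Nat.card K := by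
  unfold trK
  rw [Subgroup.card_map_of_injective (trφ_inj e)]
  exact Nat.card_congr (Subgroup.subgroupOfEquivOfLe hK).toEquiv

theorem trK_le_of_eq (e : ↥P ≃* ↥P') {K K' : Subgroup S'} (hK : K ≤ P')
    (h : trK e K = trK e K') : K ≤ K' := by
  intro a ha
  have h1 : trφ e ⟨a, hK ha⟩ ∈ trK e K := trφ_mem_trK.2 ha
  rw [h] at h1
  exact trφ_mem_trK.1 h1

/-- the transported set -/
noncomputable def trO (e : ↥P ≃* ↥P') (O : Set S') : Set S := trφ e '' (Subtype.val ⁻¹' O)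

theorem mem_trO {e : ↥P ≃* ↥P'} {O : Set S'} {x : S} :
    x ∈ trO e O ↔ ∃ y : ↥P', (y : S') ∈ O ∧ trφ e y = x := by
  unfold trO
  rw [Set.mem_image]
  rfl

theorem trφ_mem_trO {e : ↥P ≃* ↥P'} {O : Set S'} {y : ↥P'} :
    trφ e y ∈ trO e O ↔ (y : S') ∈ O := by
  rw [mem_trO]
  constructor
  · rintro ⟨y', hy', h⟩
    rwa [← trφ_inj e h]
  · intro h
    exact ⟨y, h, rfl⟩

theorem trO_ncard (e : ↥P ≃* ↥P') {O : Set S'} (hO : O ⊆ (P' : Set S')) : (trO e O).ncard = O.ncard := by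
  unfold trO
  rw [Set.ncard_image_of_injective _ (trφ_inj e)]
  apply Set.ncard_preimage_of_injective_subset_range Subtype.val_injective
  intro x hx
  exact ⟨⟨x, hO hx⟩, rfl⟩

theorem trK_closure (e : ↥P ≃* ↥P') {O : Set S'} (hO : O ⊆ (P' : Set S')) :
    trK e (Subgroup.closure O) = Subgroup.closure (trO e O) := by
  unfold trK trO
  rw [← MonoidHom.map_closure]
  congr 1
  have h1 : O = P'.subtype '' (Subtype.val ⁻¹' O) := by
    ext x
    constructor
    · intro hx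
      exact ⟨⟨x, hO hx⟩, hx, rfl⟩
    · rintro ⟨y, hy, rfl⟩
      exact hy
  have h2 : Subgroup.closure O = (Subgroup.closure (Subtype.val ⁻¹' O : Set ↥P')).map P'.subtype := by
    rw [MonoidHom.map_closure]
    exact congrArg _ h1
  rw [h2]
  exact Subgroup.comap_map_eq_self_of_injective P'.subtype_injective _

/-- equations between `trφ`-images are equations in `S'` -/
theorem trφ_eq_iff (e : ↥P ≃* ↥P') {a b : ↥P'} : trφ e a = trφ e b ↔ (a : S') = b := by
  rw [(trφ_inj e).eq_iff, Subtype.ext_iff]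

theorem trφ_eq_one_iff (e : ↥P ≃* ↥P') {a : ↥P'} : trφ e a = 1 ↔ (a : S') = 1 := by
  rw [map_eq_one_iff _ (trφ_inj e), Subtype.ext_iff]
  rfl

/-- TR. Transport of the data along an isomorphism of the subgroups. -/
noncomputable def Data.ofEquiv {S S' : Type*} [Group S] [Group S'] {P : Subgroup S} {P' : Subgroup S'}
    (e : ↥P ≃* ↥P') (D' : Data P') : Data P where
  z := trφ e ⟨D'.z, D'.z_mem⟩
  A1 := trK e D'.A1
  A2 := trK e D'.A2
  As := trK e D'.As
  Om := trO e D'.Om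
  card_P := (Nat.card_congr e.toEquiv).trans D'.card_P
  z_mem := trφ_mem e _
  z_ne := by
    intro h
    exact D'.z_ne ((trφ_eq_one_iff e).1 h)
  z_sq := by
    rw [← map_mul, trφ_eq_one_iff]
    exact D'.z_sq
  center_iff := by
    intro x hx
    obtain ⟨x', rfl⟩ := trφ_surj e hx
    have h0 := D'.center_iff x' x'.2
    constructor
    · intro h
      have h1 : ∀ y ∈ P', (x' : S') * y = y * x' := by
        intro y hy
        have := h (trφ e ⟨y, hy⟩) (trφ_mem e _)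
        rw [← map_mul, ← map_mul, trφ_eq_iff] at this
        exact this
      rcases h0.1 h1 with h2 | h2
      · left
        exact (trφ_eq_one_iff e).2 h2
      · right
        exact (trφ_eq_iff e).2 h2
    · intro h y hy
      obtain ⟨y', rfl⟩ := trφ_surj e hy
      have h1 : (x' : S') = 1 ∨ (x' : S') = D'.z := by
        rcases h with h | h
        · left
          exact (trφ_eq_one_iff e).1 h
        · right
          exact (trφ_eq_iff e).1 h
      have := h0.2 h1 y' y'.2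
      rw [← map_mul, ← map_mul, trφ_eq_iff]
      exact this
  A1_le := trK_le e _
  A2_le := trK_le e _
  A1_conj := by
    intro g hg a ha
    obtain ⟨g', rfl⟩ := trφ_surj e hg
    obtain ⟨a', ha', rfl⟩ := mem_trK.1 ha
    rw [← map_inv, ← map_mul, ← map_mul, trφ_mem_trK]
    exact D'.A1_conj g' g'.2 a' ha'
  A2_conj := by
    intro g hg a ha
    obtain ⟨g', rfl⟩ := trφ_surj e hg
    obtain ⟨a', ha', rfl⟩ := mem_trK.1 ha
    rw [← map_inv, ← map_mul, ← map_mul, trφ_mem_trK]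
    exact D'.A2_conj g' g'.2 a' ha'
  A1_sq := by
    intro a ha
    obtain ⟨a', ha', rfl⟩ := mem_trK.1 ha
    rw [← map_mul, trφ_eq_one_iff]
    exact D'.A1_sq a' ha'
  A2_sq := by
    intro a ha
    obtain ⟨a', ha', rfl⟩ := mem_trK.1 ha
    rw [← map_mul, trφ_eq_one_iff]
    exact D'.A2_sq a' ha'
  A1_card := (trK_card e D'.A1_le).trans D'.A1_card
  A2_card := (trK_card e D'.A2_le).trans D'.A2_card
  A1_ne_A2 := by
    intro h
    exact D'.A1_ne_A2 (le_antisymm (trK_le_of_eq e D'.A1_le h) (trK_le_of_eq e D'.A2_le h.symm))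
  good := by
    intro x hx hxx hcomm
    obtain ⟨x', rfl⟩ := trφ_surj e hx
    rw [trφ_mem_trK, trφ_mem_trK]
    apply D'.good x' x'.2
    · rw [← map_mul, trφ_eq_one_iff] at hxx
      exact hxx
    · intro g hg
      have := hcomm (trφ e ⟨g, hg⟩) (trφ_mem e _)
      rw [← map_inv, ← map_mul, ← map_mul, ← map_mul, ← map_mul, trφ_eq_iff] at this
      exact this
  Om_iff := by
    intro x
    constructor
    · intro hx
      obtain ⟨y, hy, rfl⟩ := mem_trO.1 hx
      obtain ⟨-, h2, h3⟩ := (D'.Om_iff y).1 hy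
      refine ⟨trφ_mem e y, ?_, ?_⟩
      · rw [← map_mul, trφ_eq_one_iff]
        exact h2
      · rintro ⟨a, ha, b, hb, hab⟩
        obtain ⟨a', ha', rfl⟩ := mem_trK.1 ha
        obtain ⟨b', hb', rfl⟩ := mem_trK.1 hb
        rw [← map_mul, trφ_eq_iff] at hab
        exact h3 ⟨a', ha', b', hb', hab⟩
    · rintro ⟨hx, h2, h3⟩
      obtain ⟨y, rfl⟩ := trφ_surj e hx
      rw [trφ_mem_trO, D'.Om_iff]
      refine ⟨y.2, ?_, ?_⟩
      · rw [← map_mul, trφ_eq_one_iff] at h2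
        exact h2
      · rintro ⟨a, ha, b, hb, hab⟩
        apply h3
        refine ⟨trφ e ⟨a, D'.A1_le ha⟩, trφ_mem_trK.2 ha, trφ e ⟨b, D'.A2_le hb⟩, trφ_mem_trK.2 hb, ?_⟩
        rw [← map_mul, trφ_eq_iff]
        exact hab
  Om_card := by
    have hO : D'.Om ⊆ (P' : Set S') := fun x hx => ((D'.Om_iff x).1 hx).1
    exact (trO_ncard e hO).trans D'.Om_card
  As_eq := by
    have hO : D'.Om ⊆ (P' : Set S') := fun x hx => ((D'.Om_iff x).1 hx).1
    rw [D'.As_eq]
    exact trK_closure e hO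
  As_card := by
    have hO : D'.Om ⊆ (P' : Set S') := fun x hx => ((D'.Om_iff x).1 hx).1
    have hle : D'.As ≤ P' := by
      rw [D'.As_eq, Subgroup.closure_le]
      exact hO
    exact (trK_card e hle).trans D'.As_card
  z_mem_As := trφ_mem_trK.2 D'.z_mem_As
  As_sq := by
    intro a ha
    obtain ⟨a', ha', rfl⟩ := mem_trK.1 ha
    rw [← map_mul, trφ_eq_one_iff, trφ_eq_iff]
    exact D'.As_sq a' ha'
  As_comm := by
    intro a ha b hb
    obtain ⟨a', ha', rfl⟩ := mem_trK.1 ha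
    obtain ⟨b', hb', rfl⟩ := mem_trK.1 hb
    rw [← map_mul, ← map_mul, ← map_mul, trφ_eq_iff, trφ_eq_iff]
    exact D'.As_comm a' ha' b' hb'
  cent_Om := by
    intro y hy h
    obtain ⟨y', rfl⟩ := trφ_surj e hy
    rw [trφ_eq_one_iff, trφ_eq_iff]
    apply D'.cent_Om y' y'.2
    intro x hx
    have hxP : x ∈ P' := ((D'.Om_iff x).1 hx).1
    have := h (trφ e ⟨x, hxP⟩) (trφ_mem_trO.2 hx)
    rw [← map_mul, ← map_mul, trφ_eq_iff] at this
    exact this
  prod := by
    intro p hp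
    obtain ⟨p', rfl⟩ := trφ_surj e hp
    have hO : D'.Om ⊆ (P' : Set S') := fun x hx => ((D'.Om_iff x).1 hx).1
    have hle : D'.As ≤ P' := by
      rw [D'.As_eq, Subgroup.closure_le]
      exact hO
    obtain ⟨a, ha, b, hb, c, hc, h⟩ := D'.prod p' p'.2
    refine ⟨trφ e ⟨a, D'.A1_le ha⟩, trφ_mem_trK.2 ha, trφ e ⟨b, D'.A2_le hb⟩, trφ_mem_trK.2 hb,
      trφ e ⟨c, hle hc⟩, trφ_mem_trK.2 hc, ?_⟩
    rw [← map_mul, ← map_mul, trφ_eq_iff]
    exact h
  A1_idx := by
    intro a ha a' ha' hna hna'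
    obtain ⟨b, hb, rfl⟩ := mem_trK.1 ha
    obtain ⟨b', hb', rfl⟩ := mem_trK.1 ha'
    rw [trφ_mem_trK] at hna hna'
    rw [← map_inv, ← map_mul, trφ_mem_trK]
    exact D'.A1_idx b hb b' hb' hna hna'
  A2_idx := by
    intro a ha a' ha' hna hna'
    obtain ⟨b, hb, rfl⟩ := mem_trK.1 ha
    obtain ⟨b', hb', rfl⟩ := mem_trK.1 ha'
    rw [trφ_mem_trK] at hna hna'
    rw [← map_inv, ← map_mul, trφ_mem_trK]
    exact D'.A2_idx b hb b' hb' hna hna'
  comm_P := by
    intro p hp q hq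
    obtain ⟨p', rfl⟩ := trφ_surj e hp
    obtain ⟨q', rfl⟩ := trφ_surj e hq
    rw [← map_inv, ← map_inv, ← map_mul, ← map_mul, ← map_mul, trφ_mem_trK]
    exact D'.comm_P p' p'.2 q' q'.2

end

end Cfsg.Agent.Lib.H9.GH
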