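import Mathlib

set_option autoImplicit false

namespace Cfsg.Agent.Lib.H9.GL3Inv

open Matrix

variable {F : Type*} [Field F]

/-- The sign attached to a boolean. -/
def sg (b : Bool) : F := if b then -1 else 1

theorem sg_mul_self (b : Bool) : (sg b : F) * sg b = 1 := by cases b <;> simp [sg]

/-- The eigen-projection of an involution. -/
def pr (s : Matrix (Fin 3) (Fin 3) F) (b : Bool) : Matrix (Fin 3) (Fin 3) F :=
  (2 : F)⁻¹ • (1 + (sg b : F) • s)

theorem pr_add (h2 : (2 : F) ≠ 0) (s : Matrix (Fin 3) (Fin 3) F) :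
    pr s false + pr s true = 1 := by
  unfold pr sg
  rw [← smul_add]
  have : ((1 : Matrix (Fin 3) (Fin 3) F) + (if false = true then (-1 : F) else 1) • s +
      (1 + (if true = true then (-1 : F) else 1) • s)) = (2 : F) • 1 := by
    simp only [Bool.false_eq_true, if_false, if_true, one_smul, neg_smul, two_smul]
    abel
  rw [this, smul_smul, inv_mul_cancel₀ h2, one_smul]

theorem mul_pr {s : Matrix (Fin 3) (Fin 3) F} (hs : s * s = 1) (b : Bool) :
    s * pr s b = (sg b : F) • pr s b := by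
  unfold pr
  rw [mul_smul_comm, mul_add, mul_one, mul_smul_comm, hs, smul_comm (sg b : F), smul_add (sg b : F),
    smul_smul (sg b : F), sg_mul_self, one_smul, add_comm]

theorem pr_comm {x s : Matrix (Fin 3) (Fin 3) F} (h : x * s = s * x) (b : Bool) :
    x * pr s b = pr s b * x := by
  unfold pr
  rw [mul_smul_comm, smul_mul_assoc, mul_add, add_mul, mul_one, one_mul, mul_smul_comm,
    smul_mul_assoc, h]

theorem pr_mulVec (h2 : (2 : F) ≠ 0) {s : Matrix (Fin 3) (Fin 3) F} {v : Fin 3 → F} {b : Bool}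
    (hv : s *ᵥ v = (sg b : F) • v) (b' : Bool) : pr s b' *ᵥ v = if b' = b then v else 0 := by
  unfold pr
  rw [smul_mulVec, add_mulVec, one_mulVec, smul_mulVec, hv, smul_smul]
  have h4 : (2 : F)⁻¹ * (1 + 1) = 1 := by
    rw [one_add_one_eq_two, inv_mul_cancel₀ h2]
  cases b <;> cases b' <;> simp [sg, ← two_smul F v, smul_smul, inv_mul_cancel₀ h2]


/-- Index type of the eight sign patterns. -/
abbrev B3 := Bool × Bool × Bool

/-- The pairing between sign patterns. -/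
def dot (a b : B3) : Bool := xor (a.1 && b.1) (xor (a.2.1 && b.2.1) (a.2.2 && b.2.2))

set_option maxRecDepth 100000 in
theorem comb_lemma : ∀ S : Finset B3, S.card ≤ 3 →
    (∀ a : B3, a ≠ (false, false, false) → ∃ b ∈ S, dot a b = true) →
    S.card = 3 ∧ ∃ a : B3, ∀ b ∈ S, dot a b = true := by
  decide

section core

variable (s1 s2 s3 : Matrix (Fin 3) (Fin 3) F)

/-- Joint eigen-projection. -/
def PP (b : B3) : Matrix (Fin 3) (Fin 3) F := pr s1 b.1 * pr s2 b.2.1 * pr s3 b.2.2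

/-- Joint eigenvector predicate. -/
def JE (b : B3) (v : Fin 3 → F) : Prop :=
  s1 *ᵥ v = (sg b.1 : F) • v ∧ s2 *ᵥ v = (sg b.2.1 : F) • v ∧ s3 *ᵥ v = (sg b.2.2 : F) • v

theorem sum_PP (h2 : (2 : F) ≠ 0) : ∑ b : B3, PP s1 s2 s3 b = 1 := by
  have h : (1 : Matrix (Fin 3) (Fin 3) F) =
      (pr s1 false + pr s1 true) * (pr s2 false + pr s2 true) * (pr s3 false + pr s3 true) := by
    rw [pr_add h2, pr_add h2, pr_add h2, one_mul, one_mul]
  rw [h]
  simp only [Fintype.sum_prod_type, Fintype.sum_bool, PP, add_mul, mul_add]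
  abel


variable {s1 s2 s3}

theorem PP_mulVec_JE (hs1 : s1 * s1 = 1) (hs2 : s2 * s2 = 1) (hs3 : s3 * s3 = 1)
    (c12 : s1 * s2 = s2 * s1) (c13 : s1 * s3 = s3 * s1) (c23 : s2 * s3 = s3 * s2)
    (b : B3) (w : Fin 3 → F) : JE s1 s2 s3 b (PP s1 s2 s3 b *ᵥ w) := by
  refine ⟨?_, ?_, ?_⟩
  · rw [mulVec_mulVec, PP, ← mul_assoc, ← mul_assoc, mul_pr hs1, smul_mul_assoc, smul_mul_assoc,
      smul_mulVec]
  · rw [mulVec_mulVec, PP, ← mul_assoc, ← mul_assoc, pr_comm c12.symm, mul_assoc (pr s1 b.1),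
      mul_pr hs2, mul_smul_comm, smul_mul_assoc, smul_mulVec]
  · rw [mulVec_mulVec, PP, ← mul_assoc, ← mul_assoc, pr_comm c13.symm, mul_assoc (pr s1 b.1),
      pr_comm c23.symm, mul_assoc (pr s1 b.1), mul_assoc (pr s2 b.2.1), mul_pr hs3, mul_smul_comm,
      mul_smul_comm, ← mul_assoc, smul_mulVec]

theorem PP_mulVec_of_JE (h2 : (2 : F) ≠ 0) {b : B3} {v : Fin 3 → F} (hv : JE s1 s2 s3 b v)
    (b' : B3) : PP s1 s2 s3 b' *ᵥ v = if b' = b then v else 0 := by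
  obtain ⟨h1, h2', h3⟩ := hv
  rw [PP, ← mulVec_mulVec, ← mulVec_mulVec, pr_mulVec h2 h3]
  by_cases e3 : b'.2.2 = b.2.2
  · rw [if_pos e3, pr_mulVec h2 h2']
    by_cases e2 : b'.2.1 = b.2.1
    · rw [if_pos e2, pr_mulVec h2 h1]
      by_cases e1 : b'.1 = b.1
      · rw [if_pos e1, if_pos (by ext <;> assumption)]
      · rw [if_neg e1, if_neg (fun h => e1 (by rw [h]))]
    · rw [if_neg e2, mulVec_zero, if_neg (fun h => e2 (by rw [h]))]
  · rw [if_neg e3, mulVec_zero, mulVec_zero, if_neg (fun h => e3 (by rw [h]))]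


variable (s1 s2 s3) in
/-- Product of a sub-family of the three involutions. -/
def gp (a : B3) : Matrix (Fin 3) (Fin 3) F :=
  (if a.1 then s1 else 1) * (if a.2.1 then s2 else 1) * (if a.2.2 then s3 else 1)

theorem ite_mulVec {s : Matrix (Fin 3) (Fin 3) F} {v : Fin 3 → F} {e : F} (h : s *ᵥ v = e • v)
    (a : Bool) : (if a = true then s else 1) *ᵥ v = (if a = true then e else 1) • v := by
  cases a
  · simp
  · simpa using h

theorem gp_mulVec_of_JE {b : B3} {v : Fin 3 → F} (hv : JE s1 s2 s3 b v) (a : B3) :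
    gp s1 s2 s3 a *ᵥ v = (if dot a b = true then (-1 : F) else 1) • v := by
  obtain ⟨h1, h2, h3⟩ := hv
  rw [gp, ← mulVec_mulVec, ← mulVec_mulVec, ite_mulVec h3, mulVec_smul, ite_mulVec h2, mulVec_smul,
    mulVec_smul, ite_mulVec h1, smul_smul, smul_smul]
  congr 1
  obtain ⟨a1, a2, a3⟩ := a
  obtain ⟨b1, b2, b3⟩ := b
  cases a1 <;> cases a2 <;> cases a3 <;> cases b1 <;> cases b2 <;> cases b3 <;> simp [dot, sg]

theorem core (h2 : (2 : F) ≠ 0) (hs1 : s1 * s1 = 1) (hs2 : s2 * s2 = 1) (hs3 : s3 * s3 = 1)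
    (c12 : s1 * s2 = s2 * s1) (c13 : s1 * s3 = s3 * s1) (c23 : s2 * s3 = s3 * s2)
    (hnd : ∀ a : B3, a ≠ (false, false, false) → gp s1 s2 s3 a ≠ 1) :
    ∃ (S : Finset B3) (v : B3 → Fin 3 → F), (∀ b ∈ S, JE s1 s2 s3 b (v b)) ∧
      (∀ w : Fin 3 → F, ∃ c : B3 → F, w = ∑ b ∈ S, c b • v b) ∧
      (∃ a : B3, ∀ b ∈ S, dot a b = true) := by
  classical
  let S : Finset B3 := Finset.univ.filter (fun b => ∃ v : Fin 3 → F, v ≠ 0 ∧ JE s1 s2 s3 b v)
  have hex : ∀ b : B3, ∃ v : Fin 3 → F, b ∈ S → (v ≠ 0 ∧ JE s1 s2 s3 b v) := by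
    intro b
    by_cases hb : b ∈ S
    · obtain ⟨v, hv⟩ := (Finset.mem_filter.mp hb).2
      exact ⟨v, fun _ => hv⟩
    · exact ⟨0, fun h => absurd h hb⟩
  choose v hv using hex
  have hLI : LinearIndependent F (fun b : S => v b.1) := by
    rw [Fintype.linearIndependent_iff]
    intro g hg j
    have h := congrArg (fun u => PP s1 s2 s3 (j : B3) *ᵥ u) hg
    simp only [mulVec_sum, mulVec_smul, mulVec_zero] at h
    have h' : ∀ b : S, g b • (PP s1 s2 s3 (j : B3) *ᵥ v b.1) = if b = j then g j • v j.1 else 0 := by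
      intro b
      rw [PP_mulVec_of_JE h2 (hv b.1 b.2).2]
      by_cases hbj : b = j
      · rw [if_pos hbj, if_pos (by rw [hbj]), hbj]
      · rw [if_neg hbj, if_neg (fun h => hbj (Subtype.ext h.symm)), smul_zero]
    rw [Finset.sum_congr rfl (fun b _ => h' b), Finset.sum_ite_eq' ] at h
    simp only [Finset.mem_univ, if_true] at h
    rcases smul_eq_zero.mp h with h0 | h0
    · exact h0
    · exact absurd h0 (hv j.1 j.2).1
  have hcard : S.card ≤ 3 := by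
    have := hLI.fintype_card_le_finrank
    simpa using this
  have hdec : ∀ w : Fin 3 → F, w = ∑ b ∈ S, PP s1 s2 s3 b *ᵥ w := by
    intro w
    calc w = (∑ b : B3, PP s1 s2 s3 b) *ᵥ w := by rw [sum_PP _ _ _ h2, one_mulVec]
      _ = ∑ b : B3, PP s1 s2 s3 b *ᵥ w := by rw [sum_mulVec]
      _ = ∑ b ∈ S, PP s1 s2 s3 b *ᵥ w := by
        symm
        apply Finset.sum_subset (Finset.subset_univ _)
        intro b _ hb
        by_contra hne
        exact hb (Finset.mem_filter.mpr ⟨Finset.mem_univ _, _, hne,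
          PP_mulVec_JE hs1 hs2 hs3 c12 c13 c23 b w⟩)
  have hsep : ∀ a : B3, a ≠ (false, false, false) → ∃ b ∈ S, dot a b = true := by
    intro a ha
    by_contra hno
    push Not at hno
    apply hnd a ha
    apply Matrix.mulVec_injective
    funext w
    rw [one_mulVec]
    conv_lhs => rw [hdec w]
    conv_rhs => rw [hdec w]
    rw [mulVec_sum]
    apply Finset.sum_congr rfl
    intro b hb
    rw [gp_mulVec_of_JE (PP_mulVec_JE hs1 hs2 hs3 c12 c13 c23 b w) a, if_neg (hno b hb), one_smul]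
  obtain ⟨h3, a0, ha0⟩ := comb_lemma S hcard hsep
  have hspan : Submodule.span F (Set.range (fun b : S => v b.1)) = ⊤ := by
    apply hLI.span_eq_top_of_card_eq_finrank'
    simp [h3]
  refine ⟨S, v, fun b hb => (hv b hb).2, ?_, a0, ha0⟩
  intro w
  have hw : w ∈ Submodule.span F (Set.range (fun b : S => v b.1)) := by rw [hspan]; trivial
  rw [Submodule.mem_span_range_iff_exists_fun] at hw
  obtain ⟨c, hc⟩ := hw
  refine ⟨fun b => if h : b ∈ S then c ⟨b, h⟩ else 0, ?_⟩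
  rw [← hc, ← Finset.sum_coe_sort S]
  apply Finset.sum_congr rfl
  intro b _
  simp only [dif_pos b.2]


theorem exists_gp_eq_neg_one (h2 : (2 : F) ≠ 0) (hs1 : s1 * s1 = 1) (hs2 : s2 * s2 = 1)
    (hs3 : s3 * s3 = 1) (c12 : s1 * s2 = s2 * s1) (c13 : s1 * s3 = s3 * s1)
    (c23 : s2 * s3 = s3 * s2)
    (hnd : ∀ a : B3, a ≠ (false, false, false) → gp s1 s2 s3 a ≠ 1) :
    ∃ a : B3, gp s1 s2 s3 a = -1 := by
  obtain ⟨S, v, hJE, hspan, a0, ha0⟩ := core h2 hs1 hs2 hs3 c12 c13 c23 hnd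
  refine ⟨a0, ?_⟩
  apply Matrix.mulVec_injective
  funext w
  obtain ⟨c, hc⟩ := hspan w
  rw [neg_mulVec, one_mulVec, hc, mulVec_sum, ← Finset.sum_neg_distrib]
  apply Finset.sum_congr rfl
  intro b hb
  rw [mulVec_smul, gp_mulVec_of_JE (hJE b hb) a0, if_pos (ha0 b hb), neg_one_smul, smul_neg]

theorem commute_of_commute (h2 : (2 : F) ≠ 0) (hs1 : s1 * s1 = 1) (hs2 : s2 * s2 = 1)
    (hs3 : s3 * s3 = 1) (c12 : s1 * s2 = s2 * s1) (c13 : s1 * s3 = s3 * s1)
    (c23 : s2 * s3 = s3 * s2)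
    (hnd : ∀ a : B3, a ≠ (false, false, false) → gp s1 s2 s3 a ≠ 1)
    (x y : Matrix (Fin 3) (Fin 3) F) (hx1 : x * s1 = s1 * x) (hx2 : x * s2 = s2 * x)
    (hx3 : x * s3 = s3 * x) (hy1 : y * s1 = s1 * y) (hy2 : y * s2 = s2 * y)
    (hy3 : y * s3 = s3 * y) : x * y = y * x := by
  classical
  obtain ⟨S, v, hJE, hspan, -⟩ := core h2 hs1 hs2 hs3 c12 c13 c23 hnd
  have key : ∀ x : Matrix (Fin 3) (Fin 3) F, x * s1 = s1 * x → x * s2 = s2 * x → x * s3 = s3 * x →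
      ∀ b ∈ S, ∃ a : F, x *ᵥ v b = a • v b := by
    intro x hx1 hx2 hx3 b hb
    obtain ⟨e1, e2, e3⟩ := hJE b hb
    have hu : JE s1 s2 s3 b (x *ᵥ v b) := by
      refine ⟨?_, ?_, ?_⟩
      · rw [mulVec_mulVec, ← hx1, ← mulVec_mulVec, e1, mulVec_smul]
      · rw [mulVec_mulVec, ← hx2, ← mulVec_mulVec, e2, mulVec_smul]
      · rw [mulVec_mulVec, ← hx3, ← mulVec_mulVec, e3, mulVec_smul]
    obtain ⟨c, hc⟩ := hspan (x *ᵥ v b)
    refine ⟨c b, ?_⟩
    have h1 := PP_mulVec_of_JE h2 hu b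
    rw [if_pos rfl] at h1
    rw [← h1, hc, mulVec_sum]
    have h' : ∀ b' ∈ S, PP s1 s2 s3 b *ᵥ (c b' • v b') = if b' = b then c b • v b else 0 := by
      intro b' hb'
      rw [mulVec_smul, PP_mulVec_of_JE h2 (hJE b' hb')]
      by_cases hbb : b' = b
      · rw [if_pos hbb, if_pos hbb.symm, hbb]
      · rw [if_neg hbb, if_neg (fun h => hbb h.symm), smul_zero]
    rw [Finset.sum_congr rfl h', Finset.sum_ite_eq', if_pos hb]
  apply Matrix.mulVec_injective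
  funext w
  obtain ⟨c, hc⟩ := hspan w
  rw [hc, mulVec_sum, mulVec_sum]
  apply Finset.sum_congr rfl
  intro b hb
  obtain ⟨a, ha⟩ := key x hx1 hx2 hx3 b hb
  obtain ⟨a', ha'⟩ := key y hy1 hy2 hy3 b hb
  rw [mulVec_smul, mulVec_smul, ← mulVec_mulVec, ← mulVec_mulVec, ha, ha', mulVec_smul, mulVec_smul,
    ha, ha', smul_smul, smul_smul, smul_smul, smul_smul]
  congr 1
  ring

end core


section grp

variable {H : Type*} [Group H]

/-- Product of a sub-family of three group elements. -/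
def gpG (s1 s2 s3 : H) (a : B3) : H :=
  (if a.1 then s1 else 1) * (if a.2.1 then s2 else 1) * (if a.2.2 then s3 else 1)

theorem gpG_ne_one {s1 s2 s3 : H} (hs1 : s1 * s1 = 1) (hs2 : s2 * s2 = 1)
    (c12 : s1 * s2 = s2 * s1)
    (h1 : s1 ≠ 1) (h2 : s2 ≠ 1) (h21 : s2 ≠ s1) (h3 : s3 ≠ 1) (h31 : s3 ≠ s1) (h32 : s3 ≠ s2)
    (h312 : s3 ≠ s1 * s2) :
    ∀ a : B3, a ≠ (false, false, false) → gpG s1 s2 s3 a ≠ 1 := by
  rintro ⟨a1, a2, a3⟩ ha h
  have i1 : s1⁻¹ = s1 := inv_eq_of_mul_eq_one_right hs1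
  have i2 : s2⁻¹ = s2 := inv_eq_of_mul_eq_one_right hs2
  cases a1 <;> cases a2 <;> cases a3
  · exact ha rfl
  · apply h3; simpa [gpG] using h
  · apply h2; simpa [gpG] using h
  · apply h32
    have : s2 * s3 = 1 := by simpa [gpG] using h
    rw [← i2]; exact eq_inv_of_mul_eq_one_right this
  · apply h1; simpa [gpG] using h
  · apply h31
    have : s1 * s3 = 1 := by simpa [gpG] using h
    rw [← i1]; exact eq_inv_of_mul_eq_one_right this
  · apply h21
    have : s1 * s2 = 1 := by simpa [gpG] using h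
    rw [← i1]; exact eq_inv_of_mul_eq_one_right this
  · apply h312
    have : s1 * s2 * s3 = 1 := by simpa [gpG] using h
    rw [eq_inv_of_mul_eq_one_right this, _root_.mul_inv_rev, i1, i2, c12]

end grp

theorem coe_gpG (s1 s2 s3 : GL (Fin 3) F) (a : B3) :
    ((gpG s1 s2 s3 a : GL (Fin 3) F) : Matrix (Fin 3) (Fin 3) F) =
      gp (s1 : Matrix (Fin 3) (Fin 3) F) (s2 : Matrix (Fin 3) (Fin 3) F)
        (s3 : Matrix (Fin 3) (Fin 3) F) a := by
  obtain ⟨a1, a2, a3⟩ := a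
  cases a1 <;> cases a2 <;> cases a3 <;> simp [gpG, gp]

theorem coe_mul_eq {g h k : GL (Fin 3) F} (e : g * h = k) :
    (g : Matrix (Fin 3) (Fin 3) F) * (h : Matrix (Fin 3) (Fin 3) F) = (k : Matrix (Fin 3) (Fin 3) F) := by
  rw [← e]; rfl

theorem gp_coe_ne_one {s1 s2 s3 : GL (Fin 3) F}
    (hnd : ∀ a : B3, a ≠ (false, false, false) → gpG s1 s2 s3 a ≠ 1) :
    ∀ a : B3, a ≠ (false, false, false) →
      gp (s1 : Matrix (Fin 3) (Fin 3) F) (s2 : Matrix (Fin 3) (Fin 3) F)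
        (s3 : Matrix (Fin 3) (Fin 3) F) a ≠ 1 := by
  intro a ha h
  apply hnd a ha
  apply Units.ext
  rw [coe_gpG, h]
  rfl

/-- An elementary abelian subgroup of order `8` of `GL₃(F)` (odd characteristic) contains `-1`. -/
theorem neg_one_mem (h2 : (2 : F) ≠ 0) (T : Subgroup (GL (Fin 3) F)) (hT : ∀ g ∈ T, g * g = 1)
    (h8 : Nat.card T = 8) : (-1 : GL (Fin 3) F) ∈ T := by
  classical
  have pick : ∀ A : Finset (GL (Fin 3) F), A.card < 8 → ∃ x ∈ T, x ∉ A := by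
    intro A hA
    by_contra hno
    push Not at hno
    have hsub : (T : Set (GL (Fin 3) F)) ⊆ (A : Set (GL (Fin 3) F)) := fun x hx => hno x hx
    have h := Nat.card_mono A.finite_toSet hsub
    have e1 : Nat.card ↥(T : Set (GL (Fin 3) F)) = 8 := h8
    have e2 : Nat.card ↥(A : Set (GL (Fin 3) F)) = A.card := by
      rw [Nat.card_coe_set_eq, Set.ncard_coe_finset]
    omega
  have hcomm : ∀ g ∈ T, ∀ h ∈ T, g * h = h * g := by
    intro g hg h hh
    have e := hT (g * h) (T.mul_mem hg hh)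
    have ig : g⁻¹ = g := inv_eq_of_mul_eq_one_right (hT g hg)
    have ih : h⁻¹ = h := inv_eq_of_mul_eq_one_right (hT h hh)
    have : g * h = (g * h)⁻¹ := (inv_eq_of_mul_eq_one_right e).symm
    rw [this, _root_.mul_inv_rev, ig, ih]
  obtain ⟨s1, hs1T, hs1⟩ := pick {1} (by simp)
  obtain ⟨s2, hs2T, hs2⟩ := pick {1, s1} (lt_of_le_of_lt Finset.card_le_two (by norm_num))
  obtain ⟨s3, hs3T, hs3⟩ := pick {1, s1, s2, s1 * s2} (lt_of_le_of_lt Finset.card_le_four (by norm_num))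
  simp only [Finset.mem_insert, Finset.mem_singleton, not_or] at hs1 hs2 hs3
  have hnd := gpG_ne_one (hT s1 hs1T) (hT s2 hs2T) (hcomm s1 hs1T s2 hs2T) hs1 hs2.1 hs2.2 hs3.1
    hs3.2.1 hs3.2.2.1 hs3.2.2.2
  obtain ⟨a, ha⟩ := exists_gp_eq_neg_one h2 (coe_mul_eq (hT s1 hs1T)) (coe_mul_eq (hT s2 hs2T))
    (coe_mul_eq (hT s3 hs3T)) ((coe_mul_eq (hcomm s1 hs1T s2 hs2T)).trans (coe_mul_eq rfl).symm)
    ((coe_mul_eq (hcomm s1 hs1T s3 hs3T)).trans (coe_mul_eq rfl).symm)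
    ((coe_mul_eq (hcomm s2 hs2T s3 hs3T)).trans (coe_mul_eq rfl).symm) (gp_coe_ne_one hnd)
  have hmem : gpG s1 s2 s3 a ∈ T := by
    unfold gpG
    refine T.mul_mem (T.mul_mem ?_ ?_) ?_
    · split_ifs; exacts [hs1T, T.one_mem]
    · split_ifs; exacts [hs2T, T.one_mem]
    · split_ifs; exacts [hs3T, T.one_mem]
  have : gpG s1 s2 s3 a = -1 := by
    apply Units.ext
    rw [coe_gpG, ha]
    rfl
  rw [← this]
  exact hmem

/-- Matrices centralizing an elementary abelian subgroup of order `8` of `GL₃(F)` commute. -/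
theorem commute_of_centralize (h2 : (2 : F) ≠ 0) {s1 s2 s3 x y : GL (Fin 3) F}
    (hs1 : s1 * s1 = 1) (hs2 : s2 * s2 = 1) (hs3 : s3 * s3 = 1)
    (c12 : s1 * s2 = s2 * s1) (c13 : s1 * s3 = s3 * s1) (c23 : s2 * s3 = s3 * s2)
    (h1 : s1 ≠ 1) (h2' : s2 ≠ 1) (h21 : s2 ≠ s1) (h3 : s3 ≠ 1) (h31 : s3 ≠ s1) (h32 : s3 ≠ s2)
    (h312 : s3 ≠ s1 * s2)
    (hx1 : x * s1 = s1 * x) (hx2 : x * s2 = s2 * x) (hx3 : x * s3 = s3 * x)
    (hy1 : y * s1 = s1 * y) (hy2 : y * s2 = s2 * y) (hy3 : y * s3 = s3 * y) :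
    x * y = y * x := by
  have hnd := gpG_ne_one hs1 hs2 c12 h1 h2' h21 h3 h31 h32 h312
  have tr : ∀ {g h g' h' : GL (Fin 3) F}, g * h = g' * h' →
      (g : Matrix (Fin 3) (Fin 3) F) * (h : Matrix (Fin 3) (Fin 3) F) =
      (g' : Matrix (Fin 3) (Fin 3) F) * (h' : Matrix (Fin 3) (Fin 3) F) :=
    fun e => (coe_mul_eq e).trans (coe_mul_eq rfl).symm
  have := commute_of_commute h2 (coe_mul_eq hs1) (coe_mul_eq hs2) (coe_mul_eq hs3) (tr c12) (tr c13)
    (tr c23) (gp_coe_ne_one hnd) (x : Matrix (Fin 3) (Fin 3) F) (y : Matrix (Fin 3) (Fin 3) F)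
    (tr hx1) (tr hx2) (tr hx3) (tr hy1) (tr hy2) (tr hy3)
  apply Units.ext
  exact this

end Cfsg.Agent.Lib.H9.GL3Inv
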