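import Mathlib
import Cfsg.Agent.Lib.H18.ZPPSI
import Cfsg.Agent.Lib.H15.GRS
import Cfsg.Agent.Lib.H2.AECOUNT
import Cfsg.Agent.Lib.H24.CharSchur

/-!
# S1951 piece I = `cube_identity` (helper12's sigs `tools/blueprints/S1951_sigs_h12.lean`), twin by helper9

From `H24.irr_sum_conj_mul` (class multiplication), helper18's `H18.ZP.psi_indicator` / `psi_one`
(block orthogonality S0925 (ii) + the count), helper15's `H15.GR.apply_of_singular` (piece S) and
helper2's `H2.AE.card_pSingular_mul_card` (COUNT).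
-/

set_option autoImplicit false

namespace Cfsg.Agent.Lib.H9.GR

open Cfsg
open scoped BigOperators

variable {G : Type*} [Group G] [Finite G] {p : ℕ} [Fact p.Prime]

omit [Finite G] in
theorem orderOf_eq_of_mem (P : Sylow p G) (hPe : Cfsg.IsElementaryAbelian p (P : Subgroup G))
    {z : G} (hz : z ∈ (P : Subgroup G)) (hz1 : z ≠ 1) : orderOf z = p :=
  orderOf_eq_prime (hPe.2 z hz) hz1

/-- I. The cube identity and the degree relation. -/
theorem cube_identity (P : Sylow p G) (hPe : Cfsg.IsElementaryAbelian p (P : Subgroup G))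
    (hconj : ∀ x ∈ (P : Subgroup G), ∀ y ∈ (P : Subgroup G), x ≠ 1 → y ≠ 1 → ∃ g : G, g * x * g⁻¹ = y)
    (hb : ∀ x ∈ (P : Subgroup G), orderOf x = p → Cfsg.HasNormalPComplement p ↥(Subgroup.centralizer ({x} : Set G)))
    (M : Ideal Cfsg.AlgInt) (hM : Cfsg.IsPModular p M) {z : G} (hz : z ∈ (P : Subgroup G)) (hz1 : z ≠ 1) :
    (Nat.card G : ℂ) * ∑ᶠ χ ∈ Cfsg.principalBlock M G, ((χ : G → ℂ) z) ^ 3 / (χ : G → ℂ) 1 =
      ((Nat.card G : ℂ) - (Nat.card {a : G // ¬ p ∣ orderOf (a * z * a⁻¹ * z)} : ℂ)) * (Nat.card (P : Subgroup G) : ℂ) ∧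
    ∑ᶠ χ ∈ Cfsg.principalBlock M G, (χ : G → ℂ) z * (χ : G → ℂ) 1 = 0 := by
  classical
  have hzo : orderOf z = p := orderOf_eq_of_mem P hPe hz hz1
  refine ⟨?_, Cfsg.Agent.Lib.H18.ZP.psi_one p M hM z hzo⟩
  have : Fintype G := Fintype.ofFinite G
  have hP1 : (P : Subgroup G) ≠ ⊥ := by
    intro h
    rw [h, Subgroup.mem_bot] at hz
    exact hz1 hz
  have hcount := Cfsg.Agent.Lib.H2.AE.card_pSingular_mul_card P hP1 hPe hconj hb
  have hconst : ∀ χ ∈ Cfsg.principalBlock M G, ∀ g : G, p ∣ orderOf g →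
      (χ : G → ℂ) g = (χ : G → ℂ) z := fun χ hχ g hg =>
    Cfsg.Agent.Lib.H15.GR.apply_of_singular P hPe hconj hb M hM hz hz1 g hg χ hχ
  have hind : ∀ g : G, ∑ᶠ χ ∈ Cfsg.principalBlock M G, (χ : G → ℂ) z * (χ : G → ℂ) g =
      if p ∣ orderOf g then (Nat.card (P : Subgroup G) : ℂ) else 0 := fun g =>
    Cfsg.Agent.Lib.H18.ZP.psi_indicator p M hM z hzo (Nat.card (P : Subgroup G)) hconst hcount g
  -- the double sum, evaluated in two ways
  have hfin : Finite (IrrCharacter G) := Cfsg.Agent.Lib.H24.finite_irr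
  have hB : (Cfsg.principalBlock M G).Finite := Set.toFinite _
  have key : ∑ a : G, ∑ᶠ χ ∈ Cfsg.principalBlock M G, (χ : G → ℂ) z * (χ : G → ℂ) (a * z * a⁻¹ * z) =
      (Nat.card G : ℂ) * ∑ᶠ χ ∈ Cfsg.principalBlock M G, ((χ : G → ℂ) z) ^ 3 / (χ : G → ℂ) 1 := by
    rw [finsum_mem_eq_finite_toFinset_sum _ hB]
    have h1 : ∀ a : G, ∑ᶠ χ ∈ Cfsg.principalBlock M G, (χ : G → ℂ) z * (χ : G → ℂ) (a * z * a⁻¹ * z) =
        ∑ χ ∈ hB.toFinset, (χ : G → ℂ) z * (χ : G → ℂ) (a * z * a⁻¹ * z) := fun a =>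
      finsum_mem_eq_finite_toFinset_sum _ hB
    simp only [h1]
    rw [Finset.sum_comm, Finset.mul_sum]
    refine Finset.sum_congr rfl (fun χ _ => ?_)
    rw [← Finset.mul_sum, Cfsg.Agent.Lib.H24.irr_sum_conj_mul χ z z]
    ring
  rw [← key]
  simp only [hind]
  rw [Finset.sum_ite, Finset.sum_const, Finset.sum_const_zero, add_zero, nsmul_eq_mul]
  -- count
  have hc1 : (Finset.univ.filter (fun a : G => p ∣ orderOf (a * z * a⁻¹ * z))).card +
      Nat.card {a : G // ¬ p ∣ orderOf (a * z * a⁻¹ * z)} = Nat.card G := by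
    rw [Nat.card_eq_fintype_card, Fintype.card_subtype, Nat.card_eq_fintype_card, ← Finset.card_univ]
    exact Finset.card_filter_add_card_filter_not (s := Finset.univ) (fun a : G => p ∣ orderOf (a * z * a⁻¹ * z))
  have hc2 : ((Finset.univ.filter (fun a : G => p ∣ orderOf (a * z * a⁻¹ * z))).card : ℂ) =
      (Nat.card G : ℂ) - (Nat.card {a : G // ¬ p ∣ orderOf (a * z * a⁻¹ * z)} : ℂ) := by
    rw [← hc1]; push_cast; ring
  rw [hc2]

end Cfsg.Agent.Lib.H9.GR
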