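import Cfsg.Agent.Lib.H13.HSDefs2

/-!
# S2535 stage 2, piece A5-S `a5_card_dvd_of_solvable` (helper9 twin)

Galois: a solvable transitive permutation group of prime degree `n` has order dividing `n (n - 1)`.
-/

namespace Cfsg.Agent.Lib.H9.HS
open Equiv MulAction Cfsg.Agent.Lib.H13.HS
open scoped Pointwise

/-- Galois' theorem for a faithful transitive action of a solvable group on a set of prime size. -/
theorem a5s_general {G X : Type*} [Group G] [Finite G] [MulAction G X] [FaithfulSMul G X]
    [IsPretransitive G X] (hs : Group.IsSolvable G) (hn : (Nat.card X).Prime) :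
    Nat.card G ∣ Nat.card X * (Nat.card X - 1) := by
  classical
  have hXfin : Finite X := (Nat.card_ne_zero.mp hn.ne_zero).2
  have hXne : Nonempty X := (Nat.card_ne_zero.mp hn.ne_zero).1
  obtain ⟨x₀⟩ := hXne
  have hXnt : Nontrivial X := Finite.one_lt_card_iff_nontrivial.mp hn.one_lt
  obtain ⟨y, hy⟩ := exists_ne x₀
  obtain ⟨g₀, hg₀⟩ := exists_smul_eq G x₀ y
  have hGnt : Nontrivial G :=
    nontrivial_of_ne g₀ 1 (by rintro rfl; rw [one_smul] at hg₀; exact hy hg₀.symm)
  have hfaith : ∀ g : G, (∀ x : X, g • x = x) → g = 1 := by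
    intro g hg
    exact FaithfulSMul.eq_of_smul_eq_smul (α := X) (fun x => by rw [hg x, one_smul])
  -- the last nontrivial term of the derived series
  have hex := hs.solvable
  have hk0 : Nat.find hex ≠ 0 := by
    intro h0
    have h := Nat.find_spec hex
    rw [h0, derivedSeries_zero] at h
    exact top_ne_bot h
  obtain ⟨j, hj⟩ := Nat.exists_eq_succ_of_ne_zero hk0
  have hAne : derivedSeries G j ≠ ⊥ := Nat.find_min hex (by rw [hj]; exact Nat.lt_succ_self j)
  have hAcomm : ⁅derivedSeries G j, derivedSeries G j⁆ = ⊥ := by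
    have h := Nat.find_spec hex
    rwa [hj, derivedSeries_succ] at h
  obtain ⟨A, hAn, hAne, hAcomm⟩ : ∃ A : Subgroup G, A.Normal ∧ A ≠ ⊥ ∧ ⁅A, A⁆ = ⊥ :=
    ⟨derivedSeries G j, derivedSeries_normal G j, hAne, hAcomm⟩
  have hAab : ∀ a ∈ A, ∀ b ∈ A, a * b = b * a := by
    intro a ha b hb
    have h := (Subgroup.commutator_eq_bot_iff_le_centralizer.mp hAcomm) hb
    exact Subgroup.mem_centralizer_iff.mp h a ha
  -- `A` is transitive
  have hprim : IsPreprimitive G X := IsPreprimitive.of_prime_card hn
  have hAtr : IsPretransitive A X := by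
    apply IsQuasiPreprimitive.isPretransitive_of_normal
    obtain ⟨a, haA, ha1⟩ : ∃ a ∈ A, a ≠ 1 := by
      by_contra h
      push Not at h
      exact hAne ((Subgroup.eq_bot_iff_forall _).mpr h)
    intro huniv
    apply ha1
    apply hfaith
    intro x
    have hx : x ∈ fixedPoints A X := by rw [huniv]; trivial
    exact hx ⟨a, haA⟩
  -- an element of the point stabilizer centralizing `A` is trivial
  have hcent : ∀ g : G, g • x₀ = x₀ → (∀ a ∈ A, g * a = a * g) → g = 1 := by
    intro g hgx hga
    apply hfaith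
    intro y
    obtain ⟨a, ha⟩ := hAtr.exists_smul_eq x₀ y
    have ha' : (a : G) • x₀ = y := ha
    rw [← ha', ← mul_smul, hga a a.2, mul_smul, hgx]
  -- `A` is regular
  have hstabA : stabilizer A x₀ = ⊥ := by
    rw [Subgroup.eq_bot_iff_forall]
    intro a ha
    have ha' : (a : G) • x₀ = x₀ := ha
    have h1 : (a : G) = 1 := hcent a ha' (fun b hb => hAab a a.2 b hb)
    exact Subtype.ext h1
  have hcardA : Nat.card A = Nat.card X := by
    have h1 := index_stabilizer_of_transitive A x₀
    rw [hstabA, Subgroup.index_bot] at h1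
    exact h1
  have hAprime : Fact (Nat.card A).Prime := ⟨hcardA ▸ hn⟩
  have hAcyc : IsCyclic A := isCyclic_of_prime_card (p := Nat.card A) rfl
  have hAut : Nat.card (MulAut A) = Nat.card X - 1 := by
    rw [IsCyclic.card_mulAut, hcardA, Nat.totient_prime hn]
  -- the point stabilizer embeds in `Aut A`
  let f : stabilizer G x₀ →* MulAut A :=
    (MulAut.conjNormal (H := A)).comp (stabilizer G x₀).subtype
  have hf : Function.Injective f := by
    rw [injective_iff_map_eq_one]
    intro g hg
    have hgx : (g : G) • x₀ = x₀ := g.2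
    have h1 : (g : G) = 1 := by
      apply hcent _ hgx
      intro a ha
      have h2 : f g ⟨a, ha⟩ = ⟨a, ha⟩ := by rw [hg]; rfl
      have h3 : ((f g ⟨a, ha⟩ : A) : G) = (g : G) * a * (g : G)⁻¹ :=
        MulAut.conjNormal_apply (g : G) ⟨a, ha⟩
      rw [h2] at h3
      have h4 : a = (g : G) * a * (g : G)⁻¹ := h3
      calc (g : G) * a = ((g : G) * a * (g : G)⁻¹) * g := by group
        _ = a * g := by rw [← h4]
    exact Subtype.ext h1
  have hdvd : Nat.card (stabilizer G x₀) ∣ Nat.card X - 1 := by
    rw [← hAut]; exact Subgroup.card_dvd_of_injective f hf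
  have hidx : (stabilizer G x₀).index = Nat.card X := index_stabilizer_of_transitive G x₀
  rw [← (stabilizer G x₀).card_mul_index, hidx, mul_comm]
  exact Nat.mul_dvd_mul_left _ hdvd

/-- **A5-S**. -/
theorem a5_card_dvd_of_solvable {α : Type*} [Finite α] (M : Subgroup (Perm α)) (hs : Group.IsSolvable M)
    (htr : IsPretransitive M α) (hn : (Nat.card α).Prime) :
    Nat.card M ∣ Nat.card α * (Nat.card α - 1) := by
  have hfaithful : FaithfulSMul M α := ⟨fun {g h} hgh => Subtype.ext (Equiv.ext hgh)⟩
  exact a5s_general hs hn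

end Cfsg.Agent.Lib.H9.HS
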