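import Cfsg.Agent.Lib.H13.HSDefs2

/-!
# S2535 stage 2, piece A7 `struct8_alt` (helper9 twin)

A transitive Hall `{2,3}`-subgroup `M` of `A_8` whose point stabilizer is the even part of the
stabilizer of a 3-set `Δ` preserves the partition `{insert a Δ, (insert a Δ)ᶜ}`.
-/

namespace Cfsg.Agent.Lib.H9.HS
open Equiv MulAction Cfsg.Agent.Lib.H13.HS
open scoped Pointwise

/-- a permutation mapping a finite set into itself stabilizes it. -/
theorem a7_smul_eq_of_maps {α : Type*} [Finite α] (g : Perm α) (s : Set α)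
    (h : ∀ z ∈ s, g z ∈ s) : g • s = s := by
  have hsub : g • s ⊆ s := by
    rintro _ ⟨z, hz, rfl⟩
    exact h z hz
  exact Set.eq_of_subset_of_ncard_le hsub (by rw [Set.ncard_smul_set]) (Set.toFinite s)

section c3
variable {α : Type*} [DecidableEq α] {p q r : α}

theorem a7_c3_p (hpq : p ≠ q) (hpr : p ≠ r) (hqr : q ≠ r) : (swap p q * swap p r) p = r := by
  rw [Perm.mul_apply, swap_apply_left, swap_apply_of_ne_of_ne hpr.symm hqr.symm]

theorem a7_c3_r (hpq : p ≠ q) (hpr : p ≠ r) (hqr : q ≠ r) : (swap p q * swap p r) r = q := by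
  rw [Perm.mul_apply, swap_apply_right, swap_apply_left]

theorem a7_c3_q (hpq : p ≠ q) (hpr : p ≠ r) (hqr : q ≠ r) : (swap p q * swap p r) q = p := by
  rw [Perm.mul_apply, swap_apply_of_ne_of_ne hpq.symm hqr, swap_apply_right]

theorem a7_c3_other {z : α} (hp : z ≠ p) (hq : z ≠ q) (hr : z ≠ r) :
    (swap p q * swap p r) z = z := by
  rw [Perm.mul_apply, swap_apply_of_ne_of_ne hp hr, swap_apply_of_ne_of_ne hp hq]
end c3

/-- **A7**. -/
theorem struct8_alt {α : Type*} [Finite α] (h8 : Nat.card α = 8) {π : Set ℕ} (h23 : TwoThree π 8)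
    {M : Subgroup (Perm α)} (hM : Cfsg.IsPiHallOf π M (altSub α)) (htr : IsPretransitive M α)
    (a : α) (Δ : Set α) (hΔ : Δ.ncard = 3) (ha : a ∉ Δ)
    (hst : ∀ g : Perm α, g a = a → (g ∈ M ↔ g • Δ = Δ ∧ g ∈ altSub α)) :
    M ≤ partStab (insert a Δ) := by
  classical
  have := Fintype.ofFinite α
  have hc8 : Fintype.card α = 8 := by rw [← Nat.card_eq_fintype_card]; exact h8
  have hA : altSub α = alternatingGroup α := altSub_eq α
  -- the 3-cycles of `M_a`
  have hc3 : ∀ p q r : α, p ≠ a → q ≠ a → r ≠ a → p ≠ q → p ≠ r → q ≠ r →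
      ((p ∈ Δ ∧ q ∈ Δ ∧ r ∈ Δ) ∨ (p ∉ Δ ∧ q ∉ Δ ∧ r ∉ Δ)) →
      swap p q * swap p r ∈ M ∧ (swap p q * swap p r) a = a := by
    intro p q r hpa hqa hra hpq hpr hqr hD
    have hfix : (swap p q * swap p r) a = a := a7_c3_other hpa.symm hqa.symm hra.symm
    refine ⟨?_, hfix⟩
    rw [hst _ hfix]
    refine ⟨a7_smul_eq_of_maps _ _ ?_, ?_⟩
    · intro z hz
      by_cases hzp : z = p
      · rw [hzp, a7_c3_p hpq hpr hqr]
        rcases hD with h | h
        · exact h.2.2
        · exact absurd (hzp ▸ hz) h.1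
      by_cases hzq : z = q
      · rw [hzq, a7_c3_q hpq hpr hqr]
        rcases hD with h | h
        · exact h.1
        · exact absurd (hzq ▸ hz) h.2.1
      by_cases hzr : z = r
      · rw [hzr, a7_c3_r hpq hpr hqr]
        rcases hD with h | h
        · exact h.2.1
        · exact absurd (hzr ▸ hz) h.2.2
      rw [a7_c3_other hzp hzq hzr]; exact hz
    · rw [hA, Equiv.Perm.mem_alternatingGroup, map_mul, Equiv.Perm.sign_swap hpq,
        Equiv.Perm.sign_swap hpr]
      rfl
  -- `M` is not primitive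
  have hnp : ¬ IsPreprimitive M α := by
    intro hprim
    obtain ⟨x, y, w, hxy, hxw, hyw, hΔeq⟩ := Set.ncard_eq_three.mp hΔ
    have hxΔ : x ∈ Δ := by rw [hΔeq]; simp
    have hyΔ : y ∈ Δ := by rw [hΔeq]; simp
    have hwΔ : w ∈ Δ := by rw [hΔeq]; simp
    have hmem := (hc3 x y w (ne_of_mem_of_not_mem hxΔ ha) (ne_of_mem_of_not_mem hyΔ ha)
      (ne_of_mem_of_not_mem hwΔ ha) hxy hxw hyw (Or.inl ⟨hxΔ, hyΔ, hwΔ⟩)).1
    have h3 : (swap x y * swap x w).IsThreeCycle :=
      Equiv.Perm.isThreeCycle_swap_mul_swap_same hxy hxw hyw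
    have hAlt : alternatingGroup α ≤ M :=
      Equiv.Perm.alternatingGroup_le_of_isPreprimitive_of_isThreeCycle_mem hprim h3 hmem
    have : Nontrivial α := by
      rw [← Fintype.one_lt_card_iff_nontrivial, hc8]; norm_num
    have hA2 : 2 * Nat.card (alternatingGroup α) = Nat.card (Perm α) :=
      two_mul_nat_card_alternatingGroup
    rw [Nat.card_perm, h8] at hA2
    have h5A : 5 ∣ Nat.card (alternatingGroup α) := by
      have h' : (5 : ℕ) ∣ 2 * Nat.card (alternatingGroup α) := by rw [hA2]; decide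
      exact (Nat.Coprime.dvd_of_dvd_mul_left (by norm_num) h')
    have h5M : 5 ∣ Nat.card M := h5A.trans (Subgroup.card_dvd_of_le hAlt)
    have h5π : 5 ∈ π := hM.2.1 5 (by norm_num) h5M
    have := (h23 5 (by norm_num) (by norm_num)).mp h5π
    omega
  -- a nontrivial block through `a`
  obtain ⟨B', haB', hB', hnt⟩ : ∃ B' : Set α, a ∈ B' ∧ IsBlock M B' ∧ ¬ IsTrivialBlock B' := by
    by_contra hcon
    push Not at hcon
    exact hnp (IsPreprimitive.of_isTrivialBlock_base a (fun {B} haB hB => hcon B haB hB))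
  have hinv : ∀ c : Perm α, c ∈ M → c a = a → ∀ u ∈ B', c u ∈ B' := by
    intro c hc hca u hu
    have h1 : (⟨c, hc⟩ : M) • B' = B' :=
      hB'.smul_eq_of_mem haB' (by show c a ∈ B'; rw [hca]; exact haB')
    have h2 : (⟨c, hc⟩ : M) • u ∈ (⟨c, hc⟩ : M) • B' := Set.smul_mem_smul_set hu
    rw [h1] at h2
    exact h2
  -- the orbits of `M_a`
  have hT : ∀ T : Set α, a ∉ T → 3 ≤ T.ncard → ((∀ z ∈ T, z ∈ Δ) ∨ (∀ z ∈ T, z ∉ Δ)) →
      ∀ u ∈ B', u ∈ T → T ⊆ B' := by
    intro T haT hT3 hTΔ u hu huT v hvT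
    by_cases hvu : v = u
    · rw [hvu]; exact hu
    obtain ⟨w, hwT, hw⟩ := Set.exists_mem_notMem_of_ncard_lt_ncard (s := ({u, v} : Set α)) (t := T)
      (lt_of_le_of_lt (Set.ncard_insert_le _ _) (by rw [Set.ncard_singleton]; omega))
    have hwu : w ≠ u := fun h => hw (by rw [h]; simp)
    have hwv : w ≠ v := fun h => hw (by rw [h]; simp)
    have hD : (u ∈ Δ ∧ w ∈ Δ ∧ v ∈ Δ) ∨ (u ∉ Δ ∧ w ∉ Δ ∧ v ∉ Δ) := by
      rcases hTΔ with h | h
      · exact Or.inl ⟨h u huT, h w hwT, h v hvT⟩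
      · exact Or.inr ⟨h u huT, h w hwT, h v hvT⟩
    obtain ⟨hc, hca⟩ := hc3 u w v (ne_of_mem_of_not_mem huT haT) (ne_of_mem_of_not_mem hwT haT)
      (ne_of_mem_of_not_mem hvT haT) hwu.symm (Ne.symm hvu) hwv hD
    have := hinv _ hc hca u hu
    rwa [a7_c3_p hwu.symm (Ne.symm hvu) hwv] at this
  -- cardinalities
  have hBc : (insert a Δ).ncard = 4 := by
    rw [Set.ncard_insert_of_notMem ha (Set.toFinite Δ), hΔ]
  have hCc : ((insert a Δ)ᶜ : Set α).ncard = 4 := by
    have := Set.ncard_add_ncard_compl (insert a Δ)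
    rw [hBc, h8] at this
    omega
  have haC : a ∉ ((insert a Δ)ᶜ : Set α) := fun h => h (Set.mem_insert a Δ)
  have hΔB : ∀ u ∈ B', u ∈ Δ → Δ ⊆ B' :=
    hT Δ ha (by omega) (Or.inl fun z hz => hz)
  have hCB : ∀ u ∈ B', u ∈ ((insert a Δ)ᶜ : Set α) → ((insert a Δ)ᶜ : Set α) ⊆ B' :=
    hT _ haC (by omega) (Or.inr fun z hz hzΔ => hz (Set.mem_insert_of_mem a hzΔ))
  have hnu : B' ≠ Set.univ := fun h => hnt (Or.inr h)
  have hns : ¬ B'.Subsingleton := fun h => hnt (Or.inl h)
  obtain ⟨u, huB, hua⟩ : ∃ u ∈ B', u ≠ a := by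
    by_contra hcon
    push Not at hcon
    apply hns
    intro u hu v hv
    rw [hcon u hu, hcon v hv]
  have hnot_both : ∀ u₁ ∈ B', u₁ ∈ Δ → ∀ u₂ ∈ B', u₂ ∈ ((insert a Δ)ᶜ : Set α) → False := by
    intro u₁ h1 h1Δ u₂ h2 h2C
    apply hnu
    rw [Set.eq_univ_iff_forall]
    intro z
    by_cases hz : z ∈ insert a Δ
    · rcases hz with rfl | hz
      · exact haB'
      · exact hΔB u₁ h1 h1Δ hz
    · exact hCB u₂ h2 h2C hz
  have hBeq : B' = insert a Δ := by
    by_cases huΔ : u ∈ Δ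
    · apply Set.Subset.antisymm
      · intro z hz
        by_contra hzC
        exact hnot_both u huB huΔ z hz hzC
      · intro z hz
        rcases hz with rfl | hz
        · exact haB'
        · exact hΔB u huB huΔ hz
    · exfalso
      have huC : u ∈ ((insert a Δ)ᶜ : Set α) := by
        intro h
        rcases h with h | h
        · exact hua h
        · exact huΔ h
      have hB5 : B' = insert a ((insert a Δ)ᶜ : Set α) := by
        apply Set.Subset.antisymm
        · intro z hz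
          by_cases hza : z = a
          · rw [hza]; exact Set.mem_insert _ _
          · refine Set.mem_insert_of_mem _ ?_
            intro h
            rcases h with h | h
            · exact hza h
            · exact hnot_both z hz h u huB huC
        · intro z hz
          rcases hz with rfl | hz
          · exact haB'
          · exact hCB u huB huC hz
      have h5 : B'.ncard = 5 := by
        rw [hB5, Set.ncard_insert_of_notMem haC (Set.toFinite _), hCc]
      have hdvd : B'.ncard ∣ 8 := by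
        have := hB'.ncard_dvd_card ⟨a, haB'⟩
        rwa [h8] at this
      rw [h5] at hdvd
      omega
  -- conclusion
  intro g hg
  rw [hBeq] at hB'
  unfold partStab
  rw [mem_stabilizer_iff, Set.smul_set_insert, Set.smul_set_singleton, Set.smul_set_compl]
  rcases hB'.smul_eq_or_disjoint (⟨g, hg⟩ : M) with h | h
  · have h' : g • (insert a Δ : Set α) = insert a Δ := h
    rw [h']
  · have h' : Disjoint (g • (insert a Δ : Set α)) (insert a Δ) := h
    have hsub : g • (insert a Δ : Set α) ⊆ (insert a Δ)ᶜ := Set.subset_compl_iff_disjoint_right.mpr h'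
    have heq : g • (insert a Δ : Set α) = (insert a Δ)ᶜ :=
      Set.eq_of_subset_of_ncard_le hsub (by rw [Set.ncard_smul_set, hBc, hCc]) (Set.toFinite _)
    rw [heq, compl_compl, Set.pair_comm]

end Cfsg.Agent.Lib.H9.HS
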