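import Cfsg.Agent.Lib.H13.HSDefs

/-!
# S2536 piece P1 HALLGEN (helper9 twin): general facts on Hall subgroups of a finite group
-/

namespace Cfsg.Agent.Lib.H9.HS
open Equiv MulAction Cfsg.Agent.Lib.H13.HS
open scoped Pointwise

section P1
variable {G : Type*} [Group G] [Finite G] {π : Set ℕ} {H K : Subgroup G}

theorem hall_map {Q : Type*} [Group Q] (φ : G →* Q) (hφ : Function.Surjective φ)
    (hH : Cfsg.IsPiHall π H) : Cfsg.IsPiHall π (H.map φ) := by
  refine ⟨fun p hp hd => hH.1 p hp (hd.trans (Subgroup.card_map_dvd H φ)), fun p hp hpπ hd => ?_⟩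
  exact hH.2 p hp hpπ (hd.trans (Subgroup.index_map_dvd H hφ))

theorem hall_subgroupOf (hH : Cfsg.IsPiHall π H) (hHK : H ≤ K) :
    Cfsg.IsPiHall π (H.subgroupOf K) := by
  refine ⟨fun p hp hd => hH.1 p hp ?_, fun p hp hpπ hd => hH.2 p hp hpπ ?_⟩
  · rwa [Nat.card_congr (Subgroup.subgroupOfEquivOfLe hHK).toEquiv] at hd
  · exact hd.trans (Subgroup.relIndex_dvd_index_of_le hHK)

theorem hall_piFree_index_of_le (hH : Cfsg.IsPiHall π H) (hHK : H ≤ K) : PiFree π K.index :=
  fun p hp hpπ hd => hH.2 p hp hpπ (hd.trans (Subgroup.index_dvd_of_le hHK))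

theorem hall_eq_of_le (hH : Cfsg.IsPiHall π H) (hHK : H ≤ K) (hK : PiNum π (Nat.card K)) :
    H = K := by
  refine le_antisymm hHK (Subgroup.relIndex_eq_one.mp ?_)
  by_contra hne
  obtain ⟨p, hp, hd⟩ := Nat.exists_prime_and_dvd hne
  exact hH.2 p hp (hK p hp (hd.trans (Subgroup.relIndex_dvd_card H K)))
    (hd.trans (Subgroup.relIndex_dvd_index_of_le hHK))

theorem hall_prime_dvd_card (hH : Cfsg.IsPiHall π H) {r : ℕ} (hr : r.Prime) (hrπ : r ∈ π)
    (hrG : r ∣ Nat.card G) : r ∣ Nat.card H := by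
  rw [← H.card_mul_index] at hrG
  exact (hr.dvd_mul.mp hrG).resolve_right (hH.2 r hr hrπ)

theorem hall_conj_pgroup (hH : Cfsg.IsPiHall π H) {r : ℕ} (hr : r.Prime) (hrπ : r ∈ π)
    (X : Subgroup G) (hX : IsPGroup r X) : ∃ g : G, ∀ x ∈ X, g * x * g⁻¹ ∈ H := by
  have : Fact r.Prime := ⟨hr⟩
  obtain ⟨P⟩ : Nonempty (Sylow r H) := inferInstance
  -- the image of `P` in `G` is a Sylow subgroup of `G`
  have hP1 : IsPGroup r ((P : Subgroup H).map H.subtype) := P.2.map H.subtype
  have hidx : ((P : Subgroup H).map H.subtype).index = (P : Subgroup H).index * H.index :=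
    Subgroup.index_map_subtype (P : Subgroup H)
  have hP2 : ¬ r ∣ ((P : Subgroup H).map H.subtype).index := by
    rw [hidx]
    intro hd
    rcases hr.dvd_mul.mp hd with h | h
    · exact P.not_dvd_index h
    · exact hH.2 r hr hrπ h
  obtain ⟨Q, hXQ⟩ := hX.exists_le_sylow
  obtain ⟨g, hg⟩ := MulAction.exists_smul_eq G Q (hP1.toSylow hP2)
  refine ⟨g, fun x hx => ?_⟩
  have hmem : g * x * g⁻¹ ∈ ((g • Q : Sylow r G) : Subgroup G) := by
    rw [Sylow.coe_subgroup_smul, Subgroup.mem_pointwise_smul_iff_inv_smul_mem]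
    simpa [MulAut.smul_def, mul_assoc] using hXQ hx
  rw [hg, IsPGroup.toSylow_coe] at hmem
  exact Subgroup.map_subtype_le _ hmem

theorem hall_conj_elt (hH : Cfsg.IsPiHall π H) {r : ℕ} (hr : r.Prime) (hrπ : r ∈ π)
    (x : G) (k : ℕ) (hx : orderOf x = r ^ k) : ∃ g : G, g * x * g⁻¹ ∈ H := by
  have : Fact r.Prime := ⟨hr⟩
  have hX : IsPGroup r (Subgroup.zpowers x) :=
    IsPGroup.of_card (n := k) (by rw [Nat.card_zpowers, hx])
  obtain ⟨g, hg⟩ := hall_conj_pgroup hH hr hrπ (Subgroup.zpowers x) hX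
  exact ⟨g, hg x (Subgroup.mem_zpowers x)⟩

theorem hall_inf_normal (hH : Cfsg.IsPiHall π H) (N : Subgroup G) [N.Normal] :
    Cfsg.IsPiHall π (H.subgroupOf N) := by
  have h6 : Nat.card (N.subgroupOf H) = Nat.card (H.subgroupOf N) :=
    Nat.card_congr
      { toFun := fun x =>
          ⟨⟨x.1.1, Subgroup.mem_subgroupOf.mp x.2⟩, Subgroup.mem_subgroupOf.mpr x.1.2⟩
        invFun := fun x =>
          ⟨⟨x.1.1, Subgroup.mem_subgroupOf.mp x.2⟩, Subgroup.mem_subgroupOf.mpr x.1.2⟩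
        left_inv := fun x => rfl
        right_inv := fun x => rfl }
  have hidx : H.relIndex N = H.relIndex (H ⊔ N) := by
    -- count `H ⊔ N` in two ways
    have h1 : Nat.card (H ⊔ N : Subgroup G) = Nat.card H * H.relIndex (H ⊔ N) := by
      have := (H.subgroupOf (H ⊔ N)).card_mul_index
      rw [Nat.card_congr (Subgroup.subgroupOfEquivOfLe (le_sup_left : H ≤ H ⊔ N)).toEquiv] at this
      exact this.symm
    have h2 : Nat.card (H ⊔ N : Subgroup G) = Nat.card N * N.relIndex (H ⊔ N) := by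
      have := (N.subgroupOf (H ⊔ N)).card_mul_index
      rw [Nat.card_congr (Subgroup.subgroupOfEquivOfLe (le_sup_right : N ≤ H ⊔ N)).toEquiv] at this
      exact this.symm
    have h3 : N.relIndex (H ⊔ N) = N.relIndex H := Subgroup.relIndex_sup_right H N
    have h4 : Nat.card H = Nat.card (N.subgroupOf H) * N.relIndex H :=
      ((N.subgroupOf H).card_mul_index).symm
    have h5 : Nat.card N = Nat.card (H.subgroupOf N) * H.relIndex N :=
      ((H.subgroupOf N).card_mul_index).symm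
    have hpos : 0 < Nat.card H := Nat.card_pos
    have key : Nat.card H * H.relIndex (H ⊔ N) = Nat.card H * H.relIndex N := by
      rw [← h1, h2, h3, h5]
      conv_rhs => rw [h4]
      rw [h6]; ring
    exact (Nat.eq_of_mul_eq_mul_left hpos key).symm
  refine ⟨fun p hp hd => hH.1 p hp ?_, fun p hp hpπ hd => hH.2 p hp hpπ ?_⟩
  · rw [← h6] at hd
    exact hd.trans (Subgroup.card_subgroup_dvd_card _)
  · have : (H.subgroupOf N).index = H.relIndex N := rfl
    rw [this, hidx] at hd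
    exact hd.trans (Subgroup.relIndex_dvd_index_of_le le_sup_left)
end P1

end Cfsg.Agent.Lib.H9.HS
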