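import Cfsg.Agent.Lib.H4.HT.Defs
import Cfsg.Agent.Lib.H6.HTNEG

set_option autoImplicit false

/-!
# S3371 piece DQH (`dq_half`; helper9)

For an involution `τ ∉ ⟨x⟩` in the (quasi-)dihedral set-up, `c = x^(2^(n-2))` satisfies `τ c = c z τ`
with `z = c²` central acting as `-1`, so `ρ c` swaps the two eigenspaces of `τ`, and `V` is their direct sum.
-/

namespace Cfsg.Agent.Lib.H9.HT

open Cfsg Cfsg.Agent.Lib.H4.HT

variable {q : ℕ} {V : Type*} [AddCommGroup V] [Module (ZMod q) V] {G : Type*} [Group G]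

theorem dqh_two_ne_zero [Fact q.Prime] (hq2 : 2 ≠ q) : (2 : ZMod q) ≠ 0 := by
  intro h0
  have h3 : ((2 : ℕ) : ZMod q) = 0 := by exact_mod_cast h0
  rw [ZMod.natCast_eq_zero_iff] at h3
  have hq : q.Prime := Fact.out
  exact hq2 ((Nat.prime_dvd_prime_iff_eq hq Nat.prime_two).mp h3).symm

theorem dqh_eq_zero_of_eq_neg [Fact q.Prime] (hq2 : 2 ≠ q) (v : V) (h : v = -v) : v = 0 := by
  have h2 : (2 : ZMod q) • v = 0 := by
    rw [two_smul]
    nth_rewrite 2 [h]
    exact add_neg_cancel v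
  rcases smul_eq_zero.mp h2 with h3 | h3
  · exact absurd h3 (dqh_two_ne_zero hq2)
  · exact h3

/-- Pure linear algebra: an involution `T` with an operator `C` swapping its eigenspaces. -/
theorem dqh_card [Fact q.Prime] [Finite V] (hq2 : 2 ≠ q) (T C : V ≃ₗ[ZMod q] V)
    (hTT : ∀ v, T (T v) = v) (hplus : ∀ v, T v = v → T (C v) = -C v)
    (hminus : ∀ v, T v = -v → T (C v) = C v) :
    Nat.card {v : V // T v = v} ^ 2 = Nat.card V := by
  have h1 : Nat.card {v : V // T v = v} ≤ Nat.card {v : V // T v = -v} := by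
    apply Nat.card_le_card_of_injective (fun v => (⟨C v.1, hplus v.1 v.2⟩ : {v : V // T v = -v}))
    intro a b hab
    apply Subtype.ext
    exact C.injective (congrArg Subtype.val hab)
  have h2 : Nat.card {v : V // T v = -v} ≤ Nat.card {v : V // T v = v} := by
    apply Nat.card_le_card_of_injective (fun v => (⟨C v.1, hminus v.1 v.2⟩ : {v : V // T v = v}))
    intro a b hab
    apply Subtype.ext
    exact C.injective (congrArg Subtype.val hab)
  have h3 : Nat.card {v : V // T v = v} = Nat.card {v : V // T v = -v} := le_antisymm h1 h2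
  have h20 := dqh_two_ne_zero (q := q) hq2
  have h4 : Nat.card ({v : V // T v = v} × {v : V // T v = -v}) = Nat.card V := by
    apply Nat.card_eq_of_bijective (fun p => p.1.1 + p.2.1)
    constructor
    · rintro ⟨⟨a, ha⟩, ⟨b, hb⟩⟩ ⟨⟨a', ha'⟩, ⟨b', hb'⟩⟩ hab
      change a + b = a' + b' at hab
      have hw : a - a' = b' - b := by
        rw [sub_eq_sub_iff_add_eq_add, hab, add_comm]
      have hw1 : T (a - a') = a - a' := by rw [map_sub, ha, ha']
      have hw2 : T (a - a') = -(a - a') := by rw [hw, map_sub, hb, hb']; abel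
      have hw0 : a - a' = 0 := dqh_eq_zero_of_eq_neg hq2 _ (hw1.symm.trans hw2)
      have hw0' : b' - b = 0 := hw ▸ hw0
      have e1 : a = a' := sub_eq_zero.mp hw0
      have e2 : b' = b := sub_eq_zero.mp hw0'
      subst e1; subst e2; rfl
    · intro v
      have hp : T ((2 : ZMod q)⁻¹ • (v + T v)) = (2 : ZMod q)⁻¹ • (v + T v) := by
        rw [map_smul, map_add, hTT, add_comm]
      have hm : T ((2 : ZMod q)⁻¹ • (v - T v)) = -((2 : ZMod q)⁻¹ • (v - T v)) := by
        rw [map_smul, map_sub, hTT, ← smul_neg, neg_sub]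
      refine ⟨(⟨_, hp⟩, ⟨_, hm⟩), ?_⟩
      change (2 : ZMod q)⁻¹ • (v + T v) + (2 : ZMod q)⁻¹ • (v - T v) = v
      rw [← smul_add]
      have : v + T v + (v - T v) = (2 : ZMod q) • v := by rw [two_smul]; abel
      rw [this, smul_smul, inv_mul_cancel₀ h20, one_smul]
  rw [← h4, Nat.card_prod, ← h3, sq]

theorem dq_half [Fact q.Prime] [Finite V] [Finite G] (hq2 : 2 ≠ q) (ρ : G →* (V ≃ₗ[ZMod q] V))
    (hc : CentFpf ρ) (n : ℕ) (hn : 2 ≤ n) (x : G) (hx : orderOf x = 2 ^ n)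
    (hG : Nat.card G = 2 ^ (n + 1)) (e : ℕ) (he : e % 4 = 3)
    (hconj : ∀ τ : G, τ ∉ Subgroup.zpowers x → τ * x * τ⁻¹ = x ^ e) (τ : G)
    (hτ : τ ∉ Subgroup.zpowers x) (hτ2 : τ * τ = 1) :
    Nat.card {v : V // ρ τ v = v} ^ 2 = Nat.card V := by
  obtain ⟨m, rfl⟩ : ∃ m, n = m + 2 := ⟨n - 2, by omega⟩
  set c := x ^ 2 ^ m with hc_def
  set z := c * c with hz_def
  have hzx : z = x ^ 2 ^ (m + 1) := by
    rw [hz_def, hc_def, ← pow_add, pow_succ, mul_two]
  have hc4 : c ^ 4 = 1 := by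
    rw [hc_def, ← pow_mul]
    have : 2 ^ m * 4 = 2 ^ (m + 2) := by rw [pow_add]; norm_num
    rw [this, ← hx]
    exact pow_orderOf_eq_one x
  have hz2 : z * z = 1 := by
    rw [hz_def, ← hc4]; simp only [pow_succ, pow_zero, one_mul, mul_assoc]
  have hz1 : z ≠ 1 := by
    intro h
    rw [hzx] at h
    have hd := orderOf_dvd_of_pow_eq_one h
    rw [hx] at hd
    have := (Nat.pow_dvd_pow_iff_le_right (by norm_num : 1 < 2)).mp hd
    omega
  -- e is odd: z ^ e = z
  have hze : z ^ e = z := by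
    obtain ⟨k, hk⟩ : ∃ k, e = 2 * k + 1 := ⟨e / 2, by omega⟩
    rw [hk, pow_succ, pow_mul, pow_two, hz2, one_pow, one_mul]
  have hz : z ∈ Subgroup.center G := by
    rw [Subgroup.mem_center_iff]
    intro g
    by_cases hg : g ∈ Subgroup.zpowers x
    · obtain ⟨k, rfl⟩ := Subgroup.mem_zpowers_iff.mp hg
      rw [hzx]
      exact (((Commute.refl x).zpow_left k).pow_right _).eq
    · have h1 : g * z * g⁻¹ = z := by
        rw [hzx, ← conj_pow, hconj g hg, ← pow_mul, mul_comm, pow_mul, ← hzx, hze]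
      calc g * z = g * z * g⁻¹ * g := by group
        _ = z * g := by rw [h1]
  have hzneg : ∀ v : V, ρ z v = -v :=
    fun v => Cfsg.Agent.Lib.H6.HT.central_invol_neg ρ hc z hz hz1 hz2 v
  -- τ c τ⁻¹ = c * z
  have hce : c ^ e = c * z := by
    obtain ⟨k, hk⟩ : ∃ k, e = 4 * k + 3 := ⟨e / 4, by omega⟩
    rw [hk, pow_add, pow_mul, hc4, one_pow, one_mul, hz_def]
    simp only [pow_succ, pow_zero, one_mul, mul_assoc]
  have hτc : τ * c * τ⁻¹ = c * z := by
    rw [hc_def, ← conj_pow, hconj τ hτ, ← pow_mul, mul_comm, pow_mul, ← hc_def, hce]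
  have hτc' : τ * c = c * z * τ := mul_inv_eq_iff_eq_mul.mp hτc
  have hkey : ∀ v : V, ρ τ (ρ c v) = -ρ c (ρ τ v) := by
    intro v
    rw [← rho_mul, hτc', rho_mul, rho_mul, hzneg, map_neg]
  apply dqh_card hq2 (ρ τ) (ρ c)
  · intro v
    rw [← rho_mul, hτ2, rho_one]
  · intro v hv
    rw [hkey, hv]
  · intro v hv
    rw [hkey, hv, map_neg, neg_neg]

end Cfsg.Agent.Lib.H9.HT
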