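import Mathlib
import Cfsg.Prelude.Def_Transfer
import Cfsg.Agent.Lib.H9.TransferInvolution
import Cfsg.Agent.Lib.H16.SylowBasic

/-!
helper9: the Hall–Wielandt transfer theorem. `P` a Sylow `p`-subgroup of `G`, `Q` weakly closed in `P`,
`[u, z; p-1] = 1` for `u ∈ P`, `z ∈ Q`. Then the transfer of a homomorphism `ρ : N_G(Q) →* C` into a
commutative group of exponent `p` restricts to `ρ` on `P` (`transfer_eq_of_engel`).
-/

set_option autoImplicit false

namespace Cfsg.Agent.Lib.H9.HW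


variable {G : Type*} [Group G]

theorem sum_range_choose (n k : ℕ) : ∑ i ∈ Finset.range n, i.choose k = n.choose (k + 1) := by
  induction n with
  | zero => simp
  | succ n ih =>
    rw [Finset.sum_range_succ, ih, Nat.choose_succ_succ, add_comm]

/-- Under the Engel condition `[d, z; p-1] = 1` on `D`, the "norm" `∏_{i<p} f (z^{-i} w z^i)` of a map
`f` that is multiplicative on `D`, with values in a commutative group of exponent `p`, is trivial. -/
theorem prod_conj_eq_one {C : Type*} [CommGroup C] {p : ℕ} (hp : p.Prime) (hC : ∀ c : C, c ^ p = 1)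
    (D : Subgroup G) (z : G) (hz : ∀ d ∈ D, z⁻¹ * d * z ∈ D)
    (hE : ∀ d ∈ D, (fun y : G => y⁻¹ * z⁻¹ * y * z)^[p - 1] d = 1)
    (f : G → C) (hf : ∀ a ∈ D, ∀ b ∈ D, f (a * b) = f a * f b) :
    ∀ w ∈ D, ∏ i ∈ Finset.range p, f ((z ^ i)⁻¹ * w * z ^ i) = 1 := by
  set c : G → G := fun y => y⁻¹ * z⁻¹ * y * z with hc
  have hcD : ∀ d ∈ D, c d ∈ D := by
    intro d hd
    have : c d = d⁻¹ * (z⁻¹ * d * z) := by simp only [hc]; group
    rw [this]
    exact D.mul_mem (D.inv_mem hd) (hz d hd)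
  have hckD : ∀ k : ℕ, ∀ d ∈ D, c^[k] d ∈ D := by
    intro k
    induction k with
    | zero => intro d hd; exact hd
    | succ k ih => intro d hd; rw [Function.iterate_succ_apply]; exact ih _ (hcD d hd)
  have hzi : ∀ i : ℕ, ∀ d ∈ D, (z ^ i)⁻¹ * d * z ^ i ∈ D := by
    intro i
    induction i with
    | zero => intro d hd; simpa using hd
    | succ i ih =>
      intro d hd
      have : (z ^ (i + 1))⁻¹ * d * z ^ (i + 1) = (z ^ i)⁻¹ * (z⁻¹ * d * z) * z ^ i := by
        rw [pow_succ']; group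
      rw [this]
      exact ih _ (hz d hd)
  have hf1 : f 1 = 1 := by
    have := hf 1 D.one_mem 1 D.one_mem
    rw [mul_one] at this
    exact (mul_eq_left.mp this.symm)
  -- the key expansion
  have key : ∀ i : ℕ, ∀ w ∈ D, f ((z ^ i)⁻¹ * w * z ^ i) =
      ∏ k ∈ Finset.range (i + 1), f (c^[k] w) ^ (i.choose k) := by
    intro i
    induction i with
    | zero => intro w hw; simp
    | succ i ih =>
      intro w hw
      have e1 : (z ^ (i + 1))⁻¹ * w * z ^ (i + 1) =
          ((z ^ i)⁻¹ * w * z ^ i) * ((z ^ i)⁻¹ * c w * z ^ i) := by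
        rw [pow_succ']; simp only [hc]; group
      rw [e1, hf _ (hzi i w hw) _ (hzi i _ (hcD w hw)), ih w hw, ih (c w) (hcD w hw)]
      have e2 : ∀ k, f (c^[k] (c w)) = f (c^[k + 1] w) := fun k => by
        rw [Function.iterate_succ_apply]
      simp only [e2]
      rw [Finset.prod_range_succ' (fun k => f (c^[k] w) ^ ((i + 1).choose k)) (i + 1)]
      have e3 : ∏ k ∈ Finset.range (i + 1), f (c^[k + 1] w) ^ ((i + 1).choose (k + 1)) =
          (∏ k ∈ Finset.range (i + 1), f (c^[k + 1] w) ^ (i.choose k)) *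
          (∏ k ∈ Finset.range (i + 1), f (c^[k + 1] w) ^ (i.choose (k + 1))) := by
        rw [← Finset.prod_mul_distrib]
        apply Finset.prod_congr rfl
        intro k _
        rw [Nat.choose_succ_succ, pow_add]
      rw [e3]
      have e4 : ∏ k ∈ Finset.range (i + 1), f (c^[k] w) ^ (i.choose k) =
          (∏ k ∈ Finset.range (i + 1), f (c^[k + 1] w) ^ (i.choose (k + 1))) *
            f (c^[0] w) ^ (i.choose 0) := by
        have h1 := Finset.prod_range_succ' (fun k => f (c^[k] w) ^ (i.choose k)) (i + 1)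
        have h2 := Finset.prod_range_succ (fun k => f (c^[k] w) ^ (i.choose k)) (i + 1)
        rw [h2] at h1
        rw [← h1, Nat.choose_succ_self, pow_zero, mul_one]
      rw [e4]
      simp only [Nat.choose_zero_right]
      rw [mul_comm, mul_assoc]
  intro w hw
  have h1 : ∀ i ∈ Finset.range p, f ((z ^ i)⁻¹ * w * z ^ i) =
      ∏ k ∈ Finset.range p, f (c^[k] w) ^ (i.choose k) := by
    intro i hi
    rw [Finset.mem_range] at hi
    rw [key i w hw]
    have hsub : Finset.range (i + 1) ⊆ Finset.range p := by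
      intro k hk; rw [Finset.mem_range] at hk ⊢; omega
    apply Finset.prod_subset hsub
    intro k _ hk
    rw [Finset.mem_range] at hk
    rw [Nat.choose_eq_zero_of_lt (by omega), pow_zero]
  rw [Finset.prod_congr rfl h1, Finset.prod_comm]
  apply Finset.prod_eq_one
  intro k hk
  rw [Finset.mem_range] at hk
  rw [Finset.prod_pow_eq_pow_sum, sum_range_choose]
  by_cases hk' : k + 1 = p
  · have : c^[k] w = 1 := by
      have := hE w hw
      rwa [show p - 1 = k by omega] at this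
    rw [this, hf1, one_pow]
  · have hdvd : p ∣ p.choose (k + 1) := hp.dvd_choose_self (by omega) (by omega)
    obtain ⟨t, ht⟩ := hdvd
    rw [ht, pow_mul, hC, one_pow]


/-- A product over a finite set carrying a fixed-point-free map `σ` of order `p` such that the product
of `L` over each `σ`-orbit is trivial is trivial. -/
theorem prod_eq_one_of_free_action {α : Type*} [DecidableEq α] {C : Type*} [CommMonoid C] {p : ℕ}
    (hp : p.Prime) (σ : α → α) (L : α → C) :
    ∀ (n : ℕ) (s : Finset α), s.card = n → (∀ x ∈ s, σ x ∈ s) → (∀ x ∈ s, σ^[p] x = x) →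
      (∀ x ∈ s, σ x ≠ x) → (∀ x ∈ s, ∏ i ∈ Finset.range p, L (σ^[i] x) = 1) →
      ∏ x ∈ s, L x = 1 := by
  intro n
  induction n using Nat.strong_induction_on with
  | _ n ih =>
    intro s hn hσs hσp hσ1 hL
    rcases s.eq_empty_or_nonempty with rfl | ⟨x, hx⟩
    · simp
    have hiter : ∀ k : ℕ, ∀ y ∈ s, σ^[k] y ∈ s := by
      intro k
      induction k with
      | zero => intro y hy; exact hy
      | succ k ihk => intro y hy; rw [Function.iterate_succ_apply']; exact hσs _ (ihk y hy)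
    set o : Finset α := (Finset.range p).image (fun i => σ^[i] x) with ho
    have hos : o ⊆ s := by
      intro y hy
      rw [ho, Finset.mem_image] at hy
      obtain ⟨i, _, rfl⟩ := hy
      exact hiter i x hx
    have hinj : Set.InjOn (fun i => σ^[i] x) (Finset.range p : Set ℕ) := by
      have aux : ∀ i j : ℕ, i < j → j < p → σ^[i] x ≠ σ^[j] x := by
        intro i j hij hjp heq
        set y := σ^[i] x with hy
        have hys : y ∈ s := hiter i x hx
        have h1 : σ^[j - i] y = y := by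
          rw [hy, ← Function.iterate_add_apply, Nat.sub_add_cancel hij.le, ← heq]
        have h2 : Function.IsPeriodicPt σ (j - i) y := h1
        have h3 : Function.IsPeriodicPt σ p y := hσp y hys
        have h4 := h2.gcd h3
        have hcop : Nat.gcd (j - i) p = 1 := by
          have : Nat.Coprime p (j - i) :=
            (Nat.Prime.coprime_iff_not_dvd hp).2 (Nat.not_dvd_of_pos_of_lt (by omega) (by omega))
          exact Nat.Coprime.symm this
        rw [hcop] at h4
        exact hσ1 y hys h4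
      intro i hi j hj heq
      simp only [Finset.coe_range, Set.mem_Iio] at hi hj
      by_contra hne
      rcases Nat.lt_or_gt_of_ne hne with h | h
      · exact aux i j h hj heq
      · exact aux j i h hi heq.symm
    have hprodo : ∏ y ∈ o, L y = 1 := by
      rw [ho, Finset.prod_image hinj]
      exact hL x hx
    have hmemo : ∀ k : ℕ, σ^[k] x ∈ o := by
      intro k
      rw [ho, Finset.mem_image]
      refine ⟨k % p, Finset.mem_range.2 (Nat.mod_lt _ hp.pos), ?_⟩
      have h1 : Function.IsPeriodicPt σ p x := hσp x hx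
      exact h1.iterate_mod_apply k
    have hsplit : ∏ y ∈ s, L y = (∏ y ∈ s \ o, L y) * ∏ y ∈ o, L y :=
      (Finset.prod_sdiff hos).symm
    rw [hsplit, hprodo, mul_one]
    have hcard : (s \ o).card < n := by
      rw [← hn]
      apply Finset.card_lt_card
      refine ⟨Finset.sdiff_subset, ?_⟩
      intro h
      have hxo : x ∈ o := by simpa using hmemo 0
      have := h hx
      rw [Finset.mem_sdiff] at this
      exact this.2 hxo
    apply ih _ hcard (s \ o) rfl
    · intro y hy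
      rw [Finset.mem_sdiff] at hy ⊢
      refine ⟨hσs y hy.1, ?_⟩
      intro hyo
      apply hy.2
      rw [ho, Finset.mem_image] at hyo
      obtain ⟨i, _, hi⟩ := hyo
      have h1 : σ^[p - 1] (σ y) = y := by
        rw [← Function.iterate_succ_apply, show (p - 1).succ = p by have := hp.pos; omega]
        exact hσp y hy.1
      rw [← h1, ← hi, ← Function.iterate_add_apply]
      exact hmemo _
    · intro y hy; exact hσp y (Finset.mem_sdiff.1 hy).1
    · intro y hy; exact hσ1 y (Finset.mem_sdiff.1 hy).1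
    · intro y hy; exact hL y (Finset.mem_sdiff.1 hy).1


open Cfsg.Agent.Lib.H9 MulAction

variable {G : Type*} [Group G] {H : Subgroup G} {C : Type*} [CommGroup C]

/-- `extendHom ϕ` is invariant under conjugation by elements of `H`. -/
theorem extendHom_conj (ϕ : H →* C) {y h : G} (hy : y ∈ H) (hh : h ∈ H) :
    extendHom ϕ (h⁻¹ * y * h) = extendHom ϕ y := by
  rw [extendHom_mul ϕ (H.mul_mem (H.inv_mem hh) hy) hh, extendHom_mul ϕ (H.inv_mem hh) hy,
    mul_comm (extendHom ϕ h⁻¹), mul_assoc, ← extendHom_mul ϕ (H.inv_mem hh) hh, inv_mul_cancel,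
    extendHom_one, mul_one]

theorem extendHom_pow (ϕ : H →* C) {y : G} (hy : y ∈ H) (n : ℕ) :
    extendHom ϕ (y ^ n) = extendHom ϕ y ^ n := by
  rw [extendHom_of_mem ϕ hy, extendHom_of_mem ϕ (H.pow_mem hy n), ← map_pow]
  rfl

/-- value at any representative -/
theorem extendHom_conj_rep (ϕ : H →* C) (v : G) (ω : G ⧸ H) (g : G) (hg : (g : G ⧸ H) = ω)
    (hmem : g⁻¹ * v * g ∈ H) :
    extendHom ϕ (ω.out⁻¹ * v * ω.out) = extendHom ϕ (g⁻¹ * v * g) := by
  have h1 : ((ω.out : G) : G ⧸ H) = (g : G ⧸ H) := by rw [hg]; exact ω.out_eq'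
  have h2 : (ω.out)⁻¹ * g ∈ H := QuotientGroup.eq.mp h1
  have h3 : ω.out⁻¹ * v * ω.out = ((ω.out)⁻¹ * g) * (g⁻¹ * v * g) * ((ω.out)⁻¹ * g)⁻¹ := by group
  rw [h3]
  have := extendHom_conj ϕ hmem (H.inv_mem h2)
  rw [inv_inv] at this
  exact this

/-- If the orbits of `⟨u⟩` on `G ⧸ H` of length `> 1` contribute trivially, the transfer of `u`
is the product over the fixed points. -/
theorem transfer_eq_prod_fixed [H.FiniteIndex] [Fintype (G ⧸ H)] [DecidableEq (G ⧸ H)]
    (ϕ : H →* C) (u : G)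
    (hbig : ∀ ω : G ⧸ H, Function.minimalPeriod (u • ·) ω ≠ 1 →
      extendHom ϕ (ω.out⁻¹ * u ^ Function.minimalPeriod (u • ·) ω * ω.out) = 1) :
    ϕ.transfer u = ∏ ω ∈ Finset.univ.filter (fun ω : G ⧸ H => u • ω = ω),
      extendHom ϕ (ω.out⁻¹ * u * ω.out) := by
  classical
  have : Fintype (Quotient (orbitRel (Subgroup.zpowers u) (G ⧸ H))) := Fintype.ofFinite _
  rw [MonoidHom.transfer_eq_prod_quotient_orbitRel_zpowers_quot ϕ u]
  have h1 : ∀ q : Quotient (orbitRel (Subgroup.zpowers u) (G ⧸ H)),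
      ϕ ⟨q.out.out⁻¹ * u ^ Function.minimalPeriod (u • ·) q.out * q.out.out,
        QuotientGroup.out_conj_pow_minimalPeriod_mem H u q.out⟩ =
      extendHom ϕ (q.out.out⁻¹ * u ^ Function.minimalPeriod (u • ·) q.out * q.out.out) := by
    intro q
    rw [extendHom_of_mem ϕ (QuotientGroup.out_conj_pow_minimalPeriod_mem H u q.out)]
  rw [Finset.prod_congr rfl (fun q _ => h1 q)]
  rw [← Finset.prod_filter_of_ne (p := fun q : Quotient (orbitRel (Subgroup.zpowers u) (G ⧸ H)) =>
    Function.minimalPeriod (u • ·) q.out = 1)]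
  · refine Finset.prod_bij (fun q _ => q.out) ?_ ?_ ?_ ?_
    · intro q hq
      rw [Finset.mem_filter] at hq ⊢
      refine ⟨Finset.mem_univ _, ?_⟩
      exact Function.minimalPeriod_eq_one_iff_isFixedPt.1 hq.2
    · intro q₁ _ q₂ _ h
      rw [← Quotient.out_eq q₁, ← Quotient.out_eq q₂, h]
    · intro ω hω
      rw [Finset.mem_filter] at hω
      have hfix : ∀ k : Subgroup.zpowers u, k • ω = ω := by
        rintro ⟨k, n, rfl⟩
        show (u ^ n) • ω = ω
        exact (MulAction.zpow_smul_eq_iff_minimalPeriod_dvd).2 (by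
          have : Function.minimalPeriod (u • ·) ω = 1 :=
            Function.minimalPeriod_eq_one_iff_isFixedPt.2 hω.2
          rw [this]; exact one_dvd _)
      have hout : (Quotient.mk'' ω : Quotient (orbitRel (Subgroup.zpowers u) (G ⧸ H))).out = ω := by
        have h2 : (orbitRel (Subgroup.zpowers u) (G ⧸ H))
            (Quotient.mk'' ω : Quotient (orbitRel (Subgroup.zpowers u) (G ⧸ H))).out ω :=
          Quotient.exact (Quotient.out_eq _)
        rw [orbitRel_apply] at h2
        obtain ⟨k, hk⟩ := h2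
        rw [← hk]
        exact hfix k
      refine ⟨Quotient.mk'' ω, ?_, hout⟩
      rw [Finset.mem_filter]
      refine ⟨Finset.mem_univ _, ?_⟩
      rw [hout]
      exact Function.minimalPeriod_eq_one_iff_isFixedPt.2 hω.2
    · intro q hq
      rw [Finset.mem_filter] at hq
      rw [hq.2, pow_one]
  · intro q _ hne
    by_contra hmp
    exact hne (hbig q.out hmp)


open scoped Pointwise

variable {G : Type*} [Group G]

/-- normalizers grow in `p`-groups -/
theorem exists_mem_normalizer_not_mem_of_lt {p : ℕ} [Fact p.Prime] {K T : Subgroup G} [Finite K]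
    (hK : IsPGroup p K) (hTK : T < K) :
    ∃ n ∈ K, n ∈ Subgroup.normalizer (T : Set G) ∧ n ∉ T := by
  have : Group.IsNilpotent K := hK.isNilpotent
  have hlt : T.subgroupOf K < ⊤ := by
    rw [lt_top_iff_ne_top, Ne, Subgroup.subgroupOf_eq_top]
    exact not_le_of_gt hTK
  have h2 := Group.normalizerCondition_of_isNilpotent (G := K) (T.subgroupOf K) hlt
  obtain ⟨n, hn1, hn2⟩ := SetLike.exists_of_lt h2
  refine ⟨n, n.2, ?_, fun h => hn2 (Subgroup.mem_subgroupOf.mpr h)⟩
  rw [Subgroup.mem_normalizer_iff] at hn1 ⊢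
  intro x
  constructor
  · intro hx
    have := (hn1 ⟨x, hTK.le hx⟩).1 (Subgroup.mem_subgroupOf.mpr hx)
    exact Subgroup.mem_subgroupOf.mp this
  · intro hx
    have hxK : x ∈ K := by
      have h3 : (n : G)⁻¹ * ((n : G) * x * (n : G)⁻¹) * (n : G) ∈ K :=
        K.mul_mem (K.mul_mem (K.inv_mem n.2) (hTK.le hx)) n.2
      have h4 : (n : G)⁻¹ * ((n : G) * x * (n : G)⁻¹) * (n : G) = x := by group
      rwa [h4] at h3
    have := (hn1 ⟨x, hxK⟩).2 (Subgroup.mem_subgroupOf.mpr hx)
    exact Subgroup.mem_subgroupOf.mp this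

/-- If `Q` is a subgroup of the `p`-group `P` normalized by `P` and `D ≤ P` does not contain `Q`, then
some `z ∈ Q` normalizes `D`, lies outside `D` and has `z ^ p ∈ D`. -/
theorem exists_normalizing {p : ℕ} [hp : Fact p.Prime] {P Q D : Subgroup G} [Finite P]
    (hP : IsPGroup p P) (hQP : Q ≤ P) (hPQ : P ≤ Subgroup.normalizer (Q : Set G))
    (hDP : D ≤ P) (hQD : ¬ Q ≤ D) :
    ∃ z ∈ Q, z ∈ Subgroup.normalizer (D : Set G) ∧ z ∉ D ∧ z ^ p ∈ D := by
  have hKP : D ⊔ Q ≤ P := sup_le hDP hQP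
  have : Finite ↥(D ⊔ Q) := Finite.of_injective (Subgroup.inclusion hKP)
    (Subgroup.inclusion_injective hKP)
  have hK : IsPGroup p ↥(D ⊔ Q) := hP.to_le hKP
  have hlt : D < D ⊔ Q := by
    refine lt_of_le_of_ne le_sup_left ?_
    intro h
    apply hQD
    rw [h]
    exact le_sup_right
  obtain ⟨n, hnK, hnN, hnD⟩ := exists_mem_normalizer_not_mem_of_lt hK hlt
  have hset := Subgroup.coe_mul_of_left_le_normalizer_right D Q (hDP.trans hPQ)
  have hn' : n ∈ ((D : Set G) * (Q : Set G)) := by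
    rw [← hset]; exact hnK
  obtain ⟨d, hd, q, hq, rfl⟩ := hn'
  have hd' : d ∈ (D : Subgroup G) := hd
  have hq' : q ∈ (Q : Subgroup G) := hq
  have hqN : q ∈ Subgroup.normalizer (D : Set G) := by
    have : q = d⁻¹ * (d * q) := by group
    rw [this]
    exact Subgroup.mul_mem _ (Subgroup.inv_mem _ (Subgroup.le_normalizer hd')) hnN
  have hqD : q ∉ D := fun h => hnD (D.mul_mem hd' h)
  -- reduce the order modulo `D`
  have hex : ∃ k : ℕ, q ^ (p ^ k) ∈ D := by
    obtain ⟨k, hk⟩ := hP ⟨q, hQP hq'⟩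
    refine ⟨k, ?_⟩
    have : q ^ (p ^ k) = 1 := by
      have := congrArg Subtype.val hk
      simpa using this
    rw [this]; exact D.one_mem
  classical
  set k₀ := Nat.find hex with hk₀
  have hk₀spec : q ^ (p ^ k₀) ∈ D := Nat.find_spec hex
  have hk₀ne : k₀ ≠ 0 := by
    intro h0
    rw [h0, pow_zero, pow_one] at hk₀spec
    exact hqD hk₀spec
  refine ⟨q ^ (p ^ (k₀ - 1)), Q.pow_mem hq' _, Subgroup.pow_mem _ hqN _, ?_, ?_⟩
  · exact Nat.find_min hex (by omega : k₀ - 1 < k₀)
  · rw [← pow_mul, ← pow_succ, show k₀ - 1 + 1 = k₀ by omega]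
    exact hk₀spec


section main

variable {G : Type*} [Group G]

theorem transfer_conj_eq {H : Subgroup G} [H.FiniteIndex] {C : Type*} [CommGroup C] (ϕ : H →* C)
    (a v : G) : ϕ.transfer (a⁻¹ * v * a) = ϕ.transfer v := by
  rw [map_mul, map_mul, map_inv, mul_comm, ← mul_assoc, mul_inv_cancel, one_mul]

/-- `D_ω = P ∩ G_ω` is unchanged when `ω` is moved by an element of `P` normalizing it. -/
theorem inf_stabilizer_smul {α : Type*} [MulAction G α] (P : Subgroup G) (ω : α) (a : G) (ha : a ∈ P)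
    (han : a ∈ Subgroup.normalizer ((P ⊓ MulAction.stabilizer G ω : Subgroup G) : Set G)) :
    P ⊓ MulAction.stabilizer G (a • ω) = P ⊓ MulAction.stabilizer G ω := by
  ext d
  rw [Subgroup.mem_inf, Subgroup.mem_inf, MulAction.mem_stabilizer_iff, MulAction.mem_stabilizer_iff]
  have h1 := (Subgroup.mem_normalizer_iff.1 (Subgroup.inv_mem _ han)) d
  rw [inv_inv, Subgroup.mem_inf, Subgroup.mem_inf, MulAction.mem_stabilizer_iff,
    MulAction.mem_stabilizer_iff] at h1
  constructor
  · rintro ⟨hdP, hd⟩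
    have h2 : a⁻¹ * d * a ∈ P := P.mul_mem (P.mul_mem (P.inv_mem ha) hdP) ha
    have h3 : (a⁻¹ * d * a) • ω = ω := by
      rw [mul_smul, mul_smul, hd, inv_smul_smul]
    exact h1.2 ⟨h2, h3⟩
  · rintro ⟨hdP, hd⟩
    obtain ⟨_, h3⟩ := h1.1 ⟨hdP, hd⟩
    refine ⟨hdP, ?_⟩
    rw [mul_smul, mul_smul] at h3
    have := congrArg (a • ·) h3
    simpa using this

variable [Finite G] {p : ℕ} [hp : Fact p.Prime]

/-- A Sylow subgroup normalizes its weakly closed subgroups. -/
theorem sylow_le_normalizer_of_weaklyClosed (P : Sylow p G) (Q : Subgroup G)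
    (hQ : Cfsg.IsWeaklyClosed Q (P : Subgroup G)) :
    (P : Subgroup G) ≤ Subgroup.normalizer (Q : Set G) := by
  intro g hg
  rw [Subgroup.mem_normalizer_iff_map_conj_eq]
  apply hQ.2 g
  rintro _ ⟨q, hq, rfl⟩
  exact (P : Subgroup G).mul_mem ((P : Subgroup G).mul_mem hg (hQ.1 hq)) ((P : Subgroup G).inv_mem hg)

/-- Only the trivial coset of `N_G(Q)` is fixed by the weakly closed subgroup `Q`. -/
theorem mem_normalizer_of_conj_le (P : Sylow p G) (Q : Subgroup G)
    (hQ : Cfsg.IsWeaklyClosed Q (P : Subgroup G)) (x : G)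
    (hx : ∀ q ∈ Q, x⁻¹ * q * x ∈ Subgroup.normalizer (Q : Set G)) :
    x ∈ Subgroup.normalizer (Q : Set G) := by
  set H := Subgroup.normalizer (Q : Set G) with hH
  have hPH : (P : Subgroup G) ≤ H := sylow_le_normalizer_of_weaklyClosed P Q hQ
  set A : Subgroup H := (Q.map (MulAut.conj x⁻¹).toMonoidHom).subgroupOf H with hA
  have hQp : IsPGroup p Q := P.2.to_le hQ.1
  have hAp : IsPGroup p A := (hQp.map _).comap_subtype
  obtain ⟨h, hh⟩ := Cfsg.Agent.Lib.H16.exists_conj_mem_sylow A hAp (P.subtype hPH)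
  have key : Q.map (MulAut.conj ((h : G) * x⁻¹)).toMonoidHom ≤ (P : Subgroup G) := by
    rintro _ ⟨q, hq, rfl⟩
    have h1 : (⟨x⁻¹ * q * x, hx q hq⟩ : H) ∈ A := by
      rw [hA, Subgroup.mem_subgroupOf]
      exact ⟨q, hq, by simp [MulAut.conj_apply]⟩
    have h2 := hh _ h1
    rw [Sylow.coe_subtype, Subgroup.mem_subgroupOf] at h2
    have h3 : (MulAut.conj ((h : G) * x⁻¹)).toMonoidHom q = (h : G) * (x⁻¹ * q * x) * (h : G)⁻¹ := by
      simp [MulAut.conj_apply, mul_assoc]
    rw [h3]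
    simpa using h2
  have h1 := hQ.2 _ key
  have h2 : (h : G) * x⁻¹ ∈ H := by
    show (h : G) * x⁻¹ ∈ Subgroup.normalizer (Q : Set G)
    rw [Subgroup.mem_normalizer_iff_map_conj_eq]; exact h1
  have h3 : x⁻¹ ∈ H := by
    have : x⁻¹ = (h : G)⁻¹ * ((h : G) * x⁻¹) := by group
    rw [this]; exact H.mul_mem (H.inv_mem h.2) h2
  simpa using H.inv_mem h3

/-- **Hall–Wielandt, elementary form.** -/
theorem transfer_eq_of_engel (P : Sylow p G) (Q : Subgroup G)
    (hQ : Cfsg.IsWeaklyClosed Q (P : Subgroup G))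
    (hE : ∀ u ∈ (P : Subgroup G), ∀ z ∈ Q, (fun y : G => y⁻¹ * z⁻¹ * y * z)^[p - 1] u = 1)
    {C : Type*} [CommGroup C] (hC : ∀ c : C, c ^ p = 1)
    (H : Subgroup G) (hH : H = Subgroup.normalizer (Q : Set G)) (ρ : ↥H →* C) :
    ∀ (n : ℕ) (u : G), u ∈ (P : Subgroup G) → orderOf u = n → ρ.transfer u = extendHom ρ u := by
  classical
  have hpp : p.Prime := hp.out
  have hHmem : ∀ g : G, g ∈ H ↔ g ∈ Subgroup.normalizer (Q : Set G) := fun g => by rw [hH]
  have hPN : (P : Subgroup G) ≤ Subgroup.normalizer (Q : Set G) :=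
    sylow_le_normalizer_of_weaklyClosed P Q hQ
  have hPH : (P : Subgroup G) ≤ H := fun g hg => (hHmem g).2 (hPN hg)
  have hQP : Q ≤ (P : Subgroup G) := hQ.1
  have : Fintype (G ⧸ H) := Fintype.ofFinite _
  intro n
  induction n using Nat.strong_induction_on with
  | _ n ih =>
  intro u hu hn
  -- Step A: conjugates of elements of smaller order
  have hA : ∀ v ∈ (P : Subgroup G), orderOf v < n → ∀ g : G, g⁻¹ * v * g ∈ H →
      extendHom ρ (g⁻¹ * v * g) = extendHom ρ v := by
    intro v hv hvn g hmem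
    set y : H := ⟨g⁻¹ * v * g, hmem⟩ with hy
    have hyp : IsPGroup p (Subgroup.zpowers y) := by
      obtain ⟨k, hk⟩ := P.2 ⟨v, hv⟩
      have hvk : v ^ (p ^ k) = 1 := by
        have := congrArg Subtype.val hk
        simpa using this
      have hyk : y ^ (p ^ k) = 1 := by
        apply Subtype.ext
        rw [hy]
        simp only [Subgroup.coe_pow, Subgroup.coe_one]
        have e := conj_pow (a := g⁻¹) (b := v) (i := p ^ k)
        rw [inv_inv] at e
        rw [e, hvk]
        group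
      have hdvd : orderOf y ∣ p ^ k := orderOf_dvd_of_pow_eq_one hyk
      obtain ⟨j, _, hj⟩ := (Nat.dvd_prime_pow hpp).1 hdvd
      exact IsPGroup.of_card (n := j) (by rw [Nat.card_zpowers, hj])
    obtain ⟨h, hh⟩ := Cfsg.Agent.Lib.H16.exists_conj_mem_sylow _ hyp (P.subtype hPH)
    have h1 := hh y (Subgroup.mem_zpowers y)
    rw [Sylow.coe_subtype, Subgroup.mem_subgroupOf] at h1
    have h2 : ((h * y * h⁻¹ : H) : G) = ((g * (h : G)⁻¹)⁻¹ * v * (g * (h : G)⁻¹)) := by
      rw [hy]; simp only [Subgroup.coe_mul, Subgroup.coe_inv]; group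
    rw [h2] at h1
    have h3 : orderOf ((g * (h : G)⁻¹)⁻¹ * v * (g * (h : G)⁻¹)) = orderOf v := by
      have := (MulAut.conj (g * (h : G)⁻¹)⁻¹).orderOf_eq v
      rw [MulAut.conj_apply, inv_inv] at this
      exact this
    have h4 := ih _ hvn _ h1 h3
    have h5 := ih _ hvn v hv rfl
    rw [transfer_conj_eq] at h4
    rw [h4] at h5
    rw [← h5]
    have h6 : (g * (h : G)⁻¹)⁻¹ * v * (g * (h : G)⁻¹) =
        ((h : G)⁻¹)⁻¹ * (g⁻¹ * v * g) * (h : G)⁻¹ := by group
    rw [h6]
    exact (extendHom_conj ρ hmem (H.inv_mem h.2)).symm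
  have huH : u ∈ H := hPH hu
  have hρu : extendHom ρ u ^ p = 1 := hC _
  -- Step B
  have hbig : ∀ ω : G ⧸ H, Function.minimalPeriod (u • ·) ω ≠ 1 →
      extendHom ρ (ω.out⁻¹ * u ^ Function.minimalPeriod (u • ·) ω * ω.out) = 1 := by
    intro ω hω
    set m := Function.minimalPeriod (u • ·) ω with hm
    have hmdvd : m ∣ orderOf u := by
      rw [hm, ← MulAction.pow_smul_eq_iff_minimalPeriod_dvd, pow_orderOf_eq_one, one_smul]
    have hpow : ∃ k, orderOf u = p ^ k := by
      obtain ⟨k, hk⟩ := (IsPGroup.iff_orderOf.1 P.2) ⟨u, hu⟩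
      exact ⟨k, by rw [← hk, Subgroup.orderOf_mk]⟩
    obtain ⟨k, hk⟩ := hpow
    have hpm : p ∣ m := by
      rw [hk] at hmdvd
      obtain ⟨j, _, hj⟩ := (Nat.dvd_prime_pow hpp).1 hmdvd
      rcases Nat.eq_zero_or_pos j with h0 | h0
      · rw [h0, pow_zero] at hj; exact absurd hj hω
      · rw [hj]; exact dvd_pow_self p (by omega)
    have hm0 : m ≠ 0 := by
      intro h0; rw [h0] at hpm
      have : 0 < orderOf u := orderOf_pos u
      rw [h0] at hmdvd
      have := Nat.eq_zero_of_zero_dvd hmdvd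
      omega
    have hord : orderOf (u ^ m) < n := by
      rw [orderOf_pow_of_dvd hm0 hmdvd, ← hn]
      have h1 : 0 < orderOf u := orderOf_pos u
      have h2 : 1 < m := by
        have := hpp.two_le
        have := Nat.le_of_dvd (Nat.pos_of_ne_zero hm0) hpm
        omega
      exact Nat.div_lt_self h1 h2
    have hmem := QuotientGroup.out_conj_pow_minimalPeriod_mem H u ω
    rw [hA (u ^ m) ((P : Subgroup G).pow_mem hu m) hord ω.out hmem, extendHom_pow ρ huH]
    obtain ⟨t, ht⟩ := hpm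
    rw [ht, pow_mul, hρu, one_pow]
  rw [transfer_eq_prod_fixed ρ u hbig]
  -- Step C
  set Fx := Finset.univ.filter (fun ω : G ⧸ H => u • ω = ω) with hFx
  set L : G ⧸ H → C := fun ω => extendHom ρ (ω.out⁻¹ * u * ω.out) with hL
  set ω₀ : G ⧸ H := ((1 : G) : G ⧸ H) with hω₀
  have hω₀Fx : ω₀ ∈ Fx := by
    rw [hFx, Finset.mem_filter]
    refine ⟨Finset.mem_univ _, ?_⟩
    rw [hω₀, MulAction.Quotient.smul_mk, smul_eq_mul, mul_one]
    exact (QuotientGroup.eq.2 (by simpa using H.inv_mem huH))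
  rw [← Finset.mul_prod_erase Fx L hω₀Fx]
  have hLω₀ : L ω₀ = extendHom ρ u := by
    have := extendHom_conj_rep ρ u ω₀ 1 rfl (by simpa using huH)
    rw [hL]
    simp only
    rw [this]
    simp
  rw [hLω₀]
  suffices hsuff : ∏ ω ∈ Fx.erase ω₀, L ω = 1 by rw [hsuff, mul_one]
  -- the subgroups `D_ω`
  set Dsub : G ⧸ H → Subgroup G := fun ω => (P : Subgroup G) ⊓ MulAction.stabilizer G ω with hD
  have hQD : ∀ ω ∈ Fx.erase ω₀, ¬ Q ≤ Dsub ω := by
    intro ω hω hle
    rw [Finset.mem_erase] at hω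
    apply hω.1
    have hx : ω.out ∈ H := by
      rw [hHmem]
      apply mem_normalizer_of_conj_le P Q hQ
      intro q hq
      rw [← hHmem]
      have h1 : q • ω = ω := by
        have := (hle hq).2
        exact MulAction.mem_stabilizer_iff.1 this
      have h2 : ((q * ω.out : G) : G ⧸ H) = ((ω.out : G) : G ⧸ H) := by
        rw [← smul_eq_mul, ← MulAction.Quotient.smul_mk, QuotientGroup.out_eq']
        exact h1
      have h3 := QuotientGroup.eq.1 h2.symm
      simpa [mul_assoc] using h3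
    rw [hω₀, ← QuotientGroup.out_eq' ω]
    exact QuotientGroup.eq.2 (by simpa using H.inv_mem hx)
  have hex : ∀ D : Subgroup G, D ≤ (P : Subgroup G) ∧ ¬ Q ≤ D →
      ∃ z ∈ Q, z ∈ Subgroup.normalizer (D : Set G) ∧ z ∉ D ∧ z ^ p ∈ D := by
    intro D hD
    exact exists_normalizing P.2 hQP hPN hD.1 hD.2
  set ζ : Subgroup G → G := fun D =>
    if h : D ≤ (P : Subgroup G) ∧ ¬ Q ≤ D then Classical.choose (hex D h) else 1 with hζ
  have hζspec : ∀ D : Subgroup G, D ≤ (P : Subgroup G) → ¬ Q ≤ D →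
      ζ D ∈ Q ∧ ζ D ∈ Subgroup.normalizer (D : Set G) ∧ ζ D ∉ D ∧ ζ D ^ p ∈ D := by
    intro D h1 h2
    have h : D ≤ (P : Subgroup G) ∧ ¬ Q ≤ D := ⟨h1, h2⟩
    have := Classical.choose_spec (hex D h)
    rw [hζ]
    simp only [dif_pos h]
    exact this
  set σ : G ⧸ H → G ⧸ H := fun ω => ζ (Dsub ω) • ω with hσ
  have hDle : ∀ ω, Dsub ω ≤ (P : Subgroup G) := fun ω => inf_le_left
  -- iterates
  have hiter : ∀ ω ∈ Fx.erase ω₀, ∀ i : ℕ, σ^[i] ω = (ζ (Dsub ω)) ^ i • ω ∧
      Dsub (σ^[i] ω) = Dsub ω := by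
    intro ω hω i
    obtain ⟨hzQ, hzN, hzD, hzp⟩ := hζspec (Dsub ω) (hDle ω) (hQD ω hω)
    induction i with
    | zero => simp
    | succ i ihi =>
      rw [Function.iterate_succ_apply']
      obtain ⟨h1, h2⟩ := ihi
      have h3 : σ (σ^[i] ω) = ζ (Dsub ω) • (σ^[i] ω) := by
        rw [hσ]; simp only; rw [h2]
      have h4 : ζ (Dsub ω) ^ (i + 1) • ω = ζ (Dsub ω) • (σ^[i] ω) := by
        rw [h1, pow_succ', mul_smul]
      refine ⟨by rw [h3, h4], ?_⟩
      rw [h3, ← h4]
      exact inf_stabilizer_smul (P : Subgroup G) ω _ ((P : Subgroup G).pow_mem (hQP hzQ) _)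
        (Subgroup.pow_mem _ hzN _)
  have huD : ∀ ω ∈ Fx.erase ω₀, u ∈ Dsub ω := by
    intro ω hω
    rw [Finset.mem_erase, hFx, Finset.mem_filter] at hω
    exact ⟨hu, MulAction.mem_stabilizer_iff.2 hω.2.2⟩
  have hσmem : ∀ ω ∈ Fx.erase ω₀, σ ω ∈ Fx.erase ω₀ := by
    intro ω hω
    obtain ⟨hzQ, hzN, hzD, hzp⟩ := hζspec (Dsub ω) (hDle ω) (hQD ω hω)
    have h1 := hiter ω hω 1
    simp only [Function.iterate_one, pow_one] at h1
    rw [Finset.mem_erase]
    constructor
    · intro h0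
      apply hQD ω hω
      rw [← h1.2, h0]
      intro q hq
      refine ⟨hQP hq, ?_⟩
      show q ∈ MulAction.stabilizer G ω₀
      rw [MulAction.mem_stabilizer_iff, hω₀, MulAction.Quotient.smul_mk, smul_eq_mul, mul_one]
      exact QuotientGroup.eq.2 (by simpa using H.inv_mem ((hHmem q).2 (Subgroup.le_normalizer hq)))
    · rw [hFx, Finset.mem_filter]
      refine ⟨Finset.mem_univ _, ?_⟩
      have h2 : u ∈ Dsub (σ ω) := by rw [h1.2]; exact huD ω hω
      exact MulAction.mem_stabilizer_iff.1 h2.2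
  apply prod_eq_one_of_free_action hpp σ L _ (Fx.erase ω₀) rfl hσmem
  · -- σ^p = id
    intro ω hω
    obtain ⟨hzQ, hzN, hzD, hzp⟩ := hζspec (Dsub ω) (hDle ω) (hQD ω hω)
    rw [(hiter ω hω p).1]
    exact MulAction.mem_stabilizer_iff.1 hzp.2
  · -- no fixed points
    intro ω hω hfix
    obtain ⟨hzQ, hzN, hzD, hzp⟩ := hζspec (Dsub ω) (hDle ω) (hQD ω hω)
    apply hzD
    exact ⟨hQP hzQ, MulAction.mem_stabilizer_iff.2 hfix⟩
  · -- orbit products
    intro ω hω
    obtain ⟨hzQ, hzN, hzD, hzp⟩ := hζspec (Dsub ω) (hDle ω) (hQD ω hω)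
    set z := ζ (Dsub ω) with hz
    set x := ω.out with hx
    have hstab : ∀ d ∈ Dsub ω, x⁻¹ * d * x ∈ H := by
      intro d hd
      have h1 : d • ω = ω := MulAction.mem_stabilizer_iff.1 hd.2
      have h2 : ((d * x : G) : G ⧸ H) = ((x : G) : G ⧸ H) := by
        rw [← smul_eq_mul, ← MulAction.Quotient.smul_mk, hx, QuotientGroup.out_eq']
        exact h1
      have h3 := QuotientGroup.eq.1 h2.symm
      simpa [mul_assoc] using h3
    set f : G → C := fun d => extendHom ρ (x⁻¹ * d * x) with hf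
    have hfmul : ∀ a ∈ Dsub ω, ∀ b ∈ Dsub ω, f (a * b) = f a * f b := by
      intro a ha b hb
      rw [hf]
      simp only
      rw [← extendHom_mul ρ (hstab a ha) (hstab b hb)]
      congr 1
      group
    have hznorm : ∀ d ∈ Dsub ω, z⁻¹ * d * z ∈ Dsub ω := by
      intro d hd
      have := (Subgroup.mem_normalizer_iff.1 (Subgroup.inv_mem _ hzN) d).1 hd
      simpa using this
    have hEng : ∀ d ∈ Dsub ω, (fun y : G => y⁻¹ * z⁻¹ * y * z)^[p - 1] d = 1 :=
      fun d hd => hE d hd.1 z hzQ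
    have hmain := prod_conj_eq_one hpp hC (Dsub ω) z hznorm hEng f hfmul u (huD ω hω)
    rw [← hmain]
    apply Finset.prod_congr rfl
    intro i _
    rw [(hiter ω hω i).1]
    have hzi : z ^ i ∈ (P : Subgroup G) := (P : Subgroup G).pow_mem (hQP hzQ) i
    have hziN : z ^ i ∈ Subgroup.normalizer ((Dsub ω : Subgroup G) : Set G) :=
      Subgroup.pow_mem _ hzN i
    have hconj : (z ^ i)⁻¹ * u * z ^ i ∈ Dsub ω := by
      have := (Subgroup.mem_normalizer_iff.1 (Subgroup.inv_mem _ hziN) u).1 (huD ω hω)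
      simpa using this
    have hrep : ((z ^ i * x : G) : G ⧸ H) = z ^ i • ω := by
      rw [← smul_eq_mul, ← MulAction.Quotient.smul_mk, hx, QuotientGroup.out_eq']
    have hmem : (z ^ i * x)⁻¹ * u * (z ^ i * x) ∈ H := by
      have := hstab _ hconj
      have e : (z ^ i * x)⁻¹ * u * (z ^ i * x) = x⁻¹ * ((z ^ i)⁻¹ * u * z ^ i) * x := by group
      rw [e]; exact this
    rw [hL]
    simp only
    rw [extendHom_conj_rep ρ u (z ^ i • ω) (z ^ i * x) hrep hmem, hf]
    simp only
    congr 1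
    group

end main

end Cfsg.Agent.Lib.H9.HW
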