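import Cfsg.Agent.Lib.H9.HallWielandt
import Cfsg.Agent.Lib.L0.TateGeneral
import Cfsg.Agent.Lib.H1.PGroupBasic
import Cfsg.Prelude.Def_BaumannBlocks

/-! helper9: Hall–Wielandt theorem, endgame: from the elementary transfer evaluation (`HallWielandt.lean`) to `P ∩ G' ≤ N_G(Q)'` and `O^p(N_G(Q)) = O^p(G) ∩ N_G(Q)` (uses lead's Tate). -/

set_option autoImplicit false

namespace Cfsg.Agent.Lib.H9.HW

open Cfsg.Agent.Lib.H9 MulAction

section endgame

variable {G : Type*} [Group G]

theorem extendHom_comp {H : Subgroup G} {C C' : Type*} [CommGroup C] [CommGroup C'] (π : C →* C')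
    (ϕ : H →* C) (x : G) : extendHom (π.comp ϕ) x = π (extendHom ϕ x) := by
  by_cases hx : x ∈ H
  · rw [extendHom_of_mem _ hx, extendHom_of_mem _ hx]; rfl
  · unfold extendHom
    simp [hx]

theorem transfer_comp {H : Subgroup G} [H.FiniteIndex] {C C' : Type*} [CommGroup C] [CommGroup C']
    (π : C →* C') (ϕ : H →* C) (g : G) : (π.comp ϕ).transfer g = π (ϕ.transfer g) := by
  have : Fintype (G ⧸ H) := Subgroup.fintypeQuotientOfFiniteIndex
  rw [transfer_eq_prod_out, transfer_eq_prod_out, map_prod]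
  apply Finset.prod_congr rfl
  intro q _
  exact extendHom_comp π ϕ _

/-- In a commutative group the subgroup generated by `p'`-elements consists of `p'`-elements. -/
theorem coprime_orderOf_of_mem_closure {A : Type*} [CommGroup A] {p : ℕ} (S : Set A)
    (hS : ∀ a ∈ S, (orderOf a).Coprime p) : ∀ a ∈ Subgroup.closure S, (orderOf a).Coprime p := by
  intro a ha
  induction ha using Subgroup.closure_induction with
  | mem x hx => exact hS x hx
  | one => simp
  | mul x y _ _ hx hy =>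
    exact Nat.Coprime.coprime_dvd_left
      (((Commute.all x y).orderOf_mul_dvd_lcm).trans (Nat.lcm_dvd_mul _ _))
      (Nat.Coprime.mul_left hx hy)
  | inv x _ hx => rwa [orderOf_inv]

variable [Finite G] {p : ℕ} [hp : Fact p.Prime]

/-- **Hall–Wielandt**: the focal subgroup of `P` is contained in `N_G(Q)'`. -/
theorem commutator_inf_sylow_le_of_engel (P : Sylow p G) (Q : Subgroup G)
    (hQ : Cfsg.IsWeaklyClosed Q (P : Subgroup G))
    (hE : ∀ u ∈ (P : Subgroup G), ∀ z ∈ Q, (fun y : G => y⁻¹ * z⁻¹ * y * z)^[p - 1] u = 1) :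
    commutator G ⊓ (P : Subgroup G) ≤
      ⁅Subgroup.normalizer (Q : Set G), Subgroup.normalizer (Q : Set G)⁆ := by
  classical
  have hpp : p.Prime := hp.out
  obtain ⟨H, hH⟩ : ∃ H : Subgroup G, H = Subgroup.normalizer (Q : Set G) := ⟨_, rfl⟩
  rw [← hH]
  have hPH : (P : Subgroup G) ≤ H := hH ▸ sylow_le_normalizer_of_weaklyClosed P Q hQ
  have hKn : (Cfsg.pResidual p H).Normal := Cfsg.Agent.Lib.H14.pResidual_normal'
  -- the target group
  obtain ⟨N, hN⟩ : ∃ N : Subgroup (Abelianization H),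
      N = (Cfsg.pResidual p H).map Abelianization.of := ⟨_, rfl⟩
  obtain ⟨ρ, hρ⟩ : ∃ ρ : H →* (Abelianization H ⧸ N),
      ρ = (QuotientGroup.mk' N).comp Abelianization.of := ⟨_, rfl⟩
  have hρapp : ∀ h : H, ρ h = QuotientGroup.mk' N (Abelianization.of h) := fun h => by rw [hρ]; rfl
  have hρsurj : Function.Surjective ρ := by
    intro a
    obtain ⟨b, rfl⟩ := QuotientGroup.mk'_surjective N a
    obtain ⟨h, rfl⟩ := QuotientGroup.mk'_surjective (commutator H) b
    exact ⟨h, hρapp h⟩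
  have hρker : ∀ k ∈ Cfsg.pResidual p H, ρ k = 1 := by
    intro k hk
    rw [hρapp, QuotientGroup.mk'_apply, QuotientGroup.eq_one_iff, hN]
    exact Subgroup.mem_map_of_mem _ hk
  -- `A` is a `p`-group
  have hAp : IsPGroup p (Abelianization H ⧸ N) := by
    intro a
    obtain ⟨h, rfl⟩ := hρsurj a
    obtain ⟨k, hk⟩ := (Cfsg.Agent.Lib.H14.pResidual_quotient_isPGroup (H := H) (p := p))
      (QuotientGroup.mk' _ h)
    refine ⟨k, ?_⟩
    rw [← map_pow]
    apply hρker
    rw [← map_pow, QuotientGroup.mk'_apply, QuotientGroup.eq_one_iff] at hk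
    exact hk
  -- the standard fact
  have hstd : ∀ u : H, (u : G) ∈ (P : Subgroup G) → ρ u = 1 → u ∈ commutator H := by
    intro u hu hu1
    rw [hρapp, QuotientGroup.mk'_apply, QuotientGroup.eq_one_iff, hN] at hu1
    have hcl : (Cfsg.pResidual p H).map (Abelianization.of (G := H)) =
        Subgroup.closure ((Abelianization.of (G := H)) '' {g : H | Nat.Coprime (orderOf g) p}) := by
      unfold Cfsg.pResidual
      rw [MonoidHom.map_closure]
    rw [hcl] at hu1
    have hcop := coprime_orderOf_of_mem_closure (p := p) _ (by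
      rintro _ ⟨g, hg, rfl⟩
      exact Nat.Coprime.coprime_dvd_left (orderOf_map_dvd _ g) hg) _ hu1
    obtain ⟨k, hk⟩ := P.2 ⟨(u : G), hu⟩
    have huk : u ^ (p ^ k) = 1 := by
      apply Subtype.ext
      have := congrArg Subtype.val hk
      simpa using this
    have hdvd : orderOf (Abelianization.of u) ∣ p ^ k := by
      apply orderOf_dvd_of_pow_eq_one
      rw [← map_pow, huk, map_one]
    have h1 : orderOf (Abelianization.of u) = 1 :=
      Nat.Coprime.eq_one_of_dvd (Nat.Coprime.pow_right k hcop) hdvd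
    rw [orderOf_eq_one_iff] at h1
    rw [← Abelianization.ker_of, MonoidHom.mem_ker]
    exact h1
  -- surjectivity of `ρ` on `P`
  have hρP : ∀ a : Abelianization H ⧸ N, ∃ u : H, (u : G) ∈ (P : Subgroup G) ∧ ρ u = a := by
    intro a
    obtain ⟨h, rfl⟩ := hρsurj a
    have hsup := Cfsg.Agent.Lib.H14.pResidual_sup_sylow (P.subtype hPH)
    have hh : h ∈ Cfsg.pResidual p H ⊔ ((P.subtype hPH : Sylow p H) : Subgroup H) := by
      rw [hsup]; exact Subgroup.mem_top h
    obtain ⟨k, hk, u, hu, rfl⟩ := Subgroup.mem_sup_of_normal_left.1 hh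
    rw [Sylow.coe_subtype, Subgroup.mem_subgroupOf] at hu
    exact ⟨u, hu, by rw [map_mul, hρker k hk, one_mul]⟩
  -- the elementary quotient
  obtain ⟨R, hR⟩ : ∃ R : Subgroup (Abelianization H ⧸ N),
      R = (powMonoidHom p : (Abelianization H ⧸ N) →* (Abelianization H ⧸ N)).range := ⟨_, rfl⟩
  have hC : ∀ c : (Abelianization H ⧸ N) ⧸ R, c ^ p = 1 := by
    intro c
    obtain ⟨a, rfl⟩ := QuotientGroup.mk'_surjective R c
    rw [← map_pow, QuotientGroup.mk'_apply, QuotientGroup.eq_one_iff, hR]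
    exact ⟨a, rfl⟩
  have hHW : ∀ u (hu : u ∈ (P : Subgroup G)),
      (ρ.transfer u)⁻¹ * ρ ⟨u, hPH hu⟩ ∈ R := by
    intro u hu
    have h1 := transfer_eq_of_engel P Q hQ hE hC H hH ((QuotientGroup.mk' R).comp ρ)
      (orderOf u) u hu rfl
    rw [transfer_comp, extendHom_comp, extendHom_of_mem ρ (hPH hu)] at h1
    exact QuotientGroup.eq.1 h1
  -- Frattini argument
  have hFin : Finite (Abelianization H ⧸ N) := inferInstance
  have hB : (P : Subgroup G).map ρ.transfer = ⊤ := by
    apply frattini_nongenerating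
    rw [eq_top_iff]
    intro a _
    obtain ⟨u, hu, rfl⟩ := hρP a
    have h1 := hHW (u : G) hu
    have h2 : R ≤ frattini (Abelianization H ⧸ N) := by
      rw [hR]
      rintro _ ⟨b, rfl⟩
      exact Cfsg.Agent.Lib.H1.isPGroup_pow_mem_frattini hAp b
    have h3 : ρ u = ρ.transfer (u : G) * ((ρ.transfer (u : G))⁻¹ * ρ ⟨(u : G), hPH hu⟩) := by
      rw [mul_inv_cancel_left]
    rw [h3]
    exact Subgroup.mul_mem_sup (Subgroup.mem_map_of_mem _ hu) (h2 h1)
  -- the two homomorphisms `P →* A`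
  obtain ⟨τP, hτP⟩ : ∃ τP : (P : Subgroup G) →* (Abelianization H ⧸ N),
      τP = ρ.transfer.comp (P : Subgroup G).subtype := ⟨_, rfl⟩
  obtain ⟨ρP, hρP'⟩ : ∃ ρP : (P : Subgroup G) →* (Abelianization H ⧸ N),
      ρP = ρ.comp (Subgroup.inclusion hPH) := ⟨_, rfl⟩
  have hτsurj : Function.Surjective τP := by
    intro a
    have : a ∈ (P : Subgroup G).map ρ.transfer := by rw [hB]; exact Subgroup.mem_top a
    obtain ⟨u, hu, rfl⟩ := this
    exact ⟨⟨u, hu⟩, by rw [hτP]; rfl⟩
  have hρPsurj : Function.Surjective ρP := by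
    intro a
    obtain ⟨u, hu, rfl⟩ := hρP a
    exact ⟨⟨(u : G), hu⟩, by rw [hρP']; rfl⟩
  have hkerle : ρP.ker ≤ τP.ker := by
    intro u hu
    rw [MonoidHom.mem_ker] at hu ⊢
    rw [hρP'] at hu
    have h1 : (Subgroup.inclusion hPH u) ∈ commutator H := hstd _ u.2 hu
    have h2 : (u : G) ∈ commutator G := by
      have h3 : ((Subgroup.inclusion hPH u : H) : G) ∈ (commutator H).map H.subtype :=
        Subgroup.mem_map_of_mem _ h1
      rw [Subgroup.map_subtype_commutator] at h3
      exact Subgroup.commutator_mono le_top le_top h3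
    rw [hτP]
    exact (Abelianization.commutator_subset_ker ρ.transfer) h2
  have hidx : τP.ker.index = ρP.ker.index := by
    rw [Subgroup.index_ker, Subgroup.index_ker, MonoidHom.range_eq_top.2 hτsurj,
      MonoidHom.range_eq_top.2 hρPsurj]
  have hkereq : τP.ker ≤ ρP.ker := by
    have h1 := Subgroup.relIndex_mul_index hkerle
    rw [hidx] at h1
    have h2 : ρP.ker.index ≠ 0 := Subgroup.index_ne_zero_of_finite
    have h3 : ρP.ker.relIndex τP.ker = 1 := by
      have : ρP.ker.relIndex τP.ker * ρP.ker.index = 1 * ρP.ker.index := by rw [h1, one_mul]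
      exact Nat.eq_of_mul_eq_mul_right (Nat.pos_of_ne_zero h2) this
    exact Subgroup.relIndex_eq_one.1 h3
  -- conclusion
  intro x hx
  obtain ⟨hxc, hxP⟩ := hx
  have h1 : (⟨x, hxP⟩ : (P : Subgroup G)) ∈ τP.ker := by
    rw [MonoidHom.mem_ker, hτP]
    exact (Abelianization.commutator_subset_ker ρ.transfer) hxc
  have h2 := hkereq h1
  rw [MonoidHom.mem_ker, hρP'] at h2
  have h3 : (⟨x, hPH hxP⟩ : H) ∈ commutator H := hstd _ hxP h2
  have h4 : ((⟨x, hPH hxP⟩ : H) : G) ∈ (commutator H).map H.subtype :=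
    Subgroup.mem_map_of_mem _ h3
  rw [Subgroup.map_subtype_commutator] at h4
  exact h4

/-- From control of the focal subgroup to `O^p(V) = O^p(G) ∩ V` (via Tate's theorem). -/
theorem pResidualOf_eq_of_focal (P : Sylow p G) (V : Subgroup G) (hPV : (P : Subgroup G) ≤ V)
    (hfocal : commutator G ⊓ (P : Subgroup G) ≤ ⁅V, V⁆) :
    Cfsg.pResidualOf p V = Cfsg.pResidual p G ⊓ V := by
  have hT := Cfsg.Agent.Lib.L0.tate_general P V hPV hfocal
  unfold Cfsg.pResidualOf
  apply le_antisymm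
  · exact le_inf (Cfsg.Agent.Lib.H6.map_pResidual_le p V) (Subgroup.map_subtype_le _)
  · intro x hx
    obtain ⟨hxK, hxV⟩ := hx
    have hKn : (Cfsg.pResidual p V).Normal := Cfsg.Agent.Lib.H14.pResidual_normal'
    have hsup := Cfsg.Agent.Lib.H14.pResidual_sup_sylow (P.subtype hPV)
    have hh : (⟨x, hxV⟩ : V) ∈ Cfsg.pResidual p V ⊔ ((P.subtype hPV : Sylow p V) : Subgroup V) := by
      rw [hsup]; exact Subgroup.mem_top _
    obtain ⟨k, hk, u, hu, hku⟩ := Subgroup.mem_sup_of_normal_left.1 hh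
    rw [Sylow.coe_subtype, Subgroup.mem_subgroupOf] at hu
    have hkG : (k : G) ∈ Cfsg.pResidual p G :=
      Cfsg.Agent.Lib.H6.map_pResidual_le p V (Subgroup.mem_map_of_mem _ hk)
    have hx' : x = (k : G) * (u : G) := by
      have := congrArg Subtype.val hku
      simpa using this.symm
    have huK : (u : G) ∈ Cfsg.pResidual p G := by
      have : (u : G) = (k : G)⁻¹ * x := by rw [hx']; group
      rw [this]
      exact Subgroup.mul_mem _ (Subgroup.inv_mem _ hkG) hxK
    have hu2 := hT ⟨huK, hu⟩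
    rw [hx']
    exact Subgroup.mul_mem _ (Subgroup.mem_map_of_mem _ hk) hu2

/-- **Hall–Wielandt theorem.** -/
theorem hall_wielandt (P : Sylow p G) (Q : Subgroup G)
    (hQ : Cfsg.IsWeaklyClosed Q (P : Subgroup G))
    (hE : ∀ u ∈ (P : Subgroup G), ∀ z ∈ Q, (fun y : G => y⁻¹ * z⁻¹ * y * z)^[p - 1] u = 1) :
    Cfsg.pResidualOf p (Subgroup.normalizer (Q : Set G)) =
      Cfsg.pResidual p G ⊓ Subgroup.normalizer (Q : Set G) :=
  pResidualOf_eq_of_focal P _ (sylow_le_normalizer_of_weaklyClosed P Q hQ)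
    (commutator_inf_sylow_le_of_engel P Q hQ hE)

end endgame

end Cfsg.Agent.Lib.H9.HW
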