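import Cfsg.Agent.Lib.H9.HallWielandt2

/-! helper9: Glauberman's refinement of the Hall–Wielandt theorem. -/

set_option autoImplicit false

namespace Cfsg.Agent.Lib.H9.HW

section partA

variable {G : Type*} [Group G]

/-- The "norm" `∏_{i<p} f (z^{-i} w z^i)` of a map `f` multiplicative on `D` with values in a
commutative group of exponent `p` equals `f [w, z; p-1]`. -/
theorem prod_conj_eq {C : Type*} [CommGroup C] {p : ℕ} (hp : p.Prime) (hC : ∀ c : C, c ^ p = 1)
    (D : Subgroup G) (z : G) (hz : ∀ d ∈ D, z⁻¹ * d * z ∈ D)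
    (f : G → C) (hf : ∀ a ∈ D, ∀ b ∈ D, f (a * b) = f a * f b) :
    ∀ w ∈ D, ∏ i ∈ Finset.range p, f ((z ^ i)⁻¹ * w * z ^ i) =
      f ((fun y : G => y⁻¹ * z⁻¹ * y * z)^[p - 1] w) := by
  set c : G → G := fun y => y⁻¹ * z⁻¹ * y * z with hc
  have hcD : ∀ d ∈ D, c d ∈ D := by
    intro d hd
    have : c d = d⁻¹ * (z⁻¹ * d * z) := by simp only [hc]; group
    rw [this]
    exact D.mul_mem (D.inv_mem hd) (hz d hd)
  have hzi : ∀ i : ℕ, ∀ d ∈ D, (z ^ i)⁻¹ * d * z ^ i ∈ D := by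
    intro i
    induction i with
    | zero => intro d hd; simpa using hd
    | succ i ih =>
      intro d hd
      have : (z ^ (i + 1))⁻¹ * d * z ^ (i + 1) = (z ^ i)⁻¹ * (z⁻¹ * d * z) * z ^ i := by
        rw [pow_succ']; group
      rw [this]
      exact ih _ (hz d hd)
  have key : ∀ i : ℕ, ∀ w ∈ D, f ((z ^ i)⁻¹ * w * z ^ i) =
      ∏ k ∈ Finset.range (i + 1), f (c^[k] w) ^ (i.choose k) := by
    intro i
    induction i with
    | zero => intro w hw; simp
    | succ i ih =>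
      intro w hw
      have e1 : (z ^ (i + 1))⁻¹ * w * z ^ (i + 1) =
          ((z ^ i)⁻¹ * w * z ^ i) * ((z ^ i)⁻¹ * c w * z ^ i) := by
        rw [pow_succ']; simp only [hc]; group
      rw [e1, hf _ (hzi i w hw) _ (hzi i _ (hcD w hw)), ih w hw, ih (c w) (hcD w hw)]
      have e2 : ∀ k, f (c^[k] (c w)) = f (c^[k + 1] w) := fun k => by
        rw [Function.iterate_succ_apply]
      simp only [e2]
      rw [Finset.prod_range_succ' (fun k => f (c^[k] w) ^ ((i + 1).choose k)) (i + 1)]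
      have e3 : ∏ k ∈ Finset.range (i + 1), f (c^[k + 1] w) ^ ((i + 1).choose (k + 1)) =
          (∏ k ∈ Finset.range (i + 1), f (c^[k + 1] w) ^ (i.choose k)) *
          (∏ k ∈ Finset.range (i + 1), f (c^[k + 1] w) ^ (i.choose (k + 1))) := by
        rw [← Finset.prod_mul_distrib]
        apply Finset.prod_congr rfl
        intro k _
        rw [Nat.choose_succ_succ, pow_add]
      rw [e3]
      have e4 : ∏ k ∈ Finset.range (i + 1), f (c^[k] w) ^ (i.choose k) =
          (∏ k ∈ Finset.range (i + 1), f (c^[k + 1] w) ^ (i.choose (k + 1))) *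
            f (c^[0] w) ^ (i.choose 0) := by
        have h1 := Finset.prod_range_succ' (fun k => f (c^[k] w) ^ (i.choose k)) (i + 1)
        have h2 := Finset.prod_range_succ (fun k => f (c^[k] w) ^ (i.choose k)) (i + 1)
        rw [h2] at h1
        rw [← h1, Nat.choose_succ_self, pow_zero, mul_one]
      rw [e4]
      simp only [Nat.choose_zero_right]
      rw [mul_comm, mul_assoc]
  intro w hw
  have h1 : ∀ i ∈ Finset.range p, f ((z ^ i)⁻¹ * w * z ^ i) =
      ∏ k ∈ Finset.range p, f (c^[k] w) ^ (i.choose k) := by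
    intro i hi
    rw [Finset.mem_range] at hi
    rw [key i w hw]
    have hsub : Finset.range (i + 1) ⊆ Finset.range p := by
      intro k hk; rw [Finset.mem_range] at hk ⊢; omega
    apply Finset.prod_subset hsub
    intro k _ hk
    rw [Finset.mem_range] at hk
    rw [Nat.choose_eq_zero_of_lt (by omega), pow_zero]
  have hp1 : p - 1 + 1 = p := by have := hp.pos; omega
  rw [Finset.prod_congr rfl h1, Finset.prod_comm, Finset.prod_eq_single (p - 1)]
  · rw [Finset.prod_pow_eq_pow_sum, sum_range_choose, hp1, Nat.choose_self, pow_one]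
  · intro k hk hkne
    rw [Finset.mem_range] at hk
    rw [Finset.prod_pow_eq_pow_sum, sum_range_choose]
    have hdvd : p ∣ p.choose (k + 1) := hp.dvd_choose_self (by omega) (by omega)
    obtain ⟨t, ht⟩ := hdvd
    rw [ht, pow_mul, hC, one_pow]
  · intro h
    exfalso
    apply h
    rw [Finset.mem_range]
    have := hp.pos
    omega

end partA

open Cfsg.Agent.Lib.H9 MulAction

section partB

variable {G : Type*} [Group G] {H : Subgroup G} {C : Type*} [CommGroup C]

theorem out_conj_mem_of_smul_eq {ω : G ⧸ H} {g : G} (hg : g • ω = ω) :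
    ω.out⁻¹ * g * ω.out ∈ H := by
  have h2 : ((g * ω.out : G) : G ⧸ H) = ((ω.out : G) : G ⧸ H) := by
    rw [← smul_eq_mul, ← MulAction.Quotient.smul_mk, QuotientGroup.out_eq']
    exact hg
  have h3 := QuotientGroup.eq.1 h2.symm
  simpa [mul_assoc] using h3

/-- The homomorphism `d ↦ ρ (x⁻¹ d x)` on the stabilizer in `M` of the coset `ω = xH`. -/
noncomputable def locHom (ρ : H →* C) (M : Subgroup G) (ω : G ⧸ H) :
    ↥(MulAction.stabilizer ↥M ω) →* C :=
  MonoidHom.mk' (fun d => extendHom ρ (ω.out⁻¹ * ((d : ↥M) : G) * ω.out)) (by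
    intro a b
    have ha : ((a : ↥M) : G) • ω = ω := a.2
    have hb : ((b : ↥M) : G) • ω = ω := b.2
    rw [← extendHom_mul ρ (out_conj_mem_of_smul_eq ha) (out_conj_mem_of_smul_eq hb)]
    congr 1
    simp only [Subgroup.coe_mul]
    group)

theorem locHom_apply (ρ : H →* C) (M : Subgroup G) (ω : G ⧸ H) (d : ↥(MulAction.stabilizer ↥M ω)) :
    locHom ρ M ω d = extendHom ρ (ω.out⁻¹ * ((d : ↥M) : G) * ω.out) := rfl

open Classical in
/-- The transfer of `locHom` from `M` evaluated as a product over fixed points in the `M`-orbit. -/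
theorem locTransfer_eq_prod [Finite G] [Fintype (G ⧸ H)] (ρ : H →* C) (M : Subgroup G) (ω : G ⧸ H)
    (v : ↥M)
    (hv : ∀ g : G, ∀ k : ℕ, k ≠ 1 → k ∣ orderOf (v : G) → g⁻¹ * (v : G) ^ k * g ∈ H →
      extendHom ρ (g⁻¹ * (v : G) ^ k * g) = 1) :
    (locHom ρ M ω).transfer v =
      ∏ ω' ∈ Finset.univ.filter (fun ω' : G ⧸ H => (v : G) • ω' = ω' ∧ ω' ∈ MulAction.orbit ↥M ω),
        extendHom ρ (ω'.out⁻¹ * (v : G) * ω'.out) := by
  obtain ⟨K, hK⟩ : ∃ K : Subgroup ↥M, K = MulAction.stabilizer ↥M ω := ⟨_, rfl⟩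
  have : Fintype (↥M ⧸ MulAction.stabilizer ↥M ω) := Fintype.ofFinite _
  have hbig : ∀ q : ↥M ⧸ MulAction.stabilizer ↥M ω, Function.minimalPeriod (v • ·) q ≠ 1 →
      extendHom (locHom ρ M ω) (q.out⁻¹ * v ^ Function.minimalPeriod (v • ·) q * q.out) = 1 := by
    intro q hq
    obtain ⟨k, hk⟩ : ∃ k, k = Function.minimalPeriod (v • ·) q := ⟨_, rfl⟩
    rw [← hk] at hq ⊢
    have hmem : q.out⁻¹ * v ^ k * q.out ∈ MulAction.stabilizer ↥M ω := by
      rw [hk]; exact QuotientGroup.out_conj_pow_minimalPeriod_mem _ v q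
    rw [extendHom_of_mem _ hmem, locHom_apply]
    have e : ω.out⁻¹ * ((q.out⁻¹ * v ^ k * q.out : ↥M) : G) * ω.out =
        ((q.out : G) * ω.out)⁻¹ * (v : G) ^ k * ((q.out : G) * ω.out) := by
      simp only [Subgroup.coe_mul, Subgroup.coe_inv, Subgroup.coe_pow]; group
    have hmem' : ((q.out⁻¹ * v ^ k * q.out : ↥M) : G) • ω = ω := hmem
    have h1 := out_conj_mem_of_smul_eq hmem'

    rw [e] at h1 ⊢
    apply hv _ k hq _ h1
    rw [Subgroup.orderOf_coe, hk, ← MulAction.pow_smul_eq_iff_minimalPeriod_dvd,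
      pow_orderOf_eq_one, one_smul]
  rw [transfer_eq_prod_fixed (locHom ρ M ω) v hbig]
  refine Finset.prod_bij (fun q _ => MulAction.ofQuotientStabilizer ↥M ω q) ?_ ?_ ?_ ?_
  · intro q hq
    rw [Finset.mem_filter] at hq ⊢
    refine ⟨Finset.mem_univ _, ?_, MulAction.ofQuotientStabilizer_mem_orbit _ _ _⟩
    have h1 := MulAction.ofQuotientStabilizer_smul ↥M ω v q
    rw [hq.2] at h1
    exact h1.symm
  · intro q₁ _ q₂ _ h
    exact MulAction.injective_ofQuotientStabilizer ↥M ω h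
  · intro ω' hω'
    rw [Finset.mem_filter] at hω'
    obtain ⟨_, hfix, m, rfl⟩ := hω'
    refine ⟨(m : ↥M ⧸ MulAction.stabilizer ↥M ω), ?_, MulAction.ofQuotientStabilizer_mk _ _ _⟩
    rw [Finset.mem_filter]
    refine ⟨Finset.mem_univ _, ?_⟩
    apply MulAction.injective_ofQuotientStabilizer ↥M ω
    rw [MulAction.ofQuotientStabilizer_smul, MulAction.ofQuotientStabilizer_mk]
    exact hfix
  · intro q hq
    rw [Finset.mem_filter] at hq
    have hq2 := hq.2
    have hφ : MulAction.ofQuotientStabilizer ↥M ω q = (q.out : G) • ω := by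
      conv_lhs => rw [← q.out_eq']
      rfl
    have hmem : q.out⁻¹ * v * q.out ∈ MulAction.stabilizer ↥M ω := by
      have h1 : ((v * q.out : ↥M) : ↥M ⧸ MulAction.stabilizer ↥M ω) = ((q.out : ↥M) : ↥M ⧸ MulAction.stabilizer ↥M ω) := by
        rw [← smul_eq_mul, ← MulAction.Quotient.smul_mk, QuotientGroup.out_eq']
        exact hq2
      have h3 := QuotientGroup.eq.1 h1.symm
      simpa [mul_assoc] using h3
    rw [extendHom_of_mem _ hmem, locHom_apply]
    have e : ω.out⁻¹ * ((q.out⁻¹ * v * q.out : ↥M) : G) * ω.out =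
        ((q.out : G) * ω.out)⁻¹ * (v : G) * ((q.out : G) * ω.out) := by
      simp only [Subgroup.coe_mul, Subgroup.coe_inv]; group
    have hmem' : ((q.out⁻¹ * v * q.out : ↥M) : G) • ω = ω := hmem
    have h1 := out_conj_mem_of_smul_eq hmem'

    rw [e] at h1 ⊢
    symm
    apply extendHom_conj_rep ρ (v : G) _ ((q.out : G) * ω.out) _ h1
    rw [hφ, ← smul_eq_mul, ← MulAction.Quotient.smul_mk, QuotientGroup.out_eq']

end partB

section partC

variable {G : Type*} [Group G] {H : Subgroup G} {C : Type*} [CommGroup C]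

open Classical in
/-- One `Ŵ`-orbit contributes trivially to the fixed-point product. -/
theorem prod_orbit_eq_one [Finite G] [Fintype (G ⧸ H)] {p : ℕ} (hp : p.Prime)
    (hC : ∀ c : C, c ^ p = 1)
    (ρ : H →* C) (What M : Subgroup G) (hMW : M ≤ What) (z : G) (hzW : z ∈ What)
    (hzM : ∀ d ∈ M, z⁻¹ * d * z ∈ M)
    (hcos : ∀ g ∈ What, ∃ i < p, (z ^ i)⁻¹ * g ∈ M)
    (hzi : ∀ i < p, z ^ i ∈ M → i = 0)
    (u : G) (huM : u ∈ M) (ω : G ⧸ H)
    (hstab : What ⊓ MulAction.stabilizer G ω ≤ M)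
    (hv : ∀ v ∈ M, orderOf v = orderOf u → ∀ g : G, ∀ k : ℕ, k ≠ 1 → k ∣ orderOf v →
      g⁻¹ * v ^ k * g ∈ H → extendHom ρ (g⁻¹ * v ^ k * g) = 1)
    (hT : ∀ T : ↥M →* C, extendHom T ((fun y : G => y⁻¹ * z⁻¹ * y * z)^[p - 1] u) = 1) :
    ∏ ω' ∈ Finset.univ.filter (fun ω' : G ⧸ H => u • ω' = ω' ∧ ω' ∈ MulAction.orbit ↥What ω),
      extendHom ρ (ω'.out⁻¹ * u * ω'.out) = 1 := by
  have hziM : ∀ i : ℕ, ∀ d ∈ M, (z ^ i)⁻¹ * d * z ^ i ∈ M := by
    intro i
    induction i with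
    | zero => intro d hd; simpa using hd
    | succ i ih =>
      intro d hd
      have : (z ^ (i + 1))⁻¹ * d * z ^ (i + 1) = (z ^ i)⁻¹ * (z⁻¹ * d * z) * z ^ i := by
        rw [pow_succ']; group
      rw [this]
      exact ih _ (hzM d hd)
  obtain ⟨vv, hvv⟩ : ∃ vv : ℕ → G, vv = fun i => (z ^ i)⁻¹ * u * z ^ i := ⟨_, rfl⟩
  have hvvM : ∀ i, vv i ∈ M := fun i => by rw [hvv]; exact hziM i u huM
  have hvvord : ∀ i, orderOf (vv i) = orderOf u := by
    intro i
    have := (MulAut.conj (z ^ i)⁻¹).orderOf_eq u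
    rw [MulAut.conj_apply, inv_inv] at this
    rw [hvv]; exact this
  obtain ⟨B, hB⟩ : ∃ B : ℕ → Finset (G ⧸ H), B = fun i => Finset.univ.filter
      (fun ω'' : G ⧸ H => vv i • ω'' = ω'' ∧ ω'' ∈ MulAction.orbit ↥M ω) := ⟨_, rfl⟩
  have hBmem : ∀ i ω'', ω'' ∈ B i ↔ vv i • ω'' = ω'' ∧ ω'' ∈ MulAction.orbit ↥M ω := by
    intro i ω''; rw [hB]; simp
  have hziW : ∀ i : ℕ, z ^ i ∈ What := fun i => What.pow_mem hzW i
  have hA : Finset.univ.filter (fun ω' : G ⧸ H => u • ω' = ω' ∧ ω' ∈ MulAction.orbit ↥What ω) =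
      (Finset.range p).biUnion (fun i => (B i).image (fun ω'' => z ^ i • ω'')) := by
    ext ω'
    simp only [Finset.mem_filter, Finset.mem_univ, true_and, Finset.mem_biUnion, Finset.mem_range,
      Finset.mem_image, hBmem]
    constructor
    · rintro ⟨hfix, hmem⟩
      rw [MulAction.mem_orbit_iff] at hmem
      obtain ⟨⟨g, hg⟩, rfl⟩ := hmem
      obtain ⟨i, hi, hm⟩ := hcos g hg
      have hgω : (⟨g, hg⟩ : ↥What) • ω = g • ω := rfl
      rw [hgω] at hfix ⊢
      refine ⟨i, hi, ((z ^ i)⁻¹ * g) • ω, ⟨?_, MulAction.mem_orbit_iff.2 ⟨⟨_, hm⟩, rfl⟩⟩, ?_⟩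
      · rw [hvv]
        simp only
        rw [← mul_smul]
        have e : (z ^ i)⁻¹ * u * z ^ i * ((z ^ i)⁻¹ * g) = (z ^ i)⁻¹ * (u * g) := by group
        rw [e, mul_smul, mul_smul, hfix, ← mul_smul]
      · rw [← mul_smul, mul_inv_cancel_left]
    · rintro ⟨i, hi, ω'', ⟨hfix, hmem⟩, rfl⟩
      rw [MulAction.mem_orbit_iff] at hmem
      obtain ⟨⟨m, hm⟩, rfl⟩ := hmem
      have hmω : (⟨m, hm⟩ : ↥M) • ω = m • ω := rfl
      rw [hmω] at hfix ⊢
      constructor
      · have e : u • z ^ i • m • ω = z ^ i • (vv i • m • ω) := by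
          rw [hvv]
          simp only
          rw [← mul_smul, ← mul_smul, ← mul_smul, ← mul_smul]
          congr 1
          group
        rw [e, hfix]
      · rw [MulAction.mem_orbit_iff]
        refine ⟨⟨z ^ i * m, What.mul_mem (hziW i) (hMW hm)⟩, ?_⟩
        show (z ^ i * m) • ω = _
        rw [mul_smul]
  rw [hA, Finset.prod_biUnion]
  · -- the product of the pieces
    have hpiece : ∀ i ∈ Finset.range p,
        ∏ ω' ∈ (B i).image (fun ω'' => z ^ i • ω''), extendHom ρ (ω'.out⁻¹ * u * ω'.out) =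
        extendHom (locHom ρ M ω).transfer ((z ^ i)⁻¹ * u * z ^ i) := by
      intro i _
      rw [Finset.prod_image (fun a _ b _ h => by simpa using h)]
      have hmem := hvvM i
      rw [hvv] at hmem
      simp only at hmem
      rw [extendHom_of_mem _ hmem]
      have hloc := locTransfer_eq_prod ρ M ω ⟨_, hmem⟩ (by
        intro g k hk1 hk2 hk3
        have := hv _ hmem (by have := hvvord i; rw [hvv] at this; exact this) g k hk1 hk2 hk3
        exact this)
      rw [hloc]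
      have hBi : B i = Finset.univ.filter (fun ω' : G ⧸ H =>
          ((⟨(z ^ i)⁻¹ * u * z ^ i, hmem⟩ : ↥M) : G) • ω' = ω' ∧ ω' ∈ MulAction.orbit ↥M ω) := by
        rw [hB, hvv]
      rw [← hBi]
      apply Finset.prod_congr rfl
      intro ω'' hω''
      rw [hBmem, hvv] at hω''
      simp only at hω''
      have hm1 := out_conj_mem_of_smul_eq hω''.1
      have hrep : ((z ^ i * ω''.out : G) : G ⧸ H) = z ^ i • ω'' := by
        rw [← smul_eq_mul, ← MulAction.Quotient.smul_mk, QuotientGroup.out_eq']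
      have e : (z ^ i * ω''.out)⁻¹ * u * (z ^ i * ω''.out) =
          ω''.out⁻¹ * ((z ^ i)⁻¹ * u * z ^ i) * ω''.out := by group
      have hm2 : (z ^ i * ω''.out)⁻¹ * u * (z ^ i * ω''.out) ∈ H := by rw [e]; exact hm1
      rw [extendHom_conj_rep ρ u (z ^ i • ω'') (z ^ i * ω''.out) hrep hm2, e]
    rw [Finset.prod_congr rfl hpiece]
    have hf : ∀ a ∈ M, ∀ b ∈ M, extendHom (locHom ρ M ω).transfer (a * b) =
        extendHom (locHom ρ M ω).transfer a * extendHom (locHom ρ M ω).transfer b :=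
      fun a ha b hb => extendHom_mul _ ha hb
    rw [prod_conj_eq hp hC M z hzM _ hf u huM]
    exact hT _
  · -- disjointness
    intro i hi j hj hij
    simp only [Finset.coe_range, Set.mem_Iio] at hi hj
    rw [Function.onFun, Finset.disjoint_left]
    intro ω' h1 h2
    rw [Finset.mem_image] at h1 h2
    obtain ⟨ω₁, hω₁, rfl⟩ := h1
    obtain ⟨ω₂, hω₂, heq⟩ := h2
    rw [hBmem, MulAction.mem_orbit_iff] at hω₁ hω₂
    obtain ⟨_, ⟨m₁, hm₁⟩, rfl⟩ := hω₁
    obtain ⟨_, ⟨m₂, hm₂⟩, rfl⟩ := hω₂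
    have e1 : (⟨m₁, hm₁⟩ : ↥M) • ω = m₁ • ω := rfl
    have e2 : (⟨m₂, hm₂⟩ : ↥M) • ω = m₂ • ω := rfl
    rw [e1, e2] at heq
    -- `(z^i m₁)⁻¹ (z^j m₂)` stabilizes `ω`
    have aux : ∀ a b : ℕ, a < b → b < p → ∀ n₁ ∈ M, ∀ n₂ ∈ M, z ^ a • n₁ • ω = z ^ b • n₂ • ω → False := by
      intro a b hab hb n₁ hn₁ n₂ hn₂ h
      have hst : (z ^ a * n₁)⁻¹ * (z ^ b * n₂) ∈ What ⊓ MulAction.stabilizer G ω := by
        refine ⟨What.mul_mem (What.inv_mem (What.mul_mem (hziW a) (hMW hn₁)))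
          (What.mul_mem (hziW b) (hMW hn₂)), ?_⟩
        show _ ∈ MulAction.stabilizer G ω
        rw [MulAction.mem_stabilizer_iff, mul_smul, mul_smul, ← h, ← mul_smul, ← mul_smul,
          mul_assoc, inv_mul_cancel, one_smul]
      have h3 := hstab hst
      have h4 : z ^ (b - a) ∈ M := by
        have e : z ^ (b - a) = n₁ * ((z ^ a * n₁)⁻¹ * (z ^ b * n₂)) * n₂⁻¹ := by
          have : z ^ b = z ^ a * z ^ (b - a) := by rw [← pow_add]; congr 1; omega
          rw [this]; group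
        rw [e]
        exact M.mul_mem (M.mul_mem hn₁ h3) (M.inv_mem hn₂)
      have := hzi (b - a) (by omega) h4
      omega
    rcases Nat.lt_or_gt_of_ne hij with h | h
    · exact aux i j h hj m₁ hm₁ m₂ hm₂ heq.symm
    · exact aux j i h hi m₂ hm₂ m₁ hm₁ heq

end partC

section partD

variable {G : Type*} [Group G]

/-- In a group with a normal subgroup `M'` of prime index `p`, an element `t ∉ M'` generates modulo
`M'`. -/
theorem exists_pow_mul_mem_of_index_prime {K : Type*} [Group K] {p : ℕ} [hp : Fact p.Prime]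
    (M' : Subgroup K) [M'.Normal] (hidx : M'.index = p) (t : K) (ht : t ∉ M') :
    (∀ g : K, ∃ i < p, (t ^ i)⁻¹ * g ∈ M') ∧ ∀ i < p, t ^ i ∈ M' → i = 0 := by
  classical
  have hcard : Nat.card (K ⧸ M') = p := by rw [← Subgroup.index_eq_card]; exact hidx
  have : Finite (K ⧸ M') := Nat.finite_of_card_ne_zero (by rw [hcard]; exact hp.out.ne_zero)
  have ht1 : (QuotientGroup.mk' M' t) ≠ 1 := by
    intro h
    apply ht
    rwa [QuotientGroup.mk'_apply, QuotientGroup.eq_one_iff] at h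
  have hord : orderOf (QuotientGroup.mk' M' t) = p := by
    apply orderOf_eq_prime _ ht1
    rw [← hcard]; exact pow_card_eq_one'
  constructor
  · intro g
    have h1 : QuotientGroup.mk' M' g ∈ Subgroup.zpowers (QuotientGroup.mk' M' t) :=
      mem_zpowers_of_prime_card hcard ht1
    rw [mem_zpowers_iff_mem_range_orderOf, Finset.mem_image] at h1
    obtain ⟨i, hi, hig⟩ := h1
    rw [Finset.mem_range, hord] at hi
    refine ⟨i, hi, ?_⟩
    rw [← map_pow] at hig
    exact QuotientGroup.eq.1 hig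
  · intro i hi hmem
    have h1 : (QuotientGroup.mk' M' t) ^ i = 1 := by
      rw [← map_pow, QuotientGroup.mk'_apply, QuotientGroup.eq_one_iff]; exact hmem
    have h2 := orderOf_dvd_of_pow_eq_one h1
    rw [hord] at h2
    exact Nat.eq_zero_of_dvd_of_lt h2 hi

variable [Finite G] {p : ℕ} [hp : Fact p.Prime]

/-- **Glauberman's refinement of Hall–Wielandt, elementary form.** -/
theorem transfer_eq_of_glauberman (P : Sylow p G) (Q : Subgroup G)
    (hQ : Cfsg.IsWeaklyClosed Q (P : Subgroup G))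
    (hGl : ∀ x ∈ (P : Subgroup G), ∀ z ∈ Q, ∀ W₀ : Subgroup ↥Q, IsCoatom W₀ →
      (fun y : G => y⁻¹ * z⁻¹ * y * z)^[p - 1] x ∈ W₀.map Q.subtype →
      (fun y : G => y⁻¹ * z⁻¹ * y * z)^[p - 1] x ∈
        ((frattini ↥W₀).map W₀.subtype).map Q.subtype)
    {C : Type*} [CommGroup C] (hC : ∀ c : C, c ^ p = 1)
    (H : Subgroup G) (hH : H = Subgroup.normalizer (Q : Set G)) (ρ : ↥H →* C) :
    ∀ (n : ℕ) (u : G), u ∈ (P : Subgroup G) → orderOf u = n → ρ.transfer u = extendHom ρ u := by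
  classical
  have hpp : p.Prime := hp.out
  have hHmem : ∀ g : G, g ∈ H ↔ g ∈ Subgroup.normalizer (Q : Set G) := fun g => by rw [hH]
  have hPN : (P : Subgroup G) ≤ Subgroup.normalizer (Q : Set G) :=
    sylow_le_normalizer_of_weaklyClosed P Q hQ
  have hPH : (P : Subgroup G) ≤ H := fun g hg => (hHmem g).2 (hPN hg)
  have hQP : Q ≤ (P : Subgroup G) := hQ.1
  have : Fintype (G ⧸ H) := Fintype.ofFinite _
  intro n
  induction n using Nat.strong_induction_on with
  | _ n ih =>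
  intro u hu hn
  -- Step A: conjugates of elements of smaller order
  have hA : ∀ v ∈ (P : Subgroup G), orderOf v < n → ∀ g : G, g⁻¹ * v * g ∈ H →
      extendHom ρ (g⁻¹ * v * g) = extendHom ρ v := by
    intro v hv hvn g hmem
    set y : H := ⟨g⁻¹ * v * g, hmem⟩ with hy
    have hyp : IsPGroup p (Subgroup.zpowers y) := by
      obtain ⟨k, hk⟩ := P.2 ⟨v, hv⟩
      have hvk : v ^ (p ^ k) = 1 := by
        have := congrArg Subtype.val hk
        simpa using this
      have hyk : y ^ (p ^ k) = 1 := by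
        apply Subtype.ext
        rw [hy]
        simp only [Subgroup.coe_pow, Subgroup.coe_one]
        have e := conj_pow (a := g⁻¹) (b := v) (i := p ^ k)
        rw [inv_inv] at e
        rw [e, hvk]
        group
      have hdvd : orderOf y ∣ p ^ k := orderOf_dvd_of_pow_eq_one hyk
      obtain ⟨j, _, hj⟩ := (Nat.dvd_prime_pow hpp).1 hdvd
      exact IsPGroup.of_card (n := j) (by rw [Nat.card_zpowers, hj])
    obtain ⟨h, hh⟩ := Cfsg.Agent.Lib.H16.exists_conj_mem_sylow _ hyp (P.subtype hPH)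
    have h1 := hh y (Subgroup.mem_zpowers y)
    rw [Sylow.coe_subtype, Subgroup.mem_subgroupOf] at h1
    have h2 : ((h * y * h⁻¹ : H) : G) = ((g * (h : G)⁻¹)⁻¹ * v * (g * (h : G)⁻¹)) := by
      rw [hy]; simp only [Subgroup.coe_mul, Subgroup.coe_inv]; group
    rw [h2] at h1
    have h3 : orderOf ((g * (h : G)⁻¹)⁻¹ * v * (g * (h : G)⁻¹)) = orderOf v := by
      have := (MulAut.conj (g * (h : G)⁻¹)⁻¹).orderOf_eq v
      rw [MulAut.conj_apply, inv_inv] at this
      exact this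
    have h4 := ih _ hvn _ h1 h3
    have h5 := ih _ hvn v hv rfl
    rw [transfer_conj_eq] at h4
    rw [h4] at h5
    rw [← h5]
    have h6 : (g * (h : G)⁻¹)⁻¹ * v * (g * (h : G)⁻¹) =
        ((h : G)⁻¹)⁻¹ * (g⁻¹ * v * g) * (h : G)⁻¹ := by group
    rw [h6]
    exact (extendHom_conj ρ hmem (H.inv_mem h.2)).symm
  have huH : u ∈ H := hPH hu
  -- Step B, general form
  have hgen : ∀ v ∈ (P : Subgroup G), orderOf v = n → ∀ g : G, ∀ k : ℕ, k ≠ 1 → k ∣ n →
      g⁻¹ * v ^ k * g ∈ H → extendHom ρ (g⁻¹ * v ^ k * g) = 1 := by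
    intro v hv hvn g k hk1 hkn hmem
    have hpow : ∃ e, orderOf v = p ^ e := by
      obtain ⟨e, he⟩ := (IsPGroup.iff_orderOf.1 P.2) ⟨v, hv⟩
      exact ⟨e, by rw [← he, Subgroup.orderOf_mk]⟩
    obtain ⟨e, he⟩ := hpow
    have hpk : p ∣ k := by
      rw [← hvn, he] at hkn
      obtain ⟨j, _, hj⟩ := (Nat.dvd_prime_pow hpp).1 hkn
      rcases Nat.eq_zero_or_pos j with h0 | h0
      · rw [h0, pow_zero] at hj; exact absurd hj hk1
      · rw [hj]; exact dvd_pow_self p (by omega)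
    have hn0 : 0 < n := by rw [← hvn]; exact orderOf_pos v
    have hk0 : k ≠ 0 := by
      intro h0; rw [h0] at hkn
      have := Nat.eq_zero_of_zero_dvd hkn
      omega
    have hord : orderOf (v ^ k) < n := by
      rw [orderOf_pow_of_dvd hk0 (hvn ▸ hkn), hvn]
      have h2 : 1 < k := by
        have := hpp.two_le
        have := Nat.le_of_dvd (Nat.pos_of_ne_zero hk0) hpk
        omega
      exact Nat.div_lt_self hn0 h2
    rw [hA (v ^ k) ((P : Subgroup G).pow_mem hv k) hord g hmem, extendHom_pow ρ (hPH hv)]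
    obtain ⟨t, ht⟩ := hpk
    rw [ht, pow_mul, hC, one_pow]
  have hbig : ∀ ω : G ⧸ H, Function.minimalPeriod (u • ·) ω ≠ 1 →
      extendHom ρ (ω.out⁻¹ * u ^ Function.minimalPeriod (u • ·) ω * ω.out) = 1 := by
    intro ω hω
    apply hgen u hu hn _ _ hω
    · rw [← hn, ← MulAction.pow_smul_eq_iff_minimalPeriod_dvd, pow_orderOf_eq_one, one_smul]
    · exact QuotientGroup.out_conj_pow_minimalPeriod_mem H u ω
  rw [transfer_eq_prod_fixed ρ u hbig]
  -- Step C
  set Fx := Finset.univ.filter (fun ω : G ⧸ H => u • ω = ω) with hFx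
  set L : G ⧸ H → C := fun ω => extendHom ρ (ω.out⁻¹ * u * ω.out) with hL
  set ω₀ : G ⧸ H := ((1 : G) : G ⧸ H) with hω₀
  have hω₀Fx : ω₀ ∈ Fx := by
    rw [hFx, Finset.mem_filter]
    refine ⟨Finset.mem_univ _, ?_⟩
    rw [hω₀, MulAction.Quotient.smul_mk, smul_eq_mul, mul_one]
    exact (QuotientGroup.eq.2 (by simpa using H.inv_mem huH))
  rw [← Finset.mul_prod_erase Fx L hω₀Fx]
  have hLω₀ : L ω₀ = extendHom ρ u := by
    have := extendHom_conj_rep ρ u ω₀ 1 rfl (by simpa using huH)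
    rw [hL]
    simp only
    rw [this]
    simp
  rw [hLω₀]
  suffices hsuff : ∏ ω ∈ Fx.erase ω₀, L ω = 1 by rw [hsuff, mul_one]
  have hstabH : ∀ g ∈ H, g • ω₀ = ω₀ := by
    intro g hg
    rw [hω₀, MulAction.Quotient.smul_mk, smul_eq_mul, mul_one]
    exact QuotientGroup.eq.2 (by simpa using H.inv_mem hg)
  have hQD : ∀ ω ∈ Fx.erase ω₀, ¬ Q ≤ MulAction.stabilizer G ω := by
    intro ω hω hle
    rw [Finset.mem_erase] at hω
    apply hω.1
    have hx : ω.out ∈ H := by
      rw [hHmem]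
      apply mem_normalizer_of_conj_le P Q hQ
      intro q hq
      rw [← hHmem]
      have h1 : q • ω = ω := MulAction.mem_stabilizer_iff.1 (hle hq)
      exact out_conj_mem_of_smul_eq h1
    rw [hω₀, ← QuotientGroup.out_eq' ω]
    exact QuotientGroup.eq.2 (by simpa using H.inv_mem hx)
  -- the group `Ŵ`
  obtain ⟨What, hWhat⟩ : ∃ What : Subgroup G, What = Q ⊔ Subgroup.zpowers u := ⟨_, rfl⟩
  have hQW : Q ≤ What := by rw [hWhat]; exact le_sup_left
  have huW : u ∈ What := by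
    rw [hWhat]; exact (le_sup_right : Subgroup.zpowers u ≤ _) (Subgroup.mem_zpowers u)
  have hWP : What ≤ (P : Subgroup G) := by
    rw [hWhat]; exact sup_le hQP ((Subgroup.zpowers_le).2 hu)
  have hWp : IsPGroup p ↥What := P.2.to_le hWP
  apply Finset.prod_cancels_of_partition_cancels (MulAction.orbitRel ↥What (G ⧸ H))
  intro ω hω
  have hfilt : (Fx.erase ω₀).filter (fun a => (MulAction.orbitRel ↥What (G ⧸ H)) a ω) =
      Finset.univ.filter (fun ω' : G ⧸ H => u • ω' = ω' ∧ ω' ∈ MulAction.orbit ↥What ω) := by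
    ext a
    simp only [Finset.mem_filter, Finset.mem_erase, Finset.mem_univ, true_and, hFx,
      MulAction.orbitRel_apply]
    constructor
    · rintro ⟨⟨_, h1⟩, h2⟩; exact ⟨h1, h2⟩
    · rintro ⟨h1, h2⟩
      refine ⟨⟨?_, h1⟩, h2⟩
      rintro rfl
      rw [MulAction.mem_orbit_iff] at h2
      obtain ⟨⟨g, hg⟩, hgω⟩ := h2
      have h3 : g • ω = ω₀ := hgω
      have h4 : ω = g⁻¹ • ω₀ := by rw [← h3, inv_smul_smul]
      rw [hstabH _ (H.inv_mem (hPH (hWP hg)))] at h4
      rw [Finset.mem_erase] at hω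
      exact hω.1 h4
  rw [hfilt]
  have huω : u • ω = ω := by
    rw [Finset.mem_erase, hFx, Finset.mem_filter] at hω
    exact hω.2.2
  -- the maximal subgroup `M`
  obtain ⟨E, hE⟩ : ∃ E : Subgroup ↥What, E = (MulAction.stabilizer G ω).subgroupOf What :=
    ⟨_, rfl⟩
  have hEne : E ≠ ⊤ := by
    intro htop
    apply hQD ω hω
    intro q hq
    have : (⟨q, hQW hq⟩ : ↥What) ∈ E := by rw [htop]; trivial
    rw [hE, Subgroup.mem_subgroupOf] at this
    exact this
  obtain ⟨M', hM'co, hEM'⟩ := (eq_top_or_exists_le_coatom E).resolve_left hEne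
  have hM'n : M'.Normal := Cfsg.Agent.Lib.H1.isPGroup_coatom_normal hWp hM'co
  have hM'i : M'.index = p := Cfsg.Agent.Lib.H1.isPGroup_coatom_index hWp hM'co
  obtain ⟨M, hM⟩ : ∃ M : Subgroup G, M = M'.map What.subtype := ⟨_, rfl⟩
  have hMmem : ∀ g (hg : g ∈ What), g ∈ M ↔ (⟨g, hg⟩ : ↥What) ∈ M' := by
    intro g hg
    rw [hM]
    constructor
    · rintro ⟨g', h1, h2⟩
      have : g' = ⟨g, hg⟩ := Subtype.ext h2
      rwa [this] at h1
    · intro h; exact ⟨_, h, rfl⟩
  have hMW : M ≤ What := by rw [hM]; exact Subgroup.map_subtype_le _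
  have hstab : What ⊓ MulAction.stabilizer G ω ≤ M := by
    rintro g ⟨hg1, hg2⟩
    rw [hMmem g hg1]
    apply hEM'
    rw [hE, Subgroup.mem_subgroupOf]
    exact hg2
  have huM : u ∈ M := hstab ⟨huW, MulAction.mem_stabilizer_iff.2 huω⟩
  -- the element `z`
  have hexz : ∃ z ∈ Q, z ∉ M := by
    by_contra hcon
    push Not at hcon
    apply hM'co.1
    rw [eq_top_iff]
    rintro ⟨g, hg⟩ _
    rw [← hMmem g hg]
    have : What ≤ M := by
      rw [hWhat]
      exact sup_le hcon ((Subgroup.zpowers_le).2 huM)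
    exact this hg
  obtain ⟨z, hzQ, hzM⟩ := hexz
  have hzW : z ∈ What := hQW hzQ
  have hgenM : ∀ t ∈ What, t ∉ M → (∀ g ∈ What, ∃ i < p, (t ^ i)⁻¹ * g ∈ M) ∧
      ∀ i < p, t ^ i ∈ M → i = 0 := by
    intro t htW htM
    have h1 := exists_pow_mul_mem_of_index_prime M' hM'i ⟨t, htW⟩
      (fun h => htM ((hMmem t htW).2 h))
    constructor
    · intro g hg
      obtain ⟨i, hi, h2⟩ := h1.1 ⟨g, hg⟩
      refine ⟨i, hi, ?_⟩
      rw [hMmem _ (What.mul_mem (What.inv_mem (What.pow_mem htW i)) hg)]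
      exact h2
    · intro i hi h2
      apply h1.2 i hi
      rw [hMmem _ (What.pow_mem htW i)] at h2
      exact h2
  have hnormM : ∀ g ∈ What, ∀ d ∈ M, g⁻¹ * d * g ∈ M := by
    intro g hg d hd
    have hdW := hMW hd
    rw [hMmem _ (What.mul_mem (What.mul_mem (What.inv_mem hg) hdW) hg)]
    have h1 := hM'n.conj_mem ⟨d, hdW⟩ ((hMmem d hdW).1 hd) (⟨g, hg⟩⁻¹)
    rw [inv_inv] at h1
    exact h1
  obtain ⟨hcos, hzi⟩ := hgenM z hzW hzM
  -- apply the orbit lemma
  have hMP : M ≤ (P : Subgroup G) := hMW.trans hWP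
  refine prod_orbit_eq_one hpp hC ρ What M hMW z hzW (hnormM z hzW) hcos hzi u huM ω hstab ?_ ?_
  · intro v hvM hvu g k hk1 hk2 hk3
    exact hgen v (hMP hvM) (hvu.trans hn) g k hk1 (by rw [← hn, ← hvu]; exact hk2) hk3
  · intro T
    obtain ⟨c, hc⟩ : ∃ c : G → G, c = fun y : G => y⁻¹ * z⁻¹ * y * z := ⟨_, rfl⟩
    rw [← hc]
    have hcM : ∀ d ∈ M, c d ∈ M := by
      intro d hd
      have : c d = d⁻¹ * (z⁻¹ * d * z) := by rw [hc]; group
      rw [this]
      exact M.mul_mem (M.inv_mem hd) (hnormM z hzW d hd)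
    have hcQ : ∀ d ∈ (P : Subgroup G), c d ∈ Q := by
      intro d hd
      have : c d = (d⁻¹ * z⁻¹ * d⁻¹⁻¹) * z := by rw [hc]; group
      rw [this]
      refine Q.mul_mem ?_ hzQ
      have h1 := (Subgroup.mem_normalizer_iff.1 (Subgroup.inv_mem _ (hPN hd))) z⁻¹
      exact h1.1 (Q.inv_mem hzQ)
    have hckM : ∀ k : ℕ, c^[k] u ∈ M := by
      intro k
      induction k with
      | zero => exact huM
      | succ k ih => rw [Function.iterate_succ_apply']; exact hcM _ ih
    have hyQ : c^[p - 1] u ∈ Q := by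
      have : p - 1 = (p - 2) + 1 := by have := hpp.two_le; omega
      rw [this, Function.iterate_succ_apply']
      exact hcQ _ (hMP (hckM _))
    have hyM : c^[p - 1] u ∈ M := hckM _
    obtain ⟨W₀, hW₀⟩ : ∃ W₀ : Subgroup ↥Q, W₀ = M.subgroupOf Q := ⟨_, rfl⟩
    have hW₀mem : ∀ q : ↥Q, q ∈ W₀ ↔ (q : G) ∈ M := by
      intro q; rw [hW₀, Subgroup.mem_subgroupOf]
    have hco : IsCoatom W₀ := by
      constructor
      · intro htop
        apply hzM
        have : (⟨z, hzQ⟩ : ↥Q) ∈ W₀ := by rw [htop]; trivial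
        exact (hW₀mem _).1 this
      · intro b hb
        obtain ⟨t, htb, htW₀⟩ := SetLike.exists_of_lt hb
        rw [hW₀mem] at htW₀
        obtain ⟨hcos', _⟩ := hgenM (t : G) (hQW t.2) htW₀
        rw [eq_top_iff]
        intro q _
        obtain ⟨i, _, hi⟩ := hcos' (q : G) (hQW q.2)
        have h1 : (t ^ i)⁻¹ * q ∈ W₀ := by
          rw [hW₀mem]
          simpa using hi
        have h2 : q = t ^ i * ((t ^ i)⁻¹ * q) := by group
        rw [h2]
        exact b.mul_mem (b.pow_mem htb i) (hb.le h1)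
    have hmem0 : c^[p - 1] u ∈ W₀.map Q.subtype :=
      ⟨⟨_, hyQ⟩, (hW₀mem _).2 hyM, rfl⟩
    have hfr := hGl u hu z hzQ W₀ hco (by rw [← hc]; exact hmem0)
    rw [← hc] at hfr
    obtain ⟨q, ⟨w, hw, hwq⟩, hqy⟩ := hfr
    have hfinQ : Finite ↥Q := inferInstance
    have hfinW₀ : Finite ↥W₀ := inferInstance
    obtain ⟨ι, hι⟩ : ∃ ι : ↥W₀ →* ↥M, ∀ w : ↥W₀, ((ι w : ↥M) : G) = ((w : ↥Q) : G) :=
      ⟨((Q.subtype).comp W₀.subtype).codRestrict M (fun w => (hW₀mem _).1 w.2), fun w => rfl⟩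
    have hker : frattini ↥W₀ ≤ (T.comp ι).ker := by
      apply Cfsg.Agent.Lib.H1.frattini_le_of_commutator_le_of_pow_mem (p := p)
      · exact Abelianization.commutator_subset_ker _
      · intro x
        rw [MonoidHom.mem_ker, map_pow]
        exact hC _
    have h1 := hker hw
    rw [MonoidHom.mem_ker, MonoidHom.comp_apply] at h1
    rw [extendHom_of_mem T hyM]
    have h2 : (⟨c^[p - 1] u, hyM⟩ : ↥M) = ι w := by
      apply Subtype.ext
      rw [hι]
      show c^[p - 1] u = ((w : ↥Q) : G)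
      rw [← hqy, ← hwq]
      rfl
    rw [h2]
    exact h1

end partD

section partE

universe u

variable {G : Type u} [Group G] [Finite G] {p : ℕ} [hp : Fact p.Prime]

/-- If transfer from `N_G(Q)` into exponent-`p` commutative groups restricts to the identity on `P`,
the focal subgroup of `P` is contained in `N_G(Q)'`. -/
theorem commutator_inf_sylow_le_of_transfer (P : Sylow p G) (Q : Subgroup G)
    (hQ : Cfsg.IsWeaklyClosed Q (P : Subgroup G))
    (hT : ∀ {C : Type u} [CommGroup C], (∀ c : C, c ^ p = 1) → ∀ (H : Subgroup G),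
      H = Subgroup.normalizer (Q : Set G) → ∀ ρ : ↥H →* C, ∀ u ∈ (P : Subgroup G),
      ρ.transfer u = extendHom ρ u) :
    commutator G ⊓ (P : Subgroup G) ≤
      ⁅Subgroup.normalizer (Q : Set G), Subgroup.normalizer (Q : Set G)⁆ := by
  classical
  have hpp : p.Prime := hp.out
  obtain ⟨H, hH⟩ : ∃ H : Subgroup G, H = Subgroup.normalizer (Q : Set G) := ⟨_, rfl⟩
  rw [← hH]
  have hPH : (P : Subgroup G) ≤ H := hH ▸ sylow_le_normalizer_of_weaklyClosed P Q hQ
  have hKn : (Cfsg.pResidual p H).Normal := Cfsg.Agent.Lib.H14.pResidual_normal'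
  -- the target group
  obtain ⟨N, hN⟩ : ∃ N : Subgroup (Abelianization H),
      N = (Cfsg.pResidual p H).map Abelianization.of := ⟨_, rfl⟩
  obtain ⟨ρ, hρ⟩ : ∃ ρ : H →* (Abelianization H ⧸ N),
      ρ = (QuotientGroup.mk' N).comp Abelianization.of := ⟨_, rfl⟩
  have hρapp : ∀ h : H, ρ h = QuotientGroup.mk' N (Abelianization.of h) := fun h => by rw [hρ]; rfl
  have hρsurj : Function.Surjective ρ := by
    intro a
    obtain ⟨b, rfl⟩ := QuotientGroup.mk'_surjective N a
    obtain ⟨h, rfl⟩ := QuotientGroup.mk'_surjective (commutator H) b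
    exact ⟨h, hρapp h⟩
  have hρker : ∀ k ∈ Cfsg.pResidual p H, ρ k = 1 := by
    intro k hk
    rw [hρapp, QuotientGroup.mk'_apply, QuotientGroup.eq_one_iff, hN]
    exact Subgroup.mem_map_of_mem _ hk
  -- `A` is a `p`-group
  have hAp : IsPGroup p (Abelianization H ⧸ N) := by
    intro a
    obtain ⟨h, rfl⟩ := hρsurj a
    obtain ⟨k, hk⟩ := (Cfsg.Agent.Lib.H14.pResidual_quotient_isPGroup (H := H) (p := p))
      (QuotientGroup.mk' _ h)
    refine ⟨k, ?_⟩
    rw [← map_pow]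
    apply hρker
    rw [← map_pow, QuotientGroup.mk'_apply, QuotientGroup.eq_one_iff] at hk
    exact hk
  -- the standard fact
  have hstd : ∀ u : H, (u : G) ∈ (P : Subgroup G) → ρ u = 1 → u ∈ commutator H := by
    intro u hu hu1
    rw [hρapp, QuotientGroup.mk'_apply, QuotientGroup.eq_one_iff, hN] at hu1
    have hcl : (Cfsg.pResidual p H).map (Abelianization.of (G := H)) =
        Subgroup.closure ((Abelianization.of (G := H)) '' {g : H | Nat.Coprime (orderOf g) p}) := by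
      unfold Cfsg.pResidual
      rw [MonoidHom.map_closure]
    rw [hcl] at hu1
    have hcop := coprime_orderOf_of_mem_closure (p := p) _ (by
      rintro _ ⟨g, hg, rfl⟩
      exact Nat.Coprime.coprime_dvd_left (orderOf_map_dvd _ g) hg) _ hu1
    obtain ⟨k, hk⟩ := P.2 ⟨(u : G), hu⟩
    have huk : u ^ (p ^ k) = 1 := by
      apply Subtype.ext
      have := congrArg Subtype.val hk
      simpa using this
    have hdvd : orderOf (Abelianization.of u) ∣ p ^ k := by
      apply orderOf_dvd_of_pow_eq_one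
      rw [← map_pow, huk, map_one]
    have h1 : orderOf (Abelianization.of u) = 1 :=
      Nat.Coprime.eq_one_of_dvd (Nat.Coprime.pow_right k hcop) hdvd
    rw [orderOf_eq_one_iff] at h1
    rw [← Abelianization.ker_of, MonoidHom.mem_ker]
    exact h1
  -- surjectivity of `ρ` on `P`
  have hρP : ∀ a : Abelianization H ⧸ N, ∃ u : H, (u : G) ∈ (P : Subgroup G) ∧ ρ u = a := by
    intro a
    obtain ⟨h, rfl⟩ := hρsurj a
    have hsup := Cfsg.Agent.Lib.H14.pResidual_sup_sylow (P.subtype hPH)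
    have hh : h ∈ Cfsg.pResidual p H ⊔ ((P.subtype hPH : Sylow p H) : Subgroup H) := by
      rw [hsup]; exact Subgroup.mem_top h
    obtain ⟨k, hk, u, hu, rfl⟩ := Subgroup.mem_sup_of_normal_left.1 hh
    rw [Sylow.coe_subtype, Subgroup.mem_subgroupOf] at hu
    exact ⟨u, hu, by rw [map_mul, hρker k hk, one_mul]⟩
  -- the elementary quotient
  obtain ⟨R, hR⟩ : ∃ R : Subgroup (Abelianization H ⧸ N),
      R = (powMonoidHom p : (Abelianization H ⧸ N) →* (Abelianization H ⧸ N)).range := ⟨_, rfl⟩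
  have hC : ∀ c : (Abelianization H ⧸ N) ⧸ R, c ^ p = 1 := by
    intro c
    obtain ⟨a, rfl⟩ := QuotientGroup.mk'_surjective R c
    rw [← map_pow, QuotientGroup.mk'_apply, QuotientGroup.eq_one_iff, hR]
    exact ⟨a, rfl⟩
  have hHW : ∀ u (hu : u ∈ (P : Subgroup G)),
      (ρ.transfer u)⁻¹ * ρ ⟨u, hPH hu⟩ ∈ R := by
    intro u hu
    have h1 := hT hC H hH ((QuotientGroup.mk' R).comp ρ) u hu
    rw [transfer_comp, extendHom_comp, extendHom_of_mem ρ (hPH hu)] at h1
    exact QuotientGroup.eq.1 h1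
  -- Frattini argument
  have hFin : Finite (Abelianization H ⧸ N) := inferInstance
  have hB : (P : Subgroup G).map ρ.transfer = ⊤ := by
    apply frattini_nongenerating
    rw [eq_top_iff]
    intro a _
    obtain ⟨u, hu, rfl⟩ := hρP a
    have h1 := hHW (u : G) hu
    have h2 : R ≤ frattini (Abelianization H ⧸ N) := by
      rw [hR]
      rintro _ ⟨b, rfl⟩
      exact Cfsg.Agent.Lib.H1.isPGroup_pow_mem_frattini hAp b
    have h3 : ρ u = ρ.transfer (u : G) * ((ρ.transfer (u : G))⁻¹ * ρ ⟨(u : G), hPH hu⟩) := by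
      rw [mul_inv_cancel_left]
    rw [h3]
    exact Subgroup.mul_mem_sup (Subgroup.mem_map_of_mem _ hu) (h2 h1)
  -- the two homomorphisms `P →* A`
  obtain ⟨τP, hτP⟩ : ∃ τP : (P : Subgroup G) →* (Abelianization H ⧸ N),
      τP = ρ.transfer.comp (P : Subgroup G).subtype := ⟨_, rfl⟩
  obtain ⟨ρP, hρP'⟩ : ∃ ρP : (P : Subgroup G) →* (Abelianization H ⧸ N),
      ρP = ρ.comp (Subgroup.inclusion hPH) := ⟨_, rfl⟩
  have hτsurj : Function.Surjective τP := by
    intro a
    have : a ∈ (P : Subgroup G).map ρ.transfer := by rw [hB]; exact Subgroup.mem_top a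
    obtain ⟨u, hu, rfl⟩ := this
    exact ⟨⟨u, hu⟩, by rw [hτP]; rfl⟩
  have hρPsurj : Function.Surjective ρP := by
    intro a
    obtain ⟨u, hu, rfl⟩ := hρP a
    exact ⟨⟨(u : G), hu⟩, by rw [hρP']; rfl⟩
  have hkerle : ρP.ker ≤ τP.ker := by
    intro u hu
    rw [MonoidHom.mem_ker] at hu ⊢
    rw [hρP'] at hu
    have h1 : (Subgroup.inclusion hPH u) ∈ commutator H := hstd _ u.2 hu
    have h2 : (u : G) ∈ commutator G := by
      have h3 : ((Subgroup.inclusion hPH u : H) : G) ∈ (commutator H).map H.subtype :=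
        Subgroup.mem_map_of_mem _ h1
      rw [Subgroup.map_subtype_commutator] at h3
      exact Subgroup.commutator_mono le_top le_top h3
    rw [hτP]
    exact (Abelianization.commutator_subset_ker ρ.transfer) h2
  have hidx : τP.ker.index = ρP.ker.index := by
    rw [Subgroup.index_ker, Subgroup.index_ker, MonoidHom.range_eq_top.2 hτsurj,
      MonoidHom.range_eq_top.2 hρPsurj]
  have hkereq : τP.ker ≤ ρP.ker := by
    have h1 := Subgroup.relIndex_mul_index hkerle
    rw [hidx] at h1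
    have h2 : ρP.ker.index ≠ 0 := Subgroup.index_ne_zero_of_finite
    have h3 : ρP.ker.relIndex τP.ker = 1 := by
      have : ρP.ker.relIndex τP.ker * ρP.ker.index = 1 * ρP.ker.index := by rw [h1, one_mul]
      exact Nat.eq_of_mul_eq_mul_right (Nat.pos_of_ne_zero h2) this
    exact Subgroup.relIndex_eq_one.1 h3
  -- conclusion
  intro x hx
  obtain ⟨hxc, hxP⟩ := hx
  have h1 : (⟨x, hxP⟩ : (P : Subgroup G)) ∈ τP.ker := by
    rw [MonoidHom.mem_ker, hτP]
    exact (Abelianization.commutator_subset_ker ρ.transfer) hxc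
  have h2 := hkereq h1
  rw [MonoidHom.mem_ker, hρP'] at h2
  have h3 : (⟨x, hPH hxP⟩ : H) ∈ commutator H := hstd _ hxP h2
  have h4 : ((⟨x, hPH hxP⟩ : H) : G) ∈ (commutator H).map H.subtype :=
    Subgroup.mem_map_of_mem _ h3
  rw [Subgroup.map_subtype_commutator] at h4
  exact h4


/-- **Glauberman's refinement of Hall–Wielandt**, focal subgroup form. -/
theorem commutator_inf_sylow_le_of_glauberman (P : Sylow p G) (Q : Subgroup G)
    (hQ : Cfsg.IsWeaklyClosed Q (P : Subgroup G))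
    (hGl : ∀ x ∈ (P : Subgroup G), ∀ z ∈ Q, ∀ W₀ : Subgroup ↥Q, IsCoatom W₀ →
      (fun y : G => y⁻¹ * z⁻¹ * y * z)^[p - 1] x ∈ W₀.map Q.subtype →
      (fun y : G => y⁻¹ * z⁻¹ * y * z)^[p - 1] x ∈
        ((frattini ↥W₀).map W₀.subtype).map Q.subtype) :
    commutator G ⊓ (P : Subgroup G) ≤
      ⁅Subgroup.normalizer (Q : Set G), Subgroup.normalizer (Q : Set G)⁆ :=
  commutator_inf_sylow_le_of_transfer P Q hQ
    (fun hC H hH ρ u hu => transfer_eq_of_glauberman P Q hQ hGl hC H hH ρ (orderOf u) u hu rfl)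

end partE

end Cfsg.Agent.Lib.H9.HW
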