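import Mathlib
import Cfsg.Agent.Lib.H2.BN5

set_option autoImplicit false
set_option linter.unusedSectionVars false
set_option linter.unusedVariables false

/-!
# (B,N)-pairs: right-handed calculus, minimal coset representatives, longest elements

Complements to helper2's `Lib/H2/BN1-5`, used by the abstract maximal-cell argument
for involutions (`InvCellB`).
-/

namespace Cfsg.Agent.Lib.H9.InvCell

open Cfsg DoubleCoset Cfsg.Agent.Lib.H2.BN

variable {G : Type*} [Group G] {P : BNPair G}

theorem len_inv {n : G} (hn : n ∈ P.N) : len P n⁻¹ = len P n := by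
  have key : ∀ x ∈ P.N, len P x⁻¹ ≤ len P x := by
    intro x hx
    obtain ⟨l, hl, hlen, he⟩ := exists_reduced hx
    have h1 : Eqv P l.prod⁻¹ x⁻¹ := he.inv (hl.prod_mem_N (le_refl _)) hx
    have h2 : Eqv P l.reverse.prod x⁻¹ := (prod_inv_eqv_reverse (le_refl _) hl).symm.trans h1
    have := len_le hl.reverse h2
    rw [List.length_reverse, hlen] at this
    exact this
  have h1 := key n hn
  have h2 := key n⁻¹ (P.N.inv_mem hn)
  rw [inv_inv] at h2
  omega

theorem mul_inv_S_eqv {s : G} (n : G) (hs : s ∈ P.S) : Eqv P (n * s⁻¹) (n * s) :=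
  (S_inv_eqv hs).mul_left n

theorem len_smul_inv {s n : G} (hs : s ∈ P.S) (hn : n ∈ P.N) :
    len P (s * n⁻¹) = len P (n * s) := by
  have h1 : len P (s * n⁻¹) = len P (s * n⁻¹)⁻¹ :=
    (len_inv (P.N.mul_mem (S_mem_N hs) (P.N.inv_mem hn))).symm
  have e : (s * n⁻¹)⁻¹ = n * s⁻¹ := by group
  rw [h1, e]
  exact len_congr (mul_inv_S_eqv n hs)

/-- right-handed version of `smul_mem_C_of_len_le` -/
theorem mul_S_mem_C_of_len_le {s n b : G} (hs : s ∈ P.S) (hn : n ∈ P.N)
    (hle : len P n ≤ len P (n * s)) (hb : b ∈ P.B) : n * b * s ∈ C P (n * s) := by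
  have hn' : n⁻¹ ∈ P.N := P.N.inv_mem hn
  have hle' : len P n⁻¹ ≤ len P (s * n⁻¹) := by
    rw [len_inv hn, len_smul_inv hs hn]; exact hle
  have h1 : s * b⁻¹ * n⁻¹ ∈ C P (s * n⁻¹) := smul_mem_C_of_len_le hs hn' hle' (P.B.inv_mem hb)
  have h2 : s⁻¹ * b⁻¹ * n⁻¹ ∈ C P (s * n⁻¹) := by
    have e : s⁻¹ * b⁻¹ * n⁻¹ = (s * s)⁻¹ * (s * b⁻¹ * n⁻¹) := by group
    rw [e]; exact mul_left_mem_C (P.B.inv_mem (S_sq hs)) h1
  have h3 := inv_mem_C h2
  have e1 : (s⁻¹ * b⁻¹ * n⁻¹)⁻¹ = n * b * s := by group
  have e2 : (s * n⁻¹)⁻¹ = n * s⁻¹ := by group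
  rw [e1, e2] at h3
  rw [← (mul_inv_S_eqv n hs).C_eq]
  exact h3

theorem len_mul_S_cases {s n : G} (hs : s ∈ P.S) (hn : n ∈ P.N) :
    len P (n * s) = len P n + 1 ∨ len P (n * s) + 1 = len P n := by
  have := len_smul_cases hs (P.N.inv_mem hn)
  rw [len_smul_inv hs hn, len_inv hn] at this
  exact this

/-- subadditivity of the length -/
theorem len_mul_le {a b : G} (ha : a ∈ P.N) (hb : b ∈ P.N) : len P (a * b) ≤ len P a + len P b := by
  obtain ⟨la, hla, hlena, hea⟩ := exists_reduced ha
  obtain ⟨lb, hlb, hlenb, heb⟩ := exists_reduced hb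
  have h : Eqv P (la ++ lb).prod (a * b) := by
    rw [List.prod_append]
    exact Eqv.mul (hla.prod_mem_N (le_refl _)) ha (hlb.prod_mem_N (le_refl _)) hea heb
  have := len_le (hla.append hlb) h
  rw [List.length_append, hlena, hlenb] at this
  exact this

theorem len_word_le {l : List G} (hl : IsWord P.S l) : len P l.prod ≤ l.length :=
  len_le hl (Eqv.refl _)

/-- the exchange condition, in split form -/
theorem exchange_split (l : List G) (hl : IsWord P.S l) (s : G) (hs : s ∈ P.S)
    (h : len P (s * l.prod) < len P l.prod) :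
    ∃ l₁ t l₂, l = l₁ ++ t :: l₂ ∧ Eqv P (s * l.prod) (l₁ ++ l₂).prod := by
  obtain ⟨i, hi, he⟩ := exchange l hl s hs h
  refine ⟨l.take i, l[i], l.drop (i + 1), ?_, ?_⟩
  · rw [List.getElem_cons_drop, List.take_append_drop]
  · rw [← List.eraseIdx_eq_take_drop_succ]
    exact he

/-- the exchange condition on the right -/
theorem exchange_right (l : List G) (hl : IsWord P.S l) (s : G) (hs : s ∈ P.S)
    (h : len P (l.prod * s) < len P l.prod) :
    ∃ l₁ t l₂, l = l₁ ++ t :: l₂ ∧ Eqv P (l.prod * s) (l₁ ++ l₂).prod := by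
  have hlN : l.prod ∈ P.N := hl.prod_mem_N (le_refl _)
  have hr : IsWord P.S l.reverse := hl.reverse
  have hrN : l.reverse.prod ∈ P.N := hr.prod_mem_N (le_refl _)
  have e1 : Eqv P l.prod⁻¹ l.reverse.prod := prod_inv_eqv_reverse (le_refl _) hl
  have hlen1 : len P l.reverse.prod = len P l.prod := by
    rw [← len_congr e1, len_inv hlN]
  have e2 : Eqv P (s * l.prod⁻¹) (s * l.reverse.prod) := e1.mul_left s
  have hlen2 : len P (s * l.reverse.prod) = len P (l.prod * s) := by
    rw [← len_congr e2, len_smul_inv hs hlN]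
  obtain ⟨r₁, t, r₂, hsplit, he⟩ := exchange_split l.reverse hr s hs (by rw [hlen1, hlen2]; exact h)
  have hl' : l = r₂.reverse ++ t :: r₁.reverse := by
    have := congrArg List.reverse hsplit
    rw [List.reverse_reverse] at this
    rw [this]
    simp
  refine ⟨r₂.reverse, t, r₁.reverse, hl', ?_⟩
  -- invert `he`
  have hw' : IsWord P.S (r₁ ++ r₂) := by
    intro x hx
    apply hr x
    rw [hsplit]
    rcases List.mem_append.1 hx with hx | hx
    · exact List.mem_append.2 (Or.inl hx)
    · exact List.mem_append.2 (Or.inr (List.mem_cons_of_mem _ hx))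
  have hw'N : (r₁ ++ r₂).prod ∈ P.N := hw'.prod_mem_N (le_refl _)
  have hsr : s * l.reverse.prod ∈ P.N := P.N.mul_mem (S_mem_N hs) hrN
  have he' : Eqv P (s * l.reverse.prod)⁻¹ (r₁ ++ r₂).prod⁻¹ := he.inv hsr hw'N
  -- right side
  have e3 : Eqv P (r₁ ++ r₂).prod⁻¹ (r₂.reverse ++ r₁.reverse).prod := by
    have := prod_inv_eqv_reverse (le_refl _) hw'
    rwa [List.reverse_append] at this
  -- left side
  have e4 : Eqv P (l.prod * s) (s * l.reverse.prod)⁻¹ := by
    have e5 : (s * l.reverse.prod)⁻¹ = l.reverse.prod⁻¹ * s⁻¹ := by group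
    rw [e5]
    have e6 : Eqv P l.reverse.prod⁻¹ l.prod := by
      have := prod_inv_eqv_reverse (le_refl _) hr
      rwa [List.reverse_reverse] at this
    have e7 : Eqv P (l.reverse.prod⁻¹ * s⁻¹) (l.prod * s⁻¹) :=
      e6.mul_right (P.N.inv_mem hrN) hlN (P.N.inv_mem (S_mem_N hs))
    exact ((mul_inv_S_eqv l.prod hs).symm.trans e7.symm)
  exact e4.trans (he'.trans e3)

theorem eqv_mul_left_cancel {a x y : G} (h : Eqv P (a * x) (a * y)) : Eqv P x y := by
  have e : (a * x)⁻¹ * (a * y) = x⁻¹ * y := by group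
  unfold Eqv at h ⊢
  rwa [e] at h

theorem eqv_mul_S_sq {x t : G} (ht : t ∈ P.S) : Eqv P (x * t * t) x := by
  have : (x * t * t)⁻¹ * x = (t * t)⁻¹ := by group
  rw [Eqv, this]
  exact P.B.inv_mem (S_sq ht)

/-- a prefix of a reduced word is reduced -/
theorem len_prefix {J : Set G} (hJ : J ⊆ P.S) {l : List G} {t : G} (hl : IsWord J l) (ht : t ∈ J)
    (hred : len P (l ++ [t]).prod = (l ++ [t]).length) : len P l.prod = l.length := by
  have h1 := len_word_le (hl.mono hJ)
  have h2 := len_mul_S_le (hJ ht) (hl.prod_mem_N hJ)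
  rw [List.prod_append, List.prod_singleton] at hred
  rw [hred, List.length_append, List.length_singleton] at h2
  omega

/-- additivity of the length on `m W_J` when `m` has minimal length in its coset -/
theorem len_mul_word_of_min {J : Set G} (hJ : J ⊆ P.S) {m : G} (hm : m ∈ P.N)
    (hmin : ∀ l, IsWord J l → len P m ≤ len P (m * l.prod)) :
    ∀ l, IsWord J l → len P l.prod = l.length → len P (m * l.prod) = len P m + l.length := by
  intro l
  induction l using List.reverseRecOn with
  | nil => intro _ _; simp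
  | append_singleton l' t ih =>
    intro hl hred
    obtain ⟨hl', ht'⟩ := hl.of_append
    have ht : t ∈ J := ht' t (by simp)
    have htS : t ∈ P.S := hJ ht
    have hl'N : l'.prod ∈ P.N := hl'.prod_mem_N hJ
    have hl'S : IsWord P.S l' := hl'.mono hJ
    have hred' : len P l'.prod = l'.length := len_prefix hJ hl' ht hred
    have ih' := ih hl' hred'
    rw [List.prod_append, List.prod_singleton, List.length_append, List.length_singleton,
      ← mul_assoc]
    have hnN : m * l'.prod ∈ P.N := P.N.mul_mem hm hl'N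
    rcases len_mul_S_cases htS hnN with h | h
    · rw [h, ih']; ring
    · exfalso
      obtain ⟨A, hA, hAlen, hAe⟩ := exists_reduced hm
      have hAN : A.prod ∈ P.N := hA.prod_mem_N (le_refl _)
      have hAl : IsWord P.S (A ++ l') := hA.append hl'S
      have e1 : Eqv P (A ++ l').prod (m * l'.prod) := by
        rw [List.prod_append]
        exact hAe.mul_right hAN hm hl'N
      have e2 : Eqv P ((A ++ l').prod * t) (m * l'.prod * t) :=
        e1.mul_right (hAl.prod_mem_N (le_refl _)) hnN (S_mem_N htS)
      have hlt : len P ((A ++ l').prod * t) < len P (A ++ l').prod := by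
        rw [len_congr e2, len_congr e1]; omega
      obtain ⟨l₁, u, l₂, hsplit, he⟩ := exchange_right (A ++ l') hAl t htS hlt
      -- the case where the erased letter lies in `l'`
      have case1 : ∀ a' : List G, l₁ = A ++ a' → l' = a' ++ u :: l₂ → False := by
        intro a' h1 h2
        have hw : IsWord P.S (a' ++ l₂) := by
          intro x hx
          apply hl'S x
          rw [h2]
          rcases List.mem_append.1 hx with hx | hx
          · exact List.mem_append.2 (Or.inl hx)
          · exact List.mem_append.2 (Or.inr (List.mem_cons_of_mem _ hx))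
        have e3 : Eqv P (l'.prod * t) (a' ++ l₂).prod := by
          apply eqv_mul_left_cancel (a := A.prod)
          have : (l₁ ++ l₂).prod = A.prod * (a' ++ l₂).prod := by
            rw [h1, List.append_assoc, List.prod_append]
          rw [← this, ← mul_assoc, ← List.prod_append]
          exact he
        have h3 := len_word_le hw
        rw [← len_congr e3] at h3
        rw [List.prod_append, List.prod_singleton] at hred
        rw [hred, List.length_append, List.length_singleton, List.length_append] at h3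
        have : l'.length = a'.length + (l₂.length + 1) := by
          rw [h2, List.length_append, List.length_cons]
        omega
      rcases List.append_eq_append_iff.1 hsplit with ⟨a', h1, h2⟩ | ⟨c', h1, h2⟩
      · exact case1 a' h1 h2
      · cases c' with
        | nil =>
          simp only [List.nil_append] at h2
          simp only [List.append_nil] at h1
          exact case1 [] (by rw [h1]; simp) (by rw [← h2]; simp)
        | cons u' c'' =>
          simp only [List.cons_append, List.cons.injEq] at h2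
          obtain ⟨hu, h2⟩ := h2
          -- A = l₁ ++ u' :: c'', l₂ = c'' ++ l'
          have hA' : IsWord P.S (l₁ ++ c'') := by
            intro x hx
            apply hA x
            rw [h1]
            rcases List.mem_append.1 hx with hx | hx
            · exact List.mem_append.2 (Or.inl hx)
            · exact List.mem_append.2 (Or.inr (List.mem_cons_of_mem _ hx))
          have hA'N : (l₁ ++ c'').prod ∈ P.N := hA'.prod_mem_N (le_refl _)
          have hprod : (l₁ ++ l₂).prod = (l₁ ++ c'').prod * l'.prod := by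
            rw [h2, ← List.append_assoc, List.prod_append]
          rw [hprod, List.prod_append] at he
          -- he : Eqv (A.prod * l'.prod * t) ((l₁ ++ c'').prod * l'.prod)
          have hl'i : l'.prod⁻¹ ∈ P.N := P.N.inv_mem hl'N
          have e3 : Eqv P (A.prod * l'.prod * t * l'.prod⁻¹) ((l₁ ++ c'').prod * l'.prod * l'.prod⁻¹) :=
            he.mul_right (P.N.mul_mem (P.N.mul_mem hAN hl'N) (S_mem_N htS))
              (P.N.mul_mem hA'N hl'N) hl'i
          have e4 : (l₁ ++ c'').prod * l'.prod * l'.prod⁻¹ = (l₁ ++ c'').prod := by group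
          rw [e4] at e3
          -- the J-word Z
          have hZ : IsWord J (l' ++ [t] ++ l'.reverse) := (hl'.append ht').append hl'.reverse
          have e5 : Eqv P (m * (l' ++ [t] ++ l'.reverse).prod) (A.prod * l'.prod * t * l'.prod⁻¹) := by
            rw [List.prod_append, List.prod_append, List.prod_singleton]
            have e6 : Eqv P (m * (l'.prod * t * l'.reverse.prod)) (m * (l'.prod * t * l'.prod⁻¹)) :=
              ((prod_inv_eqv_reverse hJ hl').symm.mul_left (l'.prod * t)).mul_left m
            have e7 : Eqv P (m * (l'.prod * t * l'.prod⁻¹)) (A.prod * (l'.prod * t * l'.prod⁻¹)) :=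
              (hAe.symm).mul_right hm hAN
                (P.N.mul_mem (P.N.mul_mem hl'N (S_mem_N htS)) hl'i)
            have e8 : A.prod * (l'.prod * t * l'.prod⁻¹) = A.prod * l'.prod * t * l'.prod⁻¹ := by group
            rw [e8] at e7
            exact e6.trans e7
          have h3 := hmin _ hZ
          rw [len_congr (e5.trans e3)] at h3
          have h4 := len_word_le hA'
          have h5 : A.length = l₁.length + (c''.length + 1) := by
            rw [h1, List.length_append, List.length_cons]
          rw [List.length_append] at h4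
          omega

/-- an element of `N` all of whose `J`-neighbours are longer is the shortest element of its coset -/
theorem min_of_ascents {J : Set G} (hJ : J ⊆ P.S) {m : G} (hm : m ∈ P.N)
    (hasc : ∀ s ∈ J, len P m < len P (m * s)) :
    ∀ l, IsWord J l → len P m ≤ len P (m * l.prod) := by
  have hne : {k | ∃ l, IsWord J l ∧ len P (m * l.prod) = k}.Nonempty :=
    ⟨len P m, [], IsWord.nil J, by simp⟩
  obtain ⟨l₀, hl₀, hk₀⟩ := Nat.sInf_mem hne
  have hmin₀ : ∀ l, IsWord J l →
      sInf {k | ∃ l, IsWord J l ∧ len P (m * l.prod) = k} ≤ len P (m * l.prod) :=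
    fun l hl => Nat.sInf_le ⟨l, hl, rfl⟩
  have hl₀N : l₀.prod ∈ P.N := hl₀.prod_mem_N hJ
  have hm₀N : m * l₀.prod ∈ P.N := P.N.mul_mem hm hl₀N
  have hmin' : ∀ l, IsWord J l → len P (m * l₀.prod) ≤ len P (m * l₀.prod * l.prod) := by
    intro l hl
    have := hmin₀ (l₀ ++ l) (hl₀.append hl)
    rw [List.prod_append, ← mul_assoc] at this
    rw [hk₀]; exact this
  obtain ⟨Z, hZ, hZe, hZlen⟩ := exists_reduced_word hJ l₀.reverse hl₀.reverse
  have hZN : Z.prod ∈ P.N := hZ.prod_mem_N hJ
  have hZred : len P Z.prod = Z.length := by rw [hZlen, len_congr hZe]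
  have e1 : Eqv P (m * l₀.prod * Z.prod) m := by
    have e2 : Eqv P Z.prod l₀.prod⁻¹ := hZe.trans (prod_inv_eqv_reverse hJ hl₀).symm
    have e3 := e2.mul_left (m * l₀.prod)
    have : m * l₀.prod * l₀.prod⁻¹ = m := by group
    rwa [this] at e3
  have hadd := len_mul_word_of_min hJ hm₀N hmin' Z hZ hZred
  have hlenm : len P m = len P (m * l₀.prod) + Z.length := by rw [← len_congr e1, hadd]
  intro l hl
  rcases List.eq_nil_or_concat Z with hZnil | ⟨Z', t, hZc⟩
  · subst hZnil
    simp only [List.length_nil, add_zero] at hlenm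
    rw [hlenm, hk₀]
    exact hmin₀ l hl
  · exfalso
    rw [List.concat_eq_append] at hZc
    subst hZc
    obtain ⟨hZ', ht'⟩ := hZ.of_append
    have ht : t ∈ J := ht' t (by simp)
    have hZ'red : len P Z'.prod = Z'.length := len_prefix hJ hZ' ht hZred
    have hZ'N : Z'.prod ∈ P.N := hZ'.prod_mem_N hJ
    have hadd' := len_mul_word_of_min hJ hm₀N hmin' Z' hZ' hZ'red
    have e2 : Eqv P (m * l₀.prod * (Z' ++ [t]).prod * t) (m * t) :=
      e1.mul_right (P.N.mul_mem hm₀N hZN) hm (S_mem_N (hJ ht))
    have e3 : m * l₀.prod * (Z' ++ [t]).prod * t = m * l₀.prod * Z'.prod * t * t := by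
      rw [List.prod_append, List.prod_singleton]; group
    rw [e3] at e2
    have e4 : Eqv P (m * l₀.prod * Z'.prod * t * t) (m * l₀.prod * Z'.prod) := eqv_mul_S_sq (hJ ht)
    have h1 : len P (m * t) = len P (m * l₀.prod) + Z'.length := by
      rw [← len_congr e2, len_congr e4, hadd']
    have h2 := hasc t ht
    rw [List.length_append, List.length_singleton] at hlenm
    omega

/-- general additivity: `ℓ(m y) = ℓ(m) + ℓ(y)` for `y ∈ W_J`, when `m s > m` for all `s ∈ J` -/
theorem len_mul_word {J : Set G} (hJ : J ⊆ P.S) {m : G} (hm : m ∈ P.N)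
    (hasc : ∀ s ∈ J, len P m < len P (m * s)) (l : List G) (hl : IsWord J l) :
    len P (m * l.prod) = len P m + len P l.prod := by
  obtain ⟨Z, hZ, hZe, hZlen⟩ := exists_reduced_word hJ l hl
  have hZred : len P Z.prod = Z.length := by rw [hZlen, len_congr hZe]
  rw [← len_congr (hZe.mul_left m), len_mul_word_of_min hJ hm (min_of_ascents hJ hm hasc) Z hZ hZred,
    hZlen]

/-- `J`-words commute with `m` modulo `T` when the generators in `J` do -/
theorem word_comm {J : Set G} (hJ : J ⊆ P.S) {m : G} (hm : m ∈ P.N)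
    (hcomm : ∀ s ∈ J, Eqv P (s * m) (m * s)) (l : List G) (hl : IsWord J l) :
    Eqv P (l.prod * m) (m * l.prod) := by
  induction l with
  | nil => simpa using Eqv.refl (P := P) m
  | cons s l ih =>
    obtain ⟨hs, hl'⟩ := hl.of_cons
    have hsN : s ∈ P.N := S_mem_N (hJ hs)
    have hlN : l.prod ∈ P.N := hl'.prod_mem_N hJ
    rw [List.prod_cons]
    have e1 : Eqv P (s * (l.prod * m)) (s * (m * l.prod)) := (ih hl').mul_left s
    have e2 : Eqv P (s * m * l.prod) (m * s * l.prod) :=
      (hcomm s hs).mul_right (P.N.mul_mem hsN hm) (P.N.mul_mem hm hsN) hlN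
    have e3 : s * l.prod * m = s * (l.prod * m) := by group
    have e4 : s * (m * l.prod) = s * m * l.prod := by group
    have e5 : m * s * l.prod = m * (s * l.prod) := by group
    rw [e3, ← e5]
    rw [e4] at e1
    exact e1.trans e2

/-- if `m` commutes (mod `T`) with all its ascents, some element `m y`, `y` a word in the
ascents, has only descents -/
theorem exists_all_descents {m : G} (hm : m ∈ P.N) (hbdd : ∃ L, ∀ n ∈ P.N, len P n ≤ L)
    (hcomm : ∀ s ∈ P.S, len P m < len P (m * s) → Eqv P (s * m) (m * s)) :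
    ∃ y, IsWord {s | s ∈ P.S ∧ len P m < len P (m * s)} y ∧
      ∀ s ∈ P.S, len P (m * y.prod * s) < len P (m * y.prod) := by
  set J : Set G := {s | s ∈ P.S ∧ len P m < len P (m * s)} with hJdef
  have hJ : J ⊆ P.S := fun s hs => hs.1
  have hasc : ∀ s ∈ J, len P m < len P (m * s) := fun s hs => hs.2
  have hcommJ : ∀ s ∈ J, Eqv P (s * m) (m * s) := fun s hs => hcomm s hs.1 hs.2
  obtain ⟨L, hL⟩ := hbdd
  have hne : {k | ∃ l, IsWord J l ∧ len P l.prod = k}.Nonempty := ⟨_, [], IsWord.nil J, rfl⟩
  have hbd : BddAbove {k | ∃ l, IsWord J l ∧ len P l.prod = k} := by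
    refine ⟨L, ?_⟩
    rintro k ⟨l, hl, rfl⟩
    exact hL _ (hl.prod_mem_N hJ)
  obtain ⟨y, hy, hyk⟩ := Nat.sSup_mem hne hbd
  have hmaxy : ∀ l, IsWord J l → len P l.prod ≤ len P y.prod := by
    intro l hl
    rw [hyk]
    exact le_csSup hbd ⟨l, hl, rfl⟩
  have hyN : y.prod ∈ P.N := hy.prod_mem_N hJ
  refine ⟨y, hy, ?_⟩
  intro s hs
  have hmy := len_mul_word hJ hm hasc y hy
  by_cases hsJ : len P m < len P (m * s)
  · have hsJ' : s ∈ J := ⟨hs, hsJ⟩
    have hw : IsWord J (y ++ [s]) :=
      hy.append (by intro x hx; simp at hx; rw [hx]; exact hsJ')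
    have h1 := len_mul_word hJ hm hasc (y ++ [s]) hw
    rw [List.prod_append, List.prod_singleton, ← mul_assoc] at h1
    have h2 := hmaxy _ hw
    rw [List.prod_append, List.prod_singleton] at h2
    rcases len_mul_S_cases hs hyN with h3 | h3
    · omega
    · omega
  · have h1 : len P (m * s) + 1 = len P m := by
      rcases len_mul_S_cases hs hm with h | h
      · omega
      · exact h
    have e1 : Eqv P (y.prod * m * s) (m * y.prod * s) :=
      (word_comm hJ hm hcommJ y hy).mul_right (P.N.mul_mem hyN hm) (P.N.mul_mem hm hyN) (S_mem_N hs)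
    have h2 := len_mul_le hyN (P.N.mul_mem hm (S_mem_N hs))
    rw [← mul_assoc] at h2
    rw [← len_congr e1]
    omega

end Cfsg.Agent.Lib.H9.InvCell
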