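import Mathlib
import Cfsg.Agent.Lib.H9.InvCellA

set_option autoImplicit false
set_option linter.unusedSectionVars false
set_option linter.unusedVariables false

/-!
# The maximal-cell argument for involutions in a split (B,N)-pair

Let `(B, N)` be a (B,N)-pair with bounded length function, `B = T U`, and for every distinguished
generator `s` a decomposition `U = U_s X_s` with `s U_s s⁻¹ ≤ U` and `s X_s s⁻¹ ∩ B = 1`; assume
moreover that an element of `N` all of whose right neighbours are shorter conjugates no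
non-trivial element of `U` into `B`.  Then every element `g` with `g² = 1` is conjugate to an
element `m` of `N` such that, for every `s`, either `m s` is shorter than `m`, or `m s` is
longer than `m` and `s m ≡ m s` modulo `T`.
-/

namespace Cfsg.Agent.Lib.H9.InvCell

open Cfsg DoubleCoset Cfsg.Agent.Lib.H2.BN

variable {G : Type*} [Group G]

/-- the 'split' data used by the maximal-cell argument -/
structure SplitData (P : BNPair G) (ι : Type*) where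
  /-- the unipotent radical of `B` -/
  U : Subgroup G
  /-- representatives of the distinguished generators -/
  e : ι → G
  /-- `U_s` -/
  Us : ι → Subgroup G
  /-- `X_s` -/
  Xs : ι → Subgroup G
  U_le : U ≤ P.B
  B_eq : ∀ b ∈ P.B, ∃ t ∈ P.B ⊓ P.N, ∃ u ∈ U, b = t * u
  e_mem : ∀ i, e i ∈ P.S
  e_surj : ∀ s ∈ P.S, ∃ i, e i = s
  dec : ∀ i, ∀ v ∈ U, ∃ v' ∈ Us i, ∃ x ∈ Xs i, v = v' * x
  Us_conj : ∀ i, ∀ v ∈ Us i, e i * v * (e i)⁻¹ ∈ U
  Xs_le : ∀ i, Xs i ≤ P.B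
  Xs_conj : ∀ i, ∀ x ∈ Xs i, e i * x * (e i)⁻¹ ∈ P.B → x = 1
  bdd : ∃ L, ∀ n ∈ P.N, len P n ≤ L
  top : ∀ n ∈ P.N, (∀ s ∈ P.S, len P (n * s) < len P n) → ∀ v ∈ U, n * v * n⁻¹ ∈ P.B → v = 1

variable {P : BNPair G} {ι : Type*}

theorem bdd_of_finite [Finite G] : ∃ L, ∀ n ∈ P.N, len P n ≤ L := by
  obtain ⟨L, hL⟩ := (Set.finite_range (len P)).bddAbove
  exact ⟨L, fun n _ => hL ⟨n, rfl⟩⟩

/-- `s x s⁻¹ ∈ B s B` for `x ∈ B` with `s x s⁻¹ ∉ B` -/
theorem conj_mem_C_S {s x : G} (hs : s ∈ P.S) (hx : x ∈ P.B) (h : s * x * s⁻¹ ∉ P.B) :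
    s * x * s⁻¹ ∈ C P s := by
  have h1 : s * x ∈ C P s := mul_right_mem_C hx (mem_C_self s)
  have e : s * x * s⁻¹ = s * x * s * (s * s)⁻¹ := by group
  rcases mul_S_mem_C hs (S_mem_N hs) h1 with h2 | h2
  · exfalso
    apply h
    rw [mem_C_of_mem_B (S_sq hs)] at h2
    rw [e]
    exact P.B.mul_mem h2 (P.B.inv_mem (S_sq hs))
  · rw [e]
    exact mul_right_mem_C (P.B.inv_mem (S_sq hs)) h2

/-- if a non-trivial element of `X_s` is conjugated into `B` by `n`, then `n s` is longer than `n` -/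
theorem len_lt_of_conj_mem (D : SplitData P ι) (i : ι) {n x : G} (hn : n ∈ P.N)
    (hx : x ∈ D.Xs i) (hx1 : x ≠ 1) (h : n * x * n⁻¹ ∈ P.B) : len P n < len P (n * D.e i) := by
  have hs := D.e_mem i
  by_contra hcon
  have hlt : len P (n * D.e i) + 1 = len P n := by
    rcases len_mul_S_cases hs hn with h1 | h1
    · omega
    · exact h1
  have hxB := D.Xs_le i hx
  have hnot : D.e i * x * (D.e i)⁻¹ ∉ P.B := fun hB => hx1 (D.Xs_conj i x hx hB)
  obtain ⟨b₁, hb₁, b₂, hb₂, hc⟩ := mem_C_iff.1 (conj_mem_C_S hs hxB hnot)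
  -- n s⁻¹ (s x s⁻¹) = n x s⁻¹ = (n x n⁻¹) n s⁻¹
  have hns : n * (D.e i)⁻¹ ∈ P.N := P.N.mul_mem hn (P.N.inv_mem (S_mem_N hs))
  have e0 : Eqv P (n * (D.e i)⁻¹) (n * D.e i) := mul_inv_S_eqv n hs
  have e0' : Eqv P (n * (D.e i)⁻¹ * D.e i) n := by
    have : n * (D.e i)⁻¹ * D.e i = n := by group
    rw [this]; exact Eqv.refl _
  have hle : len P (n * (D.e i)⁻¹) ≤ len P (n * (D.e i)⁻¹ * D.e i) := by
    rw [len_congr e0, len_congr e0']; omega
  have h1 : n * (D.e i)⁻¹ * b₁ * D.e i ∈ C P (n * (D.e i)⁻¹ * D.e i) :=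
    mul_S_mem_C_of_len_le hs hns hle hb₁
  have h2 : n * (D.e i)⁻¹ * (D.e i * x * (D.e i)⁻¹) ∈ C P n := by
    rw [hc]
    have : n * (D.e i)⁻¹ * (b₁ * D.e i * b₂) = n * (D.e i)⁻¹ * b₁ * D.e i * b₂ := by group
    rw [this, ← e0'.C_eq]
    exact mul_right_mem_C hb₂ h1
  have h3 : n * (D.e i)⁻¹ * (D.e i * x * (D.e i)⁻¹) ∈ C P (n * (D.e i)⁻¹) := by
    have : n * (D.e i)⁻¹ * (D.e i * x * (D.e i)⁻¹) = (n * x * n⁻¹) * (n * (D.e i)⁻¹) := by group
    rw [this]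
    exact mul_left_mem_C h (mem_C_self _)
  have h4 : Eqv P n (n * (D.e i)⁻¹) := eqv_of_mem_C hn hns (mem_C_trans (mem_C_symm h3) h2)
  have := len_congr (h4.trans e0)
  omega

/-- `k` bounds the length of every cell meeting the conjugacy class of `g` -/
def IsMaxLen (P : BNPair G) (g : G) (k : ℕ) : Prop :=
  ∀ c : G, ∀ n ∈ P.N, c * g * c⁻¹ ∈ C P n → len P n ≤ k

/-- a conjugate of `g` of the shape `m v` in a cell of length `k` -/
structure Good (D : SplitData P ι) (g : G) (k : ℕ) (m v : G) : Prop where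
  hm : m ∈ P.N
  hv : v ∈ D.U
  hc : ∃ c, c * g * c⁻¹ = m * v
  hk : len P m = k

theorem exists_good (D : SplitData P ι) (g : G) :
    ∃ k m v, IsMaxLen P g k ∧ Good D g k m v := by
  have hne : {k | ∃ c : G, ∃ n ∈ P.N, c * g * c⁻¹ ∈ C P n ∧ len P n = k}.Nonempty := by
    obtain ⟨n, hn, h⟩ := bruhat (P := P) g
    exact ⟨len P n, 1, n, hn, by simpa using h, rfl⟩
  obtain ⟨L, hL⟩ := D.bdd
  have hbd : BddAbove {k | ∃ c : G, ∃ n ∈ P.N, c * g * c⁻¹ ∈ C P n ∧ len P n = k} := by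
    refine ⟨L, ?_⟩
    rintro k ⟨c, n, hn, _, rfl⟩
    exact hL n hn
  obtain ⟨c₀, n₀, hn₀, hc₀, hk₀⟩ := Nat.sSup_mem hne hbd
  have hmax : IsMaxLen P g (sSup {k | ∃ c : G, ∃ n ∈ P.N, c * g * c⁻¹ ∈ C P n ∧ len P n = k}) := by
    intro c n hn hc
    exact le_csSup hbd ⟨c, n, hn, hc, rfl⟩
  obtain ⟨b₁, hb₁, b₂, hb₂, hc⟩ := mem_C_iff.1 hc₀
  obtain ⟨t, ht, u, hu, hb⟩ := D.B_eq (b₂ * b₁) (P.B.mul_mem hb₂ hb₁)
  refine ⟨_, n₀ * t, u, hmax, ⟨P.N.mul_mem hn₀ ht.2, hu, ⟨b₁⁻¹ * c₀, ?_⟩, ?_⟩⟩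
  · have e : b₁⁻¹ * c₀ * g * (b₁⁻¹ * c₀)⁻¹ = b₁⁻¹ * (c₀ * g * c₀⁻¹) * b₁ := by group
    rw [e, hc, mul_assoc n₀ t u, ← hb]
    group
  · rw [← hk₀]
    exact (len_congr (Eqv.mul_right_B ht.1)).symm

section

variable (D : SplitData P ι) {g : G} {k : ℕ} {m v : G}

theorem Good.sq (hg : g * g = 1) (h : Good D g k m v) : m * v * (m * v) = 1 := by
  obtain ⟨c, hc⟩ := h.hc
  rw [← hc]
  have : c * g * c⁻¹ * (c * g * c⁻¹) = c * (g * g) * c⁻¹ := by group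
  rw [this, hg]
  group

theorem Good.eqv_inv (hg : g * g = 1) (h : Good D g k m v) : Eqv P m m⁻¹ := by
  have hmv : m * v ∈ C P m := mul_right_mem_C (D.U_le h.hv) (mem_C_self m)
  have hinv : (m * v)⁻¹ = m * v := inv_eq_of_mul_eq_one_right (h.sq D hg)
  have h2 : (m * v)⁻¹ ∈ C P m⁻¹ := inv_mem_C hmv
  rw [hinv] at h2
  exact eqv_of_mem_C h.hm (P.N.inv_mem h.hm) (mem_C_trans (mem_C_symm h2) hmv)

theorem Good.conj_mem_B (hg : g * g = 1) (h : Good D g k m v) : m * v * m⁻¹ ∈ P.B := by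
  have hinv : (m * v)⁻¹ = m * v := inv_eq_of_mul_eq_one_right (h.sq D hg)
  have h1 : m * v = v⁻¹ * m⁻¹ := by rw [← mul_inv_rev, hinv]
  rw [h1, mul_assoc]
  exact P.B.mul_mem (P.B.inv_mem (D.U_le h.hv)) (h.eqv_inv D hg)

theorem Good.len_smul (hg : g * g = 1) (h : Good D g k m v) {s : G} (hs : s ∈ P.S) :
    len P (s * m) = len P (m * s) := by
  have hm := h.hm
  have hsN := S_mem_N hs
  have e0 : (s * m)⁻¹ = m⁻¹ * s⁻¹ := by group
  rw [← len_inv (P.N.mul_mem hsN hm), e0, len_congr (mul_inv_S_eqv m⁻¹ hs)]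
  exact len_congr ((h.eqv_inv D hg).symm.mul_right (P.N.inv_mem hm) hm hsN)

/-- the key step: an ascent `s` of `m` commutes with `m` modulo `T`, and `v ∈ U_s` -/
theorem Good.ascent (hg : g * g = 1) (hmax : IsMaxLen P g k) (h : Good D g k m v) (i : ι)
    (hasc : len P m < len P (m * D.e i)) :
    Eqv P (D.e i * m) (m * D.e i) ∧ v ∈ D.Us i := by
  have hs := D.e_mem i
  have hsN := S_mem_N hs
  have hm := h.hm
  have hmsN : m * D.e i ∈ P.N := P.N.mul_mem hm hsN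
  obtain ⟨c, hc⟩ := h.hc
  have hconj : ∀ z : G, D.e i * (m * v) * (D.e i)⁻¹ ∈ C P z → z ∈ P.N → len P z ≤ k := by
    intro z hz hzN
    apply hmax (D.e i * c) z hzN
    have : D.e i * c * g * (D.e i * c)⁻¹ = D.e i * (c * g * c⁻¹) * (D.e i)⁻¹ := by group
    rw [this, hc]
    exact hz
  have hlen1 : len P (m * D.e i) = len P m + 1 := by
    rcases len_mul_S_cases hs hm with h1 | h1
    · exact h1
    · omega
  have hcomm : Eqv P (D.e i * m) (m * D.e i) := by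
    rcases len_smul_cases hs hmsN with h2 | h2
    · exfalso
      -- the longer cell `C(s m s)`
      have h3 : m * v * D.e i ∈ C P (m * D.e i) :=
        mul_S_mem_C_of_len_le hs hm hasc.le (D.U_le h.hv)
      obtain ⟨b₁, hb₁, b₂, hb₂, h4⟩ := mem_C_iff.1 h3
      have h5 : D.e i * b₁ * (m * D.e i) ∈ C P (D.e i * (m * D.e i)) :=
        smul_mem_C_of_len_le hs hmsN (by omega) hb₁
      have h6 : D.e i * (m * v) * (D.e i)⁻¹ ∈ C P (D.e i * (m * D.e i)) := by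
        have e : D.e i * (m * v) * (D.e i)⁻¹ =
            D.e i * (m * v * D.e i) * (D.e i * D.e i)⁻¹ := by group
        rw [e, h4]
        have e' : D.e i * (b₁ * (m * D.e i) * b₂) * (D.e i * D.e i)⁻¹ =
            D.e i * b₁ * (m * D.e i) * (b₂ * (D.e i * D.e i)⁻¹) := by group
        rw [e']
        exact mul_right_mem_C (P.B.mul_mem hb₂ (P.B.inv_mem (S_sq hs))) h5
      have := hconj _ h6 (P.N.mul_mem hsN hmsN)
      have := h.hk
      omega
    · exact eqv_of_len hs hs hm (by rw [h.len_smul D hg hs]; exact hasc.le) (by omega)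
  refine ⟨hcomm, ?_⟩
  obtain ⟨v', hv', x, hx, hvx⟩ := D.dec i v h.hv
  by_cases hx1 : x = 1
  · rw [hvx, hx1, mul_one]; exact hv'
  · exfalso
    have hxB := D.Xs_le i hx
    have hnot : D.e i * x * (D.e i)⁻¹ ∉ P.B := fun hB => hx1 (D.Xs_conj i x hx hB)
    obtain ⟨b₁, hb₁, b₂, hb₂, hcx⟩ := mem_C_iff.1 (conj_mem_C_S hs hxB hnot)
    have hm''N : D.e i * m * (D.e i)⁻¹ ∈ P.N := P.N.mul_mem (P.N.mul_mem hsN hm) (P.N.inv_mem hsN)
    have hem : Eqv P m (D.e i * m * (D.e i)⁻¹) := by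
      have htB : (D.e i * m)⁻¹ * (m * D.e i) ∈ P.B := hcomm
      have htN : (D.e i * m)⁻¹ * (m * D.e i) ∈ P.N :=
        P.N.mul_mem (P.N.inv_mem (P.N.mul_mem hsN hm)) hmsN
      have e : m⁻¹ * (D.e i * m * (D.e i)⁻¹) =
          D.e i * ((D.e i * m)⁻¹ * (m * D.e i))⁻¹ * (D.e i)⁻¹ := by group
      unfold Eqv
      rw [e]
      exact T_conj hsN (P.B.inv_mem htB) (P.N.inv_mem htN)
    have hu'' : D.e i * v' * (D.e i)⁻¹ ∈ P.B := D.U_le (D.Us_conj i v' hv')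
    have hlen2 : len P (D.e i * m * (D.e i)⁻¹) ≤ len P (D.e i * m * (D.e i)⁻¹ * D.e i) := by
      rw [← len_congr hem, ← len_congr (hem.mul_right hm hm''N hsN)]
      exact hasc.le
    have h7 : D.e i * m * (D.e i)⁻¹ * (D.e i * v' * (D.e i)⁻¹ * b₁) * D.e i ∈
        C P (D.e i * m * (D.e i)⁻¹ * D.e i) :=
      mul_S_mem_C_of_len_le hs hm''N hlen2 (P.B.mul_mem hu'' hb₁)
    have h8 : D.e i * (m * v) * (D.e i)⁻¹ ∈ C P (D.e i * m * (D.e i)⁻¹ * D.e i) := by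
      have e : D.e i * (m * v) * (D.e i)⁻¹ =
          D.e i * m * (D.e i)⁻¹ * (D.e i * v' * (D.e i)⁻¹) * (D.e i * x * (D.e i)⁻¹) := by
        rw [hvx]; group
      rw [e, hcx]
      have e' : D.e i * m * (D.e i)⁻¹ * (D.e i * v' * (D.e i)⁻¹) * (b₁ * D.e i * b₂) =
          D.e i * m * (D.e i)⁻¹ * (D.e i * v' * (D.e i)⁻¹ * b₁) * D.e i * b₂ := by group
      rw [e']
      exact mul_right_mem_C hb₂ h7
    have h9 := hconj _ h8 (P.N.mul_mem hm''N hsN)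
    rw [← len_congr (hem.mul_right hm hm''N hsN)] at h9
    have := h.hk
    omega

/-- conjugating by an ascent keeps the shape -/
theorem Good.conj (hg : g * g = 1) (hmax : IsMaxLen P g k) (h : Good D g k m v) (i : ι)
    (hasc : len P m < len P (m * D.e i)) :
    Good D g k (D.e i * m * (D.e i)⁻¹) (D.e i * v * (D.e i)⁻¹) ∧
      Eqv P m (D.e i * m * (D.e i)⁻¹) := by
  obtain ⟨hcomm, hvU⟩ := h.ascent D hg hmax i hasc
  have hs := D.e_mem i
  have hsN := S_mem_N hs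
  have hm := h.hm
  have hmsN : m * D.e i ∈ P.N := P.N.mul_mem hm hsN
  have hem : Eqv P m (D.e i * m * (D.e i)⁻¹) := by
    have htB : (D.e i * m)⁻¹ * (m * D.e i) ∈ P.B := hcomm
    have htN : (D.e i * m)⁻¹ * (m * D.e i) ∈ P.N :=
      P.N.mul_mem (P.N.inv_mem (P.N.mul_mem hsN hm)) hmsN
    have e : m⁻¹ * (D.e i * m * (D.e i)⁻¹) =
        D.e i * ((D.e i * m)⁻¹ * (m * D.e i))⁻¹ * (D.e i)⁻¹ := by group
    unfold Eqv
    rw [e]
    exact T_conj hsN (P.B.inv_mem htB) (P.N.inv_mem htN)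
  refine ⟨⟨P.N.mul_mem (P.N.mul_mem hsN hm) (P.N.inv_mem hsN), D.Us_conj i v hvU, ?_, ?_⟩, hem⟩
  · obtain ⟨c, hc⟩ := h.hc
    refine ⟨D.e i * c, ?_⟩
    have : D.e i * c * g * (D.e i * c)⁻¹ = D.e i * (c * g * c⁻¹) * (D.e i)⁻¹ := by group
    rw [this, hc]
    group
  · rw [← len_congr hem]; exact h.hk

/-- conjugating by a word in the ascents keeps the shape -/
theorem Good.conj_word (hg : g * g = 1) (hmax : IsMaxLen P g k) (h : Good D g k m v)
    (l : List G) (hl : IsWord {s | s ∈ P.S ∧ len P m < len P (m * s)} l) :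
    Good D g k (l.prod * m * l.prod⁻¹) (l.prod * v * l.prod⁻¹) ∧
      Eqv P m (l.prod * m * l.prod⁻¹) := by
  induction l with
  | nil =>
    simp only [List.prod_nil, one_mul, inv_one, mul_one]
    exact ⟨h, Eqv.refl _⟩
  | cons s l ih =>
    obtain ⟨hs, hl'⟩ := hl.of_cons
    obtain ⟨hG, hE⟩ := ih hl'
    obtain ⟨i, rfl⟩ := D.e_surj s hs.1
    have hsN := S_mem_N hs.1
    have hasc' : len P (l.prod * m * l.prod⁻¹) < len P (l.prod * m * l.prod⁻¹ * D.e i) := by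
      rw [← len_congr hE, ← len_congr (hE.mul_right h.hm hG.hm hsN)]
      exact hs.2
    obtain ⟨hG', hE'⟩ := hG.conj D hg hmax i hasc'
    have e1 : (D.e i :: l).prod * m * (D.e i :: l).prod⁻¹ =
        D.e i * (l.prod * m * l.prod⁻¹) * (D.e i)⁻¹ := by
      rw [List.prod_cons]; group
    have e2 : (D.e i :: l).prod * v * (D.e i :: l).prod⁻¹ =
        D.e i * (l.prod * v * l.prod⁻¹) * (D.e i)⁻¹ := by
      rw [List.prod_cons]; group
    rw [e1, e2]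
    exact ⟨hG', hE.trans hE'⟩

end

/-- **The maximal-cell theorem for involutions.** -/
theorem exists_conj_mem_N (D : SplitData P ι) (g : G) (hg : g * g = 1) :
    ∃ c : G, ∃ m ∈ P.N, c * g * c⁻¹ = m ∧
      ∀ s ∈ P.S, len P (m * s) < len P m ∨ (len P m < len P (m * s) ∧ Eqv P (s * m) (m * s)) := by
  obtain ⟨k, m, v, hmax, h⟩ := exists_good D g
  have hm := h.hm
  have hcomm : ∀ s ∈ P.S, len P m < len P (m * s) → Eqv P (s * m) (m * s) := by
    intro s hs hasc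
    obtain ⟨i, rfl⟩ := D.e_surj s hs
    exact (h.ascent D hg hmax i hasc).1
  obtain ⟨y, hy, hdesc⟩ := exists_all_descents hm D.bdd hcomm
  obtain ⟨hG, hE⟩ := h.conj_word D hg hmax y hy
  have hyN : y.prod ∈ P.N := hy.prod_mem_N (fun s hs => hs.1)
  have h1 : y.prod * m * y.prod⁻¹ * (y.prod * v * y.prod⁻¹) * (y.prod * m * y.prod⁻¹)⁻¹ ∈ P.B :=
    hG.conj_mem_B D hg
  have htB : m⁻¹ * (y.prod * m * y.prod⁻¹) ∈ P.B := hE
  have htN : m⁻¹ * (y.prod * m * y.prod⁻¹) ∈ P.N := P.N.mul_mem (P.N.inv_mem hm) hG.hm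
  have hT := T_conj hm htB htN
  have h2 : m * (y.prod * v * y.prod⁻¹) * m⁻¹ ∈ P.B := by
    have e : m * (y.prod * v * y.prod⁻¹) * m⁻¹ =
        (m * (m⁻¹ * (y.prod * m * y.prod⁻¹)) * m⁻¹)⁻¹ *
        (y.prod * m * y.prod⁻¹ * (y.prod * v * y.prod⁻¹) * (y.prod * m * y.prod⁻¹)⁻¹) *
        (m * (m⁻¹ * (y.prod * m * y.prod⁻¹)) * m⁻¹) := by group
    rw [e]
    exact P.B.mul_mem (P.B.mul_mem (P.B.inv_mem hT) h1) hT
  have h3 : m * y.prod * v * (m * y.prod)⁻¹ ∈ P.B := by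
    have e : m * y.prod * v * (m * y.prod)⁻¹ = m * (y.prod * v * y.prod⁻¹) * m⁻¹ := by group
    rw [e]; exact h2
  have hv1 : v = 1 := D.top (m * y.prod) (P.N.mul_mem hm hyN) hdesc v h.hv h3
  obtain ⟨c, hc⟩ := h.hc
  refine ⟨c, m, hm, by rw [hc, hv1, mul_one], ?_⟩
  intro s hs
  rcases len_mul_S_cases hs hm with h4 | h4
  · right
    have : len P m < len P (m * s) := by omega
    exact ⟨this, hcomm s hs this⟩
  · left; omega

end Cfsg.Agent.Lib.H9.InvCell
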