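import Mathlib
import Cfsg.Agent.Lib.H9.InvCellB

set_option autoImplicit false
set_option linter.unusedSectionVars false
set_option linter.unusedVariables false

/-!
# A criterion for `ℓ(n s) > ℓ(n)` in a (B,N)-pair, without the `SplitData` structure
-/

namespace Cfsg.Agent.Lib.H9.InvCell

open Cfsg DoubleCoset Cfsg.Agent.Lib.H2.BN

variable {G : Type*} [Group G] {P : BNPair G}

/-- if `x ∈ B` with `s x s⁻¹ ∉ B` is conjugated into `B` by `n ∈ N`, then `n s` is longer than `n` -/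
theorem len_lt_of_conj_mem' {s n x : G} (hs : s ∈ P.S) (hn : n ∈ P.N) (hxB : x ∈ P.B)
    (hnot : s * x * s⁻¹ ∉ P.B) (h : n * x * n⁻¹ ∈ P.B) : len P n < len P (n * s) := by
  by_contra hcon
  have hlt : len P (n * s) + 1 = len P n := by
    rcases len_mul_S_cases hs hn with h1 | h1
    · omega
    · exact h1
  obtain ⟨b₁, hb₁, b₂, hb₂, hc⟩ := mem_C_iff.1 (conj_mem_C_S hs hxB hnot)
  have hns : n * s⁻¹ ∈ P.N := P.N.mul_mem hn (P.N.inv_mem (S_mem_N hs))
  have e0 : Eqv P (n * s⁻¹) (n * s) := mul_inv_S_eqv n hs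
  have e0' : Eqv P (n * s⁻¹ * s) n := by
    have : n * s⁻¹ * s = n := by group
    rw [this]; exact Eqv.refl _
  have hle : len P (n * s⁻¹) ≤ len P (n * s⁻¹ * s) := by
    rw [len_congr e0, len_congr e0']; omega
  have h1 : n * s⁻¹ * b₁ * s ∈ C P (n * s⁻¹ * s) := mul_S_mem_C_of_len_le hs hns hle hb₁
  have h2 : n * s⁻¹ * (s * x * s⁻¹) ∈ C P n := by
    rw [hc]
    have : n * s⁻¹ * (b₁ * s * b₂) = n * s⁻¹ * b₁ * s * b₂ := by group
    rw [this, ← e0'.C_eq]
    exact mul_right_mem_C hb₂ h1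
  have h3 : n * s⁻¹ * (s * x * s⁻¹) ∈ C P (n * s⁻¹) := by
    have : n * s⁻¹ * (s * x * s⁻¹) = (n * x * n⁻¹) * (n * s⁻¹) := by group
    rw [this]
    exact mul_left_mem_C h (mem_C_self _)
  have h4 : Eqv P n (n * s⁻¹) := eqv_of_mem_C hn hns (mem_C_trans (mem_C_symm h3) h2)
  have := len_congr (h4.trans e0)
  omega

/-- the converse direction, for elements whose `s`-conjugate lies in `B` with the roles exchanged:
if `n s` is shorter than `n`, no `x ∈ B` with `s x s⁻¹ ∉ B` is conjugated into `B` by `n` -/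
theorem not_conj_mem_of_len_lt {s n x : G} (hs : s ∈ P.S) (hn : n ∈ P.N) (hxB : x ∈ P.B)
    (hnot : s * x * s⁻¹ ∉ P.B) (hd : len P (n * s) < len P n) : n * x * n⁻¹ ∉ P.B := by
  intro h
  have := len_lt_of_conj_mem' hs hn hxB hnot h
  omega

end Cfsg.Agent.Lib.H9.InvCell
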