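import Mathlib

set_option autoImplicit false

/-!
# Commuting isometric involutions of a symplectic space

A finite set `E` of pairwise commuting involutions preserving a nondegenerate alternating form on
a space of dimension `d` over a field of characteristic `≠ 2` satisfies `|E|² ≤ 2^d`.
-/

namespace Cfsg.Agent.Lib.H9.InvRank

universe u

variable {F : Type*} [Field F]

structure InvSet {V : Type*} [AddCommGroup V] [Module F V] (B : V →ₗ[F] V →ₗ[F] F)
    (E : Finset (Module.End F V)) : Prop where
  sq : ∀ g ∈ E, g * g = 1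
  comm : ∀ g ∈ E, ∀ g' ∈ E, g * g' = g' * g
  isom : ∀ g ∈ E, ∀ u w, B (g u) (g w) = B u w

section eigen

variable {V : Type*} [AddCommGroup V] [Module F V] (t : Module.End F V)

def Vp : Submodule F V := LinearMap.ker (t - 1)

def Vm : Submodule F V := LinearMap.ker (t + 1)

theorem mem_Vp {v : V} : v ∈ Vp t ↔ t v = v := by
  unfold Vp
  rw [LinearMap.mem_ker, LinearMap.sub_apply, Module.End.one_apply, sub_eq_zero]

theorem mem_Vm {v : V} : v ∈ Vm t ↔ t v = -v := by
  unfold Vm
  rw [LinearMap.mem_ker, LinearMap.add_apply, Module.End.one_apply, add_eq_zero_iff_eq_neg]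

def projP : V →ₗ[F] V := (2⁻¹ : F) • (1 + t)

def projM : V →ₗ[F] V := (2⁻¹ : F) • (1 - t)

theorem projP_apply (v : V) : projP t v = (2⁻¹ : F) • (v + t v) := by
  unfold projP
  rw [LinearMap.smul_apply, LinearMap.add_apply, Module.End.one_apply]

theorem projM_apply (v : V) : projM t v = (2⁻¹ : F) • (v - t v) := by
  unfold projM
  rw [LinearMap.smul_apply, LinearMap.sub_apply, Module.End.one_apply]

variable (ht : t * t = 1)
include ht

theorem tt_apply (v : V) : t (t v) = v := by
  have := congrArg (fun f : Module.End F V => f v) ht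
  simpa using this

theorem projP_mem (v : V) : projP t v ∈ Vp t := by
  rw [mem_Vp, projP_apply, map_smul, map_add, tt_apply t ht, add_comm]

theorem projM_mem (v : V) : projM t v ∈ Vm t := by
  rw [mem_Vm, projM_apply, map_smul, map_sub, tt_apply t ht, ← smul_neg, neg_sub]

omit ht in
theorem proj_add (h2 : (2 : F) ≠ 0) (v : V) : projP t v + projM t v = v := by
  rw [projP_apply, projM_apply, ← smul_add]
  have : v + t v + (v - t v) = (2 : F) • v := by rw [two_smul]; abel
  rw [this, smul_smul, inv_mul_cancel₀ h2, one_smul]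

/-- projection onto the `+1`-eigenspace as a map into the subtype -/
def PP : V →ₗ[F] ↥(Vp t) := LinearMap.codRestrict (Vp t) (projP t) (projP_mem t ht)

def PM : V →ₗ[F] ↥(Vm t) := LinearMap.codRestrict (Vm t) (projM t) (projM_mem t ht)

/-- restriction of an endomorphism to the `+1`-eigenspace (a total function) -/
def rP (g : Module.End F V) : Module.End F ↥(Vp t) := (PP t ht).comp (g.comp (Vp t).subtype)

def rM (g : Module.End F V) : Module.End F ↥(Vm t) := (PM t ht).comp (g.comp (Vm t).subtype)

theorem rP_coe (h2 : (2 : F) ≠ 0) {g : Module.End F V} (hg : g * t = t * g) (v : ↥(Vp t)) :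
    ((rP t ht g v : ↥(Vp t)) : V) = g v := by
  show projP t (g v) = g v
  have h1 : t (g (v : V)) = g (v : V) := by
    have := congrArg (fun f : Module.End F V => f (v : V)) hg
    simp only [Module.End.mul_apply] at this
    rw [← this, (mem_Vp t).mp v.2]
  rw [projP_apply, h1, ← two_smul F (g (v : V)), smul_smul, inv_mul_cancel₀ h2, one_smul]

theorem rM_coe (h2 : (2 : F) ≠ 0) {g : Module.End F V} (hg : g * t = t * g) (v : ↥(Vm t)) :
    ((rM t ht g v : ↥(Vm t)) : V) = g v := by
  show projM t (g v) = g v
  have h1 : t (g (v : V)) = - g (v : V) := by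
    have := congrArg (fun f : Module.End F V => f (v : V)) hg
    simp only [Module.End.mul_apply] at this
    rw [← this, (mem_Vm t).mp v.2, map_neg]
  rw [projM_apply, h1, sub_neg_eq_add, ← two_smul F (g (v : V)), smul_smul, inv_mul_cancel₀ h2,
    one_smul]

omit ht in
theorem Vp_inf_Vm (h2 : (2 : F) ≠ 0) : Vp t ⊓ Vm t = ⊥ := by
  rw [eq_bot_iff]
  rintro v ⟨hp, hm⟩
  rw [SetLike.mem_coe, mem_Vp] at hp
  rw [SetLike.mem_coe, mem_Vm] at hm
  rw [Submodule.mem_bot]
  have h3 : (2 : F) • v = 0 := by
    rw [two_smul]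
    nth_rewrite 1 [← hp]
    rw [hm, neg_add_cancel]
  rcases smul_eq_zero.mp h3 with h | h
  · exact absurd h h2
  · exact h

theorem Vm_ne_bot (h2 : (2 : F) ≠ 0) (ht1 : t ≠ 1) : Vm t ≠ ⊥ := by
  intro hbot
  apply ht1
  apply LinearMap.ext
  intro v
  have h1 : projM t v ∈ Vm t := projM_mem t ht v
  rw [hbot, Submodule.mem_bot] at h1
  have h3 := proj_add t h2 v
  rw [h1, add_zero] at h3
  have h4 : projP t v ∈ Vp t := projP_mem t ht v
  rw [h3, mem_Vp] at h4
  rw [h4, Module.End.one_apply]

theorem Vp_ne_bot (h2 : (2 : F) ≠ 0) (ht1 : t ≠ -1) : Vp t ≠ ⊥ := by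
  intro hbot
  apply ht1
  apply LinearMap.ext
  intro v
  have h1 : projP t v ∈ Vp t := projP_mem t ht v
  rw [hbot, Submodule.mem_bot] at h1
  have h3 := proj_add t h2 v
  rw [h1, zero_add] at h3
  have h4 : projM t v ∈ Vm t := projM_mem t ht v
  rw [h3, mem_Vm] at h4
  rw [h4, LinearMap.neg_apply, Module.End.one_apply]

end eigen

theorem card_sq_le (h2 : (2 : F) ≠ 0) (d : ℕ) :
    ∀ (V : Type u) [AddCommGroup V] [Module F V] [FiniteDimensional F V]
      (B : V →ₗ[F] V →ₗ[F] F), (∀ v, B v v = 0) → (∀ u, (∀ w, B u w = 0) → u = 0) →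
      ∀ E : Finset (Module.End F V), InvSet B E → Module.finrank F V = d →
        E.card ^ 2 ≤ 2 ^ d := by
  induction d using Nat.strong_induction_on with
  | _ d ih =>
  intro V _ _ _ B halt hnd E hE hd
  classical
  by_cases hcase : ∀ g ∈ E, g = 1 ∨ g = -1
  · have hE2 : E.card ≤ 2 := by
      calc E.card ≤ ({1, -1} : Finset (Module.End F V)).card :=
            Finset.card_le_card (fun g hg => by
              rw [Finset.mem_insert, Finset.mem_singleton]; exact hcase g hg)
        _ ≤ 2 := Finset.card_le_two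
    by_cases hd2 : 2 ≤ d
    · calc E.card ^ 2 ≤ 2 ^ 2 := Nat.pow_le_pow_left hE2 2
        _ ≤ 2 ^ d := Nat.pow_le_pow_right (by norm_num) hd2
    · have hsub : ∀ v : V, v = 0 := by
        intro v
        apply hnd
        intro w
        have h1 : Module.finrank F V ≤ 1 := by omega
        rw [finrank_le_one_iff] at h1
        obtain ⟨v0, hv0⟩ := h1
        obtain ⟨a, ha⟩ := hv0 v
        obtain ⟨b, hb⟩ := hv0 w
        rw [← ha, ← hb, map_smul, map_smul, LinearMap.smul_apply, halt, smul_zero, smul_zero]
      have hE1 : E.card ≤ 1 := Finset.card_le_one.mpr (fun g _ g' _ =>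
        LinearMap.ext (fun v => by rw [hsub (g v), hsub (g' v)]))
      calc E.card ^ 2 ≤ 1 ^ 2 := Nat.pow_le_pow_left hE1 2
        _ = 1 := one_pow 2
        _ ≤ 2 ^ d := Nat.one_le_two_pow
  · push Not at hcase
    obtain ⟨t, htE, ht1, htm1⟩ := hcase
    have ht : t * t = 1 := hE.sq t htE
    have hcomm : ∀ g ∈ E, g * t = t * g := fun g hg => hE.comm g hg t htE
    -- orthogonality of the eigenspaces
    have horth : ∀ u ∈ Vp t, ∀ w ∈ Vm t, B u w = 0 := by
      intro u hu w hw
      have h1 := hE.isom t htE u w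
      rw [(mem_Vp t).mp hu, (mem_Vm t).mp hw, map_neg] at h1
      have h3 : (2 : F) * B u w = 0 := by
        rw [two_mul]
        nth_rewrite 1 [← h1]
        rw [neg_add_cancel]
      rcases mul_eq_zero.mp h3 with h | h
      · exact absurd h h2
      · exact h
    have horth' : ∀ u ∈ Vm t, ∀ w ∈ Vp t, B u w = 0 := by
      intro u hu w hw
      have h1 := hE.isom t htE u w
      rw [(mem_Vm t).mp hu, (mem_Vp t).mp hw, map_neg, LinearMap.neg_apply] at h1
      have h3 : (2 : F) * B u w = 0 := by
        rw [two_mul]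
        nth_rewrite 1 [← h1]
        rw [neg_add_cancel]
      rcases mul_eq_zero.mp h3 with h | h
      · exact absurd h h2
      · exact h
    -- restricted data
    set Bp := B.domRestrict₁₂ (Vp t) (Vp t) with hBp
    set Bm := B.domRestrict₁₂ (Vm t) (Vm t) with hBm
    have haltp : ∀ v, Bp v v = 0 := fun v => by
      rw [hBp, LinearMap.domRestrict₁₂_apply]; exact halt _
    have haltm : ∀ v, Bm v v = 0 := fun v => by
      rw [hBm, LinearMap.domRestrict₁₂_apply]; exact halt _
    have hndp : ∀ u, (∀ w, Bp u w = 0) → u = 0 := by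
      intro u hu
      apply Subtype.ext
      apply hnd
      intro w
      rw [← proj_add t h2 w, map_add]
      have h1 := hu ⟨projP t w, projP_mem t ht w⟩
      rw [hBp, LinearMap.domRestrict₁₂_apply] at h1
      rw [h1, zero_add]
      exact horth _ u.2 _ (projM_mem t ht w)
    have hndm : ∀ u, (∀ w, Bm u w = 0) → u = 0 := by
      intro u hu
      apply Subtype.ext
      apply hnd
      intro w
      rw [← proj_add t h2 w, map_add]
      have h1 := hu ⟨projM t w, projM_mem t ht w⟩
      rw [hBm, LinearMap.domRestrict₁₂_apply] at h1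
      rw [h1, add_zero]
      exact horth' _ u.2 _ (projP_mem t ht w)
    set Ep := E.image (rP t ht) with hEp
    set Em := E.image (rM t ht) with hEm
    have hInvP : InvSet Bp Ep := by
      refine ⟨?_, ?_, ?_⟩
      · intro g' hg'
        obtain ⟨g, hg, rfl⟩ := Finset.mem_image.mp hg'
        apply LinearMap.ext
        intro v
        apply Subtype.ext
        rw [Module.End.mul_apply, rP_coe t ht h2 (hcomm g hg), rP_coe t ht h2 (hcomm g hg),
          Module.End.one_apply]
        have := congrArg (fun f : Module.End F V => f (v : V)) (hE.sq g hg)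
        simpa using this
      · intro g1' hg1' g2' hg2'
        obtain ⟨g1, hg1, rfl⟩ := Finset.mem_image.mp hg1'
        obtain ⟨g2, hg2, rfl⟩ := Finset.mem_image.mp hg2'
        apply LinearMap.ext
        intro v
        apply Subtype.ext
        rw [Module.End.mul_apply, Module.End.mul_apply, rP_coe t ht h2 (hcomm g1 hg1),
          rP_coe t ht h2 (hcomm g2 hg2), rP_coe t ht h2 (hcomm g2 hg2),
          rP_coe t ht h2 (hcomm g1 hg1)]
        have := congrArg (fun f : Module.End F V => f (v : V)) (hE.comm g1 hg1 g2 hg2)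
        simpa using this
      · intro g' hg' u w
        obtain ⟨g, hg, rfl⟩ := Finset.mem_image.mp hg'
        rw [hBp, LinearMap.domRestrict₁₂_apply, LinearMap.domRestrict₁₂_apply,
          rP_coe t ht h2 (hcomm g hg), rP_coe t ht h2 (hcomm g hg)]
        exact hE.isom g hg _ _
    have hInvM : InvSet Bm Em := by
      refine ⟨?_, ?_, ?_⟩
      · intro g' hg'
        obtain ⟨g, hg, rfl⟩ := Finset.mem_image.mp hg'
        apply LinearMap.ext
        intro v
        apply Subtype.ext
        rw [Module.End.mul_apply, rM_coe t ht h2 (hcomm g hg), rM_coe t ht h2 (hcomm g hg),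
          Module.End.one_apply]
        have := congrArg (fun f : Module.End F V => f (v : V)) (hE.sq g hg)
        simpa using this
      · intro g1' hg1' g2' hg2'
        obtain ⟨g1, hg1, rfl⟩ := Finset.mem_image.mp hg1'
        obtain ⟨g2, hg2, rfl⟩ := Finset.mem_image.mp hg2'
        apply LinearMap.ext
        intro v
        apply Subtype.ext
        rw [Module.End.mul_apply, Module.End.mul_apply, rM_coe t ht h2 (hcomm g1 hg1),
          rM_coe t ht h2 (hcomm g2 hg2), rM_coe t ht h2 (hcomm g2 hg2),
          rM_coe t ht h2 (hcomm g1 hg1)]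
        have := congrArg (fun f : Module.End F V => f (v : V)) (hE.comm g1 hg1 g2 hg2)
        simpa using this
      · intro g' hg' u w
        obtain ⟨g, hg, rfl⟩ := Finset.mem_image.mp hg'
        rw [hBm, LinearMap.domRestrict₁₂_apply, LinearMap.domRestrict₁₂_apply,
          rM_coe t ht h2 (hcomm g hg), rM_coe t ht h2 (hcomm g hg)]
        exact hE.isom g hg _ _
    -- dimensions
    have hdim : Module.finrank F ↥(Vp t) + Module.finrank F ↥(Vm t) ≤ d := by
      have h1 := Submodule.finrank_sup_add_finrank_inf_eq (Vp t) (Vm t)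
      rw [Vp_inf_Vm t h2, finrank_bot, add_zero] at h1
      rw [← h1, ← hd]
      exact Submodule.finrank_le _
    have hdp : 1 ≤ Module.finrank F ↥(Vp t) :=
      Submodule.one_le_finrank_iff.mpr (Vp_ne_bot t ht h2 htm1)
    have hdm : 1 ≤ Module.finrank F ↥(Vm t) :=
      Submodule.one_le_finrank_iff.mpr (Vm_ne_bot t ht h2 ht1)
    have ihp := ih (Module.finrank F ↥(Vp t)) (by omega) ↥(Vp t) Bp haltp hndp Ep hInvP rfl
    have ihm := ih (Module.finrank F ↥(Vm t)) (by omega) ↥(Vm t) Bm haltm hndm Em hInvM rfl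
    -- counting
    have hcard : E.card ≤ Ep.card * Em.card := by
      rw [← Finset.card_product]
      apply Finset.card_le_card_of_injOn (fun g => (rP t ht g, rM t ht g))
      · intro g hg
        rw [Finset.mem_coe, Finset.mem_product]
        exact ⟨Finset.mem_image_of_mem _ hg, Finset.mem_image_of_mem _ hg⟩
      · intro g hg g' hg' hgg'
        have e1 : rP t ht g = rP t ht g' := congrArg Prod.fst hgg'
        have e2 : rM t ht g = rM t ht g' := congrArg Prod.snd hgg'
        apply LinearMap.ext
        intro v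
        rw [← proj_add t h2 v, map_add, map_add]
        have k1 := rP_coe t ht h2 (hcomm g hg) ⟨projP t v, projP_mem t ht v⟩
        have k1' := rP_coe t ht h2 (hcomm g' hg') ⟨projP t v, projP_mem t ht v⟩
        have k2 := rM_coe t ht h2 (hcomm g hg) ⟨projM t v, projM_mem t ht v⟩
        have k2' := rM_coe t ht h2 (hcomm g' hg') ⟨projM t v, projM_mem t ht v⟩
        rw [e1] at k1
        rw [e2] at k2
        rw [← k1, ← k2, k1', k2']
    calc E.card ^ 2 ≤ (Ep.card * Em.card) ^ 2 := Nat.pow_le_pow_left hcard 2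
      _ = Ep.card ^ 2 * Em.card ^ 2 := mul_pow _ _ _
      _ ≤ 2 ^ Module.finrank F ↥(Vp t) * 2 ^ Module.finrank F ↥(Vm t) := Nat.mul_le_mul ihp ihm
      _ = 2 ^ (Module.finrank F ↥(Vp t) + Module.finrank F ↥(Vm t)) := (pow_add _ _ _).symm
      _ ≤ 2 ^ d := Nat.pow_le_pow_right (by norm_num) hdim

end Cfsg.Agent.Lib.H9.InvRank
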