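import Mathlib
import Cfsg.Agent.Lib.H9.InvRankA

set_option autoImplicit false

/-!
# Elementary abelian `2`-subgroups of `Sp(2n, F)`, characteristic `≠ 2`, have order `≤ 2^n`
-/

namespace Cfsg.Agent.Lib.H9.InvRank

open Matrix

variable {F : Type*} [Field F] {n : ℕ}

theorem sp_form_alt (h2 : (2 : F) ≠ 0) (u : Fin n ⊕ Fin n → F) :
    u ⬝ᵥ (J (Fin n) F *ᵥ u) = 0 := by
  have h1 : u ⬝ᵥ (J (Fin n) F *ᵥ u) = - (u ⬝ᵥ (J (Fin n) F *ᵥ u)) := by
    conv_lhs => rw [dotProduct_comm, ← vecMul_transpose, J_transpose, ← dotProduct_mulVec,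
      neg_mulVec, dotProduct_neg]
  have h3 : (2 : F) * (u ⬝ᵥ (J (Fin n) F *ᵥ u)) = 0 := by
    rw [two_mul]
    nth_rewrite 1 [h1]
    rw [neg_add_cancel]
  rcases mul_eq_zero.mp h3 with h | h
  · exact absurd h h2
  · exact h

theorem sp_form_nondeg (u : Fin n ⊕ Fin n → F)
    (h : ∀ w, u ⬝ᵥ (J (Fin n) F *ᵥ w) = 0) : u = 0 := by
  have h1 : u ᵥ* J (Fin n) F = 0 := by
    apply dotProduct_eq_zero
    intro w
    rw [← dotProduct_mulVec]
    exact h w
  have h3 : u ᵥ* (J (Fin n) F * J (Fin n) F) = 0 := by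
    rw [← vecMul_vecMul, h1, zero_vecMul]
  rw [J_squared, vecMul_neg, vecMul_one, neg_eq_zero] at h3
  exact h3

theorem sp_form_isom {A : Matrix (Fin n ⊕ Fin n) (Fin n ⊕ Fin n) F}
    (hA : A ∈ symplecticGroup (Fin n) F) (u w : Fin n ⊕ Fin n → F) :
    (A *ᵥ u) ⬝ᵥ (J (Fin n) F *ᵥ (A *ᵥ w)) = u ⬝ᵥ (J (Fin n) F *ᵥ w) := by
  have h1 : Aᵀ * J (Fin n) F * A = J (Fin n) F := SymplecticGroup.mem_iff'.mp hA
  rw [← vecMul_transpose, ← dotProduct_mulVec, mulVec_mulVec, mulVec_mulVec, h1]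

theorem card_le_of_elementary [Fintype F] (h2 : (2 : F) ≠ 0)
    (H : Subgroup ↥(symplecticGroup (Fin n) F))
    (hc : ∀ x ∈ H, ∀ y ∈ H, x * y = y * x) (hs : ∀ x ∈ H, x * x = 1) :
    Nat.card ↥H ≤ 2 ^ n := by
  classical
  have : Fintype ↥H := Fintype.ofFinite _
  let V := Fin n ⊕ Fin n → F
  let B : V →ₗ[F] V →ₗ[F] F := Matrix.toLinearMap₂' F (J (Fin n) F)
  have hB : ∀ u w : V, B u w = u ⬝ᵥ (J (Fin n) F *ᵥ w) := fun u w =>
    Matrix.toLinearMap₂'_apply' _ u w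
  let φ : ↥H → Module.End F V := fun g => Matrix.toLin' ((g : ↥(symplecticGroup (Fin n) F)) : Matrix _ _ F)
  have hφ : Function.Injective φ := by
    intro g g' h
    apply Subtype.ext
    apply Subtype.ext
    exact Matrix.toLin'.injective h
  let E : Finset (Module.End F V) := Finset.univ.image φ
  have hEcard : E.card = Nat.card ↥H := by
    rw [Finset.card_image_of_injective _ hφ, Finset.card_univ, Nat.card_eq_fintype_card]
  have hInv : InvSet B E := by
    refine ⟨?_, ?_, ?_⟩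
    · intro g' hg'
      obtain ⟨g, -, rfl⟩ := Finset.mem_image.mp hg'
      have h1 := hs g.1 g.2
      have h3 : (g.1.1 : Matrix _ _ F) * g.1.1 = 1 := congrArg Subtype.val h1
      show Matrix.toLin' g.1.1 * Matrix.toLin' g.1.1 = 1
      rw [Module.End.mul_eq_comp, ← Matrix.toLin'_mul, h3, Matrix.toLin'_one]
      rfl
    · intro g1' hg1' g2' hg2'
      obtain ⟨g1, -, rfl⟩ := Finset.mem_image.mp hg1'
      obtain ⟨g2, -, rfl⟩ := Finset.mem_image.mp hg2'
      have h1 := hc g1.1 g1.2 g2.1 g2.2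
      have h3 : (g1.1.1 : Matrix _ _ F) * g2.1.1 = g2.1.1 * g1.1.1 := congrArg Subtype.val h1
      show Matrix.toLin' g1.1.1 * Matrix.toLin' g2.1.1 = Matrix.toLin' g2.1.1 * Matrix.toLin' g1.1.1
      rw [Module.End.mul_eq_comp, Module.End.mul_eq_comp, ← Matrix.toLin'_mul, ← Matrix.toLin'_mul, h3]
    · intro g' hg' u w
      obtain ⟨g, -, rfl⟩ := Finset.mem_image.mp hg'
      rw [hB, hB]
      show (Matrix.toLin' g.1.1 u) ⬝ᵥ (J (Fin n) F *ᵥ (Matrix.toLin' g.1.1 w)) = _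
      rw [Matrix.toLin'_apply, Matrix.toLin'_apply]
      exact sp_form_isom g.1.2 u w
  have hfin : Module.finrank F V = n + n := by
    rw [Module.finrank_fintype_fun_eq_card, Fintype.card_sum, Fintype.card_fin]
  have key := card_sq_le h2 (n + n) V B (fun v => by rw [hB]; exact sp_form_alt h2 v)
    (fun u hu => sp_form_nondeg u (fun w => by rw [← hB]; exact hu w)) E hInv hfin
  rw [hEcard, ← two_mul, pow_mul'] at key
  exact (Nat.pow_le_pow_iff_left (by norm_num)).mp key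

end Cfsg.Agent.Lib.H9.InvRank
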