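import Mathlib
import Cfsg.Agent.Lib.H9.InvRankB
import Cfsg.Agent.Lib.H9.DerLenE

set_option autoImplicit false

/-!
# A normal elementary abelian subgroup of order `2^n` in a Sylow `2`-subgroup of `Sp(2n, q)`
-/

namespace Cfsg.Agent.Lib.H9.InvRank

open Equiv Matrix Cfsg.Agent.Lib.H9.SqC Cfsg.Agent.Lib.H9.DerLen

variable {F : Type*} [Field F] [Fintype F]

section central

variable (u v : F) (h : u ^ 2 + v ^ 2 = -1)

theorem bEl_sq_val : (bEl u v h * bEl u v h).1 = !![-1, 0; 0, -1] := by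
  rw [sl2_mul_val]
  ext i j
  fin_cases i <;> fin_cases j <;>
  · simp [bEl, mul_apply, Fin.sum_univ_two]
    try first | ring1 | linear_combination h

theorem bEl_sq_central (g : SL2 F) : (bEl u v h * bEl u v h) * g = g * (bEl u v h * bEl u v h) := by
  have hz := bEl_sq_val u v h
  generalize bEl u v h * bEl u v h = z at hz
  apply sl2_ext <;>
  · rw [sl2_mul_val, sl2_mul_val, hz]
    simp [mul_apply, Fin.sum_univ_two]

theorem bEl_sq_ne_one (h2 : (2 : F) ≠ 0) : bEl u v h * bEl u v h ≠ 1 := by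
  intro h1
  have h3 := congrArg (fun m : SL2 F => m.1 0 0) h1
  simp only [bEl_sq_val] at h3
  have h4 : (-1 : F) = 1 := by simpa using h3
  apply h2
  linear_combination -h4

/-- the centre `{±1}` -/
def zSub : Subgroup (SL2 F) := Subgroup.zpowers (bEl u v h * bEl u v h)

theorem zSub_sq {z : SL2 F} (hz : z ∈ zSub u v h) : z * z = 1 := by
  obtain ⟨k, rfl⟩ := Subgroup.mem_zpowers_iff.mp hz
  rw [← (Commute.refl (bEl u v h * bEl u v h)).mul_zpow k, bEl_sq_sq, _root_.one_zpow]

theorem zSub_central {z : SL2 F} (hz : z ∈ zSub u v h) (g : SL2 F) : z * g = g * z := by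
  obtain ⟨k, rfl⟩ := Subgroup.mem_zpowers_iff.mp hz
  have hc : Commute (bEl u v h * bEl u v h) g := bEl_sq_central u v h g
  exact (hc.zpow_left k).eq

theorem card_zSub (h2 : (2 : F) ≠ 0) : Nat.card ↥(zSub u v h) = 2 := by
  unfold zSub
  rw [Nat.card_zpowers]
  apply orderOf_eq_prime
  · rw [pow_two]; exact bEl_sq_sq u v h
  · exact bEl_sq_ne_one u v h h2

theorem zSub_le_quatQ : zSub u v h ≤ quatQ u v h := by
  unfold zSub
  rw [Subgroup.zpowers_le]
  have hb : bEl u v h ∈ quatQ u v h := Subgroup.mem_sup_left (Subgroup.mem_zpowers _)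
  exact mul_mem hb hb

end central

theorem exists_normal_elementary (hq : Odd (Fintype.card F)) (n : ℕ)
    (S : Sylow 2 ↥(symplecticGroup (Fin n) F)) :
    ∃ E : Subgroup ↥(S : Subgroup ↥(symplecticGroup (Fin n) F)), E.Normal ∧
      (∀ a b : ↥E, a * b = b * a) ∧ (∀ a ∈ E, a ^ 2 = 1) ∧ 2 ^ n ≤ Nat.card ↥E := by
  have : Fact (Nat.Prime 2) := ⟨Nat.prime_two⟩
  have h2 := two_ne_zero_of_odd_card hq
  obtain ⟨u, v, h⟩ := exists_sq_add_sq_neg_one (F := F) hq
  have hQp := quatQ_isPGroup u v h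
  have hQc : 2 ^ (padicValNat 2 (Fintype.card F + 1) + padicValNat 2 (Fintype.card F - 1)) ∣
      Nat.card ↥(quatQ u v h) := by
    rw [← (val_rotT hq).1]
    exact quatQ_card u v h hq
  obtain ⟨S0⟩ : Nonempty (Sylow 2 (Perm (Fin n))) := inferInstance
  obtain ⟨P1, hP1⟩ := exists_sylow_eq_sub hq n (quatQ u v h) hQp hQc S0
  set D := spWr F n with hD
  set E0 := D.base (zSub u v h) with hE0
  -- membership description
  have hE0mem : ∀ x ∈ E0, ∃ z : Fin n → SL2 F, (∀ i, z i ∈ zSub u v h) ∧ x = D.Φ z := by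
    rintro _ ⟨z, hz, rfl⟩
    exact ⟨z, fun i => hz i (Set.mem_univ i), rfl⟩
  have hE0le : E0 ≤ D.sub (quatQ u v h) (S0 : Subgroup (Perm (Fin n))) := by
    refine le_trans ?_ le_sup_right
    rintro _ ⟨z, hz, rfl⟩
    exact ⟨z, fun i hi => zSub_le_quatQ u v h (hz i hi), rfl⟩
  have hnorm : D.sub (quatQ u v h) (S0 : Subgroup (Perm (Fin n))) ≤
      Subgroup.normalizer (E0 : Set ↥(symplecticGroup (Fin n) F)) := by
    apply sup_le
    · exact D.top_le_normalizer _ _
    · rintro _ ⟨q, -, rfl⟩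
      apply Subgroup.mem_normalizer_fintype
      intro x hx
      obtain ⟨z, hz, rfl⟩ := hE0mem x hx
      have h1 : D.Φ q * D.Φ z * (D.Φ q)⁻¹ = D.Φ z := by
        rw [← map_inv, ← map_mul, ← map_mul]
        congr 1
        funext i
        show q i * z i * (q i)⁻¹ = z i
        rw [← zSub_central u v h (hz i) (q i), mul_inv_cancel_right]
      rw [h1]
      exact hx
  have hsq0 : ∀ x ∈ E0, x * x = 1 := by
    intro x hx
    obtain ⟨z, hz, rfl⟩ := hE0mem x hx
    rw [← map_mul]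
    have : z * z = 1 := by
      funext i
      exact zSub_sq u v h (hz i)
    rw [this, map_one]
  have hcomm0 : ∀ x ∈ E0, ∀ y ∈ E0, x * y = y * x := by
    intro x hx y hy
    obtain ⟨z, hz, rfl⟩ := hE0mem x hx
    obtain ⟨z', hz', rfl⟩ := hE0mem y hy
    rw [← map_mul, ← map_mul]
    congr 1
    funext i
    exact zSub_central u v h (hz i) (z' i)
  have hcard0 : 2 ^ n ≤ Nat.card ↥E0 := by
    let J : (Fin n → ↥(zSub u v h)) → ↥E0 := fun f =>
      ⟨D.Φ (fun i => (f i : SL2 F)), ⟨_, fun i _ => (f i).2, rfl⟩⟩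
    have hJ : Function.Injective J := by
      intro f f' hff'
      have h1 : D.Φ (fun i => (f i : SL2 F)) = D.Φ (fun i => (f' i : SL2 F)) :=
        congrArg Subtype.val hff'
      have h3 := D.inj h1
      funext i
      exact Subtype.ext (congrFun h3 i)
    have := Nat.card_le_card_of_injective J hJ
    rwa [Nat.card_fun, Nat.card_fin, card_zSub u v h h2] at this
  -- move into `P1`
  rw [← hP1] at hE0le hnorm
  set E1 : Subgroup ↥(P1 : Subgroup ↥(symplecticGroup (Fin n) F)) := E0.subgroupOf P1 with hE1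
  have hE1n : E1.Normal := (Subgroup.normal_subgroupOf_iff_le_normalizer hE0le).mpr hnorm
  have hE1card : Nat.card ↥E1 = Nat.card ↥E0 :=
    Nat.card_congr (Subgroup.subgroupOfEquivOfLe hE0le).toEquiv
  let e := Sylow.equiv P1 S
  refine ⟨E1.map e.toMonoidHom, hE1n.map _ e.surjective, ?_, ?_, ?_⟩
  · rintro ⟨_, x, hx, rfl⟩ ⟨_, y, hy, rfl⟩
    apply Subtype.ext
    show e.toMonoidHom x * e.toMonoidHom y = e.toMonoidHom y * e.toMonoidHom x
    rw [← map_mul, ← map_mul]
    congr 1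
    apply Subtype.ext
    exact hcomm0 _ (Subgroup.mem_subgroupOf.mp hx) _ (Subgroup.mem_subgroupOf.mp hy)
  · rintro _ ⟨x, hx, rfl⟩
    rw [← map_pow]
    have : x ^ 2 = 1 := by
      apply Subtype.ext
      rw [pow_two]
      exact hsq0 _ (Subgroup.mem_subgroupOf.mp hx)
    rw [this, map_one]
  · rw [Subgroup.card_map_of_injective e.injective, hE1card]
    exact hcard0

end Cfsg.Agent.Lib.H9.InvRank
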