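import Mathlib
import Cfsg.Prelude.Def_Solvable
import Cfsg.Prelude.Def_Transfer
import Cfsg.Agent.Lib.H1.PCore
import Cfsg.Agent.Lib.H26.Thompson
import Cfsg.Agent.Lib.H3.Thompson

/-!
# Basic lemmas for the `J_e`-theorem for solvable `S₄`-free groups with Sylow `2`-subgroups of
class at most `2` (helper9)
-/

set_option autoImplicit false

open scoped commutatorElement Pointwise

namespace Cfsg.Agent.Lib.H9.Je

variable {G : Type*} [Group G]

/-- nilpotency class at most two, elementwise -/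
def Cl2 (S : Subgroup G) : Prop := ∀ x ∈ S, ∀ y ∈ S, ∀ z ∈ S, ⁅x, y⁆ * z = z * ⁅x, y⁆

theorem cl2_of_lcs {S : Subgroup G} (h : S.lowerCentralSeries 2 = ⊥) : Cl2 S := by
  intro x hx y hy z hz
  have h1 : ⁅⁅x, y⁆, z⁆ ∈ S.lowerCentralSeries 2 := by
    show ⁅⁅x, y⁆, z⁆ ∈ ⁅⁅S, S⁆, S⁆
    exact Subgroup.commutator_mem_commutator (Subgroup.commutator_mem_commutator hx hy) hz
  rw [h, Subgroup.mem_bot] at h1
  rw [commutatorElement_def] at h1
  calc ⁅x, y⁆ * z = (⁅x, y⁆ * z * ⁅x, y⁆⁻¹ * z⁻¹) * z * ⁅x, y⁆ := by group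
    _ = z * ⁅x, y⁆ := by rw [h1, one_mul]

theorem Cl2.mono {S T : Subgroup G} (h : Cl2 S) (hT : T ≤ S) : Cl2 T :=
  fun x hx y hy z hz => h x (hT hx) y (hT hy) z (hT hz)

theorem Cl2.map {H : Type*} [Group H] {S : Subgroup G} (h : Cl2 S) (f : G →* H) :
    Cl2 (S.map f) := by
  rintro _ ⟨x, hx, rfl⟩ _ ⟨y, hy, rfl⟩ _ ⟨z, hz, rfl⟩
  rw [← map_commutatorElement, ← map_mul, ← map_mul, h x hx y hy z hz]

theorem Cl2.of_map {H : Type*} [Group H] {S : Subgroup G} (f : G →* H)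
    (hf : Function.Injective f) (h : Cl2 (S.map f)) : Cl2 S := by
  intro x hx y hy z hz
  apply hf
  rw [map_mul, map_mul, map_commutatorElement]
  exact h _ (Subgroup.mem_map_of_mem f hx) _ (Subgroup.mem_map_of_mem f hy) _
    (Subgroup.mem_map_of_mem f hz)

/-- if a Sylow `2`-subgroup has class at most two then so does every `2`-subgroup -/
theorem cl2_of_sylow [Finite G] (S : Sylow 2 G) (hS : Cl2 (S : Subgroup G)) (P : Subgroup G)
    (hP : IsPGroup 2 P) : Cl2 P := by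
  have : Fact (Nat.Prime 2) := ⟨Nat.prime_two⟩
  obtain ⟨R, hR⟩ := hP.exists_le_sylow
  obtain ⟨g, hg⟩ := MulAction.exists_smul_eq G S R
  have h1 : Cl2 ((S : Subgroup G).map (MulAut.conj g).toMonoidHom) := hS.map _
  apply h1.mono
  have h2 : P ≤ ((g • S : Sylow 2 G) : Subgroup G) := hg ▸ hR
  rw [Sylow.coe_subgroup_smul] at h2
  exact h2

/-- a largest elementary abelian subgroup of a Sylow subgroup is a largest one of the group -/
theorem maxElemAb_of_maxEA [Finite G] {p : ℕ} [Fact p.Prime] (S : Sylow p G) {A : Subgroup G}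
    (hA : A ∈ Cfsg.Agent.Lib.H26.maxEA p (S : Subgroup G)) :
    A ∈ Cfsg.maxElementaryAbelianSubgroups p G := by
  obtain ⟨A₁, hA₁, hA₁S⟩ := Cfsg.Agent.Lib.H3.exists_maxElemAb_le_sylow S
  refine ⟨hA.2.1, fun B hB => ?_⟩
  exact (hA₁.2 B hB).trans (hA.2.2 A₁ hA₁S hA₁.1)

/-- a largest elementary abelian subgroup of the group inside `S` is a largest one of `S` -/
theorem maxEA_of_maxElemAb {p : ℕ} {S A : Subgroup G}
    (hA : A ∈ Cfsg.maxElementaryAbelianSubgroups p G) (hAS : A ≤ S) :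
    A ∈ Cfsg.Agent.Lib.H26.maxEA p S :=
  ⟨hAS, hA.1, fun B _ hB => hA.2 B hB⟩

/-! ### coprime action, elementwise -/

theorem conj_pow_eq {x q z : G} (h : x * q * x⁻¹ = z * q) (hz : x * z * x⁻¹ = z) (n : ℕ) :
    x ^ n * q * (x ^ n)⁻¹ = z ^ n * q := by
  induction n with
  | zero => simp
  | succ n ih =>
    have hz' : x * z ^ n * x⁻¹ = z ^ n := by
      have := map_pow (MulAut.conj x) z n
      simp only [MulAut.conj_apply] at this
      rw [this, hz]
    calc x ^ (n + 1) * q * (x ^ (n + 1))⁻¹ = x * (x ^ n * q * (x ^ n)⁻¹) * x⁻¹ := by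
          rw [pow_succ']; group
      _ = x * (z ^ n * q) * x⁻¹ := by rw [ih]
      _ = (x * z ^ n * x⁻¹) * (x * q * x⁻¹) := by group
      _ = z ^ n * (z * q) := by rw [hz', h]
      _ = z ^ (n + 1) * q := by rw [pow_succ]; group

/-- if `x` of odd order moves `q` by a fixed `2`-element `z`, then `z = 1` -/
theorem eq_one_of_conj_eq_mul {x q z : G} (h : x * q * x⁻¹ = z * q) (hz : x * z * x⁻¹ = z)
    {n k : ℕ} (hx : x ^ n = 1) (hn : Odd n) (hzk : z ^ 2 ^ k = 1) : z = 1 := by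
  have h1 := conj_pow_eq h hz n
  rw [hx] at h1
  have h2 : z ^ n = 1 := by
    have : q = z ^ n * q := by simpa using h1
    exact (mul_eq_right.mp this.symm)
  have hcop : Nat.Coprime n (2 ^ k) := (Nat.Coprime.pow_right k (Nat.coprime_two_right.mpr hn))
  have h3 : orderOf z ∣ 1 := by
    rw [← Nat.Coprime.gcd_eq_one hcop]
    exact Nat.dvd_gcd (orderOf_dvd_of_pow_eq_one h2) (orderOf_dvd_of_pow_eq_one hzk)
  exact orderOf_eq_one_iff.mp (Nat.dvd_one.mp h3)

/-- an element of odd order normalizing an abelian `2`-group and centralizing its involutions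
centralizes it -/
theorem centralizes_of_centralizes_omega {Z : Subgroup G}
    (hZc : ∀ a ∈ Z, ∀ b ∈ Z, a * b = b * a) (hZ2 : ∀ z ∈ Z, ∃ k : ℕ, z ^ 2 ^ k = 1) {x : G}
    (hxZ : ∀ z ∈ Z, x * z * x⁻¹ ∈ Z) (hΩ : ∀ z ∈ Z, z ^ 2 = 1 → x * z * x⁻¹ = z)
    {n : ℕ} (hx : x ^ n = 1) (hn : Odd n) : ∀ z ∈ Z, x * z * x⁻¹ = z := by
  have key : ∀ k : ℕ, ∀ z ∈ Z, z ^ 2 ^ k = 1 → x * z * x⁻¹ = z := by
    intro k
    induction k with
    | zero =>
      intro z _ hz1
      rw [pow_zero, pow_one] at hz1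
      rw [hz1]; group
    | succ k ih =>
      intro z hz hzk
      have hz2 : (z ^ 2) ^ 2 ^ k = 1 := by rw [← pow_mul, ← pow_succ']; exact hzk
      have h1 := ih (z ^ 2) (Z.pow_mem hz 2) hz2
      obtain ⟨w, hw⟩ : ∃ w, w = x * z * x⁻¹ * z⁻¹ := ⟨_, rfl⟩
      have hwZ : w ∈ Z := hw ▸ Z.mul_mem (hxZ z hz) (Z.inv_mem hz)
      have hxz : x * z * x⁻¹ = w * z := by rw [hw]; group
      have hw2 : w ^ 2 = 1 := by
        have e1 : (x * z * x⁻¹) ^ 2 = z ^ 2 := by
          rw [← h1]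
          have := map_pow (MulAut.conj x) z 2
          simp only [MulAut.conj_apply] at this
          rw [this]
        have e2 : (w * z) ^ 2 = w ^ 2 * z ^ 2 := by
          rw [pow_two, pow_two, pow_two]
          calc w * z * (w * z) = w * (z * w) * z := by group
            _ = w * (w * z) * z := by rw [hZc z hz w hwZ]
            _ = w * w * (z * z) := by group
        rw [hxz, e2] at e1
        exact mul_eq_right.mp e1
      have hwx : x * w * x⁻¹ = w := hΩ w hwZ hw2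
      have := eq_one_of_conj_eq_mul hxz hwx hx hn (k := 1) (by rw [pow_one]; exact hw2)
      rw [hxz, this, one_mul]
  intro z hz
  obtain ⟨k, hk⟩ := hZ2 z hz
  exact key k z hz hk

/-- an element of odd order acting trivially on `Z` and on `Q` modulo `Z` centralizes the
`2`-group `Q` -/
theorem centralizes_of_chain {Q Z : Subgroup G} (hZ2 : ∀ z ∈ Z, ∃ k : ℕ, z ^ 2 ^ k = 1) {x : G}
    (hQZ : ∀ q ∈ Q, x * q * x⁻¹ * q⁻¹ ∈ Z) (hxZ : ∀ z ∈ Z, x * z * x⁻¹ = z)
    {n : ℕ} (hx : x ^ n = 1) (hn : Odd n) : ∀ q ∈ Q, x * q * x⁻¹ = q := by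
  intro q hq
  have h1 := hQZ q hq
  obtain ⟨k, hk⟩ := hZ2 _ h1
  have hxq : x * q * x⁻¹ = (x * q * x⁻¹ * q⁻¹) * q := by group
  have := eq_one_of_conj_eq_mul hxq (hxZ _ h1) hx hn hk
  rw [hxq, this, one_mul]

/-- the commutator with an involution is inverted by it -/
theorem conj_commutator_of_sq {a k : G} (ha : a * a = 1) : a * ⁅k, a⁆ * a⁻¹ = ⁅k, a⁆⁻¹ := by
  have ha' : a⁻¹ = a := inv_eq_of_mul_eq_one_left ha
  rw [commutatorElement_def, ha']
  calc a * (k * a * k⁻¹ * a) * a = a * k * a * k⁻¹ * (a * a) := by group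
    _ = a * k * a * k⁻¹ := by rw [ha, mul_one]
    _ = (k * a * k⁻¹ * a)⁻¹ := by
      rw [mul_inv_rev, mul_inv_rev, mul_inv_rev, inv_inv, ha']; group

theorem conj_pow_inv {a x : G} (h : a * x * a⁻¹ = x⁻¹) (n : ℕ) :
    a * x ^ n * a⁻¹ = (x ^ n)⁻¹ := by
  have := map_pow (MulAut.conj a) x n
  simp only [MulAut.conj_apply] at this
  rw [this, h, inv_pow]

end Cfsg.Agent.Lib.H9.Je
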