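import Mathlib
import Cfsg.Agent.Lib.H9.JeBasic
import Cfsg.Agent.Lib.H14.SFour7

/-!
# The final configuration of the `J_e`-theorem: a transvection inverted element gives `S₄`
(helper9)
-/

set_option autoImplicit false

open scoped commutatorElement Pointwise

namespace Cfsg.Agent.Lib.H9.Je

variable {G : Type*} [Group G]

/-- the elements of order at most two of an abelian subgroup -/
theorem exists_omega {Z : Subgroup G} (hZc : ∀ a ∈ Z, ∀ b ∈ Z, a * b = b * a) :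
    ∃ V : Subgroup G, ∀ v, v ∈ V ↔ v ∈ Z ∧ v ^ 2 = 1 := by
  refine ⟨{ carrier := {v | v ∈ Z ∧ v ^ 2 = 1}
            mul_mem' := ?_
            one_mem' := ⟨Z.one_mem, one_pow 2⟩
            inv_mem' := ?_ }, fun v => Iff.rfl⟩
  · rintro v w ⟨hv, hv2⟩ ⟨hw, hw2⟩
    refine ⟨Z.mul_mem hv hw, ?_⟩
    have hc : Commute v w := hZc v hv w hw
    rw [hc.mul_pow, hv2, hw2, one_mul]
  · rintro v ⟨hv, hv2⟩
    exact ⟨Z.inv_mem hv, by rw [inv_pow, hv2, inv_one]⟩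

/-- the subgroup acting trivially on `Q` modulo `Z` -/
theorem exists_stab (Q Z : Subgroup G) [hQn : Q.Normal]
    (hZn : ∀ g z, z ∈ Z → g * z * g⁻¹ ∈ Z) :
    ∃ N : Subgroup G, N.Normal ∧ ∀ g, g ∈ N ↔ ∀ q ∈ Q, g * q * g⁻¹ * q⁻¹ ∈ Z := by
  have hinv : ∀ g : G, (∀ q ∈ Q, g * q * g⁻¹ * q⁻¹ ∈ Z) → ∀ q ∈ Q, g⁻¹ * q * g⁻¹⁻¹ * q⁻¹ ∈ Z := by
    intro g hg q hq
    have hq' : g⁻¹ * q * g ∈ Q := by
      have := hQn.conj_mem q hq g⁻¹
      simpa using this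
    have h1 := Z.inv_mem (hg _ hq')
    have e : (g * (g⁻¹ * q * g) * g⁻¹ * (g⁻¹ * q * g)⁻¹)⁻¹ = g⁻¹ * q * g⁻¹⁻¹ * q⁻¹ := by group
    rw [e] at h1
    exact h1
  refine ⟨{ carrier := {g | ∀ q ∈ Q, g * q * g⁻¹ * q⁻¹ ∈ Z}
            mul_mem' := ?_
            one_mem' := ?_
            inv_mem' := ?_ }, ⟨?_⟩, fun g => Iff.rfl⟩
  · intro g h hg hh q hq
    have h1 := hZn g _ (hh q hq)
    have h2 := Z.mul_mem h1 (hg q hq)
    have e : g * (h * q * h⁻¹ * q⁻¹) * g⁻¹ * (g * q * g⁻¹ * q⁻¹) = g * h * q * (g * h)⁻¹ * q⁻¹ := by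
      group
    rw [e] at h2
    exact h2
  · intro q _
    have e : (1 : G) * q * 1⁻¹ * q⁻¹ = 1 := by group
    rw [e]; exact Z.one_mem
  · intro g hg
    exact hinv g hg
  · intro g hg h q hq
    have hg' : ∀ q ∈ Q, g * q * g⁻¹ * q⁻¹ ∈ Z := hg
    have hq' : h⁻¹ * q * h ∈ Q := by
      have := hQn.conj_mem q hq h⁻¹
      simpa using this
    have h1 := hZn h _ (hg' _ hq')
    have e : h * (g * (h⁻¹ * q * h) * g⁻¹ * (h⁻¹ * q * h)⁻¹) * h⁻¹ =
        h * g * h⁻¹ * q * (h * g * h⁻¹)⁻¹ * q⁻¹ := by group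
    rw [e] at h1
    exact h1

theorem relIndex_le_of_card [Finite G] {C V : Subgroup G} (hCV : C ≤ V) {k : ℕ}
    (h : Nat.card V ≤ k * Nat.card C) : C.relIndex V ≤ k := by
  have h1 := Cfsg.Agent.Lib.H3.relIndex_mul_card_inf V C
  rw [inf_of_le_right hCV] at h1
  rw [← h1] at h
  exact Nat.le_of_mul_le_mul_right h Nat.card_pos

/-- **pigeonhole**: if `y` of odd order normalizes the elementary abelian `2`-group `V` and
centralizes a subgroup `C` of index at most `4`, then `y ^ 3` centralizes `V`. -/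
theorem pow_three_centralizes [Finite G] {V C : Subgroup G} (hCV : C ≤ V)
    (hidx : C.relIndex V ≤ 4) (hVc : ∀ a ∈ V, ∀ b ∈ V, a * b = b * a) (hV2 : ∀ v ∈ V, v ^ 2 = 1)
    {y : G} (hyV : ∀ v ∈ V, y * v * y⁻¹ ∈ V) (hyC : ∀ c ∈ C, y * c * y⁻¹ = c) {n : ℕ}
    (hy : y ^ n = 1) (hn : Odd n) : ∀ v ∈ V, y ^ 3 * v * (y ^ 3)⁻¹ = v := by
  classical
  intro v hv
  suffices hcomm : Commute (y ^ 3) v by
    rw [hcomm.eq]; group
  -- powers of `y`
  have hyVk : ∀ k : ℕ, ∀ w ∈ V, y ^ k * w * (y ^ k)⁻¹ ∈ V := by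
    intro k
    induction k with
    | zero => intro w hw; simpa using hw
    | succ k ih =>
      intro w hw
      have := hyV _ (ih w hw)
      have e : y * (y ^ k * w * (y ^ k)⁻¹) * y⁻¹ = y ^ (k + 1) * w * (y ^ (k + 1))⁻¹ := by
        rw [pow_succ']; group
      rw [e] at this; exact this
  have hyCk : ∀ k : ℕ, ∀ c ∈ C, y ^ k * c * (y ^ k)⁻¹ = c := by
    intro k
    induction k with
    | zero => intro c _; simp
    | succ k ih =>
      intro c hc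
      calc y ^ (k + 1) * c * (y ^ (k + 1))⁻¹ = y * (y ^ k * c * (y ^ k)⁻¹) * y⁻¹ := by
            rw [pow_succ']; group
        _ = c := by rw [ih c hc, hyC c hc]
  have hyCk' : ∀ k : ℕ, ∀ c ∈ C, (y ^ k)⁻¹ * c * y ^ k = c := by
    intro k c hc
    have := hyCk k c hc
    calc (y ^ k)⁻¹ * c * y ^ k = (y ^ k)⁻¹ * (y ^ k * c * (y ^ k)⁻¹) * y ^ k := by rw [this]
      _ = c := by group
  by_cases hvC : v ∈ C
  · have h1 := hyC v hvC
    have : Commute y v := by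
      show y * v = v * y
      calc y * v = (y * v * y⁻¹) * y := by group
        _ = v * y := by rw [h1]
    exact this.pow_left 3
  -- the conjugates
  have key : ∀ d : ℕ, y ^ d * v * (y ^ d)⁻¹ * v⁻¹ ∈ C → Commute (y ^ d) v := by
    intro d hd
    obtain ⟨c, hc⟩ : ∃ c, c = y ^ d * v * (y ^ d)⁻¹ * v⁻¹ := ⟨_, rfl⟩
    rw [← hc] at hd
    have e1 : y ^ d * v * (y ^ d)⁻¹ = c * v := by rw [hc]; group
    have e2 := hyCk d c hd
    have hc2 : c ^ 2 ^ 1 = 1 := by rw [pow_one]; exact hV2 c (hCV hd)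
    have hyd : (y ^ d) ^ n = 1 := by rw [← pow_mul, mul_comm, pow_mul, hy, one_pow]
    have := eq_one_of_conj_eq_mul e1 e2 hyd hn hc2
    rw [this, one_mul] at e1
    show y ^ d * v = v * y ^ d
    calc y ^ d * v = (y ^ d * v * (y ^ d)⁻¹) * y ^ d := by group
      _ = v * y ^ d := by rw [e1]
  have fin3 : ∀ d : ℕ, 0 < d → d < 4 → Commute (y ^ d) v → Commute (y ^ 3) v := by
    intro d hd0 hd4 hd
    have hd' : d = 1 ∨ d = 2 ∨ d = 3 := by omega
    rcases hd' with rfl | rfl | rfl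
    · rw [pow_one] at hd; exact hd.pow_left 3
    · obtain ⟨m, hm⟩ := hn
      have h1 : (y ^ 2) ^ (m + 1) = y := by
        rw [← pow_mul]
        have : 2 * (m + 1) = n + 1 := by omega
        rw [this, pow_succ, hy, one_mul]
      have h2 := hd.pow_left (m + 1)
      rw [h1] at h2
      exact h2.pow_left 3
    · exact hd
  -- quotient
  obtain ⟨X, hX⟩ : ∃ X : Subgroup V, X = C.subgroupOf V := ⟨_, rfl⟩
  have hXcard : Nat.card (V ⧸ X) ≤ 4 := by
    rw [← Subgroup.index_eq_card, hX]; exact hidx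
  have hfin : Fintype (V ⧸ X) := Fintype.ofFinite _
  obtain ⟨u, hu⟩ : ∃ u : ℕ → G, ∀ k, u k = y ^ k * v * (y ^ k)⁻¹ := ⟨_, fun _ => rfl⟩
  have huV : ∀ k, u k ∈ V := fun k => by rw [hu]; exact hyVk k v hv
  have huC : ∀ k, u k ∉ C := by
    intro k hk
    apply hvC
    have := hyCk' k _ hk
    rw [hu] at this hk
    have e : (y ^ k)⁻¹ * (y ^ k * v * (y ^ k)⁻¹) * y ^ k = v := by group
    rw [e] at this
    rw [this]; exact hk
  obtain ⟨f, hf⟩ : ∃ f : ℕ → V ⧸ X, ∀ k, f k = ((⟨u k, huV k⟩ : V) : V ⧸ X) := ⟨_, fun _ => rfl⟩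
  have hf1 : ∀ k, f k ≠ (((1 : V)) : V ⧸ X) := by
    intro k hk
    rw [hf, eq_comm, QuotientGroup.eq, hX, Subgroup.mem_subgroupOf] at hk
    apply huC k
    simpa using hk
  have hfeq : ∀ i j, f i = f j → (u i)⁻¹ * u j ∈ C := by
    intro i j hij
    rw [hf, hf, QuotientGroup.eq, hX, Subgroup.mem_subgroupOf] at hij
    exact hij
  have main : ∀ i j : ℕ, i < j → j < 4 → f i = f j → Commute (y ^ 3) v := by
    intro i j hij hj hfij
    have h1 := hfeq i j hfij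
    have h2 := hyCk' i _ h1
    rw [hu, hu] at h1 h2
    obtain ⟨d, hd⟩ : ∃ d, j = i + d := ⟨j - i, by omega⟩
    have e : (y ^ i)⁻¹ * ((y ^ i * v * (y ^ i)⁻¹)⁻¹ * (y ^ j * v * (y ^ j)⁻¹)) * y ^ i =
        v⁻¹ * (y ^ d * v * (y ^ d)⁻¹) := by
      rw [hd, pow_add]; group
    rw [e] at h2
    have h3 : y ^ d * v * (y ^ d)⁻¹ * v⁻¹ ∈ C := by
      have hc := hVc _ (V.inv_mem hv) _ (hyVk d v hv)
      rw [← hc, h2]
      exact h1
    exact fin3 d (by omega) (by omega) (key d h3)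
  have hpig : ∃ i ∈ Finset.range 4, ∃ j ∈ Finset.range 4, i ≠ j ∧ f i = f j := by
    apply Finset.exists_ne_map_eq_of_card_lt_of_maps_to (t := Finset.univ.erase (((1 : V)) : V ⧸ X))
    · rw [Finset.card_erase_of_mem (Finset.mem_univ _), Finset.card_univ, Finset.card_range,
        ← Nat.card_eq_fintype_card]
      have := Nat.card_pos (α := V ⧸ X)
      omega
    · intro k _
      exact Finset.mem_erase.mpr ⟨hf1 k, Finset.mem_univ _⟩
  obtain ⟨i, hi, j, hj, hij, hfij⟩ := hpig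
  rw [Finset.mem_range] at hi hj
  rcases lt_or_gt_of_ne hij with h | h
  · exact main i j h hj hfij
  · exact main j i h hi hfij.symm

/-- **The final configuration.**  `Q` a normal self-centralizing `2`-subgroup, all `2`-subgroups
of class at most two, `A` a largest elementary abelian `2`-subgroup with `|A : A ∩ Q| ≤ 2`,
`a ∈ A` inverting an element `x` of odd prime order: then `S₄` is involved. -/
theorem involves_of_config [Finite G] (Q : Subgroup G) [hQn : Q.Normal] (hQ2 : IsPGroup 2 Q)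
    (hCQ : Subgroup.centralizer (Q : Set G) ≤ Q)
    (hcl : ∀ P : Subgroup G, IsPGroup 2 P → Cl2 P)
    (A : Subgroup G) (hA : A ∈ Cfsg.maxElementaryAbelianSubgroups 2 G)
    (a : G) (haA : a ∈ A) (hAa : ∀ b ∈ A, b ∈ Q ∨ a⁻¹ * b ∈ Q)
    (x : G) (r : ℕ) (hr : r.Prime) (hr2 : r ≠ 2) (hxr : x ^ r = 1) (hx1 : x ≠ 1)
    (hinv : a * x * a⁻¹ = x⁻¹) :
    Cfsg.Involves (Equiv.Perm (Fin 4)) G := by
  classical
  have hp2 : Fact (Nat.Prime 2) := ⟨Nat.prime_two⟩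
  have hrodd : Odd r := hr.odd_of_ne_two hr2
  have hA2 : ∀ b ∈ A, b ^ 2 = 1 := hA.1.2
  have hAc : ∀ b ∈ A, ∀ c ∈ A, b * c = c * b := by
    intro b hb c hc
    have := hA.1.1
    exact setLike_mul_comm (s := A) hb hc
  have ha2 : a * a = 1 := by rw [← pow_two]; exact hA2 a haA
  have hQpow : ∀ q ∈ Q, ∃ k : ℕ, q ^ 2 ^ k = 1 := by
    intro q hq
    obtain ⟨k, hk⟩ := hQ2 ⟨q, hq⟩
    exact ⟨k, by simpa using congrArg Subtype.val hk⟩
  -- the centre `Z` of `Q`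
  obtain ⟨Z, hZ⟩ : ∃ Z, Z = Q ⊓ Subgroup.centralizer (Q : Set G) := ⟨_, rfl⟩
  have hZmem : ∀ z, z ∈ Z ↔ z ∈ Q ∧ ∀ q ∈ Q, q * z = z * q := by
    intro z
    rw [hZ, Subgroup.mem_inf, Subgroup.mem_centralizer_iff]
    rfl
  have hZQ : Z ≤ Q := fun z hz => ((hZmem z).1 hz).1
  have hZn : ∀ g z, z ∈ Z → g * z * g⁻¹ ∈ Z := by
    intro g z hz
    rw [hZmem] at hz ⊢
    refine ⟨hQn.conj_mem z hz.1 g, ?_⟩
    intro q hq
    have hq' : g⁻¹ * q * g ∈ Q := by simpa using hQn.conj_mem q hq g⁻¹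
    have := hz.2 _ hq'
    calc q * (g * z * g⁻¹) = g * ((g⁻¹ * q * g) * z) * g⁻¹ := by group
      _ = g * (z * (g⁻¹ * q * g)) * g⁻¹ := by rw [this]
      _ = g * z * g⁻¹ * q := by group
  have hZc : ∀ b ∈ Z, ∀ c ∈ Z, b * c = c * b :=
    fun b hb c hc => ((hZmem c).1 hc).2 b ((hZmem b).1 hb).1
  have hZ2 : ∀ z ∈ Z, ∃ k : ℕ, z ^ 2 ^ k = 1 := fun z hz => hQpow z (hZQ hz)
  obtain ⟨V, hV⟩ := exists_omega hZc
  have hVZ : V ≤ Z := fun v hv => ((hV v).1 hv).1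
  have hV2 : ∀ v ∈ V, v ^ 2 = 1 := fun v hv => ((hV v).1 hv).2
  have hVc : ∀ b ∈ V, ∀ c ∈ V, b * c = c * b := fun b hb c hc => hZc b (hVZ hb) c (hVZ hc)
  have hVn : ∀ g v, v ∈ V → g * v * g⁻¹ ∈ V := by
    intro g v hv
    rw [hV] at hv ⊢
    refine ⟨hZn g v hv.1, ?_⟩
    have := map_pow (MulAut.conj g) v 2
    simp only [MulAut.conj_apply] at this
    rw [← this, hv.2]; group
  have hVnormal : V.Normal := ⟨fun v hv g => hVn g v hv⟩
  have hVQ : V ≤ Q := hVZ.trans hZQ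
  have hVp : IsPGroup 2 V := hQ2.to_le hVQ
  -- the subgroup `N` acting trivially on `Q / Z`
  obtain ⟨N, hNn, hN⟩ := exists_stab Q Z hZn
  have haN : a ∈ N := by
    rw [hN]
    intro q hq
    have hP : IsPGroup 2 (Q ⊔ Subgroup.zpowers a : Subgroup G) := by
      apply IsPGroup.to_sup_of_normal_left hQ2
      exact (Cfsg.Agent.Lib.H3.elemAb_isPGroup hA.1).to_le (Subgroup.zpowers_le.mpr haA)
    have hcl' := hcl _ hP
    have haP : a ∈ Q ⊔ Subgroup.zpowers a := Subgroup.mem_sup_right (Subgroup.mem_zpowers a)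
    have hQP : Q ≤ Q ⊔ Subgroup.zpowers a := le_sup_left
    rw [hZmem]
    refine ⟨?_, ?_⟩
    · exact Q.mul_mem (hQn.conj_mem q hq a) (Q.inv_mem hq)
    · intro q' hq'
      have := hcl' a haP q (hQP hq) q' (hQP hq')
      rw [commutatorElement_def] at this
      exact this.symm
  have exx : x * a * x⁻¹ * a⁻¹ = x * x := by
    calc x * a * x⁻¹ * a⁻¹ = x * (a * x * a⁻¹)⁻¹ := by group
      _ = x * x := by rw [hinv, inv_inv]
  have hxxN : x * x ∈ N := by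
    have h1 : x * a * x⁻¹ ∈ N := hNn.conj_mem a haN x
    have h2 := N.mul_mem h1 (N.inv_mem haN)
    rw [exx] at h2; exact h2
  obtain ⟨m, hm⟩ := hrodd
  have hrodd : Odd r := ⟨m, hm⟩
  have hxpow : (x * x) ^ (m + 1) = x := by
    rw [← pow_two, ← pow_mul]
    have : 2 * (m + 1) = r + 1 := by omega
    rw [this, pow_succ, hxr, one_mul]
  have hxN : x ∈ N := by rw [← hxpow]; exact N.pow_mem hxxN _
  have hxQZ : ∀ q ∈ Q, x * q * x⁻¹ * q⁻¹ ∈ Z := (hN x).1 hxN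
  -- the square `y` of `x`
  obtain ⟨y, hy⟩ : ∃ y, y = x * x := ⟨_, rfl⟩
  have hyr : y ^ r = 1 := by rw [hy, ← pow_two, ← pow_mul, mul_comm, pow_mul, hxr, one_pow]
  have hyx : y ^ (m + 1) = x := by rw [hy]; exact hxpow
  have hyinv : a * y * a⁻¹ = y⁻¹ := by
    rw [hy]
    calc a * (x * x) * a⁻¹ = (a * x * a⁻¹) * (a * x * a⁻¹) := by group
      _ = (x * x)⁻¹ := by rw [hinv]; group
  have hya : y = (x * a * x⁻¹) * a⁻¹ := by rw [hy, exx]
  -- `y` does not centralize `V`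
  have hyV : ¬ ∀ v ∈ V, y * v * y⁻¹ = v := by
    intro hcen
    have hcenx : ∀ v ∈ V, x * v * x⁻¹ = v := by
      intro v hv
      have hc : Commute y v := by
        show y * v = v * y
        calc y * v = (y * v * y⁻¹) * y := by group
          _ = v * y := by rw [hcen v hv]
      have hc' := hc.pow_left (m + 1)
      rw [hyx] at hc'
      rw [hc'.eq]; group
    have hcenZ := centralizes_of_centralizes_omega hZc hZ2 (fun z hz => hZn x z hz)
      (fun z hz hz2 => hcenx z ((hV z).2 ⟨hz, hz2⟩)) hxr hrodd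
    have hcenQ := centralizes_of_chain hZ2 hxQZ hcenZ hxr hrodd
    have hxC : x ∈ Subgroup.centralizer (Q : Set G) := by
      rw [Subgroup.mem_centralizer_iff]
      intro q hq
      have := hcenQ q hq
      calc q * x = (x * q * x⁻¹) * x := by rw [this]
        _ = x * q := by group
    obtain ⟨k, hk⟩ := hQpow x (hCQ hxC)
    apply hx1
    have hcop : Nat.Coprime r (2 ^ k) :=
      Nat.Coprime.pow_right k (Nat.coprime_two_right.mpr hrodd)
    have h3 : orderOf x ∣ 1 := by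
      rw [← Nat.Coprime.gcd_eq_one hcop]
      exact Nat.dvd_gcd (orderOf_dvd_of_pow_eq_one hxr) (orderOf_dvd_of_pow_eq_one hk)
    exact orderOf_eq_one_iff.mp (Nat.dvd_one.mp h3)
  -- the offender count
  obtain ⟨A₀, hA₀⟩ : ∃ A₀, A₀ = A ⊓ Q := ⟨_, rfl⟩
  have hA₀A : A₀ ≤ A := hA₀ ▸ inf_le_left
  have hA₀Q : A₀ ≤ Q := hA₀ ▸ inf_le_right
  have hA₀e : Cfsg.IsElementaryAbelian 2 A₀ := Cfsg.Agent.Lib.H3.elemAb_mono hA₀A hA.1
  have hVe : Cfsg.IsElementaryAbelian 2 V :=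
    ⟨⟨⟨fun b c => Subtype.ext (hVc b b.2 c c.2)⟩⟩, hV2⟩
  have hVcent : V ≤ Subgroup.centralizer (A₀ : Set G) := by
    intro v hv
    rw [Subgroup.mem_centralizer_iff]
    intro b hb
    exact ((hZmem v).1 (hVZ hv)).2 b (hA₀Q hb)
  have hBe := Cfsg.Agent.Lib.H3.elemAb_sup hA₀e hVe hVcent
  have hBcard := hA.2 _ hBe
  have hAcard : Nat.card A ≤ 2 * Nat.card A₀ := by
    obtain ⟨f, hf⟩ : ∃ f : Fin 2 × A₀ → A, ∀ p, ((f p : A) : G) = a ^ (p.1 : ℕ) * (p.2 : G) :=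
      ⟨fun p => ⟨a ^ (p.1 : ℕ) * (p.2 : G), A.mul_mem (A.pow_mem haA _) (hA₀A p.2.2)⟩,
        fun _ => rfl⟩
    have hfs : Function.Surjective f := by
      rintro ⟨c, hc⟩
      rcases hAa c hc with h | h
      · refine ⟨(0, ⟨c, hA₀ ▸ ⟨hc, h⟩⟩), Subtype.ext ?_⟩
        rw [hf]; simp
      · refine ⟨(1, ⟨a⁻¹ * c, hA₀ ▸ ⟨A.mul_mem (A.inv_mem haA) hc, h⟩⟩), Subtype.ext ?_⟩
        rw [hf]; simp
    have := Nat.card_le_card_of_surjective f hfs
    rw [Nat.card_prod, Nat.card_fin] at this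
    exact this
  have hV1 : Nat.card V ≤ 2 * Nat.card (A₀ ⊓ V : Subgroup G) := by
    have h1 := Cfsg.Agent.Lib.H3.card_mul_card_le A₀ V
    have h2 : Nat.card A₀ * Nat.card V ≤ Nat.card A₀ * (2 * Nat.card (A₀ ⊓ V : Subgroup G)) := by
      calc Nat.card A₀ * Nat.card V
          ≤ Nat.card (A₀ ⊔ V : Subgroup G) * Nat.card (A₀ ⊓ V : Subgroup G) := h1
        _ ≤ (2 * Nat.card A₀) * Nat.card (A₀ ⊓ V : Subgroup G) :=
          Nat.mul_le_mul_right _ (hBcard.trans hAcard)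
        _ = Nat.card A₀ * (2 * Nat.card (A₀ ⊓ V : Subgroup G)) := by ring
    exact Nat.le_of_mul_le_mul_left h2 Nat.card_pos
  obtain ⟨C₁, hC₁⟩ : ∃ C₁, C₁ = V ⊓ Subgroup.centralizer {a} := ⟨_, rfl⟩
  have hC₁mem : ∀ c, c ∈ C₁ ↔ c ∈ V ∧ a * c = c * a := by
    intro c
    rw [hC₁, Subgroup.mem_inf, Subgroup.mem_centralizer_iff]
    simp
  have hA₀C₁ : A₀ ⊓ V ≤ C₁ := by
    intro v hv
    rw [hC₁mem]
    exact ⟨hv.2, hAc a haA v (hA₀A hv.1)⟩
  have hV1' : Nat.card V ≤ 2 * Nat.card C₁ :=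
    hV1.trans (Nat.mul_le_mul_left 2 (Subgroup.card_le_of_le hA₀C₁))
  have hC₁V : C₁ ≤ V := fun c hc => ((hC₁mem c).1 hc).1
  have hidx1 : C₁.relIndex V ≤ 2 := relIndex_le_of_card hC₁V hV1'
  obtain ⟨C₂, hC₂⟩ : ∃ C₂, C₂ = V ⊓ Subgroup.centralizer {x * a * x⁻¹} := ⟨_, rfl⟩
  have hC₂mem : ∀ c, c ∈ C₂ ↔ c ∈ V ∧ (x * a * x⁻¹) * c = c * (x * a * x⁻¹) := by
    intro c
    rw [hC₂, Subgroup.mem_inf, Subgroup.mem_centralizer_iff]
    simp
  have hC₂V : C₂ ≤ V := fun c hc => ((hC₂mem c).1 hc).1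
  have hC₁₂ : C₁.map (MulAut.conj x).toMonoidHom ≤ C₂ := by
    rintro _ ⟨c, hc0, rfl⟩
    have hc := (hC₁mem c).1 hc0
    rw [hC₂mem]
    refine ⟨?_, ?_⟩
    · simpa [MulAut.conj_apply] using hVn x c hc.1
    · simp only [MulEquiv.coe_toMonoidHom, MulAut.conj_apply]
      calc x * a * x⁻¹ * (x * c * x⁻¹) = x * (a * c) * x⁻¹ := by group
        _ = x * (c * a) * x⁻¹ := by rw [hc.2]
        _ = x * c * x⁻¹ * (x * a * x⁻¹) := by group
  have hV2' : Nat.card V ≤ 2 * Nat.card C₂ := by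
    have h1 : Nat.card (C₁.map (MulAut.conj x).toMonoidHom) = Nat.card C₁ :=
      Subgroup.card_map_of_injective (MulAut.conj x).injective
    have h2 := Subgroup.card_le_of_le hC₁₂
    rw [h1] at h2
    exact hV1'.trans (Nat.mul_le_mul_left 2 h2)
  have hidx2 : C₂.relIndex V ≤ 2 := relIndex_le_of_card hC₂V hV2'
  have hidx0 : (C₁ ⊓ C₂).relIndex V ≤ 4 := by
    calc (C₁ ⊓ C₂).relIndex V ≤ C₁.relIndex V * C₂.relIndex V := Subgroup.relIndex_inf_le
      _ ≤ 2 * 2 := Nat.mul_le_mul hidx1 hidx2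
  have hyC₀ : ∀ c ∈ C₁ ⊓ C₂, y * c * y⁻¹ = c := by
    intro c hc
    have h1 := ((hC₁mem c).1 hc.1).2
    have h2 := ((hC₂mem c).1 hc.2).2
    have h1' : a⁻¹ * c = c * a⁻¹ := by
      calc a⁻¹ * c = a⁻¹ * (c * a) * a⁻¹ := by group
        _ = a⁻¹ * (a * c) * a⁻¹ := by rw [h1]
        _ = c * a⁻¹ := by group
    rw [hya]
    calc x * a * x⁻¹ * a⁻¹ * c * (x * a * x⁻¹ * a⁻¹)⁻¹
        = x * a * x⁻¹ * (a⁻¹ * c) * (x * a * x⁻¹ * a⁻¹)⁻¹ := by group
      _ = x * a * x⁻¹ * (c * a⁻¹) * (x * a * x⁻¹ * a⁻¹)⁻¹ := by rw [h1']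
      _ = (x * a * x⁻¹ * c) * (x * a * x⁻¹)⁻¹ := by group
      _ = (c * (x * a * x⁻¹)) * (x * a * x⁻¹)⁻¹ := by rw [h2]
      _ = c := by group
  have hy3 := pow_three_centralizes (inf_le_left.trans hC₁V) hidx0 hVc hV2
    (fun v hv => hVn y v hv) hyC₀ hyr hrodd
  -- `r = 3`
  have hr3 : r = 3 := by
    by_contra hne
    apply hyV
    have hcop : Nat.Coprime 3 (orderOf y) := by
      apply Nat.Coprime.coprime_dvd_right (orderOf_dvd_of_pow_eq_one hyr)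
      exact (Nat.coprime_primes Nat.prime_three hr).mpr (fun h => hne h.symm)
    obtain ⟨j, hj⟩ := exists_pow_eq_self_of_coprime hcop
    intro v hv
    have hc : Commute (y ^ 3) v := by
      show y ^ 3 * v = v * y ^ 3
      calc y ^ 3 * v = (y ^ 3 * v * (y ^ 3)⁻¹) * y ^ 3 := by group
        _ = v * y ^ 3 := by rw [hy3 v hv]
    have hc' := hc.pow_left j
    rw [hj] at hc'
    rw [hc'.eq]; group
  apply Cfsg.Agent.Lib.H14.SFour.involves_of_pair V hVp y a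
  · rw [Subgroup.normalizer_eq_top]; exact Subgroup.mem_top _
  · rw [Subgroup.normalizer_eq_top]; exact Subgroup.mem_top _
  · exact ⟨1, by rw [pow_one, ← hr3]; exact hyr⟩
  · exact ⟨1, by rw [pow_one]; exact hA2 a haA⟩
  · exact hyinv
  · intro hyc
    apply hyV
    intro v hv
    have := Subgroup.mem_centralizer_iff.mp hyc v hv
    calc y * v * y⁻¹ = (v * y) * y⁻¹ := by rw [this]
      _ = v := by group

end Cfsg.Agent.Lib.H9.Je
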