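import Mathlib
import Cfsg.Agent.Lib.H9.JeFinal
import Cfsg.Agent.Lib.H9.CoprimeGeneration
import Cfsg.Agent.Lib.H16.SolvableCore
import Cfsg.Agent.Lib.H1.PSolvDual
import Cfsg.Agent.Lib.H1.PSolvOfSolv
import Cfsg.Agent.Lib.H26.Involves
import Cfsg.Agent.Lib.H22.PPrimeCore

/-!
# The core of the `J_e`-theorem (helper9)

In a finite solvable `S₄`-free group `G` with `O(G) = 1` whose `2`-subgroups have class at most
two, every elementary abelian `2`-subgroup of largest order lies in `O₂(G)`.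
-/

set_option autoImplicit false

open scoped commutatorElement Pointwise

namespace Cfsg.Agent.Lib.H9.Je

universe u

/-- the statement of the core theorem for `G` -/
def CoreProp (G : Type u) [Group G] : Prop :=
  Group.IsSolvable G → ¬ Cfsg.Involves (Equiv.Perm (Fin 4)) G → Cfsg.pPrimeCore 2 G = ⊥ →
    (∀ P : Subgroup G, IsPGroup 2 P → Cl2 P) →
    ∀ A ∈ Cfsg.maxElementaryAbelianSubgroups 2 G, A ≤ Cfsg.pCore 2 G

theorem pCore_quotient_eq_bot' {G : Type*} [Group G] (p : ℕ) [Fact p.Prime] (Q : Subgroup G)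
    [Q.Normal] (hQ : Q = Cfsg.pCore p G) : Cfsg.pCore p (G ⧸ Q) = ⊥ := by
  rw [eq_bot_iff]
  apply sSup_le
  rintro Nb ⟨hNn, hNp⟩
  have h1 : (Nb.comap (QuotientGroup.mk' Q)).Normal := hNn.comap _
  have h2 : IsPGroup p (Nb.comap (QuotientGroup.mk' Q)) :=
    hNp.comap_of_ker_isPGroup _ (by
      rw [QuotientGroup.ker_mk', hQ]; exact Cfsg.Agent.Lib.H1.pCore_isPGroup p G)
  have h3 := Cfsg.Agent.Lib.H1.le_pCore h1 h2
  intro y hy
  obtain ⟨g, rfl⟩ := QuotientGroup.mk'_surjective Q y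
  have hg : g ∈ Q := hQ ▸ h3 (Subgroup.mem_comap.mpr hy)
  rw [Subgroup.mem_bot]
  exact (QuotientGroup.eq_one_iff g).mpr hg

theorem eq_one_of_mem_of_pow {G : Type*} [Group G] {K : Subgroup G}
    (hK : (Nat.card K).Coprime 2) {g : G} (hg : g ∈ K) {k : ℕ} (hgk : g ^ 2 ^ k = 1) : g = 1 := by
  have h1 : orderOf g ∣ Nat.card K := by
    have := orderOf_dvd_natCard (⟨g, hg⟩ : K)
    rwa [← Subgroup.orderOf_coe] at this
  have h2 : orderOf g ∣ 2 ^ k := orderOf_dvd_of_pow_eq_one hgk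
  have hcop : Nat.Coprime (Nat.card K) (2 ^ k) := Nat.Coprime.pow_right k hK
  have h3 : orderOf g ∣ 1 := by
    rw [← Nat.Coprime.gcd_eq_one hcop]
    exact Nat.dvd_gcd h1 h2
  exact orderOf_eq_one_iff.mp (Nat.dvd_one.mp h3)

/-- **Lemma R**: by induction, `A` lies in a `2`-subgroup normalized by `H`, for every proper
subgroup `H` containing `Q` and `A`. -/
theorem lemmaR {G : Type u} [Group G] [Finite G] (n : ℕ)
    (ih : ∀ (G' : Type u) [Group G'] [Finite G'], Nat.card G' ≤ n → CoreProp G')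
    (hcard : Nat.card G ≤ n + 1) (hsolv : Group.IsSolvable G)
    (hS4 : ¬ Cfsg.Involves (Equiv.Perm (Fin 4)) G)
    (hcl : ∀ P : Subgroup G, IsPGroup 2 P → Cl2 P)
    (Q : Subgroup G) [hQn : Q.Normal] (hQ2 : IsPGroup 2 Q)
    (hCQ : Subgroup.centralizer (Q : Set G) ≤ Q)
    (A : Subgroup G) (hA : A ∈ Cfsg.maxElementaryAbelianSubgroups 2 G)
    (H : Subgroup G) (hH : H ≠ ⊤) (hQH : Q ≤ H) (hAH : A ≤ H) :
    ∃ P : Subgroup G, IsPGroup 2 P ∧ A ≤ P ∧ H ≤ Subgroup.normalizer (P : Set G) := by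
  have hp2 : Fact (Nat.Prime 2) := ⟨Nat.prime_two⟩
  have hHcard : Nat.card H ≤ n := by
    have : Nat.card H < Nat.card G := by
      by_contra hle
      push Not at hle
      exact hH (H.eq_top_of_le_card hle)
    omega
  have hcore := ih H hHcard
  have hQpow : ∀ q ∈ Q, ∃ k : ℕ, q ^ 2 ^ k = 1 := by
    intro q hq
    obtain ⟨k, hk⟩ := hQ2 ⟨q, hq⟩
    exact ⟨k, by simpa using congrArg Subtype.val hk⟩
  have hO : Cfsg.pPrimeCore 2 H = ⊥ := by
    have hOn : (Cfsg.pPrimeCore 2 H).Normal := Cfsg.Agent.Lib.H22.pPrimeCore_normal 2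
    have hOodd : (Nat.card (Cfsg.pPrimeCore 2 H)).Coprime 2 :=
      Cfsg.Agent.Lib.H22.card_pPrimeCore_coprime 2
    rw [eq_bot_iff]
    intro o ho
    rw [Subgroup.mem_bot]
    -- `o` centralizes `Q`
    have hoQ : ∀ q ∈ Q, (o : G) * q * (o : G)⁻¹ * q⁻¹ = 1 := by
      intro q hq
      have h1 : (o : G) * q * (o : G)⁻¹ * q⁻¹ ∈ Q :=
        Q.mul_mem (hQn.conj_mem q hq _) (Q.inv_mem hq)
      obtain ⟨k, hk⟩ := hQpow _ h1
      obtain ⟨q', hq'⟩ : ∃ q' : H, (q' : G) = q := ⟨⟨q, hQH hq⟩, rfl⟩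
      have h2 : o * (q' * o⁻¹ * q'⁻¹) ∈ Cfsg.pPrimeCore 2 H :=
        Subgroup.mul_mem _ ho (hOn.conj_mem _ (Subgroup.inv_mem _ ho) q')
      have h3 : (o * (q' * o⁻¹ * q'⁻¹)) ^ 2 ^ k = 1 := by
        apply Subtype.ext
        rw [Subgroup.coe_pow]
        have e : ((o * (q' * o⁻¹ * q'⁻¹) : H) : G) = (o : G) * q * (o : G)⁻¹ * q⁻¹ := by
          simp only [Subgroup.coe_mul, Subgroup.coe_inv, hq']
          group
        rw [e, hk]; rfl
      have h4 := eq_one_of_mem_of_pow hOodd h2 h3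
      have e : ((o * (q' * o⁻¹ * q'⁻¹) : H) : G) = (o : G) * q * (o : G)⁻¹ * q⁻¹ := by
        simp only [Subgroup.coe_mul, Subgroup.coe_inv, hq']
        group
      rw [← e, h4]; rfl
    have hoC : (o : G) ∈ Subgroup.centralizer (Q : Set G) := by
      rw [Subgroup.mem_centralizer_iff]
      intro q hq
      have := hoQ q hq
      calc q * (o : G) = ((o : G) * q * (o : G)⁻¹ * q⁻¹)⁻¹ * ((o : G) * q) := by group
        _ = (o : G) * q := by rw [this, inv_one, one_mul]
    obtain ⟨k, hk⟩ := hQpow _ (hCQ hoC)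
    have hk' : o ^ 2 ^ k = 1 := by
      apply Subtype.ext
      rw [Subgroup.coe_pow, hk]; rfl
    exact eq_one_of_mem_of_pow hOodd ho hk'
  have hA' : A.subgroupOf H ∈ Cfsg.maxElementaryAbelianSubgroups 2 H :=
    Cfsg.Agent.Lib.H3.maxElemAb_subgroupOf hA hAH
  have hcl' : ∀ P : Subgroup H, IsPGroup 2 P → Cl2 P := by
    intro P hP
    apply Cl2.of_map H.subtype H.subtype_injective
    exact hcl _ (hP.map H.subtype)
  have hsub := hcore inferInstance
    (fun h => hS4 (Cfsg.Agent.Lib.H26.involves_of_injective H.subtype H.subtype_injective h))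
    hO hcl' _ hA'
  have hPn : (Cfsg.pCore 2 H).Normal := Cfsg.Agent.Lib.H1.pCore_normal 2 H
  refine ⟨(Cfsg.pCore 2 H).map H.subtype, (Cfsg.Agent.Lib.H1.pCore_isPGroup 2 H).map _, ?_, ?_⟩
  · intro b hb
    exact ⟨⟨b, hAH hb⟩, hsub (Subgroup.mem_subgroupOf.mpr hb), rfl⟩
  · intro h hh
    apply Cfsg.Agent.Lib.H14.SFour.mem_nzr_of_conj_mem_finite
    rintro _ ⟨g, hg, rfl⟩
    refine ⟨⟨h, hh⟩ * g * ⟨h, hh⟩⁻¹, hPn.conj_mem g hg _, ?_⟩
    simp

/-- the core theorem, by induction on the order -/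
theorem core_aux (n : ℕ) :
    ∀ (G : Type u) [Group G] [Finite G], Nat.card G ≤ n → CoreProp G := by
  induction n with
  | zero =>
    intro G _ _ h
    have := Nat.card_pos (α := G)
    omega
  | succ n ih =>
    intro G _ _ hcard hsolv hS4 hO hcl A hA
    by_contra hAQ
    have hp2 : Fact (Nat.Prime 2) := ⟨Nat.prime_two⟩
    obtain ⟨Q, hQdef⟩ : ∃ Q, Q = Cfsg.pCore 2 G := ⟨_, rfl⟩
    rw [← hQdef] at hAQ
    have hQn : Q.Normal := hQdef ▸ Cfsg.Agent.Lib.H1.pCore_normal 2 G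
    have hQ2 : IsPGroup 2 Q := hQdef ▸ Cfsg.Agent.Lib.H1.pCore_isPGroup 2 G
    have hCQ : Subgroup.centralizer (Q : Set G) ≤ Q := by
      rw [hQdef]; exact Cfsg.Agent.Lib.H16.centralizer_pCore_le_of_isSolvable 2 hsolv hO
    have hR := fun H hH hQH hAH => lemmaR n ih hcard hsolv hS4 hcl Q hQ2 hCQ A hA H hH hQH hAH
    -- facts on `A`
    have hA2 : ∀ b ∈ A, b ^ 2 = 1 := hA.1.2
    have hAc : ∀ b ∈ A, ∀ c ∈ A, b * c = c * b := by
      intro b hb c hc
      have := hA.1.1
      exact setLike_mul_comm (s := A) hb hc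
    have hApow : ∀ b ∈ A, ∃ k : ℕ, b ^ 2 ^ k = 1 :=
      fun b hb => ⟨1, by rw [pow_one]; exact hA2 b hb⟩
    have hAinv : ∀ b ∈ A, b⁻¹ = b := by
      intro b hb
      have := hA2 b hb
      rw [pow_two] at this
      exact inv_eq_of_mul_eq_one_left this
    -- the quotient
    obtain ⟨π, hπ⟩ : ∃ π : G →* G ⧸ Q, π = QuotientGroup.mk' Q := ⟨_, rfl⟩
    have hπs : Function.Surjective π := hπ ▸ QuotientGroup.mk'_surjective Q
    have hπker : ∀ g, π g = 1 ↔ g ∈ Q := by
      intro g; rw [hπ, QuotientGroup.mk'_apply, QuotientGroup.eq_one_iff]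
    have hOp : Cfsg.pCore 2 (G ⧸ Q) = ⊥ := pCore_quotient_eq_bot' 2 Q hQdef
    have hpsolv : Cfsg.IsPSolvable 2 (G ⧸ Q) :=
      Cfsg.Agent.Lib.H1.PSolvOfSolv.isPSolvable_of_isSolvable 2 (G ⧸ Q)
    obtain ⟨Kb, hKb⟩ : ∃ Kb, Kb = Cfsg.pPrimeCore 2 (G ⧸ Q) := ⟨_, rfl⟩
    have hKbn : Kb.Normal := hKb ▸ Cfsg.Agent.Lib.H22.pPrimeCore_normal 2
    have hKbodd : (Nat.card Kb).Coprime 2 := hKb ▸ Cfsg.Agent.Lib.H22.card_pPrimeCore_coprime 2
    have hKbC : Subgroup.centralizer (Kb : Set (G ⧸ Q)) ≤ Kb := by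
      rw [hKb]
      exact Cfsg.Agent.Lib.H1.PSolvDual.centralizer_pPrimeCore_le_of_isPSolvable 2 hpsolv hOp
    have h2K : ∀ g : G, π g ∈ Kb → (∃ k : ℕ, g ^ 2 ^ k = 1) → g ∈ Q := by
      rintro g hg ⟨k, hk⟩
      rw [← hπker]
      exact eq_one_of_mem_of_pow hKbodd hg (by rw [← map_pow, hk, map_one])
    have hcentKb : ∀ g : G, (∀ t : G, π t ∈ Kb → π t * π g = π g * π t) → π g ∈ Kb := by
      intro g hg
      apply hKbC
      rw [Subgroup.mem_centralizer_iff]
      intro kb hkb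
      obtain ⟨t, rfl⟩ := hπs kb
      exact hg t hkb
    -- Step 1: centralizers of elements of `A` outside `Q`
    have key1 : ∀ b ∈ A, b ∉ Q → ∀ t : G, π t ∈ Kb → π t * π b = π b * π t →
        ∀ c ∈ A, π t * π c = π c * π t := by
      intro b hbA hbQ
      obtain ⟨T, hT⟩ : ∃ T, T = (Kb ⊓ Subgroup.centralizer {π b}).comap π := ⟨_, rfl⟩
      have hTmem : ∀ t, t ∈ T ↔ π t ∈ Kb ∧ π t * π b = π b * π t := by
        intro t
        rw [hT, Subgroup.mem_comap, Subgroup.mem_inf, Subgroup.mem_centralizer_iff]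
        simp [eq_comm]
      have hQT : Q ≤ T := by
        intro q hq
        rw [hTmem, (hπker q).2 hq]
        exact ⟨Kb.one_mem, by rw [one_mul, mul_one]⟩
      have hAT : A ≤ Subgroup.normalizer (T : Set G) := by
        intro c hc
        apply Cfsg.Agent.Lib.H14.SFour.mem_nzr_of_conj_mem_finite
        intro t ht
        rw [hTmem] at ht ⊢
        rw [map_mul, map_mul, map_inv]
        refine ⟨hKbn.conj_mem _ ht.1 _, ?_⟩
        have hcb : π c * π b = π b * π c := by rw [← map_mul, ← map_mul, hAc c hc b hbA]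
        have hcb' : (π c)⁻¹ * π b = π b * (π c)⁻¹ := by
          calc (π c)⁻¹ * π b = (π c)⁻¹ * (π b * π c) * (π c)⁻¹ := by group
            _ = (π c)⁻¹ * (π c * π b) * (π c)⁻¹ := by rw [hcb]
            _ = π b * (π c)⁻¹ := by group
        calc π c * π t * (π c)⁻¹ * π b = π c * π t * ((π c)⁻¹ * π b) := by group
          _ = π c * π t * (π b * (π c)⁻¹) := by rw [hcb']
          _ = π c * (π t * π b) * (π c)⁻¹ := by group
          _ = π c * (π b * π t) * (π c)⁻¹ := by rw [ht.2]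
          _ = (π c * π b) * π t * (π c)⁻¹ := by group
          _ = (π b * π c) * π t * (π c)⁻¹ := by rw [hcb]
          _ = π b * (π c * π t * (π c)⁻¹) := by group
      have hHne : T ⊔ A ≠ ⊤ := by
        intro htop
        apply hbQ
        apply h2K b _ (hApow b hbA)
        apply hcentKb
        intro k hk
        have hkH : k ∈ T ⊔ A := htop ▸ Subgroup.mem_top k
        have hkm : k ∈ ((T ⊔ A : Subgroup G) : Set G) := hkH
        rw [Subgroup.coe_mul_of_right_le_normalizer_left T A hAT] at hkm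
        obtain ⟨t, ht, c, hc, rfl⟩ := Set.mem_mul.mp hkm
        have ht' := (hTmem t).1 ht
        have hcK : π c ∈ Kb := by
          have : π c = (π t)⁻¹ * π (t * c) := by rw [map_mul]; group
          rw [this]
          exact Kb.mul_mem (Kb.inv_mem ht'.1) hk
        have hcQ := h2K c hcK (hApow c hc)
        rw [map_mul, (hπker c).2 hcQ, mul_one]
        exact ht'.2
      obtain ⟨P, hP2, hAP, hHP⟩ := hR (T ⊔ A) hHne (hQT.trans le_sup_left) le_sup_right
      intro t htK htb c hc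
      have htT : t ∈ T := (hTmem t).2 ⟨htK, htb⟩
      have htN : t ∈ Subgroup.normalizer (P : Set G) := hHP (Subgroup.mem_sup_left htT)
      have hwP : t * c * t⁻¹ * c⁻¹ ∈ P :=
        P.mul_mem ((Subgroup.mem_normalizer_iff.mp htN c).mp (hAP hc)) (P.inv_mem (hAP hc))
      have hwpow : ∃ k : ℕ, (t * c * t⁻¹ * c⁻¹) ^ 2 ^ k = 1 := by
        obtain ⟨k, hk⟩ := hP2 ⟨_, hwP⟩
        exact ⟨k, by simpa using congrArg Subtype.val hk⟩
      have hwK : π (t * c * t⁻¹ * c⁻¹) ∈ Kb := by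
        have e : π (t * c * t⁻¹ * c⁻¹) = π t * (π c * (π t)⁻¹ * (π c)⁻¹) := by
          simp only [map_mul, map_inv]; group
        rw [e]
        exact Kb.mul_mem htK (hKbn.conj_mem _ (Kb.inv_mem htK) _)
      have hwQ := (hπker _).2 (h2K _ hwK hwpow)
      simp only [map_mul, map_inv] at hwQ
      calc π t * π c = (π t * π c * (π t)⁻¹ * (π c)⁻¹) * (π c * π t) := by group
        _ = π c * π t := by rw [hwQ, one_mul]
    -- Step 1b: `|A : A ∩ Q| ≤ 2`
    have key2 : ∀ b ∈ A, ∀ c ∈ A, b ∉ Q → c ∉ Q → b⁻¹ * c ∈ Q := by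
      intro b hbA c hcA hbQ hcQ
      by_contra hbc
      apply hAQ
      obtain ⟨Ab, hAb⟩ : ∃ Ab, Ab = A.map π := ⟨_, rfl⟩
      have hAbp : IsPGroup 2 Ab := hAb ▸ (Cfsg.Agent.Lib.H3.elemAb_isPGroup hA.1).map π
      have hact : Cfsg.Agent.Lib.H1.CoprimeAction Ab Kb := by
        refine ⟨?_, ?_, Or.inl inferInstance⟩
        · rw [Subgroup.normalizer_eq_top]; exact le_top
        · obtain ⟨j, hj⟩ := IsPGroup.iff_card.mp hAbp
          rw [hj]
          exact Nat.Coprime.pow_left j hKbodd.symm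
      have hle : Kb ≤ Subgroup.centralizer (Ab : Set (G ⧸ Q)) := by
        apply Cfsg.Agent.Lib.H9.le_of_centralizers_le (p := 2) hact hKbodd
          (x := π b) (y := π c) (hAb ▸ Subgroup.mem_map_of_mem π hbA)
          (hAb ▸ Subgroup.mem_map_of_mem π hcA)
        · rw [← map_mul, ← map_mul, hAc b hbA c hcA]
        · rw [← map_pow, hA2 b hbA, map_one]
        · rw [← map_pow, hA2 c hcA, map_one]
        · rintro tb ⟨htK, htc⟩
          obtain ⟨t, rfl⟩ := hπs tb
          have htb : π t * π b = π b * π t := by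
            have := Subgroup.mem_centralizer_iff.mp htc (π b) (Set.mem_singleton _)
            exact this.symm
          rw [Subgroup.mem_centralizer_iff]
          rintro _ hc'
          rw [hAb] at hc'
          obtain ⟨c', hc', rfl⟩ := hc'
          exact (key1 b hbA hbQ t htK htb c' hc').symm
        · intro i
          rintro tb ⟨htK, htc⟩
          obtain ⟨t, rfl⟩ := hπs tb
          have hbcA : b ^ i * c ∈ A := A.mul_mem (A.pow_mem hbA i) hcA
          have hbcQ : b ^ i * c ∉ Q := by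
            intro h
            rcases Nat.even_or_odd i with ⟨j, hj⟩ | ⟨j, hj⟩
            · have : b ^ i = 1 := by
                rw [hj, ← two_mul, pow_mul, hA2 b hbA, one_pow]
              rw [this, one_mul] at h
              exact hcQ h
            · have : b ^ i = b := by
                rw [hj, pow_succ, pow_mul, hA2 b hbA, one_pow, one_mul]
              rw [this] at h
              apply hbc
              rw [hAinv b hbA]; exact h
          have htb : π t * π (b ^ i * c) = π (b ^ i * c) * π t := by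
            have := Subgroup.mem_centralizer_iff.mp htc (π b ^ i * π c) (Set.mem_singleton _)
            rw [map_mul, map_pow]
            exact this.symm
          rw [Subgroup.mem_centralizer_iff]
          rintro _ hc'
          rw [hAb] at hc'
          obtain ⟨c', hc', rfl⟩ := hc'
          exact (key1 _ hbcA hbcQ t htK htb c' hc').symm
      intro c' hc'
      apply h2K c' _ (hApow c' hc')
      apply hcentKb
      intro t ht
      have := Subgroup.mem_centralizer_iff.mp (hle ht) (π c') (hAb ▸ Subgroup.mem_map_of_mem π hc')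
      exact this.symm
    -- Step 2: an inverted element of odd prime order
    obtain ⟨a, haA, haQ⟩ := SetLike.not_le_iff_exists.mp hAQ
    have hAa : ∀ b ∈ A, b ∈ Q ∨ a⁻¹ * b ∈ Q := by
      intro b hb
      by_cases hbQ : b ∈ Q
      · exact Or.inl hbQ
      · exact Or.inr (key2 a haA b hb haQ hbQ)
    have ha2 : a * a = 1 := by rw [← pow_two]; exact hA2 a haA
    obtain ⟨k, hkK, hkQ⟩ : ∃ k : G, π k ∈ Kb ∧ ⁅k, a⁆ ∉ Q := by
      by_contra hcon
      push Not at hcon
      apply haQ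
      apply h2K a _ (hApow a haA)
      apply hcentKb
      intro t ht
      have h1 := (hπker _).2 (hcon t ht)
      rw [commutatorElement_def] at h1
      simp only [map_mul, map_inv] at h1
      calc π t * π a = (π t * π a * (π t)⁻¹ * (π a)⁻¹) * (π a * π t) := by group
        _ = π a * π t := by rw [h1, one_mul]
    obtain ⟨x₀, hx₀⟩ : ∃ x₀, x₀ = ⁅k, a⁆ := ⟨_, rfl⟩
    rw [← hx₀] at hkQ
    have hx₀K : π x₀ ∈ Kb := by
      have e : π x₀ = π k * (π a * (π k)⁻¹ * (π a)⁻¹) := by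
        rw [hx₀, commutatorElement_def]
        simp only [map_mul, map_inv]; group
      rw [e]
      exact Kb.mul_mem hkK (hKbn.conj_mem _ (Kb.inv_mem hkK) _)
    have hx₀inv : a * x₀ * a⁻¹ = x₀⁻¹ := by rw [hx₀]; exact conj_commutator_of_sq ha2
    have hord : orderOf x₀ ≠ 0 := (orderOf_pos x₀).ne'
    rcases Nat.eq_two_pow_or_exists_odd_prime_and_dvd (orderOf x₀) with ⟨j, hj⟩ | ⟨r, hr, hrd, hrodd⟩
    · apply hkQ
      apply h2K x₀ hx₀K ⟨j, ?_⟩
      rw [← hj]; exact pow_orderOf_eq_one x₀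
    · obtain ⟨x, hx⟩ : ∃ x, x = x₀ ^ (orderOf x₀ / r) := ⟨_, rfl⟩
      have hxord : orderOf x = r := by rw [hx]; exact orderOf_pow_orderOf_div hord hrd
      have hxr : x ^ r = 1 := by rw [← hxord]; exact pow_orderOf_eq_one x
      have hx1 : x ≠ 1 := by
        intro h
        rw [h, orderOf_one] at hxord
        exact hr.one_lt.ne' hxord.symm
      have hinv : a * x * a⁻¹ = x⁻¹ := by rw [hx]; exact conj_pow_inv hx₀inv _
      have hr2 : r ≠ 2 := by
        rintro rfl
        exact (Nat.not_even_iff_odd.mpr hrodd) even_two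
      exact hS4 (involves_of_config Q hQ2 hCQ hcl A hA a haA hAa x r hr hr2 hxr hx1 hinv)

/-- **Core theorem.** -/
theorem core (G : Type u) [Group G] [Finite G] [hsolv : Group.IsSolvable G]
    (hS4 : ¬ Cfsg.Involves (Equiv.Perm (Fin 4)) G) (hO : Cfsg.pPrimeCore 2 G = ⊥)
    (hcl : ∀ P : Subgroup G, IsPGroup 2 P → Cl2 P)
    {A : Subgroup G} (hA : A ∈ Cfsg.maxElementaryAbelianSubgroups 2 G) :
    A ≤ Cfsg.pCore 2 G :=
  core_aux (Nat.card G) G le_rfl hsolv hS4 hO hcl A hA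

end Cfsg.Agent.Lib.H9.Je
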