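import Mathlib
import Cfsg.Prelude.Def_Blocks
import Cfsg.Prelude.Def_BlockLocal
import Cfsg.Prelude.Def_BlockRank
import Cfsg.Agent.Lib.H23.BlockFongIndex

/-!
S4640 piece 1 (COVER) `cover_facts`: exact signature of `tools/blueprints/S4640_sigs.lean`
(architect helper28), on helper23's `H23.BlockFongIndex`.
-/

set_option autoImplicit false

namespace Cfsg.Agent.Lib.H9.KK

section blocks
variable {G : Type*} [Group G] [Fintype G] {p : ℕ} [Fact p.Prime] {M : Ideal Cfsg.AlgInt}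

/-- (COVER) `B` is the set of all irreducible characters of `G` lying over `b`, `G = NP`, `P ∩ N` is a
defect group of `b`. -/
theorem cover_facts (hM : Cfsg.IsPModular p M) (N : Subgroup G) [N.Normal] [Fintype N]
    (hNi : ∃ k : ℕ, N.index = p ^ k) (b : Set (Cfsg.IrrCharacter N)) (hb : Cfsg.IsPBlock M b)
    (hstab : ∀ g : G, Cfsg.StabilizesBlock N b g) (B : Set (Cfsg.IrrCharacter G))
    (hB : Cfsg.IsPBlock M B)
    (hcov : ∃ χ ∈ B, ∃ θ ∈ b, Cfsg.classInner (fun n : N => (χ : G → ℂ) n) (θ : N → ℂ) ≠ 0)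
    (P : Subgroup G) (hPD : Cfsg.IsDefectGroup p M B P) :
    (∀ χ : Cfsg.IrrCharacter G, χ ∈ B ↔
      ∃ θ ∈ b, Cfsg.classInner (fun n : N => (χ : G → ℂ) n) (θ : N → ℂ) ≠ 0) ∧
    N ⊔ P = ⊤ ∧ Cfsg.IsDefectGroup p M b ((P ⊓ N).subgroupOf N) := by
  have hPr := Cfsg.Agent.Lib.H23.isPrime_of_isPModular hM
  obtain ⟨θ₀, rfl⟩ := hb
  have hinv := Cfsg.Agent.Lib.H23.conjIrr_mem_of_stabilizesBlock N _ hstab
  obtain ⟨χ₀, hχ₀B, θ, hθ, hcon⟩ := hcov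
  have hover : χ₀ ∈ Cfsg.Agent.Lib.H23.overSet N (Cfsg.blockOf M (θ₀ : N → ℂ)) := ⟨θ, hθ, hcon⟩
  have h1 := Cfsg.Agent.Lib.H23.overSet_eq_blockOf_of_index_pow N hM hNi θ₀ hinv χ₀ hover
  obtain ⟨χ₁, rfl⟩ := hB
  have hBeq : Cfsg.blockOf M (χ₀ : G → ℂ) = Cfsg.blockOf M (χ₁ : G → ℂ) :=
    Cfsg.Agent.Lib.H23.blockOf_eq_of_mem hχ₀B
  have hBover : Cfsg.blockOf M (χ₁ : G → ℂ) =
      Cfsg.Agent.Lib.H23.overSet N (Cfsg.blockOf M (θ₀ : N → ℂ)) := by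
    rw [h1, hBeq]
  refine ⟨fun χ => ?_, ?_⟩
  · rw [hBover]
    rfl
  · have hcoeff : ∀ g : G, Cfsg.blockCoeff (Cfsg.blockOf M (χ₁ : G → ℂ)) g =
        Cfsg.subgroupBlockCoeff N (Cfsg.blockOf M (θ₀ : N → ℂ)) g := by
      intro g
      rw [hBover]
      exact Cfsg.Agent.Lib.H23.blockCoeff_overSet_eq N _ hinv g
    exact (Cfsg.Agent.Lib.H23.invariant_block_index_pow N hM hNi _ ⟨θ₀, rfl⟩ hstab).2 _
      ⟨χ₁, rfl⟩ hcoeff P hPD

end blocks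

end Cfsg.Agent.Lib.H9.KK
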