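import Cfsg.Agent.Lib.H23.KYREP
import Cfsg.Agent.Lib.H23.KYV
import Cfsg.Agent.Lib.H23.KYLR
import Cfsg.Agent.Lib.H23.KZPAR
import Cfsg.Agent.Lib.H15.KYCY4

/-!
# S4575 / S4540: the per-character integrality lemma AINT (helper9, twin)

For a 2-block `B`, a major subsection `(y, b)` and `χ ∈ B` of height `h`:
`∑_{k ∈ (ℤ/m)ˣ} 2^d m^{(y^k,b)}_{χχ} = φ(m) A` with `A ∈ ℤ`, `A` odd if `h = 0` (helper23's landed parity
lemma KZPAR) and `2^{h+1} ∣ A` if `h ≥ 1` (helper23's landed KYREP + KYV (Brauer 5H strict) + KYLR, and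
CY4 = `H15.KY.exists_int_sum_units_of_mem`).
-/

set_option autoImplicit false

namespace Cfsg.Agent.Lib.H9.KX

open Cfsg MonoidAlgebra Cfsg.Agent.Lib.H23 Cfsg.Agent.Lib.H23.Contrib
open scoped ComplexConjugate

theorem exists_int_diag {G : Type*} [Group G] [Fintype G] {M : Ideal AlgInt}
    [Fintype (IrrCharacter G)] (hM : IsPModular 2 M)
    (H : Subgroup G) [Fintype H] [Fintype (IrrCharacter H)] (ξ₁ : IrrCharacter H)
    {B : Set (IrrCharacter G)}
    (hind : IsInducedBlock M H (blockOf M (ξ₁ : H → ℂ)) B)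
    (hdef : blockDefect 2 (blockOf M (ξ₁ : H → ℂ)) = blockDefect 2 B) (y : H)
    (hyc : y ∈ Subgroup.center H) (hy : ∃ k : ℕ, orderOf y = 2 ^ k) {χ : IrrCharacter G}
    (hχ : χ ∈ B) (m : ℕ) [NeZero m] (hm : m = Nat.card G) :
    ∃ A : ℤ,
      (∑ k : (ZMod m)ˣ, (2 : ℂ) ^ blockDefect 2 B *
        contrib 2 H (blockOf M (ξ₁ : H → ℂ)) (y ^ (k : ZMod m).val) (χ : G → ℂ) (χ : G → ℂ) =
          (Fintype.card (ZMod m)ˣ : ℂ) * (A : ℂ)) ∧
      (blockHeight 2 B (χ : G → ℂ) = 0 → Odd A) ∧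
      (1 ≤ blockHeight 2 B (χ : G → ℂ) → (2 : ℤ) ^ (blockHeight 2 B (χ : G → ℂ) + 1) ∣ A) := by
  classical
  have : Fact (Nat.Prime 2) := ⟨Nat.prime_two⟩
  have hPr := isPrime_of_isPModular hM
  by_cases h0 : blockHeight 2 B (χ : G → ℂ) = 0
  · obtain ⟨A, hAodd, hA⟩ := Cfsg.Agent.Lib.H23.KZ.exists_odd_sum_units_contrib_self H hM ξ₁ hind y hyc hy
      hχ h0 m hm
    refine ⟨A, ?_, fun _ => hAodd, fun h1 => by omega⟩
    rw [← hA, hdef]
    norm_num
  · have hpos : 1 ≤ blockHeight 2 B (χ : G → ℂ) := Nat.one_le_iff_ne_zero.2 h0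
    set h := blockHeight 2 B (χ : G → ℂ) with hh
    obtain ⟨c, hc⟩ := Cfsg.Agent.Lib.H23.KY.exists_int_rep (p := 2) H hM ξ₁ hyc χ χ
    obtain ⟨r, hrR, hrI, hr⟩ := Cfsg.Agent.Lib.H23.KY.pow_mul_contrib_eq_pow_height_mul (p := 2) H hM ξ₁
      hind hdef hyc hy hχ hχ
    let _inst := Cfsg.Agent.Lib.H23.KY.isLocalRing_localRing (M := M)
    obtain ⟨j, hj⟩ := hy
    have hord_dvd : orderOf y ∣ m := by
      rw [hm]
      exact (orderOf_dvd_natCard y).trans (Subgroup.card_subgroup_dvd_card H)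
    have h2 : (2 : localRing M) ∈ IsLocalRing.maximalIdeal (localRing M) := by
      rw [Cfsg.Agent.Lib.H23.KY.mem_maximalIdeal_localRing_iff]
      have h2' : MemLocalIdeal M ((2 : ℕ) : ℂ) := memLocalIdeal_p hM
      have e : ((2 : localRing M) : ℂ) = ((2 : ℕ) : ℂ) := by
        rw [Nat.cast_ofNat]
        rfl
      rw [e]
      exact h2'
    have hrep1 : ∑ t : IrrCharacter H × IrrCharacter H, (c t : ℂ) * lamW H y t.1 t.2 =
        (2 : ℂ) ^ h * r := by
      have h1 := hc 1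
      simp only [pow_one] at h1
      rw [← h1, hdef]
      have := hr
      simp only [Nat.cast_ofNat] at this ⊢
      exact this
    obtain ⟨A, hA1, -, hA3⟩ := Cfsg.Agent.Lib.H15.KY.exists_int_sum_units_of_mem (localRing M) h2
      (fun x hx => isIntegral_mem_localRing hx) c (fun t => lamW H y t.1 t.2) j
      (fun t => Cfsg.Agent.Lib.H23.KY.lamW_pow_eq_one H hyc t.1 t.2 (by rw [hj]))
      m (fun t => Cfsg.Agent.Lib.H23.KY.lamW_pow_eq_one H hyc t.1 t.2 hord_dvd)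
      (by
        have h1 := hc 1
        simp only [pow_one] at h1
        rw [← h1, map_mul, map_pow, Complex.conj_natCast,
          contrib_conj H _ y hM hyc ξ₁ rfl χ χ])
      h ⟨r, hrR⟩ hrep1
    refine ⟨A, ?_, fun h1 => absurd h1 h0, fun _ => ?_⟩
    · rw [← hA1]
      refine Finset.sum_congr rfl fun k _ => ?_
      rw [← hc (k : ZMod m).val, hdef]
      norm_num
    · apply hA3
      rw [Cfsg.Agent.Lib.H23.KY.mem_maximalIdeal_localRing_iff]
      exact hrI hpos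

end Cfsg.Agent.Lib.H9.KX
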