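import Cfsg.Agent.Lib.H23.ContribD
import Cfsg.Agent.Lib.H23.ContribN
import Cfsg.Agent.Lib.H23.ContribP
import Cfsg.Agent.Lib.H23.BlockSecondMain
import Cfsg.Agent.Lib.H23.PPart2
import Cfsg.Agent.Lib.H28.KB.Defs

/-!
# S4575, piece TR (helper9): the contributions of a subsection `(z, b)` vanish off `b^G`

From helper23's landed `second_main` (Brauer's second main theorem): for `χ ∉ B = b^G` the `b`-part
of `χ` vanishes on the section of `z`, so `contrib p H b z χ ψ = 0`.  Hence the trace identity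
`∑_{χ ∈ B} ∑_ψ |m_{χψ}|² = l(b)` holds with the sum over `B` only (an EQUALITY, where the landed
`pcontrib_facts` only has `≤`).
-/

set_option autoImplicit false

namespace Cfsg.Agent.Lib.H9.KZTR

open Cfsg Cfsg.Agent.Lib.H23 Cfsg.Agent.Lib.H23.Contrib Cfsg.Agent.Lib.H28.KB
open scoped ComplexConjugate

variable {G : Type*} [Group G] [Fintype G] {p : ℕ} {M : Ideal AlgInt}

/-- The contribution of `(z, b)` to `(χ, ψ)` vanishes when `χ ∉ b^G`. -/
theorem contrib_eq_zero_of_not_mem (hp : p.Prime) (hM : IsPModular p M) (H : Subgroup G) [Fintype H]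
    {b : Set (IrrCharacter H)} {B : Set (IrrCharacter G)} (hind : IsInducedBlock M H b B)
    {z : H} (hzc : z ∈ Subgroup.center H) (hz : ∃ k : ℕ, orderOf z = p ^ k)
    (hC : ∀ g : G, g * (z : G) * g⁻¹ = (z : G) → g ∈ H)
    (χ : IrrCharacter G) (hχ : χ ∉ B) (ψ : G → ℂ) :
    contrib p H b z (χ : G → ℂ) ψ = 0 := by
  unfold contrib
  rw [Finset.sum_eq_zero, mul_zero]
  intro s _
  split_ifs with hs
  · rfl
  · have hzG : ∃ k : ℕ, orderOf (z : G) = p ^ k := by
      obtain ⟨k, hk⟩ := hz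
      exact ⟨k, by rw [Subgroup.orderOf_coe, hk]⟩
    have hsG : ¬ p ∣ orderOf (s : G) := by rwa [Subgroup.orderOf_coe]
    have hcomm : Commute (z : G) (s : G) := by
      have h1 : s * z = z * s := Subgroup.mem_center_iff.1 hzc s
      have h2 : (s : G) * (z : G) = (z : G) * (s : G) := by
        have := congrArg Subtype.val h1
        simpa using this
      exact h2.symm
    have hpart : IsPPart p (((z * s : H) : G)) (z : G) := by
      have : ((z * s : H) : G) = (z : G) * (s : G) := rfl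
      rw [this]
      exact isPPart_mul hcomm hzG hsG
    have hC' : ∀ z' : G, IsPPart p (((z * s : H) : G)) z' →
        Subgroup.centralizer ({z'} : Set G) ≤ H := by
      intro z' hz'
      rw [IsPPart.unique hp hz' hpart]
      intro g hg
      have h1 : g * (z : G) = (z : G) * g := Subgroup.mem_centralizer_singleton_iff.1 hg
      apply hC g
      rw [h1, mul_assoc, mul_inv_cancel, mul_one]
    have h0 : bpart H b (χ : G → ℂ) (z * s) = 0 := second_main H hM hind (z * s) hC' χ hχ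
    rw [h0, zero_mul]

/-- The trace identity with the sum over `B` only. -/
theorem sum_mem_normSq_contrib [Fintype (IrrCharacter G)] (hp : p.Prime) (hM : IsPModular p M)
    (H : Subgroup G) [Fintype H] [Fintype (IrrCharacter H)]
    {b : Set (IrrCharacter H)} [DecidablePred (· ∈ b)] {B : Set (IrrCharacter G)}
    [DecidablePred (· ∈ B)]
    (hind : IsInducedBlock M H b B)
    {z : H} (hzc : z ∈ Subgroup.center H) (hz : ∃ k : ℕ, orderOf z = p ^ k)
    (hC : ∀ g : G, g * (z : G) * g⁻¹ = (z : G) → g ∈ H)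
    (ξ₀ : IrrCharacter H) (hb : b = blockOf M (ξ₀ : H → ℂ)) :
    ∑ χ : {χ : IrrCharacter G // χ ∈ B}, ∑ ψ : IrrCharacter G,
      ‖contrib p H b z ((χ : IrrCharacter G) : G → ℂ) (ψ : G → ℂ)‖ ^ 2 = (blockRank p b : ℝ) := by
  rw [← sum_normSq_contrib H b z hM hzc hz hC ξ₀ hb]
  rw [← Finset.sum_subtype (Finset.univ.filter (· ∈ B)) (fun χ => by simp)
    (fun χ : IrrCharacter G => ∑ ψ : IrrCharacter G,
      ‖contrib p H b z (χ : G → ℂ) (ψ : G → ℂ)‖ ^ 2)]
  refine Finset.sum_subset (Finset.subset_univ _) ?_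
  intro χ _ hχ
  have hχB : χ ∉ B := by
    intro h
    exact hχ (Finset.mem_filter.2 ⟨Finset.mem_univ _, h⟩)
  refine Finset.sum_eq_zero fun ψ _ => ?_
  rw [contrib_eq_zero_of_not_mem hp hM H hind hzc hz hC χ hχB, norm_zero]
  norm_num

/-- The trace identity for `pcontrib` (same binders as `H22.KB.pcontrib_facts`), as an EQUALITY. -/
theorem sum_pcontrib_self_re_eq [Fact p.Prime] [Fintype (IrrCharacter G)] (hM : IsPModular p M)
    (H : Subgroup G) [Fintype H] [Fintype (IrrCharacter H)] (ξ₁ : IrrCharacter H)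
    [DecidablePred (· ∈ blockOf M (ξ₁ : H → ℂ))] {B : Set (IrrCharacter G)} [DecidablePred (· ∈ B)]
    (hind : IsInducedBlock M H (blockOf M (ξ₁ : H → ℂ)) B) (y : H)
    (hyc : y ∈ Subgroup.center H) (hy : ∃ k : ℕ, orderOf y = p ^ k)
    (hC : ∀ g : G, g * (y : G) * g⁻¹ = (y : G) → g ∈ H) (m : ℕ) [NeZero m] (hm : m = Nat.card G)
    (k : (ZMod m)ˣ) :
    ∑ χ : {χ : IrrCharacter G // χ ∈ B},
        (pcontrib p H (blockOf M (ξ₁ : H → ℂ)) (blockDefect p B) y m k
          ((χ : IrrCharacter G) : G → ℂ) ((χ : IrrCharacter G) : G → ℂ)).re =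
        (blockRank p (blockOf M (ξ₁ : H → ℂ)) : ℝ) * (p : ℝ) ^ blockDefect p B := by
  classical
  have hp : p.Prime := Fact.out
  have hord_dvd : orderOf y ∣ m := by
    rw [hm]
    exact (orderOf_dvd_natCard y).trans (Subgroup.card_subgroup_dvd_card H)
  obtain ⟨hkc, hko, hkC⟩ := pow_central_data H hyc hy hp hC
    (Nat.Coprime.coprime_dvd_right hord_dvd (ZMod.val_coe_unit_coprime k))
  have hre : ∀ χ : IrrCharacter G,
      (pcontrib p H (blockOf M (ξ₁ : H → ℂ)) (blockDefect p B) y m k (χ : G → ℂ) (χ : G → ℂ)).re =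
        (p : ℝ) ^ blockDefect p B * ∑ ψ : IrrCharacter G,
          ‖contrib p H (blockOf M (ξ₁ : H → ℂ)) (y ^ (k : ZMod m).val) (χ : G → ℂ) (ψ : G → ℂ)‖ ^ 2 := by
    intro χ
    rw [pcontrib, contrib_self_eq_sum H hM hkc hko hkC ξ₁ χ]
    rw [← Complex.ofReal_natCast, ← Complex.ofReal_pow, ← Complex.ofReal_mul, Complex.ofReal_re]
  rw [Finset.sum_congr rfl fun (χ : {χ : IrrCharacter G // χ ∈ B}) _ => hre (χ : IrrCharacter G),
    ← Finset.mul_sum,
    sum_mem_normSq_contrib hp hM H hind hkc hko hkC ξ₁ rfl, mul_comm]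

end Cfsg.Agent.Lib.H9.KZTR
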