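import Cfsg.Agent.Lib.H8.KXABS
import Cfsg.Agent.Lib.H25.KXUL
import Cfsg.Agent.Lib.H22.KXJ
import Cfsg.Agent.Lib.H9.KZTR
import Cfsg.Agent.Lib.H22.KBFACTS

/-!
# S4575: FINAL core (helper9)

From the per-character integrality lemma (AINT, as hypotheses `hA hodd hdiv`) to `k(B) ≤ 2^d`, on
TEQ/T= (`H9.KZTR`), UL, J, ABS' (pieces of `tools/blueprints/S4575_sigs.lean`) and the landed
`pcontrib_facts`.
-/

set_option autoImplicit false

namespace Cfsg.Agent.Lib.H9.KX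

open Cfsg Cfsg.Agent.Lib.H23 Cfsg.Agent.Lib.H23.Contrib Cfsg.Agent.Lib.H28.KB
open scoped ComplexConjugate

theorem card_le_two_pow_of_aint {G : Type*} [Group G] [Fintype G] {M : Ideal AlgInt}
    [Fintype (IrrCharacter G)] (hM : IsPModular 2 M)
    (H : Subgroup G) [Fintype H] [Fintype (IrrCharacter H)] (ξ₁ : IrrCharacter H)
    {B : Set (IrrCharacter G)}
    (hind : IsInducedBlock M H (blockOf M (ξ₁ : H → ℂ)) B)
    (hdef : blockDefect 2 (blockOf M (ξ₁ : H → ℂ)) = blockDefect 2 B) (y : H)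
    (hyc : y ∈ Subgroup.center H) (hy : ∃ k : ℕ, orderOf y = 2 ^ k)
    (hC : ∀ g : G, g * (y : G) * g⁻¹ = (y : G) → g ∈ H) (m : ℕ) [NeZero m] (hm : m = Nat.card G)
    (A : IrrCharacter G → ℤ)
    (hA : ∀ χ ∈ B, ∑ k : (ZMod m)ˣ, (2 : ℂ) ^ blockDefect 2 B *
        contrib 2 H (blockOf M (ξ₁ : H → ℂ)) (y ^ (k : ZMod m).val) (χ : G → ℂ) (χ : G → ℂ) =
      (Fintype.card (ZMod m)ˣ : ℂ) * (A χ : ℂ))
    (hodd : ∀ χ ∈ B, blockHeight 2 B (χ : G → ℂ) = 0 → Odd (A χ))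
    (hdiv : ∀ χ ∈ B, 1 ≤ blockHeight 2 B (χ : G → ℂ) →
      (2 : ℤ) ^ (blockHeight 2 B (χ : G → ℂ) + 1) ∣ A χ)
    (hk : Nat.card B ≤ blockRank 2 (blockOf M (ξ₁ : H → ℂ)) + 3) :
    Nat.card B ≤ 2 ^ blockDefect 2 B := by
  classical
  have : Fact (Nat.Prime 2) := ⟨Nat.prime_two⟩
  set b := blockOf M (ξ₁ : H → ℂ) with hb
  set d := blockDefect 2 B with hd
  set l := blockRank 2 b with hl
  set φ : ℝ := (Fintype.card (ZMod m)ˣ : ℝ) with hφ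
  have hφpos : 0 < φ := by
    rw [hφ]
    exact_mod_cast Fintype.card_pos
  have hord_dvd : orderOf y ∣ m := by
    rw [hm]
    exact (orderOf_dvd_natCard y).trans (Subgroup.card_subgroup_dvd_card H)
  have hdata : ∀ k : (ZMod m)ˣ,
      y ^ (k : ZMod m).val ∈ Subgroup.center H ∧
      (∃ j : ℕ, orderOf (y ^ (k : ZMod m).val) = 2 ^ j) ∧
      ∀ g : G, g * ((y ^ (k : ZMod m).val : H) : G) * g⁻¹ = ((y ^ (k : ZMod m).val : H) : G) →
        g ∈ H := by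
    intro k
    exact pow_central_data H hyc hy Nat.prime_two hC
      (Nat.Coprime.coprime_dvd_right hord_dvd (ZMod.val_coe_unit_coprime k))
  set r : (ZMod m)ˣ → IrrCharacter G → ℝ := fun k χ => ∑ ψ : IrrCharacter G,
    ‖contrib 2 H b (y ^ (k : ZMod m).val) (χ : G → ℂ) (ψ : G → ℂ)‖ ^ 2 with hr
  have hcr : ∀ (k : (ZMod m)ˣ) (χ : IrrCharacter G), contrib 2 H b (y ^ (k : ZMod m).val) (χ : G → ℂ)
      (χ : G → ℂ) = ((r k χ : ℝ) : ℂ) := fun k χ =>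
    contrib_self_eq_sum H hM (hdata k).1 (hdata k).2.1 (hdata k).2.2 ξ₁ χ
  -- `S χ = φ A χ`
  have hS : ∀ χ ∈ B, ∑ k : (ZMod m)ˣ, (2 : ℝ) ^ d * r k χ = φ * (A χ : ℝ) := by
    intro χ hχ
    have h1 := hA χ hχ
    simp only [hcr] at h1
    have h2 : ((∑ k : (ZMod m)ˣ, (2 : ℝ) ^ d * r k χ : ℝ) : ℂ) = ((φ * (A χ : ℝ) : ℝ) : ℂ) := by
      rw [hφ]
      push_cast
      exact h1
    exact_mod_cast h2
  -- rows: `r k χ ≤ 1`
  have hUL : ∀ (k : (ZMod m)ˣ) (χ : IrrCharacter G), r k χ ≤ 1 := fun k χ =>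
    (Cfsg.Agent.Lib.H25.KX.sum_normSq_contrib_row_le_one hM H ξ₁ (hdata k).1 (hdata k).2.1
      (hdata k).2.2 χ).1
  have hULlt : ∀ (k : (ZMod m)ˣ) (χ ψ : IrrCharacter G), ψ ≠ χ →
      contrib 2 H b (y ^ (k : ZMod m).val) (χ : G → ℂ) (ψ : G → ℂ) ≠ 0 → r k χ < 1 := fun k χ ψ h1 h2 =>
    (Cfsg.Agent.Lib.H25.KX.sum_normSq_contrib_row_le_one hM H ξ₁ (hdata k).1 (hdata k).2.1
      (hdata k).2.2 χ).2 ψ h1 h2
  -- the landed facts
  obtain ⟨-, -, fNZ, -, f0⟩ := Cfsg.Agent.Lib.H22.KB.pcontrib_facts hM H ξ₁ hind hdef y hyc hy hC m hm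
  have hNZ : ∀ χ ψ : IrrCharacter G, χ ∈ B → ψ ∈ B → blockHeight 2 B (χ : G → ℂ) = 0 →
      contrib 2 H b (y ^ ((1 : (ZMod m)ˣ) : ZMod m).val) (χ : G → ℂ) (ψ : G → ℂ) ≠ 0 := by
    intro χ ψ hχ hψ h0
    have := fNZ ⟨χ, hχ⟩ ⟨ψ, hψ⟩ h0
    rw [pcontrib] at this
    exact right_ne_zero_of_mul this
  -- the finset
  set K : Finset (IrrCharacter G) := Finset.univ.filter (· ∈ B) with hK
  have hKmem : ∀ χ, χ ∈ K ↔ χ ∈ B := fun χ => by simp [hK]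
  have hcard : Nat.card B = K.card := by
    rw [Nat.card_eq_fintype_card, hK, ← Fintype.card_subtype]
  rw [hcard] at hk ⊢
  have h2d : (0 : ℝ) < (2 : ℝ) ^ d := by positivity
  refine Cfsg.Agent.Lib.H8.KX.card_le_two_pow_of_compl K
    (fun χ => blockHeight 2 B (χ : G → ℂ)) A d l hk ?_ ?_ ?_ ?_ ?_ ?_
  · -- trace
    have h1 : ∑ χ ∈ K, ∑ k : (ZMod m)ˣ, (2 : ℝ) ^ d * r k χ = φ * ((l : ℝ) * 2 ^ d) := by
      rw [Finset.sum_comm]
      have h2 : ∀ k : (ZMod m)ˣ, ∑ χ ∈ K, (2 : ℝ) ^ d * r k χ = (l : ℝ) * 2 ^ d := by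
        intro k
        rw [← Finset.mul_sum, hK, Finset.sum_subtype (p := (· ∈ B)) (Finset.univ.filter (· ∈ B))
          (fun χ => by simp) (fun χ : IrrCharacter G => r k χ)]
        have := Cfsg.Agent.Lib.H9.KZTR.sum_mem_normSq_contrib Nat.prime_two hM H hind
          (hdata k).1 (hdata k).2.1 (hdata k).2.2 ξ₁ rfl
        rw [show (∑ χ : {χ : IrrCharacter G // χ ∈ B}, r k (χ : IrrCharacter G)) = (l : ℝ) from this]
        ring
      rw [Finset.sum_congr rfl fun k _ => h2 k, Finset.sum_const, Finset.card_univ, nsmul_eq_mul, hφ]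
    have h3 : ∑ χ ∈ K, ∑ k : (ZMod m)ˣ, (2 : ℝ) ^ d * r k χ = φ * ∑ χ ∈ K, (A χ : ℝ) := by
      rw [Finset.mul_sum]
      exact Finset.sum_congr rfl fun χ hχ => hS χ ((hKmem χ).1 hχ)
    have h4 : ∑ χ ∈ K, (A χ : ℝ) = (l : ℝ) * 2 ^ d := by
      have := h3.symm.trans h1
      exact mul_left_cancel₀ hφpos.ne' this
    exact_mod_cast h4
  · -- positivity
    intro χ hχ
    have hχB := (hKmem χ).1 hχ
    have h1 := card_units_mul_pow_le_sum_contrib_self hM H ξ₁ hind hdef y hyc hy hC hχB m hm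
    have e2 : ((2 : ℕ) : ℝ) = 2 := by norm_num
    rw [e2] at h1
    have h2 : φ * (2 : ℝ) ^ blockHeight 2 B (χ : G → ℂ) ≤ φ * (A χ : ℝ) := by
      rw [← hS χ hχB]
      exact h1
    have h3 : (2 : ℝ) ^ blockHeight 2 B (χ : G → ℂ) ≤ (A χ : ℝ) := le_of_mul_le_mul_left h2 hφpos
    have h4 : (0 : ℝ) < (A χ : ℝ) := lt_of_lt_of_le (by positivity) h3
    exact_mod_cast h4
  · -- strictness
    intro h2K χ hχ
    have hχB := (hKmem χ).1 hχ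
    -- an off-diagonal nonzero entry in the row of `χ` for `k = 1`
    have hoff : ∃ ψ : IrrCharacter G, ψ ≠ χ ∧
        contrib 2 H b (y ^ ((1 : (ZMod m)ˣ) : ZMod m).val) (χ : G → ℂ) (ψ : G → ℂ) ≠ 0 := by
      by_cases h0 : blockHeight 2 B (χ : G → ℂ) = 0
      · obtain ⟨ψ, hψK, hψne⟩ : ∃ ψ ∈ K, ψ ≠ χ := by
          by_contra hcon
          push Not at hcon
          have : K ⊆ {χ} := fun ψ hψ => Finset.mem_singleton.2 (hcon ψ hψ)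
          have := Finset.card_le_card this
          rw [Finset.card_singleton] at this
          omega
        exact ⟨ψ, hψne, hNZ χ ψ hχB ((hKmem ψ).1 hψK) h0⟩
      · obtain ⟨χ₀, hχ₀⟩ := f0 ⟨⟨χ, hχB⟩⟩
        have hne : (χ₀ : IrrCharacter G) ≠ χ := by
          intro he
          rw [he] at hχ₀
          exact h0 hχ₀
        refine ⟨χ₀, hne, ?_⟩
        have h1 := hNZ χ₀ χ χ₀.2 hχB hχ₀
        rw [← contrib_conj H b _ hM (hdata 1).1 ξ₁ rfl (χ₀ : IrrCharacter G) χ]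
        exact (map_ne_zero _).2 h1
    obtain ⟨ψ, hψne, hψ0⟩ := hoff
    have h1 : r 1 χ < 1 := hULlt 1 χ ψ hψne hψ0
    have h2 : ∑ k : (ZMod m)ˣ, (2 : ℝ) ^ d * r k χ < ∑ _k : (ZMod m)ˣ, (2 : ℝ) ^ d := by
      refine Finset.sum_lt_sum (fun k _ => ?_) ⟨1, Finset.mem_univ _, ?_⟩
      · have := hUL k χ
        nlinarith
      · nlinarith
    rw [hS χ hχB, Finset.sum_const, Finset.card_univ, nsmul_eq_mul] at h2
    have h3 : (A χ : ℝ) < (2 : ℝ) ^ d := lt_of_mul_lt_mul_left h2 hφpos.le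
    exact_mod_cast h3
  · intro χ hχ h0
    exact hodd χ ((hKmem χ).1 hχ) h0
  · intro χ hχ h1
    exact hdiv χ ((hKmem χ).1 hχ) h1
  · -- (J)
    intro χ₀ hχ₀ h0
    have hχ₀B := (hKmem χ₀).1 hχ₀
    have hJ := Cfsg.Agent.Lib.H22.KX.sum_sq_pow_height_le hM H ξ₁ hind hdef y hyc hy hC hχ₀B h0 m hm
    have hSχ : ∑ k : (ZMod m)ˣ, ((2 : ℕ) : ℝ) ^ blockDefect 2 B * ∑ ψ : IrrCharacter G,
        ‖contrib 2 H (blockOf M (ξ₁ : H → ℂ)) (y ^ (k : ZMod m).val) (χ₀ : G → ℂ) (ψ : G → ℂ)‖ ^ 2 =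
        φ * (A χ₀ : ℝ) := by
      rw [← hS χ₀ hχ₀B]
      push_cast
      rfl
    rw [hSχ] at hJ
    have hfin : Finset.univ.filter (fun ψ : IrrCharacter G => ψ ∈ B ∧ ψ ≠ χ₀) = K.erase χ₀ := by
      ext ψ
      simp [hK, Finset.mem_erase, and_comm]
    rw [hfin] at hJ
    have h1 : φ * (φ * ∑ ψ ∈ K.erase χ₀, (((2 : ℕ) : ℝ) ^ blockHeight 2 B (ψ : G → ℂ)) ^ 2) ≤
        φ * (φ * ((A χ₀ : ℝ) * ((2 : ℝ) ^ d - (A χ₀ : ℝ)))) := by
      refine hJ.trans (le_of_eq ?_)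
      push_cast
      ring
    have h2 := le_of_mul_le_mul_left (le_of_mul_le_mul_left h1 hφpos) hφpos
    have h3 : ((∑ ψ ∈ K.erase χ₀, (4 : ℤ) ^ blockHeight 2 B (ψ : G → ℂ) : ℤ) : ℝ) ≤
        ((A χ₀ * (2 ^ d - A χ₀) : ℤ) : ℝ) := by
      push_cast
      refine le_trans (le_of_eq ?_) h2
      refine Finset.sum_congr rfl fun ψ _ => ?_
      push_cast
      rw [← pow_mul, mul_comm, pow_mul]
      norm_num
    exact_mod_cast h3

end Cfsg.Agent.Lib.H9.KX
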