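import Mathlib

/-! Kronecker-type brick representation of `C_p^3 : C_2` (helper9, for S2533). -/

namespace Cfsg.Agent.Lib.H9.KronBrick
open Matrix

/-- `X` maps `e_j` (`j` odd) to `e_{j-1}`. -/
def mX (p n : ℕ) : Matrix (Fin n) (Fin n) (ZMod p) :=
  fun i j => if j.val % 2 = 1 ∧ i.val + 1 = j.val then 1 else 0
/-- `Y` maps `e_j` (`j` odd) to `e_{j+1}`. -/
def mY (p n : ℕ) : Matrix (Fin n) (Fin n) (ZMod p) :=
  fun i j => if j.val % 2 = 1 ∧ i.val = j.val + 1 then 1 else 0
/-- `Z` maps `e_3` to `e_0`. -/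
def mZ (p n : ℕ) : Matrix (Fin n) (Fin n) (ZMod p) :=
  fun i j => if i.val = 0 ∧ j.val = 3 then 1 else 0
/-- the diagonal sign matrix. -/
def mT (p n : ℕ) : Matrix (Fin n) (Fin n) (ZMod p) :=
  Matrix.diagonal fun i => (-1) ^ i.val

/-- extension of a matrix by zero to all natural indices -/
def ext0 {p n : ℕ} (g : Matrix (Fin n) (Fin n) (ZMod p)) (a b : ℕ) : ZMod p :=
  if h : a < n ∧ b < n then g ⟨a, h.1⟩ ⟨b, h.2⟩ else 0

lemma ext0_of_lt {p n : ℕ} (g : Matrix (Fin n) (Fin n) (ZMod p)) {a b : ℕ} (ha : a < n) (hb : b < n) :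
    ext0 g a b = g ⟨a, ha⟩ ⟨b, hb⟩ := by
  simp [ext0, ha, hb]

lemma ext0_of_ge_left {p n : ℕ} (g : Matrix (Fin n) (Fin n) (ZMod p)) {a b : ℕ} (ha : n ≤ a) :
    ext0 g a b = 0 := by
  simp [ext0]; intro h; omega

lemma ext0_of_ge_right {p n : ℕ} (g : Matrix (Fin n) (Fin n) (ZMod p)) {a b : ℕ} (hb : n ≤ b) :
    ext0 g a b = 0 := by
  simp [ext0]; intro _ h; omega

lemma mul_mX_apply {p n : ℕ} (g : Matrix (Fin n) (Fin n) (ZMod p)) (i j : Fin n) :
    (g * mX p n) i j = if j.val % 2 = 1 then ext0 g i.val (j.val - 1) else 0 := by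
  rw [Matrix.mul_apply]
  split_ifs with h
  · have hj : j.val - 1 < n := by omega
    rw [Finset.sum_eq_single (⟨j.val - 1, hj⟩ : Fin n)]
    · rw [ext0_of_lt g i.2 hj]
      have : mX p n ⟨j.val - 1, hj⟩ j = 1 := by
        simp only [mX]; rw [if_pos]; constructor
        · exact h
        · show j.val - 1 + 1 = j.val; omega
      rw [this, mul_one]
    · intro k _ hk
      have : mX p n k j = 0 := by
        simp only [mX]; rw [if_neg]; rintro ⟨_, h2⟩
        apply hk; ext; simp only; omega
      rw [this, mul_zero]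
    · intro h'; exact absurd (Finset.mem_univ _) h'
  · apply Finset.sum_eq_zero
    intro k _
    have : mX p n k j = 0 := by
      simp only [mX]; rw [if_neg]; rintro ⟨h1, _⟩; exact h h1
    rw [this, mul_zero]

lemma mX_mul_apply {p n : ℕ} (g : Matrix (Fin n) (Fin n) (ZMod p)) (i j : Fin n) :
    (mX p n * g) i j = if (i.val + 1) % 2 = 1 then ext0 g (i.val + 1) j.val else 0 := by
  rw [Matrix.mul_apply]
  split_ifs with h
  · by_cases hi : i.val + 1 < n
    · rw [Finset.sum_eq_single (⟨i.val + 1, hi⟩ : Fin n)]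
      · rw [ext0_of_lt g hi j.2]
        have : mX p n i ⟨i.val + 1, hi⟩ = 1 := by
          simp only [mX]; rw [if_pos]; exact ⟨h, trivial⟩
        rw [this, one_mul]
      · intro k _ hk
        have : mX p n i k = 0 := by
          simp only [mX]; rw [if_neg]; rintro ⟨_, h2⟩
          apply hk; ext; simp only; omega
        rw [this, zero_mul]
      · intro h'; exact absurd (Finset.mem_univ _) h'
    · rw [ext0_of_ge_left g (by omega)]
      apply Finset.sum_eq_zero
      intro k _
      have : mX p n i k = 0 := by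
        simp only [mX]; rw [if_neg]; rintro ⟨_, h2⟩
        have := k.2; omega
      rw [this, zero_mul]
  · apply Finset.sum_eq_zero
    intro k _
    have : mX p n i k = 0 := by
      simp only [mX]; rw [if_neg]; rintro ⟨h1, h2⟩; apply h; rw [h2]; exact h1
    rw [this, zero_mul]

lemma mul_mY_apply {p n : ℕ} (g : Matrix (Fin n) (Fin n) (ZMod p)) (i j : Fin n) :
    (g * mY p n) i j = if j.val % 2 = 1 then ext0 g i.val (j.val + 1) else 0 := by
  rw [Matrix.mul_apply]
  split_ifs with h
  · by_cases hj : j.val + 1 < n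
    · rw [Finset.sum_eq_single (⟨j.val + 1, hj⟩ : Fin n)]
      · rw [ext0_of_lt g i.2 hj]
        have : mY p n ⟨j.val + 1, hj⟩ j = 1 := by
          simp only [mY]; rw [if_pos]; exact ⟨h, trivial⟩
        rw [this, mul_one]
      · intro k _ hk
        have : mY p n k j = 0 := by
          simp only [mY]; rw [if_neg]; rintro ⟨_, h2⟩
          apply hk; ext; simp only; omega
        rw [this, mul_zero]
      · intro h'; exact absurd (Finset.mem_univ _) h'
    · rw [ext0_of_ge_right g (by omega)]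
      apply Finset.sum_eq_zero
      intro k _
      have : mY p n k j = 0 := by
        simp only [mY]; rw [if_neg]; rintro ⟨_, h2⟩
        have := k.2; omega
      rw [this, mul_zero]
  · apply Finset.sum_eq_zero
    intro k _
    have : mY p n k j = 0 := by
      simp only [mY]; rw [if_neg]; rintro ⟨h1, _⟩; exact h h1
    rw [this, mul_zero]

lemma mY_mul_apply {p n : ℕ} (g : Matrix (Fin n) (Fin n) (ZMod p)) (i j : Fin n) :
    (mY p n * g) i j = if 1 ≤ i.val ∧ (i.val - 1) % 2 = 1 then ext0 g (i.val - 1) j.val else 0 := by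
  rw [Matrix.mul_apply]
  split_ifs with h
  · have hi : i.val - 1 < n := by have := i.2; omega
    rw [Finset.sum_eq_single (⟨i.val - 1, hi⟩ : Fin n)]
    · rw [ext0_of_lt g hi j.2]
      have : mY p n i ⟨i.val - 1, hi⟩ = 1 := by
        simp only [mY]; rw [if_pos]; constructor
        · exact h.2
        · show i.val = i.val - 1 + 1; omega
      rw [this, one_mul]
    · intro k _ hk
      have : mY p n i k = 0 := by
        simp only [mY]; rw [if_neg]; rintro ⟨_, h2⟩
        apply hk; ext; simp only; omega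
      rw [this, zero_mul]
    · intro h'; exact absurd (Finset.mem_univ _) h'
  · apply Finset.sum_eq_zero
    intro k _
    have : mY p n i k = 0 := by
      simp only [mY]; rw [if_neg]; rintro ⟨h1, h2⟩; apply h
      constructor
      · omega
      · have : i.val - 1 = k.val := by omega
        rw [this]; exact h1
    rw [this, zero_mul]



lemma two_ne_zero' {p : ℕ} [Fact p.Prime] (hp : p ≠ 2) : (2 : ZMod p) ≠ 0 := by
  intro h
  have h2 : ((2 : ℕ) : ZMod p) = 0 := by exact_mod_cast h
  rw [ZMod.natCast_eq_zero_iff] at h2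
  have := Nat.le_of_dvd (by norm_num) h2
  have := (Fact.out : p.Prime).two_le
  omega

lemma scalar_of_commute {p n : ℕ} [Fact p.Prime] (hp : p ≠ 2) (hn : n % 2 = 1)
    (g : Matrix (Fin n) (Fin n) (ZMod p))
    (hT : g * mT p n = mT p n * g) (hX : g * mX p n = mX p n * g)
    (hY : g * mY p n = mY p n * g) :
    ∀ i j : Fin n, g i j = if i = j then ext0 g 0 0 else 0 := by
  -- parity
  have hP : ∀ a b, a < n → b < n → a % 2 ≠ b % 2 → ext0 g a b = 0 := by
    intro a b ha hb hab
    rw [ext0_of_lt g ha hb]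
    have h1 := congr_fun (congr_fun hT ⟨a, ha⟩) ⟨b, hb⟩
    simp only [mT, Matrix.mul_diagonal, Matrix.diagonal_mul] at h1
    have h2 : ((-1 : ZMod p)) ^ a = - (-1) ^ b := by
      rcases Nat.mod_two_eq_zero_or_one a with h | h <;>
      rcases Nat.mod_two_eq_zero_or_one b with h' | h'
      · omega
      · rw [Even.neg_one_pow (Nat.even_iff.mpr h), Odd.neg_one_pow (Nat.odd_iff.mpr h')]; simp
      · rw [Odd.neg_one_pow (Nat.odd_iff.mpr h), Even.neg_one_pow (Nat.even_iff.mpr h')]
      · omega
    rw [h2] at h1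
    have h3 : (2 : ZMod p) * (g ⟨a, ha⟩ ⟨b, hb⟩ * (-1) ^ b) = 0 := by
      have : g ⟨a, ha⟩ ⟨b, hb⟩ * (-1) ^ b = - (g ⟨a, ha⟩ ⟨b, hb⟩ * (-1) ^ b) := by
        nth_rewrite 1 [h1]; ring
      linear_combination this
    rcases mul_eq_zero.mp h3 with h4 | h4
    · exact absurd h4 (two_ne_zero' hp)
    · rcases mul_eq_zero.mp h4 with h5 | h5
      · exact h5
      · exact absurd h5 (pow_ne_zero _ (neg_ne_zero.mpr one_ne_zero))
  have hXr : ∀ a b, a < n → b < n → (if b % 2 = 1 then ext0 g a (b - 1) else 0)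
      = (if (a + 1) % 2 = 1 then ext0 g (a + 1) b else 0) := by
    intro a b ha hb
    have h1 := congr_fun (congr_fun hX ⟨a, ha⟩) ⟨b, hb⟩
    rw [mul_mX_apply, mX_mul_apply] at h1
    exact h1
  have hYr : ∀ a b, a < n → b < n → (if b % 2 = 1 then ext0 g a (b + 1) else 0)
      = (if 1 ≤ a ∧ (a - 1) % 2 = 1 then ext0 g (a - 1) b else 0) := by
    intro a b ha hb
    have h1 := congr_fun (congr_fun hY ⟨a, ha⟩) ⟨b, hb⟩
    rw [mul_mY_apply, mY_mul_apply] at h1
    exact h1
  -- Toeplitz
  have hS : ∀ a b, a + 1 < n → b + 1 < n → a % 2 = b % 2 →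
      ext0 g (a + 1) (b + 1) = ext0 g a b := by
    intro a b ha hb hab
    rcases Nat.mod_two_eq_zero_or_one a with h | h
    · have := hXr a (b + 1) (by omega) hb
      rw [if_pos (by omega), if_pos (by omega)] at this
      simpa using this.symm
    · have := hYr (a + 1) b ha (by omega)
      rw [if_pos (by omega), if_pos (by constructor <;> omega)] at this
      simpa using this
  have hSk : ∀ k a b, a + k < n → b + k < n → a % 2 = b % 2 →
      ext0 g (a + k) (b + k) = ext0 g a b := by
    intro k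
    induction k with
    | zero => intro a b _ _ _; rfl
    | succ k ih =>
      intro a b ha hb hab
      have := hS (a + k) (b + k) (by omega) (by omega) (by omega)
      rw [← add_assoc, ← add_assoc, this]
      exact ih a b (by omega) (by omega) hab
  -- first row
  have hC : ∀ k, k < n → k % 2 = 0 → 2 ≤ k → ext0 g 0 k = 0 := by
    intro k hk hk2 hk3
    have := hYr 0 (k - 1) (by omega) (by omega)
    rw [if_pos (by omega), if_neg (by omega)] at this
    rw [← this]; congr 1; omega
  -- last row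
  have hA : ∀ k, k + 1 < n → k % 2 = 0 → ext0 g (n - 1) k = 0 := by
    intro k hk hk2
    have := hXr (n - 1) (k + 1) (by omega) hk
    rw [if_pos (by omega), if_pos (by omega)] at this
    have h0 : ext0 g (n - 1 + 1) (k + 1) = 0 := ext0_of_ge_left g (by omega)
    rw [h0] at this
    simpa using this
  intro i j
  rw [← ext0_of_lt g i.2 j.2]
  by_cases hij : i = j
  · rw [if_pos hij, hij]
    have := hSk j.val 0 0 (by simpa using j.2) (by simpa using j.2) rfl
    simpa using this
  · rw [if_neg hij]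
    have hij' : i.val ≠ j.val := fun h => hij (Fin.ext h)
    by_cases hpar : i.val % 2 = j.val % 2
    · rcases Nat.lt_or_ge i.val j.val with hlt | hge
      · -- upper triangle
        have := hSk i.val 0 (j.val - i.val) (by simpa using i.2) (by have := j.2; omega) (by omega)
        have h2 : j.val - i.val + i.val = j.val := by omega
        rw [zero_add, h2] at this
        rw [this]
        exact hC _ (by have := j.2; omega) (by omega) (by omega)
      · -- lower triangle
        have hgt : j.val < i.val := by omega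
        have h1 := hSk j.val (i.val - j.val) 0 (by have := i.2; omega) (by simpa using j.2) (by omega)
        have h2 : i.val - j.val + j.val = i.val := by omega
        rw [zero_add, h2] at h1
        rw [h1]
        have h3 := hSk (n - 1 - (i.val - j.val)) (i.val - j.val) 0 (by have := i.2; omega)
          (by have := i.2; omega) (by omega)
        have h4 : i.val - j.val + (n - 1 - (i.val - j.val)) = n - 1 := by have := i.2; omega
        rw [zero_add, h4] at h3
        rw [← h3]
        exact hA _ (by have := i.2; omega) (by have := i.2; omega)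
    · exact hP _ _ i.2 j.2 hpar



/-- nonzero entries only at (even, odd) positions -/
def OE {p n : ℕ} (M : Matrix (Fin n) (Fin n) (ZMod p)) : Prop :=
  ∀ i j, M i j ≠ 0 → i.val % 2 = 0 ∧ j.val % 2 = 1

lemma OE_mX (p n : ℕ) : OE (mX p n) := by
  intro i j h
  simp only [mX] at h
  split_ifs at h with h1
  · constructor <;> omega
  · exact absurd rfl h

lemma OE_mY (p n : ℕ) : OE (mY p n) := by
  intro i j h
  simp only [mY] at h
  split_ifs at h with h1
  · constructor <;> omega
  · exact absurd rfl h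

lemma OE_mZ (p n : ℕ) : OE (mZ p n) := by
  intro i j h
  simp only [mZ] at h
  split_ifs at h with h1
  · constructor <;> omega
  · exact absurd rfl h

lemma OE.smul {p n : ℕ} {M : Matrix (Fin n) (Fin n) (ZMod p)} (hM : OE M) (c : ZMod p) :
    OE (c • M) := by
  intro i j h
  apply hM i j
  intro h0
  apply h
  rw [Matrix.smul_apply, h0, smul_zero]

lemma OE.add {p n : ℕ} {M N : Matrix (Fin n) (Fin n) (ZMod p)} (hM : OE M) (hN : OE N) :
    OE (M + N) := by
  intro i j h
  by_cases h1 : M i j = 0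
  · apply hN i j
    intro h0
    apply h
    rw [Matrix.add_apply, h1, h0, add_zero]
  · exact hM i j h1

lemma OE.mul_eq_zero {p n : ℕ} {M N : Matrix (Fin n) (Fin n) (ZMod p)} (hM : OE M) (hN : OE N) :
    M * N = 0 := by
  ext i k
  rw [Matrix.mul_apply, Matrix.zero_apply]
  apply Finset.sum_eq_zero
  intro j _
  by_cases h1 : M i j = 0
  · rw [h1, zero_mul]
  · by_cases h2 : N j k = 0
    · rw [h2, mul_zero]
    · have := (hM i j h1).2
      have := (hN j k h2).1
      omega

lemma OE.diag {p n : ℕ} {M : Matrix (Fin n) (Fin n) (ZMod p)} (hM : OE M) (i : Fin n) :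
    M i i = 0 := by
  by_contra h
  have := hM i i h
  omega

lemma OE.mT_mul {p n : ℕ} {M : Matrix (Fin n) (Fin n) (ZMod p)} (hM : OE M) :
    mT p n * M = M := by
  ext i j
  simp only [mT, Matrix.diagonal_mul]
  by_cases h1 : M i j = 0
  · rw [h1, mul_zero]
  · rw [Even.neg_one_pow (Nat.even_iff.mpr (hM i j h1).1), one_mul]

lemma OE.mul_mT {p n : ℕ} {M : Matrix (Fin n) (Fin n) (ZMod p)} (hM : OE M) :
    M * mT p n = -M := by
  ext i j
  simp only [mT, Matrix.mul_diagonal, Matrix.neg_apply]
  by_cases h1 : M i j = 0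
  · rw [h1, zero_mul, neg_zero]
  · rw [Odd.neg_one_pow (Nat.odd_iff.mpr (hM i j h1).2), mul_neg_one]

lemma mT_mul_mT (p n : ℕ) : mT p n * mT p n = 1 := by
  simp only [mT, Matrix.diagonal_mul_diagonal]
  rw [← Matrix.diagonal_one]
  congr 1
  funext i
  rw [← mul_pow]; simp

/-- the nilpotent part -/
def mM (p n : ℕ) (a : ZMod p × ZMod p × ZMod p) : Matrix (Fin n) (Fin n) (ZMod p) :=
  a.1 • mX p n + a.2.1 • mY p n + a.2.2 • mZ p n

lemma OE_mM (p n : ℕ) (a : ZMod p × ZMod p × ZMod p) : OE (mM p n a) :=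
  (((OE_mX p n).smul _).add ((OE_mY p n).smul _)).add ((OE_mZ p n).smul _)

lemma mM_add (p n : ℕ) (a b : ZMod p × ZMod p × ZMod p) :
    mM p n (a + b) = mM p n a + mM p n b := by
  simp only [mM, Prod.fst_add, Prod.snd_add, add_smul]
  abel

lemma mM_zero (p n : ℕ) : mM p n 0 = 0 := by
  simp [mM]

lemma mM_neg (p n : ℕ) (a : ZMod p × ZMod p × ZMod p) : mM p n (-a) = - mM p n a := by
  simp only [mM, Prod.fst_neg, Prod.snd_neg, neg_smul]
  abel

/-- the unipotent representation -/
def rho (p n : ℕ) (a : ZMod p × ZMod p × ZMod p) : Matrix (Fin n) (Fin n) (ZMod p) :=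
  1 + mM p n a

lemma rho_add (p n : ℕ) (a b : ZMod p × ZMod p × ZMod p) :
    rho p n (a + b) = rho p n a * rho p n b := by
  simp only [rho, mM_add]
  rw [add_mul, mul_add, mul_add, (OE_mM p n a).mul_eq_zero (OE_mM p n b)]
  simp only [one_mul, mul_one, add_zero]
  abel

lemma rho_zero (p n : ℕ) : rho p n 0 = 1 := by
  simp [rho, mM_zero]

lemma rho_nsmul (p n : ℕ) (a : ZMod p × ZMod p × ZMod p) (k : ℕ) :
    rho p n (k • a) = rho p n a ^ k := by
  induction k with
  | zero => simp [rho_zero]
  | succ k ih => rw [succ_nsmul, rho_add, ih, pow_succ]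

lemma det_rho (p n : ℕ) [Fact p.Prime] (a : ZMod p × ZMod p × ZMod p) :
    (rho p n a).det = 1 := by
  have h1 : (p : ℕ) • a = 0 := by
    ext <;> simp
  have h2 : rho p n a ^ p = 1 := by
    rw [← rho_nsmul, h1, rho_zero]
  have h3 : (rho p n a).det ^ p = 1 := by
    rw [← Matrix.det_pow, h2, Matrix.det_one]
  rwa [ZMod.pow_card] at h3

/-- the involution, normalized to determinant one -/
def mT' (p n : ℕ) : Matrix (Fin n) (Fin n) (ZMod p) := (mT p n).det • mT p n

lemma det_mT_sq (p n : ℕ) : (mT p n).det * (mT p n).det = 1 := by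
  rw [← Matrix.det_mul, mT_mul_mT, Matrix.det_one]

lemma det_mT' (p n : ℕ) (hn : n % 2 = 1) : (mT' p n).det = 1 := by
  rw [mT', Matrix.det_smul, Fintype.card_fin, ← pow_succ]
  obtain ⟨k, hk⟩ : ∃ k, n + 1 = 2 * k := ⟨(n + 1) / 2, by omega⟩
  rw [hk, pow_mul, pow_two, det_mT_sq, one_pow]

lemma mT'_mul_mT' (p n : ℕ) : mT' p n * mT' p n = 1 := by
  rw [mT', Matrix.smul_mul, Matrix.mul_smul, smul_smul, det_mT_sq, one_smul, mT_mul_mT]

lemma mT'_mul_rho (p n : ℕ) (a : ZMod p × ZMod p × ZMod p) :
    mT' p n * rho p n a = rho p n (-a) * mT' p n := by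
  rw [mT', rho, rho, Matrix.smul_mul, Matrix.mul_smul, mul_add, add_mul, mM_neg, neg_mul,
    (OE_mM p n a).mT_mul, (OE_mM p n a).mul_mT]
  simp

lemma mM_apply_01 (p n : ℕ) (a : ZMod p × ZMod p × ZMod p) (h : 3 < n) :
    mM p n a ⟨0, by omega⟩ ⟨1, by omega⟩ = a.1 := by
  simp [mM, mX, mY, mZ]

lemma mM_apply_21 (p n : ℕ) (a : ZMod p × ZMod p × ZMod p) (h : 3 < n) :
    mM p n a ⟨2, by omega⟩ ⟨1, by omega⟩ = a.2.1 := by
  simp [mM, mX, mY, mZ]

lemma mM_apply_03 (p n : ℕ) (a : ZMod p × ZMod p × ZMod p) (h : 3 < n) :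
    mM p n a ⟨0, by omega⟩ ⟨3, by omega⟩ = a.2.2 := by
  simp [mM, mX, mY, mZ]

lemma rho_injective (p n : ℕ) (h : 3 < n) (a : ZMod p × ZMod p × ZMod p)
    (ha : rho p n a = 1) : a = 0 := by
  have h0 : mM p n a = 0 := by
    have : 1 + mM p n a = 1 + 0 := by rw [add_zero]; exact ha
    exact add_left_cancel this
  have h1 := mM_apply_01 p n a h
  have h2 := mM_apply_21 p n a h
  have h3 := mM_apply_03 p n a h
  rw [h0] at h1 h2 h3
  simp only [Matrix.zero_apply] at h1 h2 h3
  ext
  · exact h1.symm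
  · exact h2.symm
  · exact h3.symm


end Cfsg.Agent.Lib.H9.KronBrick
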