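import Mathlib

/-!
S4429 piece (F3) `arith11`: PURE integer combinatorics.  Exact signature of
`tools/blueprints/S4429_sigs.lean` (architect helper27).

`SA = ∑ A²`, `SM = ∑ m²`, `SAM = ∑ A m`: the three quadratic relations give `SM = 2`, `SA = 6`,
`SAM = 1`; exactly two indices have `m = ±1`, with opposite signs and equal `d`; the values of `A`
there are `(σ, 0)` up to swapping (the cases `(2,1)`, `(-1,-2)` die modulo 3 by the relation `hdA`).
-/

set_option autoImplicit false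

namespace Cfsg.Agent.Lib.H9.M7920

open scoped BigOperators

universe u

/-- split two indices off a sum -/
theorem sum_split {ι : Type u} [Fintype ι] [DecidableEq ι] (g : ι → ℤ) {j₁ j₂ : ι} (h : j₁ ≠ j₂) :
    ∑ i, g i = ∑ i, (if i = j₁ ∨ i = j₂ then 0 else g i) + g j₁ + g j₂ := by
  have h1 : ∀ i, g i = (if i = j₁ ∨ i = j₂ then 0 else g i) + (if i = j₁ then g i else 0) +
      (if i = j₂ then g i else 0) := by
    intro i
    by_cases h1 : i = j₁
    · subst h1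
      simp [h]
    · by_cases h2 : i = j₂
      · subst h2
        simp [h1]
      · simp [h1, h2]
  calc ∑ i, g i = ∑ i, ((if i = j₁ ∨ i = j₂ then 0 else g i) + (if i = j₁ then g i else 0) +
      (if i = j₂ then g i else 0)) := Finset.sum_congr rfl fun i _ => h1 i
    _ = _ := by
      rw [Finset.sum_add_distrib, Finset.sum_add_distrib, Finset.sum_ite_eq' Finset.univ j₁ g,
        Finset.sum_ite_eq' Finset.univ j₂ g]
      simp

/-- the conclusion of `arith11` once the two exceptional indices are in the right order -/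
theorem arith11_core {ι : Type u} [Fintype ι] [DecidableEq ι] (A m d : ι → ℤ) (i₁ : ι)
    (hSA : ∑ i, A i ^ 2 = 6) (hdA : ∑ i, d i * A i = 0) (σ : ℤ) (j₁ j₂ : ι)
    (hσ : σ = 1 ∨ σ = -1) (h1 : j₁ ≠ i₁) (h2 : j₂ ≠ i₁) (h12 : j₁ ≠ j₂)
    (hA1 : A j₁ = σ) (hm1 : m j₁ = σ) (hA2 : A j₂ = 0) (hm2 : m j₂ = -σ) (hd : d j₁ = d j₂)
    (hm0 : ∀ i, i ≠ j₁ → i ≠ j₂ → m i = 0) :
    ∃ (σ : ℤ) (j₁ j₂ : ι), (σ = 1 ∨ σ = -1) ∧ j₁ ≠ i₁ ∧ j₂ ≠ i₁ ∧ j₁ ≠ j₂ ∧
      A j₁ = σ ∧ m j₁ = σ ∧ A j₂ = 0 ∧ m j₂ = -σ ∧ d j₁ = d j₂ ∧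
      (∀ i, i ≠ j₁ → i ≠ j₂ → m i = 0) ∧
      ∑ i, (if i = j₁ ∨ i = j₂ then 0 else A i ^ 2) = 5 ∧
      ∑ i, (if i = j₁ ∨ i = j₂ then 0 else d i * A i) + σ * d j₁ = 0 := by
  refine ⟨σ, j₁, j₂, hσ, h1, h2, h12, hA1, hm1, hA2, hm2, hd, hm0, ?_, ?_⟩
  · have e : ∑ i, A i ^ 2 = ∑ i, (if i = j₁ ∨ i = j₂ then 0 else A i ^ 2) + A j₁ ^ 2 + A j₂ ^ 2 :=
      sum_split (fun i => A i ^ 2) h12
    rw [hSA, hA1, hA2] at e
    rcases hσ with rfl | rfl <;> linarith
  · have e : ∑ i, d i * A i = ∑ i, (if i = j₁ ∨ i = j₂ then 0 else d i * A i) + d j₁ * A j₁ +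
        d j₂ * A j₂ := sum_split (fun i => d i * A i) h12
    rw [hdA, hA1, hA2] at e
    linarith

/-- (F3) -/
theorem arith11 {ι : Type u} [Fintype ι] [DecidableEq ι] (A m d : ι → ℤ) (i₁ : ι)
    (hA1 : A i₁ = 1) (hm1 : m i₁ = 0) (hd1 : d i₁ = 1) (hdpos : ∀ i, 0 < d i)
    (hf : ∑ i, (A i ^ 2 - A i * m i + 3 * m i ^ 2) = 11)
    (h2a : ∑ i, (A i ^ 2 - 3 * m i ^ 2) = 0) (h2b : ∑ i, (2 * A i * m i - m i ^ 2) = 0)
    (hdA : ∑ i, d i * A i = 0) (hdm : ∑ i, d i * m i = 0) :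
    ∃ (σ : ℤ) (j₁ j₂ : ι), (σ = 1 ∨ σ = -1) ∧ j₁ ≠ i₁ ∧ j₂ ≠ i₁ ∧ j₁ ≠ j₂ ∧
      A j₁ = σ ∧ m j₁ = σ ∧ A j₂ = 0 ∧ m j₂ = -σ ∧ d j₁ = d j₂ ∧
      (∀ i, i ≠ j₁ → i ≠ j₂ → m i = 0) ∧
      ∑ i, (if i = j₁ ∨ i = j₂ then 0 else A i ^ 2) = 5 ∧
      ∑ i, (if i = j₁ ∨ i = j₂ then 0 else d i * A i) + σ * d j₁ = 0 := by
  classical
  -- the three sums
  have e1 : ∑ i, (A i ^ 2 - A i * m i + 3 * m i ^ 2) =
      ∑ i, A i ^ 2 - ∑ i, A i * m i + 3 * ∑ i, m i ^ 2 := by
    rw [Finset.mul_sum, ← Finset.sum_sub_distrib, ← Finset.sum_add_distrib]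
  have e2 : ∑ i, (A i ^ 2 - 3 * m i ^ 2) = ∑ i, A i ^ 2 - 3 * ∑ i, m i ^ 2 := by
    rw [Finset.mul_sum, ← Finset.sum_sub_distrib]
  have e3 : ∑ i, (2 * A i * m i - m i ^ 2) = 2 * ∑ i, A i * m i - ∑ i, m i ^ 2 := by
    rw [Finset.mul_sum, ← Finset.sum_sub_distrib]
    exact Finset.sum_congr rfl fun i _ => by ring
  rw [e1] at hf
  rw [e2] at h2a
  rw [e3] at h2b
  have hSM : ∑ i, m i ^ 2 = 2 := by linarith
  have hSA : ∑ i, A i ^ 2 = 6 := by linarith
  have hSAM : ∑ i, A i * m i = 1 := by linarith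
  -- each `m i ∈ {-1, 0, 1}`
  have hmle : ∀ i, m i ^ 2 ≤ 2 := by
    intro i
    have : m i ^ 2 ≤ ∑ i, m i ^ 2 :=
      Finset.single_le_sum (f := fun i => m i ^ 2) (fun j _ => sq_nonneg (m j))
        (Finset.mem_univ i)
    linarith
  have hmcases : ∀ i, m i = 0 ∨ m i = 1 ∨ m i = -1 := by
    intro i
    have h := hmle i
    have h1 : m i ≤ 1 := by nlinarith
    have h2 : -1 ≤ m i := by nlinarith
    interval_cases (m i) <;> simp
  set T : Finset ι := Finset.univ.filter (fun i => m i ≠ 0) with hT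
  have hTcard : (T.card : ℤ) = 2 := by
    have h1 : ∀ i, m i ^ 2 = if m i ≠ 0 then 1 else 0 := by
      intro i
      rcases hmcases i with h | h | h <;> rw [h] <;> norm_num
    rw [Finset.sum_congr rfl fun i _ => h1 i] at hSM
    rw [← Finset.sum_filter] at hSM
    simpa using hSM
  have hTcard' : T.card = 2 := by exact_mod_cast hTcard
  obtain ⟨j₁, j₂, h12, hTeq⟩ := Finset.card_eq_two.1 hTcard'
  have hj₁T : j₁ ∈ T := by rw [hTeq]; simp
  have hj₂T : j₂ ∈ T := by rw [hTeq]; simp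
  have hmj₁ : m j₁ ≠ 0 := (Finset.mem_filter.1 hj₁T).2
  have hmj₂ : m j₂ ≠ 0 := (Finset.mem_filter.1 hj₂T).2
  have hm0 : ∀ i, i ≠ j₁ → i ≠ j₂ → m i = 0 := by
    intro i h1 h2
    by_contra h
    have : i ∈ T := Finset.mem_filter.2 ⟨Finset.mem_univ _, h⟩
    rw [hTeq, Finset.mem_insert, Finset.mem_singleton] at this
    rcases this with h' | h'
    · exact h1 h'
    · exact h2 h'
  have hj₁i : j₁ ≠ i₁ := fun h => hmj₁ (h ▸ hm1)
  have hj₂i : j₂ ≠ i₁ := fun h => hmj₂ (h ▸ hm1)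
  -- the linear relations restricted to `j₁, j₂`
  have hzero : ∀ g : ι → ℤ, ∑ i, (if i = j₁ ∨ i = j₂ then 0 else g i * m i) = 0 := by
    intro g
    apply Finset.sum_eq_zero
    intro i _
    split_ifs with h
    · rfl
    · push Not at h
      rw [hm0 i h.1 h.2, mul_zero]
  have hdm' : d j₁ * m j₁ + d j₂ * m j₂ = 0 := by
    have e : ∑ i, d i * m i = ∑ i, (if i = j₁ ∨ i = j₂ then 0 else d i * m i) + d j₁ * m j₁ +
        d j₂ * m j₂ := sum_split (fun i => d i * m i) h12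
    rw [hdm, hzero d] at e
    linarith
  have hSAM' : A j₁ * m j₁ + A j₂ * m j₂ = 1 := by
    have e : ∑ i, A i * m i = ∑ i, (if i = j₁ ∨ i = j₂ then 0 else A i * m i) + A j₁ * m j₁ +
        A j₂ * m j₂ := sum_split (fun i => A i * m i) h12
    rw [hSAM, hzero A] at e
    linarith
  -- squares
  have eSA : ∑ i, A i ^ 2 = ∑ i, (if i = j₁ ∨ i = j₂ then 0 else A i ^ 2) + A j₁ ^ 2 + A j₂ ^ 2 :=
    sum_split (fun i => A i ^ 2) h12
  rw [hSA] at eSA
  set R : ℤ := ∑ i, (if i = j₁ ∨ i = j₂ then 0 else A i ^ 2) with hR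
  have hrnn : ∀ i, 0 ≤ (if i = j₁ ∨ i = j₂ then 0 else A i ^ 2) := by
    intro i
    split_ifs
    · exact le_refl _
    · exact sq_nonneg _
  have hri₁ : (if i₁ = j₁ ∨ i₁ = j₂ then 0 else A i₁ ^ 2) = 1 := by
    rw [if_neg]
    · rw [hA1]; norm_num
    · push Not
      exact ⟨fun h => hj₁i h.symm, fun h => hj₂i h.symm⟩
  have hR1 : 1 ≤ R := by
    have : (if i₁ = j₁ ∨ i₁ = j₂ then 0 else A i₁ ^ 2) ≤ R :=
      Finset.single_le_sum (f := fun i => (if i = j₁ ∨ i = j₂ then 0 else A i ^ 2))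
        (fun j _ => hrnn j) (Finset.mem_univ i₁)
    rw [hri₁] at this
    exact this
  -- if `R = 1` then the relation `hdA` collapses
  have hcollapse : R = 1 → 1 + d j₁ * A j₁ + d j₂ * A j₂ = 0 := by
    intro hR1'
    have hvan : ∀ i, i ≠ i₁ → (if i = j₁ ∨ i = j₂ then 0 else A i ^ 2) = 0 := by
      have h1 : (if i₁ = j₁ ∨ i₁ = j₂ then 0 else A i₁ ^ 2) +
          ∑ i ∈ Finset.univ.erase i₁, (if i = j₁ ∨ i = j₂ then 0 else A i ^ 2) =
          ∑ i, (if i = j₁ ∨ i = j₂ then 0 else A i ^ 2) := Finset.add_sum_erase Finset.univ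
        (fun i => (if i = j₁ ∨ i = j₂ then 0 else A i ^ 2)) (Finset.mem_univ i₁)
      rw [hri₁] at h1
      have h2 : ∑ i ∈ Finset.univ.erase i₁, (if i = j₁ ∨ i = j₂ then 0 else A i ^ 2) = 0 := by
        have : (∑ i, (if i = j₁ ∨ i = j₂ then 0 else A i ^ 2)) = 1 := hR1'
        linarith
      intro i hi
      exact (Finset.sum_eq_zero_iff_of_nonneg (fun j _ => hrnn j)).1 h2 i
        (Finset.mem_erase.2 ⟨hi, Finset.mem_univ _⟩)
    have e : ∑ i, d i * A i = ∑ i, (if i = j₁ ∨ i = j₂ then 0 else d i * A i) + d j₁ * A j₁ +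
        d j₂ * A j₂ := sum_split (fun i => d i * A i) h12
    rw [hdA] at e
    have h3 : ∑ i, (if i = j₁ ∨ i = j₂ then 0 else d i * A i) = 1 := by
      rw [Finset.sum_eq_single i₁]
      · rw [if_neg]
        · rw [hd1, hA1]; norm_num
        · push Not
          exact ⟨fun h => hj₁i h.symm, fun h => hj₂i h.symm⟩
      · intro i _ hi
        have := hvan i hi
        split_ifs with h
        · rfl
        · rw [if_neg h] at this
          have h0 : A i = 0 := by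
            rcases pow_eq_zero_iff (two_ne_zero) |>.1 this with h0
            exact h0
          rw [h0, mul_zero]
      · intro h
        exact absurd (Finset.mem_univ _) h
    linarith
  have hdj₁ := hdpos j₁
  have hdj₂ := hdpos j₂
  -- case analysis on the signs
  rcases hmcases j₁ with h | h | h
  · exact absurd h hmj₁
  · -- `m j₁ = 1`
    rcases hmcases j₂ with h' | h' | h'
    · exact absurd h' hmj₂
    · exfalso
      rw [h, h'] at hdm'
      linarith
    · rw [h, h'] at hdm' hSAM'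
      have hdd : d j₁ = d j₂ := by linarith
      have hAA : A j₁ = A j₂ + 1 := by linarith
      have hb : A j₁ ^ 2 + A j₂ ^ 2 ≤ 5 := by linarith
      have hb1 : A j₂ ≤ 1 := by nlinarith
      have hb2 : -2 ≤ A j₂ := by nlinarith
      have hcases : A j₂ = -2 ∨ A j₂ = -1 ∨ A j₂ = 0 ∨ A j₂ = 1 := by omega
      rcases hcases with hc | hc | hc | hc
      · exfalso
        have hA1' : A j₁ = -1 := by rw [hAA, hc]; norm_num
        have hR' : R = 1 := by rw [hA1', hc] at eSA; linarith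
        have := hcollapse hR'
        rw [hA1', hc, hdd] at this
        omega
      · -- swapped
        have hA1' : A j₁ = 0 := by rw [hAA, hc]; norm_num
        exact arith11_core A m d i₁ hSA hdA (-1) j₂ j₁ (Or.inr rfl) hj₂i hj₁i h12.symm
          hc h' hA1' (by rw [h]; norm_num) hdd.symm (fun i h1 h2 => hm0 i h2 h1)
      · have hA1' : A j₁ = 1 := by rw [hAA, hc]; norm_num
        exact arith11_core A m d i₁ hSA hdA 1 j₁ j₂ (Or.inl rfl) hj₁i hj₂i h12
          hA1' h hc (by rw [h']) hdd hm0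
      · exfalso
        have hA1' : A j₁ = 2 := by rw [hAA, hc]; norm_num
        have hR' : R = 1 := by rw [hA1', hc] at eSA; linarith
        have := hcollapse hR'
        rw [hA1', hc, hdd] at this
        omega
  · -- `m j₁ = -1`
    rcases hmcases j₂ with h' | h' | h'
    · exact absurd h' hmj₂
    · rw [h, h'] at hdm' hSAM'
      have hdd : d j₁ = d j₂ := by linarith
      have hAA : A j₂ = A j₁ + 1 := by linarith
      have hb : A j₁ ^ 2 + A j₂ ^ 2 ≤ 5 := by linarith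
      have hb1 : A j₁ ≤ 1 := by nlinarith
      have hb2 : -2 ≤ A j₁ := by nlinarith
      have hcases : A j₁ = -2 ∨ A j₁ = -1 ∨ A j₁ = 0 ∨ A j₁ = 1 := by omega
      rcases hcases with hc | hc | hc | hc
      · exfalso
        have hA2' : A j₂ = -1 := by rw [hAA, hc]; norm_num
        have hR' : R = 1 := by rw [hA2', hc] at eSA; linarith
        have := hcollapse hR'
        rw [hA2', hc, hdd] at this
        omega
      · have hA2' : A j₂ = 0 := by rw [hAA, hc]; norm_num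
        exact arith11_core A m d i₁ hSA hdA (-1) j₁ j₂ (Or.inr rfl) hj₁i hj₂i h12
          hc h hA2' (by rw [h']; norm_num) hdd hm0
      · -- swapped
        have hA2' : A j₂ = 1 := by rw [hAA, hc]; norm_num
        exact arith11_core A m d i₁ hSA hdA 1 j₂ j₁ (Or.inl rfl) hj₂i hj₁i h12.symm
          hA2' h' hc (by rw [h]) hdd.symm (fun i h1 h2 => hm0 i h2 h1)
      · exfalso
        have hA2' : A j₂ = 2 := by rw [hAA, hc]; norm_num
        have hR' : R = 1 := by rw [hA2', hc] at eSA; linarith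
        have := hcollapse hR'
        rw [hA2', hc, hdd] at this
        omega
    · exfalso
      rw [h, h'] at hdm'
      linarith

end Cfsg.Agent.Lib.H9.M7920
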