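import Mathlib
import Cfsg.Agent.Lib.H26.NGPDefs
import Cfsg.Agent.Lib.H26.NGPNU

set_option autoImplicit false

/-!
# S1904, piece N2, final step (f) in hypothesis form: `X/U` is abelian once `|X/B| ≤ 4`.
-/

open Cfsg.Agent.Lib.H26.NGP

namespace Cfsg.Agent.Lib.H9.NGP

universe u

variable {X : Type u} [Group X] [Finite X]

/-- `cm x (ρ x) ∈ U`. -/
theorem n2_cm_rho {A : Subgroup (MulAut X)} {ρ : MulAut X} {z : X} {U B : Subgroup X}
    (hU : USetup A ρ z U) (hinvol : ∀ t ∈ B, t * t = 1 → t ∈ U)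
    (hfpf : ∀ d ∈ B, ρ d = d → d = 1)
    (ha : ∀ b ∈ B, ∀ g : X, cm b g ∈ U)
    (hb : ∀ g x : X, cm g x ∈ B)
    (hd : ∀ x : X, x * ρ x * ρ (ρ x) ∈ B) :
    ∀ x : X, cm x (ρ x) ∈ U := by
  intro x
  have hUc : ∀ u ∈ U, ∀ g : X, g * u = u * g := fun u hu g =>
    Subgroup.mem_center_iff.mp (hU.central hu) g
  have hU2 := hU.sq_eq_one
  set a := ρ x with ha_def
  set c := cm x a with hc_def
  have hc : c ∈ B := hb _ _
  set w := x * a * ρ a with hw_def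
  have hw : w ∈ B := hd x
  have e1 : ρ c = cm a (ρ a) := by
    rw [hc_def, cm_def, cm_def, map_mul, map_mul, map_mul, map_inv, map_inv]
  have e2 : ρ a = a⁻¹ * x⁻¹ * w := by rw [hw_def]; group
  -- first correction
  have hu1 : cm w a⁻¹ ∈ U := ha w hw a⁻¹
  -- second correction
  have hu2 : cm c (a * x)⁻¹ ∈ U := ha c hc _
  have e3 : cm a (a⁻¹ * x⁻¹ * w) = x⁻¹ * cm w a⁻¹ * (a⁻¹ * x * a) := by
    simp only [cm_def]; group
  have e4 : x⁻¹ * a⁻¹ * x * a = (cm c (a * x)⁻¹)⁻¹ * c := by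
    rw [hc_def]; simp only [cm_def]; group
  obtain ⟨u1, hu1', hu1e⟩ : ∃ u ∈ U, cm w a⁻¹ = u := ⟨_, hu1, rfl⟩
  obtain ⟨u2, hu2', hu2e⟩ : ∃ u ∈ U, (cm c (a * x)⁻¹)⁻¹ = u := ⟨_, U.inv_mem hu2, rfl⟩
  rw [hu1e] at e3
  rw [hu2e] at e4
  have hv : u1 * u2 ∈ U := U.mul_mem hu1' hu2'
  have e5 : ρ c = c * (u1 * u2) := by
    rw [e1, e2, e3]
    have h1 : x⁻¹ * u1 = u1 * x⁻¹ := hUc _ hu1' _
    rw [h1]
    have h2 : u1 * x⁻¹ * (a⁻¹ * x * a) = u1 * (x⁻¹ * a⁻¹ * x * a) := by group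
    rw [h2, e4]
    have h3 : c * (u1 * u2) = (u1 * u2) * c := hUc _ hv c
    rw [h3]
    group
  obtain ⟨v, hv, hve⟩ : ∃ v ∈ U, u1 * u2 = v := ⟨_, hv, rfl⟩
  rw [hve] at e5
  have e6 : ρ (c * c) = c * c := by
    rw [map_mul, e5]
    have h1 : c * v * (c * v) = c * (v * c) * v := by group
    rw [h1, ← hUc v hv c]
    have h2 : c * (c * v) * v = c * c * (v * v) := by group
    rw [h2, hU2 v hv, mul_one]
  have hcc : c * c = 1 := hfpf _ (B.mul_mem hc hc) e6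
  exact hinvol c hc hcc

/-- Step (f) of N2. -/
theorem n2_final {A : Subgroup (MulAut X)} {ρ : MulAut X} {z : X} {U B : Subgroup X}
    (hU : USetup A ρ z U) (hinvol : ∀ t ∈ B, t * t = 1 → t ∈ U)
    (hfpf : ∀ d ∈ B, ρ d = d → d = 1)
    (ha : ∀ b ∈ B, ∀ g : X, cm b g ∈ U)
    (hb : ∀ g x : X, cm g x ∈ B)
    (hd : ∀ x : X, x * ρ x * ρ (ρ x) ∈ B)
    (h4 : ∀ x : X, x ∉ B → ∀ y : X,
      y ∈ B ∨ x⁻¹ * y ∈ B ∨ (ρ x)⁻¹ * y ∈ B ∨ (x * ρ x)⁻¹ * y ∈ B) :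
    ∀ x y : X, cm x y ∈ U := by
  have hUn : U.Normal := hU.normal
  have hA := n2_cm_rho hU hinvol hfpf ha hb hd
  -- cm x b ∈ U for b ∈ B
  have hxb : ∀ x : X, ∀ b ∈ B, cm x b ∈ U := by
    intro x b hb'
    have h : cm x b = (cm b x)⁻¹ := by simp only [cm_def]; group
    rw [h]
    exact U.inv_mem (ha b hb' x)
  have hxab : ∀ x : X, ∀ b ∈ B, cm x (ρ x * b) ∈ U := by
    intro x b hb'
    have h : cm x (ρ x * b) = cm x (ρ x) * (ρ x * cm x b * (ρ x)⁻¹) := by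
      simp only [cm_def]; group
    rw [h]
    exact U.mul_mem (hA x) (hUn.conj_mem _ (hxb x b hb') _)
  have hxx : ∀ x w : X, cm x w ∈ U → cm x (x * w) ∈ U := by
    intro x w hw
    have h : cm x (x * w) = x * cm x w * x⁻¹ := by simp only [cm_def]; group
    rw [h]
    exact hUn.conj_mem _ hw _
  intro x y
  by_cases hx : x ∈ B
  · exact ha x hx y
  · rcases h4 x hx y with h | h | h | h
    · exact hxb x y h
    · have hy : y = x * (x⁻¹ * y) := by group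
      rw [hy]
      exact hxx x _ (hxb x _ h)
    · have hy : y = ρ x * ((ρ x)⁻¹ * y) := by group
      rw [hy]
      exact hxab x _ h
    · have hy : y = x * (ρ x * ((x * ρ x)⁻¹ * y)) := by group
      rw [hy]
      exact hxx x _ (hxab x _ h)

end Cfsg.Agent.Lib.H9.NGP
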