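import Mathlib
import Cfsg.Prelude.Def_CharExt
import Cfsg.Agent.Lib.H24.GlaubGalois
import Cfsg.Agent.Lib.H23.DetChar

/-!
S4892 piece (RATDET), core: if `φ` is fixed by the power maps `k ≡ 1 (mod m)`, `p` is odd and
`p ∤ m`, then `det φ` is trivial on `p`-elements.  Blueprint: tools/blueprints/S4892.md (helper28).
-/

set_option autoImplicit false

namespace Cfsg.Agent.Lib.H9.NT

open Cfsg.Agent.Lib.H23

theorem det_pElement_core {p : ℕ} {X : Type*} [Group X] [Finite X] (hp : p.Prime) (hp2 : p ≠ 2)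
    (φ : X → ℂ) (hφ : Cfsg.IsCharacter X φ) (m : ℕ) (hpm : ¬ p ∣ m)
    (hpow : ∀ k : ℕ, k.Coprime (Nat.card X * m) → k ≡ 1 [MOD m] → ∀ x : X, φ (x ^ k) = φ x) :
    ∀ x : X, (∃ k : ℕ, orderOf x = p ^ k) → Cfsg.detChar φ x = 1 := by
  rintro x ⟨j, hj⟩
  have hm0 : m ≠ 0 := fun h => hpm (h ▸ dvd_zero p)
  have hX0 : Nat.card X ≠ 0 := Nat.card_pos.ne'
  obtain ⟨a, r, hr, hXr⟩ := Nat.exists_eq_pow_mul_and_not_dvd hX0 p hp.ne_one
  have hr0 : r ≠ 0 := fun h => by rw [h, mul_zero] at hXr; exact hX0 hXr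
  -- `x ^ (p ^ a) = 1`
  have hxa : x ^ (p ^ a) = 1 := by
    have h1 : p ^ j ∣ Nat.card X := hj ▸ orderOf_dvd_natCard x
    have h2 : p ^ j ∣ p ^ a := by
      rw [hXr] at h1
      exact (Nat.Coprime.pow_left j ((Nat.Prime.coprime_iff_not_dvd hp).2 hr)).dvd_of_dvd_mul_right h1
    rw [← orderOf_dvd_iff_pow_eq_one, hj]
    exact h2
  -- the exponent
  have hcop : Nat.Coprime (m * r) (p ^ a) := by
    apply Nat.Coprime.pow_right
    apply Nat.Coprime.symm
    rw [Nat.Prime.coprime_iff_not_dvd hp]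
    intro h
    rcases (Nat.Prime.dvd_mul hp).1 h with h | h
    · exact hpm h
    · exact hr h
  obtain ⟨k, hk1, hk2⟩ := Nat.chineseRemainder hcop 1 2
  have hkm : k ≡ 1 [MOD m] := Nat.ModEq.of_dvd (dvd_mul_right m r) hk1
  have hk_mr : Nat.Coprime k (m * r) := by
    have h1 : Nat.gcd k (m * r) = Nat.gcd 1 (m * r) := Nat.ModEq.gcd_eq hk1
    rw [Nat.Coprime, h1, Nat.gcd_one_left]
  have hk_p : Nat.Coprime k (p ^ a) := by
    by_cases ha : a = 0
    · rw [ha, pow_zero]; exact Nat.coprime_one_right k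
    · apply Nat.Coprime.pow_right
      apply Nat.Coprime.symm
      rw [Nat.Prime.coprime_iff_not_dvd hp]
      intro hpk
      have h2 : k ≡ 2 [MOD p] := Nat.ModEq.of_dvd (dvd_pow_self p ha) hk2
      have h3 : p ∣ 2 := by
        have := (Nat.modEq_zero_iff_dvd.2 hpk).symm.trans h2
        exact Nat.modEq_zero_iff_dvd.1 this.symm
      have h4 : p ≤ 2 := Nat.le_of_dvd (by norm_num) h3
      have h5 := hp.two_le
      omega
  have hkX : Nat.Coprime k (Nat.card X) := by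
    rw [hXr]
    exact Nat.Coprime.mul_right hk_p (Nat.Coprime.coprime_mul_left_right hk_mr)
  have hkXm : Nat.Coprime k (Nat.card X * m) :=
    Nat.Coprime.mul_right hkX (Nat.Coprime.coprime_mul_right_right hk_mr)
  -- `φ` is fixed by the `k`-th power map, hence so is its determinant
  have hfix : (fun g : X => φ (g ^ k)) = φ := funext (hpow k hkXm hkm)
  have hdet := Cfsg.Agent.Lib.H24.Glaub.detChar_galoisConj hφ k hkX
  rw [hfix] at hdet
  have hdetx : Cfsg.detChar φ x = Cfsg.detChar φ (x ^ k) := congrFun hdet x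
  obtain ⟨f, hf⟩ := exists_hom_detChar hφ
  rw [hf, homToFun_apply, homToFun_apply] at hdetx
  rw [hf, homToFun_apply]
  -- in the unit group
  have hu : f x = (f x) ^ k := by
    apply Units.ext
    rw [hdetx, map_pow]
  have hua : (f x) ^ (p ^ a) = 1 := by rw [← map_pow, hxa, map_one]
  have hk2' : k ≡ 2 [MOD orderOf (f x)] :=
    Nat.ModEq.of_dvd (orderOf_dvd_of_pow_eq_one hua) hk2
  have hu2 : (f x) ^ k = (f x) ^ 2 := pow_eq_pow_iff_modEq.2 hk2'
  have h1 : f x = 1 := by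
    have : f x * 1 = f x * f x := by rw [mul_one, ← pow_two, ← hu2, ← hu]
    exact (mul_left_cancel this).symm
  rw [h1, Units.val_one]

end Cfsg.Agent.Lib.H9.NT
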