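import Mathlib
import Cfsg.Prelude.Def_Blocks
import Cfsg.Prelude.Def_CharExt
import Cfsg.Agent.Lib.H21.AD.Defs
import Cfsg.Agent.Lib.H28.NT.Defs
import Cfsg.Agent.Lib.H9.NTRATDETCore
import Cfsg.Agent.Lib.H12.NTRATPOW

/-!
S4892 piece (RATDET) `det_pElement_of_rational`, exact signature of
tools/blueprints/S4892_sigs.lean (architect helper28): RATPOW (helper12) + `det_pElement_core`.
-/

set_option autoImplicit false
open Cfsg.Agent.Lib.H21.AD Cfsg.Agent.Lib.H28.NT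

namespace Cfsg.Agent.Lib.H9.NT

variable {G : Type*} [Group G] [Finite G] {p : ℕ} {M : Ideal Cfsg.AlgInt} {N Q : Subgroup G} {θ : G → ℂ}

/-- (RATDET) `p` odd, `φ` with values in `ℚ(ζ_m)`, `p ∤ m`: `det φ` is trivial on `p`-elements -/
theorem det_pElement_of_rational {X : Type*} [Group X] [Finite X] (hp : p.Prime) (hp2 : p ≠ 2) (φ : X → ℂ)
    (hφ : Cfsg.IsCharacter X φ) (m : ℕ) (hpm : ¬ p ∣ m)
    (hrat : ∀ x : X, φ x ∈ IntermediateField.adjoin ℚ ({Complex.exp (2 * Real.pi * Complex.I / m)} : Set ℂ)) :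
    ∀ x : X, (∃ k : ℕ, orderOf x = p ^ k) → Cfsg.detChar φ x = 1 := by
  have hm : 0 < m := Nat.pos_of_ne_zero (fun h => hpm (h ▸ dvd_zero p))
  exact det_pElement_core hp hp2 φ hφ m hpm
    (fun k hk hk1 => Cfsg.Agent.Lib.H12.NT.pow_eq_of_rational φ hφ m hm hrat k hk hk1)

end Cfsg.Agent.Lib.H9.NT
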