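import Cfsg.Agent.Lib.H9.NXCNTA
import Cfsg.Agent.Lib.H27.Co0NOrbit
import Cfsg.Agent.Lib.H27.GolayDual
import Cfsg.Agent.Lib.H28.M24Trans

/-!
S1572 step (3), piece (TRA): the stabiliser of `4 e_p + 4 e_q` in the monomial group is
transitive on the class `TA p q`.  Sigs: tools/blueprints/S1572_step3_sigs.lean (helper18).
-/

set_option autoImplicit false

namespace Cfsg.Agent.Lib.H9.NX

open Cfsg Finset Cfsg.Agent.Lib.H27 Cfsg.Agent.Lib.H28 Cfsg.Agent.Lib.H18.NX

theorem injective_triple {x y z : GolayPt} (h12 : x ≠ y) (h13 : x ≠ z) (h23 : y ≠ z) :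
    Function.Injective ![x, y, z] := by
  intro i k h
  fin_cases i <;> fin_cases k <;> simp_all

theorem vecA_swap (x y : GolayPt) (s t : ℤ) : vecA x y s t = vecA y x t s := by
  unfold vecA
  rw [add_comm]

/-- a permutation moves `vecA x y s t` to `vecA (σ x) (σ y) s t` -/
theorem permCo0_vecA (σ : Equiv.Perm GolayPt) (hσ : σ ∈ M24) (v : leechLattice) (x y : GolayPt)
    (s t : ℤ) (hv : (v : GolayPt → ℤ) = vecA x y s t) :
    ((permCo0 σ hσ • v : leechLattice) : GolayPt → ℤ) = vecA (σ x) (σ y) s t := by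
  funext k
  rw [permCo0_smul, hv, vecA_apply, vecA_apply]
  simp only [Equiv.symm_apply_eq]

/-- a sign change on a code word avoiding `x` -/
theorem signCo0_vecA (c : GolayPt → ZMod 2) (hc : c ∈ golayCode) (v : leechLattice)
    (x y : GolayPt) (s t : ℤ) (hv : (v : GolayPt → ℤ) = vecA x y s t) (hx : c x = 0) :
    ((signCo0 c hc • v : leechLattice) : GolayPt → ℤ) =
      vecA x y s (if c y ≠ 0 then -t else t) := by
  funext k
  rw [signCo0_smul, hv, vecA_apply, vecA_apply]
  have hks : k ∈ support₂ c ↔ c k ≠ 0 := mem_support₂_iff c k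
  by_cases hkx : k = x
  · have hn : k ∉ support₂ c := by rw [hks, hkx]; exact not_not.2 hx
    rw [if_neg hn]
    by_cases hky : k = y
    · have hcy : ¬ c y ≠ 0 := by rw [← hky, hkx]; exact not_not.2 hx
      rw [if_neg hcy]
    · rw [if_neg hky, if_neg hky]
  · by_cases hky : k = y
    · by_cases hcy : c y ≠ 0
      · have hm : k ∈ support₂ c := by rw [hks, hky]; exact hcy
        rw [if_pos hm, if_pos hcy, if_neg hkx, if_pos hky, if_pos hky]; ring
      · have hn : k ∉ support₂ c := by rw [hks, hky]; exact hcy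
        rw [if_neg hn, if_neg hcy]
    · rw [if_neg hkx, if_neg hky]
      split_ifs <;> simp

/-- the core: move `(4_a, 4_a')` to `(4_b, 4_b')` and `(4_a, t_j)` to `(4_b, t'_j')` -/
theorem exists_mono_move (a a' j b b' j' : GolayPt) (h1 : a ≠ a') (h2 : a ≠ j) (h3 : a' ≠ j)
    (h1' : b ≠ b') (h2' : b ≠ j') (h3' : b' ≠ j') (t t' : ℤ) (ht : t' = t ∨ t' = -t) :
    ∃ g : Co0, StabCross g ∧
      (∀ v : leechLattice, (v : GolayPt → ℤ) = vecA a a' 4 4 →
        ((g • v : leechLattice) : GolayPt → ℤ) = vecA b b' 4 4) ∧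
      (∀ v : leechLattice, (v : GolayPt → ℤ) = vecA a j 4 t →
        ((g • v : leechLattice) : GolayPt → ℤ) = vecA b j' 4 t') := by
  classical
  obtain ⟨σ, hσ, hmap⟩ := exists_M24_map (n := 3) (by norm_num) ![a, a', j] ![b, b', j']
    (injective_triple h1 h2 h3) (injective_triple h1' h2' h3')
  have ha : σ a = b := hmap 0
  have ha' : σ a' = b' := hmap 1
  have hj : σ j = j' := hmap 2
  -- the sign change
  obtain ⟨c, hc, hcT⟩ := golay_restrict_surj ({b, b', j'} : Finset GolayPt)
    (if t' = t then ∅ else {j'}) (by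
      split_ifs
      · exact Finset.empty_subset _
      · intro k hk
        rw [Finset.mem_singleton] at hk
        rw [hk]; simp) (by
      intro c hc hsub
      have hc0 : c = 0 := by
        apply eq_zero_of_card_lt hc
        have := Finset.card_le_card hsub
        have h3 : ({b, b', j'} : Finset GolayPt).card ≤ 3 := Finset.card_le_three
        omega
      rw [hc0]
      have : support₂ (0 : GolayPt → ZMod 2) = ∅ := by
        unfold support₂
        rw [Finset.filter_eq_empty_iff]
        intro k _ h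
        exact h rfl
      rw [this, Finset.empty_inter, Finset.card_empty]
      exact ⟨0, rfl⟩)
  have hcb : c b = 0 := by
    by_contra h
    have hmem : b ∈ support₂ c ∩ {b, b', j'} :=
      Finset.mem_inter.2 ⟨(mem_support₂_iff c b).2 h, by simp⟩
    rw [hcT] at hmem
    split_ifs at hmem with h0
    · simp at hmem
    · rw [Finset.mem_singleton] at hmem
      exact h2' hmem
  have hcb' : c b' = 0 := by
    by_contra h
    have hmem : b' ∈ support₂ c ∩ {b, b', j'} :=
      Finset.mem_inter.2 ⟨(mem_support₂_iff c b').2 h, by simp⟩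
    rw [hcT] at hmem
    split_ifs at hmem with h0
    · simp at hmem
    · rw [Finset.mem_singleton] at hmem
      exact h3' hmem
  have hcj : c j' ≠ 0 ↔ t' ≠ t := by
    constructor
    · intro h h0
      have hmem : j' ∈ support₂ c ∩ {b, b', j'} :=
        Finset.mem_inter.2 ⟨(mem_support₂_iff c j').2 h, by simp⟩
      rw [hcT, if_pos h0] at hmem
      simp at hmem
    · intro h
      have hmem : j' ∈ support₂ c ∩ {b, b', j'} := by
        rw [hcT, if_neg h]; simp
      exact (mem_support₂_iff c j').1 (Finset.mem_inter.1 hmem).1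
  refine ⟨signCo0 c hc * permCo0 σ hσ, stabCross_mul (signCo0_stab c hc) (permCo0_stab σ hσ),
    ?_, ?_⟩
  · intro v hv
    rw [mul_smul]
    have e1 := permCo0_vecA σ hσ v a a' 4 4 hv
    rw [ha, ha'] at e1
    rw [signCo0_vecA c hc _ b b' 4 4 e1 hcb, if_neg (not_not.2 hcb')]
  · intro v hv
    rw [mul_smul]
    have e1 := permCo0_vecA σ hσ v a j 4 t hv
    rw [ha, hj] at e1
    rw [signCo0_vecA c hc _ b j' 4 t e1 hcb]
    congr 1
    by_cases h0 : t' = t
    · rw [if_neg (fun h => (hcj.1 h) h0), h0]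
    · rw [if_pos (hcj.2 h0)]
      rcases ht with ht | ht
      · exact absurd ht h0
      · exact ht.symm

/-- (TRA) -/
theorem nvRel_TA (p q : GolayPt) (hpq : p ≠ q) {w w' : leechLattice} (hw : w ∈ TA p q)
    (hw' : w' ∈ TA p q) : NvRel p q hpq w w' := by
  rw [TA_eq_range p q hpq] at hw hw'
  obtain ⟨⟨b, ⟨j, hj1, hj2⟩, s⟩, rfl⟩ := hw
  obtain ⟨⟨b', ⟨j', hj1', hj2'⟩, s'⟩, rfl⟩ := hw'
  have hsign : ((if s' then (4 : ℤ) else -4) = (if s then (4 : ℤ) else -4)) ∨
      ((if s' then (4 : ℤ) else -4) = -(if s then (4 : ℤ) else -4)) := by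
    cases s <;> cases s' <;> simp
  have hne : ∀ (b : Bool) (j : GolayPt), j ≠ p → j ≠ q →
      (if b then p else q) ≠ (if b then q else p) ∧ (if b then p else q) ≠ j ∧
        (if b then q else p) ≠ j := by
    intro b j h1 h2
    cases b
    · exact ⟨hpq.symm, Ne.symm h2, Ne.symm h1⟩
    · exact ⟨hpq, Ne.symm h1, Ne.symm h2⟩
  obtain ⟨n1, n2, n3⟩ := hne b j hj1 hj2
  obtain ⟨n1', n2', n3'⟩ := hne b' j' hj1' hj2'
  obtain ⟨g, hg, hgv, hgw⟩ := exists_mono_move (if b then p else q) (if b then q else p) j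
    (if b' then p else q) (if b' then q else p) j' n1 n2 n3 n1' n2' n3'
    (if s then 4 else -4) (if s' then 4 else -4) hsign
  have hv : ∀ b : Bool, vecA p q 4 4 = vecA (if b then p else q) (if b then q else p) 4 4 := by
    intro b
    cases b
    · exact vecA_swap p q 4 4
    · rfl
  refine ⟨g, hg, ?_, ?_⟩
  · apply Subtype.ext
    rw [hgv (vPQ p q hpq) (hv b)]
    exact (hv b').symm
  · apply Subtype.ext
    rw [hgw (famA p q hpq ⟨b, ⟨j, hj1, hj2⟩, s⟩) rfl]
    rfl

end Cfsg.Agent.Lib.H9.NX
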