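import Cfsg.Agent.Lib.H9.NXTRA

/-!
S1572 step (3), piece (TRC): the stabiliser of `4 e_p + 4 e_q` in the monomial group is
transitive on the class `TC p q`.  Sigs: tools/blueprints/S1572_step3_sigs.lean (helper18).
-/

set_option autoImplicit false

namespace Cfsg.Agent.Lib.H9.NX

open Cfsg Finset Cfsg.Agent.Lib.H27 Cfsg.Agent.Lib.H28 Cfsg.Agent.Lib.H18.NX

/-- `nsign_fix_odd` of helper27 with the code word exposed. -/
theorem sign_fix_odd_code {v w : leechLattice}
    (habs : ∀ k, |(w : GolayPt → ℤ) k| = |(v : GolayPt → ℤ) k|)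
    (hodd : (v : GolayPt → ℤ) none % 2 = 1) :
    ∃ c ∈ golayCode, ∀ k, (w : GolayPt → ℤ) k =
      if k ∈ support₂ c then -(v : GolayPt → ℤ) k else (v : GolayPt → ℤ) k := by
  have hd : ((v - w : leechLattice) : GolayPt → ℤ) ∈ leechLattice := (v - w).2
  obtain ⟨m, c, hm, hc, h1, _⟩ := exists_leechDesc_normal hd
  have hvodd : ∀ k, (v : GolayPt → ℤ) k % 2 = 1 := fun k => by
    rw [leech_parity v.2 k none]; exact hodd
  have hm0 : m = 0 := by
    rcases hm with rfl | rfl
    · rfl
    · exfalso
      have h := h1 none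
      rw [AddSubgroup.coe_sub, Pi.sub_apply] at h
      have hv := hvodd none
      rcases eq_or_eq_neg_of_abs (habs none) with e | e <;> rw [e] at h <;>
        unfold Int.ModEq at h <;> omega
  subst hm0
  refine ⟨c, hc, ?_⟩
  intro k
  have h := h1 k
  rw [AddSubgroup.coe_sub, Pi.sub_apply] at h
  have hv := hvodd k
  have hck : c k = 0 ∨ c k = 1 := by
    have : ∀ b : ZMod 2, b = 0 ∨ b = 1 := by decide
    exact this _
  rcases hck with e0 | e1
  · rw [e0] at h
    rw [if_neg (fun hmem => (mem_support₂_iff c k).1 hmem e0)]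
    simp only [ZMod.val_zero, Nat.cast_zero, mul_zero, add_zero] at h
    rcases eq_or_eq_neg_of_abs (habs k) with e | e
    · exact e
    · exfalso
      rw [e] at h
      unfold Int.ModEq at h
      omega
  · rw [e1] at h
    rw [if_pos ((mem_support₂_iff c k).2 (by rw [e1]; decide))]
    have h1' : ((1 : ZMod 2).val : ℤ) = 1 := by decide
    rw [h1'] at h
    rcases eq_or_eq_neg_of_abs (habs k) with e | e
    · exfalso
      rw [e] at h
      unfold Int.ModEq at h
      omega
    · exact e

theorem injective_pair9 {x y : GolayPt} (h : x ≠ y) : Function.Injective ![x, y] := by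
  intro i k hik
  fin_cases i <;> fin_cases k <;> simp_all

/-- the shape of an element of `TC p q`: `3` at one of `p, q`, `1` at the other -/
theorem TC_shape (p q : GolayPt) (_hpq : p ≠ q) {w : leechLattice} (hw : w ∈ TC p q) :
    ∃ b : Bool, (w : GolayPt → ℤ) (if b then p else q) = 3 ∧
      (w : GolayPt → ℤ) (if b then q else p) = 1 ∧
      ∀ k, |(w : GolayPt → ℤ) k| = if k = (if b then p else q) then 3 else 1 := by
  obtain ⟨⟨i, habs⟩, hdot⟩ := hw
  rw [dotInt_comm_h9, dotInt_vecA] at hdot
  have hval : ∀ k, (w : GolayPt → ℤ) k = 3 ∨ (w : GolayPt → ℤ) k = -3 ∨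
      (w : GolayPt → ℤ) k = 1 ∨ (w : GolayPt → ℤ) k = -1 := by
    intro k
    have := habs k
    split_ifs at this
    · rcases abs_eq (by norm_num : (0 : ℤ) ≤ 3) |>.1 this with e | e
      · exact Or.inl e
      · exact Or.inr (Or.inl e)
    · rcases abs_eq (by norm_num : (0 : ℤ) ≤ 1) |>.1 this with e | e
      · exact Or.inr (Or.inr (Or.inl e))
      · exact Or.inr (Or.inr (Or.inr e))
  have hthree : ∀ k, ((w : GolayPt → ℤ) k = 3 ∨ (w : GolayPt → ℤ) k = -3) → k = i := by
    intro k hk
    by_contra hne
    have := habs k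
    rw [if_neg hne] at this
    rcases hk with e | e <;> rw [e] at this <;> norm_num at this
  rcases hval p with hp | hp | hp | hp <;> rcases hval q with hq | hq | hq | hq <;>
    try (exfalso; rw [hp, hq] at hdot; norm_num at hdot; done)
  · -- (3, 1)
    refine ⟨true, hp, hq, ?_⟩
    have hi : p = i := hthree p (Or.inl hp)
    intro k
    rw [habs k, hi]
    rfl
  · -- (1, 3)
    refine ⟨false, hq, hp, ?_⟩
    have hi : q = i := hthree q (Or.inl hq)
    intro k
    rw [habs k, hi]
    rfl

/-- (TRC) -/
theorem nvRel_TC (p q : GolayPt) (hpq : p ≠ q) {w w' : leechLattice} (hw : w ∈ TC p q)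
    (hw' : w' ∈ TC p q) : NvRel p q hpq w w' := by
  classical
  obtain ⟨b, h3, h1, habs⟩ := TC_shape p q hpq hw
  obtain ⟨b', h3', h1', habs'⟩ := TC_shape p q hpq hw'
  have hne : ∀ b : Bool, (if b then p else q) ≠ (if b then q else p) := by
    intro b; cases b
    · exact hpq.symm
    · exact hpq
  obtain ⟨σ, hσ, hmap⟩ := exists_M24_map (n := 2) (by norm_num)
    ![(if b then p else q), (if b then q else p)] ![(if b' then p else q), (if b' then q else p)]
    (injective_pair9 (hne b)) (injective_pair9 (hne b'))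
  have ha : σ (if b then p else q) = (if b' then p else q) := hmap 0
  have ha' : σ (if b then q else p) = (if b' then q else p) := hmap 1
  -- the permuted vector
  have hv1 : ∀ k, ((permCo0 σ hσ • w : leechLattice) : GolayPt → ℤ) k =
      (w : GolayPt → ℤ) (σ.symm k) := fun k => permCo0_smul σ hσ w k
  have hv1a : ((permCo0 σ hσ • w : leechLattice) : GolayPt → ℤ) (if b' then p else q) = 3 := by
    rw [hv1, ← ha, Equiv.symm_apply_apply, h3]
  have hv1a' : ((permCo0 σ hσ • w : leechLattice) : GolayPt → ℤ) (if b' then q else p) = 1 := by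
    rw [hv1, ← ha', Equiv.symm_apply_apply, h1]
  have hv1abs : ∀ k, |((permCo0 σ hσ • w : leechLattice) : GolayPt → ℤ) k| =
      if k = (if b' then p else q) then 3 else 1 := by
    intro k
    rw [hv1, habs]
    have : σ.symm k = (if b then p else q) ↔ k = (if b' then p else q) := by
      rw [Equiv.symm_apply_eq, ha]
    simp only [this]
  obtain ⟨c, hc, hcw⟩ := sign_fix_odd_code (v := permCo0 σ hσ • w) (w := w')
    (fun k => by rw [habs', hv1abs]) (by
      have h31 : |((permCo0 σ hσ • w : leechLattice) : GolayPt → ℤ) none| = 3 ∨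
          |((permCo0 σ hσ • w : leechLattice) : GolayPt → ℤ) none| = 1 := by
        rw [hv1abs none]
        by_cases h : none = (if b' then p else q)
        · left; rw [if_pos h]
        · right; rw [if_neg h]
      rcases h31 with h | h
      · rcases abs_eq (by norm_num : (0 : ℤ) ≤ 3) |>.1 h with e | e <;> rw [e] <;> norm_num
      · rcases abs_eq (by norm_num : (0 : ℤ) ≤ 1) |>.1 h with e | e <;> rw [e] <;> norm_num)
  have hca : c (if b' then p else q) = 0 := by
    by_contra h
    have := hcw (if b' then p else q)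
    rw [if_pos ((mem_support₂_iff c _).2 h), hv1a, h3'] at this
    norm_num at this
  have hca' : c (if b' then q else p) = 0 := by
    by_contra h
    have := hcw (if b' then q else p)
    rw [if_pos ((mem_support₂_iff c _).2 h), hv1a', h1'] at this
    norm_num at this
  have hv : ∀ b : Bool, vecA p q 4 4 = vecA (if b then p else q) (if b then q else p) 4 4 := by
    intro b
    cases b
    · exact vecA_swap p q 4 4
    · rfl
  refine ⟨signCo0 c hc * permCo0 σ hσ,
    stabCross_mul (signCo0_stab c hc) (permCo0_stab σ hσ), ?_, ?_⟩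
  · apply Subtype.ext
    rw [mul_smul]
    have e1 := permCo0_vecA σ hσ (vPQ p q hpq) _ _ 4 4 (hv b)
    rw [ha, ha'] at e1
    rw [signCo0_vecA c hc _ _ _ 4 4 e1 hca, if_neg (not_not.2 hca')]
    exact (hv b').symm
  · apply Subtype.ext
    rw [mul_smul]
    funext k
    rw [signCo0_smul, hcw k]

end Cfsg.Agent.Lib.H9.NX
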