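import Mathlib
import Cfsg.Prelude.Def_Characters
import Cfsg.Agent.Lib.L0.CharOps
import Cfsg.Agent.Lib.H24.CharBasic
import Cfsg.Agent.Lib.H5.Ord.SylPrime2

/-!
S0977 piece (O4) `invol_values`: values of an irreducible character at an involution `t` of `N_G(K)`,
`K` self-centralizing of order 5.  Exact signature of `tools/blueprints/S0977_sigs.lean`
(architect helper24).  `H = K ∪ tK` is a subgroup of order 10; `n₊ = ⟨χ|_H, 1⟩`, `n₋ = ⟨χ|_H, sgn⟩`.
-/

set_option autoImplicit false

namespace Cfsg.Agent.Lib.H9.O4320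

open Cfsg
open scoped BigOperators ComplexConjugate

universe u

section
variable {G : Type u} [Group G]

/-- the subgroup `K ∪ tK` for an involution `t` normalizing `K` -/
def dihSub (K : Subgroup G) (t : G) (htN : t ∈ Subgroup.normalizer (K : Set G)) (ht2 : t * t = 1) :
    Subgroup G where
  carrier := {g | g ∈ K ∨ t * g ∈ K}
  one_mem' := Or.inl K.one_mem
  mul_mem' := by
    intro a b ha hb
    have hcj : ∀ k ∈ K, t * k * t⁻¹ ∈ K := fun k hk => (Subgroup.mem_normalizer_iff.mp htN k).mp hk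
    rcases ha with ha | ha <;> rcases hb with hb | hb
    · exact Or.inl (K.mul_mem ha hb)
    · right
      have e : t * (a * b) = (t * a * t⁻¹) * (t * b) := by group
      show t * (a * b) ∈ K
      rw [e]
      exact K.mul_mem (hcj a ha) hb
    · right
      show t * (a * b) ∈ K
      rw [← mul_assoc]
      exact K.mul_mem ha hb
    · left
      have e : a * b = t * (t * a) * t⁻¹ * (t * b) := by
        have e1 : t * (t * a) * t⁻¹ * (t * b) = (t * t) * a * b := by group
        rw [e1, ht2, one_mul]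
      show a * b ∈ K
      rw [e]
      exact K.mul_mem (hcj _ ha) hb
  inv_mem' := by
    intro a ha
    have hcj : ∀ k ∈ K, t * k * t⁻¹ ∈ K := fun k hk => (Subgroup.mem_normalizer_iff.mp htN k).mp hk
    rcases ha with ha | ha
    · exact Or.inl (K.inv_mem ha)
    · right
      have e : t * a⁻¹ = t * (t * a)⁻¹ * t⁻¹ := by
        have e1 : t * (t * a)⁻¹ * t⁻¹ = t * a⁻¹ * (t * t)⁻¹ := by group
        rw [e1, ht2, inv_one, mul_one]
      show t * a⁻¹ ∈ K
      rw [e]
      exact hcj _ (K.inv_mem ha)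

theorem mem_dihSub {K : Subgroup G} {t : G} {htN : t ∈ Subgroup.normalizer (K : Set G)}
    {ht2 : t * t = 1} {g : G} : g ∈ dihSub K t htN ht2 ↔ g ∈ K ∨ t * g ∈ K := Iff.rfl

/-- the sign function of `K ∪ tK` -/
noncomputable def sgnFun (K : Subgroup G) (g : G) : ℂˣ := by
  classical exact if g ∈ K then 1 else -1

/-- the sign homomorphism of `K ∪ tK` with kernel `K` -/
noncomputable def sgnHom (K : Subgroup G) (t : G) (htN : t ∈ Subgroup.normalizer (K : Set G))
    (ht2 : t * t = 1) (htK : t ∉ K) : dihSub K t htN ht2 →* ℂˣ :=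
  MonoidHom.mk' (fun h => sgnFun K (h : G)) (by
    classical
    have hcj : ∀ k ∈ K, t * k * t⁻¹ ∈ K := fun k hk => (Subgroup.mem_normalizer_iff.mp htN k).mp hk
    -- an element of `tK` is not in `K`
    have hnot : ∀ g : G, t * g ∈ K → g ∉ K := by
      intro g hg hgK
      apply htK
      have : t = (t * g) * g⁻¹ := by group
      rw [this]
      exact K.mul_mem hg (K.inv_mem hgK)
    rintro ⟨a, ha⟩ ⟨b, hb⟩
    show sgnFun K (a * b) = sgnFun K a * sgnFun K b
    unfold sgnFun
    rcases ha with ha | ha <;> rcases hb with hb | hb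
    · rw [if_pos ha, if_pos hb, if_pos (K.mul_mem ha hb), one_mul]
    · have hab : a * b ∉ K := by
        intro h
        apply hnot b hb
        have : b = a⁻¹ * (a * b) := by group
        rw [this]
        exact K.mul_mem (K.inv_mem ha) h
      rw [if_pos ha, if_neg (hnot b hb), if_neg hab, one_mul]
    · have hab : a * b ∉ K := by
        intro h
        apply hnot a ha
        have : a = (a * b) * b⁻¹ := by group
        rw [this]
        exact K.mul_mem h (K.inv_mem hb)
      rw [if_neg (hnot a ha), if_pos hb, if_neg hab, mul_one]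
    · have hab : a * b ∈ K := by
        have e : a * b = t * (t * a) * t⁻¹ * (t * b) := by
          have e1 : t * (t * a) * t⁻¹ * (t * b) = (t * t) * a * b := by group
          rw [e1, ht2, one_mul]
        rw [e]
        exact K.mul_mem (hcj _ ha) hb
      rw [if_neg (hnot a ha), if_neg (hnot b hb), if_pos hab]
      simp)

end

section
variable {G : Type u} [Group G] [Fintype G]

open Classical in
/-- sums over a subgroup as indicator sums over the group -/
theorem sum_subgroup_eq (S : Subgroup G) [Fintype S] (F : G → ℂ) :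
    ∑ h : S, F h = ∑ g : G, if g ∈ S then F g else 0 := by
  classical
  rw [← Finset.sum_filter]
  exact (Finset.sum_subtype (Finset.univ.filter (· ∈ S)) (by simp) F).symm

open Classical in
theorem sum_indicator_const (K : Subgroup G) (c : ℂ) :
    (∑ g : G, if g ∈ K then c else 0) = (Nat.card K : ℂ) * c := by
  classical
  rw [← Finset.sum_filter, Finset.sum_const, nsmul_eq_mul, Nat.card_eq_fintype_card,
    Fintype.card_subtype]

open Classical in
/-- splitting a sum over `K ∪ tK` -/
theorem sum_dihSub (K : Subgroup G) (t : G) (htN : t ∈ Subgroup.normalizer (K : Set G))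
    (ht2 : t * t = 1) (htK : t ∉ K) [Fintype (dihSub K t htN ht2)] (F : G → ℂ) :
    ∑ h : dihSub K t htN ht2, F h =
      (∑ g : G, if g ∈ K then F g else 0) + ∑ g : G, if g ∈ K then F (t⁻¹ * g) else 0 := by
  classical
  have hnot : ∀ g : G, t * g ∈ K → g ∉ K := by
    intro g hg hgK
    apply htK
    have : t = (t * g) * g⁻¹ := by group
    rw [this]
    exact K.mul_mem hg (K.inv_mem hgK)
  rw [sum_subgroup_eq]
  have h2 : (∑ g : G, if g ∈ K then F (t⁻¹ * g) else 0) = ∑ g : G, if t * g ∈ K then F g else 0 := by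
    refine (Fintype.sum_equiv (Equiv.mulLeft t) _ _ fun g => ?_).symm
    simp
  rw [h2, ← Finset.sum_add_distrib]
  refine Finset.sum_congr rfl fun g _ => ?_
  by_cases h1 : g ∈ K
  · have h3 : t * g ∉ K := fun h => hnot g h h1
    rw [if_pos (mem_dihSub.2 (Or.inl h1)), if_pos h1, if_neg h3, add_zero]
  · by_cases h3 : t * g ∈ K
    · rw [if_pos (mem_dihSub.2 (Or.inr h3)), if_neg h1, if_pos h3, zero_add]
    · have : g ∉ dihSub K t htN ht2 := fun h => (mem_dihSub.1 h).elim h1 h3
      rw [if_neg this, if_neg h1, if_neg h3, add_zero]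

set_option maxHeartbeats 800000 in
set_option linter.unusedVariables false in
/-- (O4) values at an involution `t` of `N_G(K)`. -/
theorem invol_values (K : Subgroup G) (hK : Nat.card K = 5)
    (hC : Subgroup.centralizer (K : Set G) = K) {x : G} (hx : x ∈ K) (hx1 : x ≠ 1)
    (hconj : ∀ k ∈ K, k ≠ 1 → IsConj x k) {t : G} (htN : t ∈ Subgroup.normalizer (K : Set G))
    (ht : orderOf t = 2) (χ : IrrCharacter G) (d : ℕ) (hd : (χ : G → ℂ) 1 = d) (m : ℤ)
    (hm : (χ : G → ℂ) x = m) :
    ∃ np nm : ℕ, (5 : ℤ) * ((np : ℤ) + nm) = d + 4 * m ∧ (χ : G → ℂ) t = (np : ℂ) - nm := by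
  classical
  have ht2 : t * t = 1 := by
    have := pow_orderOf_eq_one t
    rwa [ht, pow_two] at this
  have htinv : t⁻¹ = t := inv_eq_of_mul_eq_one_right ht2
  have htK : t ∉ K := by
    intro h
    have h1 : orderOf (⟨t, h⟩ : K) ∣ Nat.card K := orderOf_dvd_natCard _
    rw [Subgroup.orderOf_mk, ht, hK] at h1
    omega
  have htC : t ∉ Subgroup.centralizer (K : Set G) := by
    rw [hC]
    exact htK
  have : Fact (Nat.Prime 5) := ⟨by norm_num⟩
  have hinv : ∀ k ∈ K, t * k * t⁻¹ = k⁻¹ :=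
    Cfsg.Agent.Lib.H5.SylPrime.conj_eq_inv_of_not_mem_centralizer (p := 5) K hK htN
      (by rw [ht2]; exact Subgroup.one_mem _) htC
  -- every element of `tK` is conjugate to `t`
  have hrefl : ∀ k ∈ K, (χ : G → ℂ) (t⁻¹ * k) = (χ : G → ℂ) t := by
    intro k hk
    have hk5 : k ^ 5 = 1 := by
      have h1 : orderOf (⟨k, hk⟩ : K) ∣ Nat.card K := orderOf_dvd_natCard _
      rw [Subgroup.orderOf_mk, hK] at h1
      exact orderOf_dvd_iff_pow_eq_one.mp h1
    set j : G := k ^ 3 with hj
    have hjK : j ∈ K := K.pow_mem hk 3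
    have hjj : j * j = k := by
      rw [hj, ← pow_add]
      calc k ^ (3 + 3) = k ^ 5 * k := by rw [← pow_succ]
        _ = k := by rw [hk5, one_mul]
    have h5 : t * j * t⁻¹ = j⁻¹ := hinv j hjK
    have h6 : t * k * t⁻¹ = k⁻¹ := hinv k hk
    have e1 : t * k = k⁻¹ * t := by
      rw [← h6]
      group
    have e2 : j⁻¹ * t * j = k⁻¹ * t := by
      have e3 : j⁻¹ * t * j = j⁻¹ * (t * j * t⁻¹) * t := by group
      rw [e3, h5, ← hjj]
      group
    rw [htinv, e1, ← e2]
    have e4 := Cfsg.Agent.Lib.H24.irr_conj χ t j⁻¹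
    rw [inv_inv] at e4
    exact e4
  -- the subgroup `H = K ∪ tK`
  let _ : Fintype (dihSub K t htN ht2) := Fintype.ofFinite _
  have hsumK : (∑ g : G, if g ∈ K then (χ : G → ℂ) g else 0) = (d : ℂ) + 4 * (m : ℂ) := by
    have h1 : ∀ g : G, (if g ∈ K then (χ : G → ℂ) g else 0) =
        (if g ∈ K then (m : ℂ) else 0) + (if g = 1 then ((d : ℂ) - m) else 0) := by
      intro g
      by_cases hg : g ∈ K
      · by_cases hg1 : g = 1
        · rw [if_pos hg, if_pos hg, if_pos hg1, hg1, hd]
          ring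
        · rw [if_pos hg, if_pos hg, if_neg hg1, add_zero, ← hm]
          exact (Cfsg.Agent.Lib.H24.irr_eq_of_isConj χ (hconj g hg hg1)).symm
      · have hg1 : g ≠ 1 := fun h => hg (h ▸ K.one_mem)
        rw [if_neg hg, if_neg hg, if_neg hg1, add_zero]
    rw [Finset.sum_congr rfl (fun g _ => h1 g), Finset.sum_add_distrib, sum_indicator_const, hK,
      Finset.sum_ite_eq' Finset.univ (1 : G) (fun _ => (d : ℂ) - m), if_pos (Finset.mem_univ _)]
    push_cast
    ring
  have hsumT : (∑ g : G, if g ∈ K then (χ : G → ℂ) (t⁻¹ * g) else 0) = 5 * (χ : G → ℂ) t := by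
    have h1 : ∀ g : G, (if g ∈ K then (χ : G → ℂ) (t⁻¹ * g) else 0) =
        (if g ∈ K then (χ : G → ℂ) t else 0) := by
      intro g
      by_cases hg : g ∈ K
      · rw [if_pos hg, if_pos hg, hrefl g hg]
      · rw [if_neg hg, if_neg hg]
    rw [Finset.sum_congr rfl (fun g _ => h1 g), sum_indicator_const, hK]
    push_cast
    ring
  have hcardH : (Nat.card (dihSub K t htN ht2) : ℂ) = 10 := by
    have h1 := sum_dihSub K t htN ht2 htK (fun _ => (1 : ℂ))
    rw [sum_indicator_const, hK] at h1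
    have h2 : (∑ _h : dihSub K t htN ht2, (1 : ℂ)) = (Nat.card (dihSub K t htN ht2) : ℂ) := by
      simp [Nat.card_eq_fintype_card]
    rw [← h2, h1]
    push_cast
    norm_num
  have hχH : IsCharacter (dihSub K t htN ht2) (fun h : dihSub K t htN ht2 => (χ : G → ℂ) h) :=
    Cfsg.Agent.Lib.L0.isCharacter_restrict _ (Cfsg.Agent.Lib.L0.isCharacter_of_irr χ.2)
  obtain ⟨np, hnp⟩ := Cfsg.Agent.Lib.L0.classInner_char_irr_nat hχH
    (Cfsg.Agent.Lib.L0.isIrrCharacter_one (G := dihSub K t htN ht2))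
  obtain ⟨nm, hnm⟩ := Cfsg.Agent.Lib.L0.classInner_char_irr_nat hχH
    (Cfsg.Agent.Lib.L0.isIrrCharacter_of_hom (sgnHom K t htN ht2 htK))
  unfold classInner at hnp hnm
  rw [hcardH] at hnp hnm
  have hs1 : (∑ h : dihSub K t htN ht2, (χ : G → ℂ) h * conj ((1 : dihSub K t htN ht2 → ℂ) h)) =
      (d : ℂ) + 4 * m + 5 * (χ : G → ℂ) t := by
    have h1 := sum_dihSub K t htN ht2 htK (fun g => (χ : G → ℂ) g)
    simp only [Pi.one_apply, map_one, mul_one]
    rw [h1, hsumK, hsumT]
  have hs2 : (∑ h : dihSub K t htN ht2,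
      (χ : G → ℂ) h * conj (((sgnHom K t htN ht2 htK h : ℂˣ) : ℂ))) =
      (d : ℂ) + 4 * m - 5 * (χ : G → ℂ) t := by
    have h1 := sum_dihSub K t htN ht2 htK
      (fun g => (χ : G → ℂ) g * conj (((sgnFun K g : ℂˣ) : ℂ)))
    have h0 : (∑ h : dihSub K t htN ht2,
        (χ : G → ℂ) h * conj (((sgnHom K t htN ht2 htK h : ℂˣ) : ℂ))) =
        ∑ h : dihSub K t htN ht2,
          (fun g => (χ : G → ℂ) g * conj (((sgnFun K g : ℂˣ) : ℂ))) (h : G) := rfl
    rw [h0, h1]
    have hA : (∑ g : G, if g ∈ K then (χ : G → ℂ) g * conj (((sgnFun K g : ℂˣ) : ℂ)) else 0) =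
        ∑ g : G, if g ∈ K then (χ : G → ℂ) g else 0 := by
      refine Finset.sum_congr rfl fun g _ => ?_
      by_cases hg : g ∈ K
      · rw [if_pos hg, if_pos hg]
        unfold sgnFun
        rw [if_pos hg]
        simp
      · rw [if_neg hg, if_neg hg]
    have hB : (∑ g : G, if g ∈ K then
        (χ : G → ℂ) (t⁻¹ * g) * conj (((sgnFun K (t⁻¹ * g) : ℂˣ) : ℂ)) else 0) =
        ∑ g : G, if g ∈ K then -(χ : G → ℂ) (t⁻¹ * g) else 0 := by
      refine Finset.sum_congr rfl fun g _ => ?_
      by_cases hg : g ∈ K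
      · have hng : t⁻¹ * g ∉ K := by
          intro h
          apply htK
          have e : t = g * (t⁻¹ * g)⁻¹ := by group
          rw [e]
          exact K.mul_mem hg (K.inv_mem h)
        rw [if_pos hg, if_pos hg]
        unfold sgnFun
        rw [if_neg hng]
        simp
      · rw [if_neg hg, if_neg hg]
    rw [hA, hB, hsumK]
    have hC' : (∑ g : G, if g ∈ K then -(χ : G → ℂ) (t⁻¹ * g) else 0) =
        -∑ g : G, if g ∈ K then (χ : G → ℂ) (t⁻¹ * g) else 0 := by
      rw [← Finset.sum_neg_distrib]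
      refine Finset.sum_congr rfl fun g _ => ?_
      by_cases hg : g ∈ K
      · rw [if_pos hg, if_pos hg]
      · rw [if_neg hg, if_neg hg, neg_zero]
    rw [hC', hsumT]
    ring
  rw [hs1] at hnp
  rw [hs2] at hnm
  refine ⟨np, nm, ?_, ?_⟩
  · have hc : (5 : ℂ) * ((np : ℂ) + nm) = (d : ℂ) + 4 * (m : ℂ) := by
      rw [← hnp, ← hnm]
      ring
    exact_mod_cast hc
  · rw [← hnp, ← hnm]
    ring

end

end Cfsg.Agent.Lib.H9.O4320
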