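import Mathlib
import Cfsg.Agent.Lib.H5.Ord.NCInv
import Cfsg.Agent.Lib.H5.Ord.NCStruct
import Cfsg.Agent.Lib.H5.Ord.Ord1440a

/-!
# S0978 farm-out (helper22), lemma L4, general tools (helper9)
-/

set_option autoImplicit false

namespace Cfsg.Agent.Lib.H9.O5040

open Subgroup MulAction Cfsg.Agent.Lib.H5 Cfsg.Agent.Lib.H5.SylPrime

variable {G : Type*} [Group G]

/-- an element commuting with a non-identity element of a subgroup of prime order centralizes it -/
theorem mem_centralizer_of_commute_gen {p : ℕ} [Fact p.Prime] (P : Subgroup G)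
    (hP : Nat.card P = p) {x c : G} (hx : x ∈ P) (hx1 : x ≠ 1) (hc : c * x = x * c) :
    c ∈ centralizer (P : Set G) := by
  rw [mem_centralizer_iff]
  intro z hz
  have hne : (⟨x, hx⟩ : P) ≠ 1 := by
    intro h
    exact hx1 (congrArg Subtype.val h)
  have hmem : (⟨z, hz⟩ : P) ∈ zpowers (⟨x, hx⟩ : P) := mem_zpowers_of_prime_card hP hne
  obtain ⟨k, hk⟩ := mem_zpowers_iff.mp hmem
  have hz' : z = x ^ k := by
    have := congrArg Subtype.val hk
    simpa using this.symm
  rw [hz']
  have hcomm : Commute c x := hc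
  exact ((hcomm.zpow_right k).eq).symm

/-- `C(P)` is normal in `N(P)` -/
theorem normal_centralizer_subgroupOf (P : Subgroup G) :
    ((centralizer (P : Set G)).subgroupOf (normalizer (P : Set G))).Normal := by
  refine ⟨fun c hc g => ?_⟩
  rw [mem_subgroupOf] at hc ⊢
  have := conj_mem_centralizer_of_mem_normalizer P g.2 hc
  simpa using this

/-- `g ^ |N(P) : C(P)| ∈ C(P)` for `g ∈ N(P)` -/
theorem pow_relIndex_mem_centralizer (P : Subgroup G) {g : G} (hg : g ∈ normalizer (P : Set G)) :
    g ^ (centralizer (P : Set G)).relIndex (normalizer (P : Set G)) ∈ centralizer (P : Set G) := by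
  have hn := normal_centralizer_subgroupOf P
  have h := Subgroup.pow_index_mem ((centralizer (P : Set G)).subgroupOf (normalizer (P : Set G)))
    (⟨g, hg⟩ : normalizer (P : Set G))
  rw [mem_subgroupOf] at h
  simpa [relIndex] using h

/-- two involutions of an abelian subgroup whose order is not divisible by four coincide -/
theorem involution_unique {C : Subgroup G} [Finite G]
    (hcomm : ∀ a ∈ C, ∀ b ∈ C, a * b = b * a) (h4 : ¬ 4 ∣ Nat.card C) {s t : G} (hs : s ∈ C)
    (ht : t ∈ C) (hs2 : s * s = 1) (ht2 : t * t = 1) (hs1 : s ≠ 1) (ht1 : t ≠ 1) : s = t := by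
  obtain ⟨j, hj, hjd⟩ := card_invSub C hcomm
  have hj1 : j ≤ 1 := by
    by_contra h
    push Not at h
    apply h4
    exact (pow_dvd_pow 2 h).trans hjd
  have hle : Nat.card (invSub C hcomm) ≤ 2 := by
    rw [hj]
    calc 2 ^ j ≤ 2 ^ 1 := Nat.pow_le_pow_right (by norm_num) hj1
      _ = 2 := by norm_num
  by_contra hst
  have hsub : ({1, s, t} : Set G) ⊆ (invSub C hcomm : Set G) := by
    intro z hz
    simp only [Set.mem_insert_iff, Set.mem_singleton_iff] at hz
    rcases hz with rfl | rfl | rfl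
    · exact (invSub C hcomm).one_mem
    · exact ⟨hs, hs2⟩
    · exact ⟨ht, ht2⟩
  have h3 : ({1, s, t} : Set G).ncard = 3 := by
    rw [Set.ncard_eq_three]
    exact ⟨1, s, t, fun h => hs1 h.symm, fun h => ht1 h.symm, hst, rfl⟩
  have hle' := Set.ncard_le_ncard hsub (Set.toFinite _)
  have hcard : ((invSub C hcomm : Subgroup G) : Set G).ncard = Nat.card (invSub C hcomm) := by
    rw [← Nat.card_coe_set_eq]; rfl
  omega

end Cfsg.Agent.Lib.H9.O5040
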