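import Mathlib
import Cfsg.Agent.Lib.H9.O5040L4a
import Cfsg.Agent.Lib.H22.O5040B

/-!
# S0978 farm-out (helper22), lemma L4, the case `|C(P)| = 14` (helper9)
-/

set_option autoImplicit false

namespace Cfsg.Agent.Lib.H9.O5040

open Subgroup MulAction Cfsg.Agent.Lib.H5 Cfsg.Agent.Lib.H5.SylPrime

variable {G : Type*} [Group G] [Finite G]

set_option linter.unusedSectionVars false

theorem case14 [IsSimpleGroup G] (hG : Nat.card G = 5040) [Fact (Nat.Prime 7)] (P : Sylow 7 G)
    (hPcard : Nat.card (P : Subgroup G) = 7)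
    (hNcard : Nat.card (normalizer ((P : Subgroup G) : Set G)) = 42)
    (hNidx : (normalizer ((P : Subgroup G) : Set G)).index = 120)
    (hCcard : Nat.card (centralizer ((P : Subgroup G) : Set G)) = 14)
    (hrel : (centralizer ((P : Subgroup G) : Set G)).relIndex
      (normalizer ((P : Subgroup G) : Set G)) = 3) : False := by
  have : Fact (Nat.Prime 2) := ⟨Nat.prime_two⟩
  set N := normalizer ((P : Subgroup G) : Set G) with hN
  set C := centralizer ((P : Subgroup G) : Set G) with hC
  have hCN : C ≤ N := centralizer_le_normalizer _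
  have hG2 : 2 < Nat.card G := by rw [hG]; norm_num
  have hNtop : N ≠ ⊤ := by
    intro h
    rw [h, Subgroup.index_top] at hNidx
    omega
  have hcomm : ∀ a ∈ C, ∀ b ∈ C, a * b = b * a :=
    centralizer_comm_of_card (p := 7) (q := 2) (j := 1) (P : Subgroup G) hPcard (by norm_num)
      (by norm_num) (by rw [hCcard]; norm_num)
  have h4C : ¬ 4 ∣ Nat.card C := by rw [hCcard]; norm_num
  -- the involution `t` of `C`
  obtain ⟨t0, ht0⟩ := exists_prime_orderOf_dvd_card' (G := C) 2 (by rw [hCcard]; norm_num)
  have htC : (t0 : G) ∈ C := t0.2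
  have ht : orderOf (t0 : G) = 2 := by rw [Subgroup.orderOf_coe]; exact ht0
  generalize (t0 : G) = t at htC ht
  have htN : t ∈ N := hCN htC
  have htt : t * t = 1 := by rw [← pow_two, ← ht, pow_orderOf_eq_one]
  have ht1 : t ≠ 1 := by
    intro h; rw [h, orderOf_one] at ht; omega
  -- every involution of `N` is `t`
  have huniq : ∀ g : G, g ∈ N → g * g = 1 → g ≠ 1 → g = t := by
    intro g hgN hgg hg1
    have hgC : g ∈ C := by
      have h3 := pow_relIndex_mem_centralizer (P : Subgroup G) hgN
      rw [← hC, ← hN, hrel] at h3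
      have : g ^ 3 = g := by
        rw [pow_succ, pow_two, hgg, one_mul]
      rwa [this] at h3
    exact involution_unique hcomm h4C hgC htC hgg htt hg1 ht1
  -- `t^G ∩ N = {t}`
  have hc1 : Nat.card {g : G // IsConj t g ∧ g ∈ N} = 1 := by
    rw [Nat.card_eq_one_iff_unique]
    refine ⟨⟨?_⟩, ⟨⟨t, IsConj.refl t, htN⟩⟩⟩
    rintro ⟨a, ha1, ha2⟩ ⟨b, hb1, hb2⟩
    apply Subtype.ext
    show a = b
    have ha := orderOf_eq_two_of_isConj ht ha1
    have hb := orderOf_eq_two_of_isConj ht hb1
    rw [huniq a ha2 ha.1 ha.2, huniq b hb2 hb.1 hb.2]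
  have key := card_fixedBy_mul_card N htN
  rw [hNcard, hc1, mul_one] at key
  -- fixed points of `t` on `G ⧸ N`
  have h7 := card_fixedBy_modEq_one 7 P hPcard htC
  have h4 := four_dvd_index_sub_card_fixedBy hG2 N ht
  have hle := card_fixedBy_le_index N t
  have hne : Nat.card (fixedBy (G ⧸ N) t) ≠ 120 := by
    intro h
    exact ht1 (eq_one_of_card_fixedBy_eq N hNtop (h.trans hNidx.symm))
  rw [hNidx] at h4 hle
  rw [← hN] at h7
  unfold Nat.ModEq at h7
  have hdvd : Nat.card (centralizer ({t} : Set G)) ∣ 5040 := by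
    rw [← hG]; exact Subgroup.card_subgroup_dvd_card _
  have hM : Nat.card (centralizer ({t} : Set G)) = 336 := by
    rw [← key] at hdvd ⊢
    generalize Nat.card (fixedBy (G ⧸ N) t) = f at *
    have hf : f = 8 := by
      obtain ⟨j, hj⟩ := hdvd
      have hfj : f * j = 120 := by
        have : 42 * (f * j) = 42 * 120 := by
          calc 42 * (f * j) = f * 42 * j := by ring
            _ = 5040 := hj.symm
        exact Nat.eq_of_mul_eq_mul_left (by norm_num) this
      have hf120 : f ≤ 120 := hle
      obtain ⟨k, hk⟩ := h4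
      interval_cases f <;> omega
    rw [hf]
  -- `M = C(t)` has index 15
  set M := centralizer ({t} : Set G) with hMdef
  have hMidx : M.index = 15 := by
    have := M.card_mul_index
    rw [hM, hG] at this
    omega
  have hMtop : M ≠ ⊤ := by
    intro h
    rw [h, Subgroup.index_top] at hMidx
    omega
  have htM : t ∈ M := by
    rw [hMdef, mem_centralizer_iff]
    intro z hz
    rw [Set.mem_singleton_iff] at hz
    rw [hz]
  -- an element `x` of order 7 in `P`
  obtain ⟨x0, hx0⟩ := exists_prime_orderOf_dvd_card' (G := (P : Subgroup G)) 7 (by rw [hPcard])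
  have hxP : (x0 : G) ∈ (P : Subgroup G) := x0.2
  have hx : orderOf (x0 : G) = 7 := by rw [Subgroup.orderOf_coe]; exact hx0
  generalize (x0 : G) = x at hxP hx
  have hx1 : x ≠ 1 := by
    intro h; rw [h, orderOf_one] at hx; omega
  have hxt : Commute x t := by
    have := (mem_centralizer_iff.mp htC) x hxP
    exact this
  -- `x` fixes only the coset `M`
  have hfix : fixedBy (G ⧸ M) x = {((1 : G) : G ⧸ M)} := by
    ext ω
    rw [Set.mem_singleton_iff, mem_fixedBy]
    constructor
    · intro hω
      obtain ⟨g, rfl⟩ := QuotientGroup.mk_surjective ω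
      have h1 := Cfsg.Agent.Lib.H22.O5040.conj_mem_of_smul_eq M hω
      -- `g⁻¹ x g` commutes with `t`
      have h2 : t * (g⁻¹ * x * g) = (g⁻¹ * x * g) * t :=
        (mem_centralizer_iff.mp h1) t (Set.mem_singleton t)
      -- so `x` commutes with `g t g⁻¹`
      have h3 : (g * t * g⁻¹) * x = x * (g * t * g⁻¹) := by
        calc (g * t * g⁻¹) * x = g * (t * (g⁻¹ * x * g)) * g⁻¹ := by group
          _ = g * ((g⁻¹ * x * g) * t) * g⁻¹ := by rw [h2]
          _ = x * (g * t * g⁻¹) := by group
      have h4' : g * t * g⁻¹ ∈ C := mem_centralizer_of_commute_gen (P : Subgroup G) hPcard hxP hx1 h3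
      have h5 : (g * t * g⁻¹) * (g * t * g⁻¹) = 1 := by
        calc (g * t * g⁻¹) * (g * t * g⁻¹) = g * (t * t) * g⁻¹ := by group
          _ = 1 := by rw [htt]; group
      have h6 : g * t * g⁻¹ ≠ 1 := by
        intro h
        apply ht1
        calc t = g⁻¹ * (g * t * g⁻¹) * g := by group
          _ = 1 := by rw [h]; group
      have h7' : g * t * g⁻¹ = t := involution_unique hcomm h4C h4' htC h5 htt h6 ht1
      -- hence `g ∈ M`
      have hgM : g ∈ M := by
        rw [hMdef, mem_centralizer_iff]
        intro z hz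
        rw [Set.mem_singleton_iff] at hz
        rw [hz]
        calc t * g = (g * t * g⁻¹) * g := by rw [h7']
          _ = g * t := by group
      rw [QuotientGroup.eq]
      simpa using hgM
    · intro hω
      rw [hω, MulAction.Quotient.smul_mk, smul_eq_mul, mul_one, QuotientGroup.eq]
      have hxM : x ∈ M := by
        rw [hMdef, mem_centralizer_iff]
        intro z hz
        rw [Set.mem_singleton_iff] at hz
        rw [hz]
        exact hxt.eq.symm
      simpa using M.inv_mem hxM
  -- fixed points of `t` on `G ⧸ M`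
  have g7 := card_fixedBy_modEq_one_of_commute (Ω := G ⧸ M) hx hxt hfix
  have g4 := four_dvd_index_sub_card_fixedBy hG2 M ht
  have gle := card_fixedBy_le_index M t
  have gne : Nat.card (fixedBy (G ⧸ M) t) ≠ 15 := by
    intro h
    exact ht1 (eq_one_of_card_fixedBy_eq M hMtop (h.trans hMidx.symm))
  rw [hMidx] at g4 gle
  unfold Nat.ModEq at g7
  generalize Nat.card (fixedBy (G ⧸ M) t) = f at *
  obtain ⟨k, hk⟩ := g4
  interval_cases f <;> omega

end Cfsg.Agent.Lib.H9.O5040
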