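import Mathlib
import Cfsg.Agent.Lib.H9.O5040L4a
import Cfsg.Agent.Lib.H5.EmbedAlt
import Cfsg.Agent.S4304

/-!
# S0978 farm-out (helper22), lemma L4, the case `|C(P)| = 21` (helper9)
-/

set_option autoImplicit false

namespace Cfsg.Agent.Lib.H9.O5040

open Subgroup MulAction Cfsg.Agent.Lib.H5 Cfsg.Agent.Lib.H5.SylPrime

variable {G : Type*} [Group G] [Finite G]

set_option linter.unusedSectionVars false

/-- In an abelian subgroup `C` of order not divisible by `9`, at most `3` elements have cube `1`. -/
theorem card_cube_le_three {C : Subgroup G} (hcomm : ∀ a ∈ C, ∀ b ∈ C, a * b = b * a)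
    (h9 : ¬ 9 ∣ Nat.card C) : ({x : G | x ∈ C ∧ x ^ 3 = 1} : Set G).ncard ≤ 3 := by
  let T : Subgroup G :=
    { carrier := {x : G | x ∈ C ∧ x ^ 3 = 1}
      mul_mem' := by
        rintro a b ⟨ha, ha3⟩ ⟨hb, hb3⟩
        refine ⟨C.mul_mem ha hb, ?_⟩
        have hab : Commute a b := hcomm a ha b hb
        rw [hab.mul_pow, ha3, hb3, one_mul]
      one_mem' := ⟨C.one_mem, one_pow 3⟩
      inv_mem' := by
        rintro a ⟨ha, ha3⟩
        exact ⟨C.inv_mem ha, by rw [inv_pow, ha3, inv_one]⟩ }
  have hTC : T ≤ C := fun x hx => hx.1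
  have hT3 : IsPGroup 3 T := by
    intro x
    refine ⟨1, ?_⟩
    apply Subtype.ext
    rw [pow_one, SubgroupClass.coe_pow, Subgroup.coe_one]
    exact x.2.2
  have : Fact (Nat.Prime 3) := ⟨by norm_num⟩
  obtain ⟨k, hk⟩ := IsPGroup.iff_card.mp hT3
  have hdvd : Nat.card T ∣ Nat.card C := Subgroup.card_dvd_of_le hTC
  have hle : Nat.card T ≤ 3 := by
    rw [hk] at hdvd ⊢
    have hk1 : k ≤ 1 := by
      by_contra h
      push Not at h
      apply h9
      have h9' : 3 ^ 2 ∣ 3 ^ k := pow_dvd_pow 3 h
      exact h9'.trans hdvd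
    calc 3 ^ k ≤ 3 ^ 1 := Nat.pow_le_pow_right (by norm_num) hk1
      _ = 3 := by norm_num
  have : ({x : G | x ∈ C ∧ x ^ 3 = 1} : Set G).ncard = Nat.card T := by
    rw [← Nat.card_coe_set_eq]
    rfl
  rw [this]
  exact hle

/-- a subgroup of order `315` normalizes each of its subgroups of order `7` -/
theorem le_normalizer_of_card_315 [Fact (Nat.Prime 7)] {H B : Subgroup G} (hBH : B ≤ H)
    (hB : Nat.card B = 7) (hH : Nat.card H = 315) : H ≤ normalizer (B : Set G) := by
  have hBp : IsPGroup 7 (B.subgroupOf H) := by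
    apply IsPGroup.of_card (n := 1)
    rw [pow_one, Nat.card_congr (Subgroup.subgroupOfEquivOfLe hBH).toEquiv, hB]
  obtain ⟨R, hR⟩ := hBp.exists_le_sylow
  obtain ⟨hRcard, hRidx⟩ := sylow_card_and_index R (k := 1) (m := 45) (by rw [hH]; norm_num) (by norm_num)
  rw [pow_one] at hRcard
  have h1 : Nat.card (Sylow 7 H) = 1 := by
    have hd : Nat.card (Sylow 7 H) ∣ 45 := by rw [← hRidx]; exact Sylow.card_dvd_index R
    have hm := card_sylow_modEq_one 7 H
    unfold Nat.ModEq at hm
    have h15 : Nat.card (Sylow 7 H) ≠ 15 := Cfsg.Agent.S4304.result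
    have hle : Nat.card (Sylow 7 H) ≤ 45 := Nat.le_of_dvd (by norm_num) hd
    obtain ⟨j, hj⟩ := hd
    generalize Nat.card (Sylow 7 H) = d at *
    interval_cases d <;> omega
  have hsub : Subsingleton (Sylow 7 H) := (Nat.card_eq_one_iff_unique.mp h1).1
  have hnR : (R : Subgroup H).Normal := Sylow.normal_of_subsingleton R
  have heq : B.subgroupOf H = (R : Subgroup H) :=
    Subgroup.eq_of_le_of_card_ge hR (by
      rw [hRcard, Nat.card_congr (Subgroup.subgroupOfEquivOfLe hBH).toEquiv, hB])
  rw [← heq] at hnR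
  exact (Subgroup.normal_subgroupOf_iff_le_normalizer hBH).mp hnR

theorem case21 [IsSimpleGroup G] (hG : Nat.card G = 5040) [Fact (Nat.Prime 7)] (P : Sylow 7 G)
    (hPcard : Nat.card (P : Subgroup G) = 7)
    (hNcard : Nat.card (normalizer ((P : Subgroup G) : Set G)) = 42)
    (hNidx : (normalizer ((P : Subgroup G) : Set G)).index = 120)
    (hCcard : Nat.card (centralizer ((P : Subgroup G) : Set G)) = 21)
    (hrel : (centralizer ((P : Subgroup G) : Set G)).relIndex
      (normalizer ((P : Subgroup G) : Set G)) = 2) : False := by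
  have : Fact (Nat.Prime 3) := ⟨by norm_num⟩
  set N := normalizer ((P : Subgroup G) : Set G) with hN
  set C := centralizer ((P : Subgroup G) : Set G) with hC
  have hCN : C ≤ N := centralizer_le_normalizer _
  have hNtop : N ≠ ⊤ := by
    intro h
    rw [h, Subgroup.index_top] at hNidx
    omega
  have hnc : ¬ IsMulCommutative G :=
    not_isMulCommutative_of_card_not_prime (by rw [hG]; norm_num)
  have hcomm : ∀ a ∈ C, ∀ b ∈ C, a * b = b * a :=
    centralizer_comm_of_card (p := 7) (q := 3) (j := 1) (P : Subgroup G) hPcard (by norm_num)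
      (by norm_num) (by rw [hCcard]; norm_num)
  have h9C : ¬ 9 ∣ Nat.card C := by rw [hCcard]; norm_num
  -- an element `y` of order 3 in `C`
  obtain ⟨y0, hy0⟩ := exists_prime_orderOf_dvd_card' (G := C) 3 (by rw [hCcard]; norm_num)
  have hyC : (y0 : G) ∈ C := y0.2
  have hy : orderOf (y0 : G) = 3 := by rw [Subgroup.orderOf_coe]; exact hy0
  generalize (y0 : G) = y at hyC hy
  have hyN : y ∈ N := hCN hyC
  have hy1 : y ≠ 1 := by
    intro h; rw [h, orderOf_one] at hy; omega
  -- fixed points of `y`
  have h7 := card_fixedBy_modEq_one 7 P hPcard hyC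
  have h3 := card_modEq_card_fixedBy (Ω := G ⧸ N) (r := 3) (k := 1) (y := y)
    (by rw [pow_one]; exact hy)
  have hle := card_fixedBy_le_index N y
  have hne : Nat.card (fixedBy (G ⧸ N) y) ≠ 120 := by
    intro h
    exact hy1 (eq_one_of_card_fixedBy_eq N hNtop (h.trans hNidx.symm))
  rw [← Subgroup.index_eq_card, hNidx] at h3
  rw [hNidx] at hle
  rw [← hN] at h7
  unfold Nat.ModEq at h3 h7
  -- conjugates of `y` in `N`
  have hc2 : Nat.card {g : G // IsConj y g ∧ g ∈ N} ≤ 2 := by
    have h1 : Nat.card {g : G // IsConj y g ∧ g ∈ N} =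
        ({g : G | IsConj y g ∧ g ∈ N} : Set G).ncard := Nat.card_coe_set_eq _
    rw [h1]
    have hnot : (1 : G) ∉ ({g : G | IsConj y g ∧ g ∈ N} : Set G) := by
      rintro ⟨hconj, _⟩
      apply hy1
      obtain ⟨c, hc⟩ := isConj_iff.mp hconj
      calc y = c⁻¹ * (c * y * c⁻¹) * c := by group
        _ = 1 := by rw [hc]; group
    have hsub : insert (1 : G) ({g : G | IsConj y g ∧ g ∈ N} : Set G) ⊆
        ({x : G | x ∈ C ∧ x ^ 3 = 1} : Set G) := by
      intro g hg
      rcases Set.mem_insert_iff.mp hg with rfl | ⟨hconj, hgN⟩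
      · exact ⟨C.one_mem, one_pow 3⟩
      · obtain ⟨c, hc⟩ := isConj_iff.mp hconj
        have hg : orderOf g = 3 := by
          rw [← hc, ← hy]
          have := (MulAut.conj c).orderOf_eq y
          rwa [MulAut.conj_apply] at this
        have hg3 : g ^ 3 = 1 := by rw [← hg, pow_orderOf_eq_one]
        refine ⟨?_, hg3⟩
        have hsq := pow_relIndex_mem_centralizer (P : Subgroup G) hgN
        rw [← hC, ← hN, hrel] at hsq
        have : g = (g ^ 2)⁻¹ := by
          rw [eq_inv_iff_mul_eq_one, ← pow_succ', hg3]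
        rw [this]
        exact C.inv_mem hsq
    have h2 := Set.ncard_le_ncard hsub (Set.toFinite _)
    have h3' := card_cube_le_three hcomm h9C
    rw [Set.ncard_insert_of_notMem hnot (Set.toFinite _)] at h2
    omega
  have hc1 : 1 ≤ Nat.card {g : G // IsConj y g ∧ g ∈ N} := by
    apply Nat.card_pos_iff.mpr
    exact ⟨⟨⟨y, IsConj.refl y, hyN⟩⟩, inferInstance⟩
  have key := card_fixedBy_mul_card N hyN
  rw [hNcard] at key
  have hCle : C ≤ centralizer ({y} : Set G) := le_centralizer_singleton_of_comm hcomm hyC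
  have h21 : 21 ∣ Nat.card (centralizer ({y} : Set G)) := by
    rw [← hCcard]; exact Subgroup.card_dvd_of_le hCle
  have hdvd : Nat.card (centralizer ({y} : Set G)) ∣ 5040 := by
    rw [← hG]; exact Subgroup.card_subgroup_dvd_card _
  have hPY : (P : Subgroup G) ≤ centralizer ({y} : Set G) :=
    (le_centralizer_of_card_prime (P : Subgroup G) hPcard).trans hCle
  -- arithmetic: `|C(y)| ∈ {630, 315}`
  have hcases : Nat.card (centralizer ({y} : Set G)) = 630 ∨
      Nat.card (centralizer ({y} : Set G)) = 315 := by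
    obtain ⟨k, hk⟩ := h21
    obtain ⟨j, hj⟩ := hdvd
    generalize Nat.card (fixedBy (G ⧸ N) y) = f at *
    generalize Nat.card {g : G // IsConj y g ∧ g ∈ N} = c at *
    rw [hk] at key hj ⊢
    have hkj : k * j = 240 := by
      have : 21 * (k * j) = 21 * 240 := by
        calc 21 * (k * j) = 21 * k * j := by ring
          _ = 5040 := hj.symm
      exact Nat.eq_of_mul_eq_mul_left (by norm_num) this
    have hfc : 2 * f = k * c := by
      have : 21 * (2 * f) = 21 * (k * c) := by
        calc 21 * (2 * f) = f * 42 := by ring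
          _ = 21 * k * c := key
          _ = 21 * (k * c) := by ring
      exact Nat.eq_of_mul_eq_mul_left (by norm_num) this
    have hc : c = 1 ∨ c = 2 := by omega
    rcases hc with rfl | rfl
    · -- `k = 2 f`
      have hk2 : k = 2 * f := by omega
      subst hk2
      have hfj : f * j = 120 := by
        have : 2 * (f * j) = 2 * 120 := by
          calc 2 * (f * j) = 2 * f * j := by ring
            _ = 240 := hkj
        exact Nat.eq_of_mul_eq_mul_left (by norm_num) this
      left
      interval_cases f <;> omega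
    · have hk2 : k = f := by omega
      subst hk2
      right
      interval_cases k <;> omega
  rcases hcases with h630 | h315
  · -- index 8: `G` embeds in `A_8`
    have hidx : (centralizer ({y} : Set G)).index = 7 + 1 := by
      have := (centralizer ({y} : Set G)).card_mul_index
      rw [h630, hG] at this
      omega
    have := two_mul_card_normalizer_dvd hnc (p := 7) (by norm_num) (centralizer ({y} : Set G))
      (Or.inr hidx) P hPcard
    rw [← hN, hNcard] at this
    omega
  · -- `P` is normal in `C(y)`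
    have hYN : centralizer ({y} : Set G) ≤ N := le_normalizer_of_card_315 hPY hPcard h315
    have := Subgroup.card_dvd_of_le hYN
    rw [h315, hNcard] at this
    omega

end Cfsg.Agent.Lib.H9.O5040
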