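import Mathlib
import Cfsg.Agent.Lib.H9.O5040L4b
import Cfsg.Agent.Lib.H9.O5040L4c

/-!
# S0978 farm-out (helper22), lemma L4 (helper9)

In a simple group of order `5040` with `120` Sylow `7`-subgroups, a Sylow `7`-subgroup is
self-centralizing.
-/

set_option autoImplicit false

namespace Cfsg.Agent.Lib.H9.O5040

open Subgroup MulAction Cfsg.Agent.Lib.H5 Cfsg.Agent.Lib.H5.SylPrime

variable {G : Type*} [Group G] [Finite G]

/-- **L4** -/
theorem card_centralizer_sylow_seven [IsSimpleGroup G] (hG : Nat.card G = 5040)
    [Fact (Nat.Prime 7)] (h120 : Nat.card (Sylow 7 G) = 120) (P : Sylow 7 G) :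
    Nat.card (centralizer ((P : Subgroup G) : Set G)) = 7 := by
  obtain ⟨hPcard, hPidx⟩ := sylow_card_and_index P (k := 1) (m := 720) (by rw [hG]; norm_num)
    (by norm_num)
  rw [pow_one] at hPcard
  set N := normalizer ((P : Subgroup G) : Set G) with hN
  set C := centralizer ((P : Subgroup G) : Set G) with hC
  have hNidx : N.index = 120 := by rw [hN, index_normalizer_eq_card_sylow, h120]
  have hNcard : Nat.card N = 42 := by
    have := card_normalizer_mul_card_sylow P
    rw [h120, hG, ← hN] at this
    omega
  have hCN : C ≤ N := centralizer_le_normalizer _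
  have h6 : C.relIndex N ∣ 6 :=
    relIndex_centralizer_normalizer_dvd_of_card_prime (P : Subgroup G) hPcard
  have h42 := card_mul_relIndex_of_le hCN
  rw [hNcard] at h42
  have hne1 : C.relIndex N ≠ 1 := by
    intro h
    have hnp : ¬ IsPGroup 7 G := not_isPGroup_of_prime_dvd (q := 2) Nat.prime_two (by norm_num)
      (by rw [hG]; norm_num)
    exact not_normalizer_le_centralizer_of_simple (by rw [hG]; norm_num) hnp P
      (relIndex_eq_one.mp h)
  have hle : C.relIndex N ≤ 6 := Nat.le_of_dvd (by norm_num) h6
  have hpos : 0 < C.relIndex N := Nat.pos_of_ne_zero (fun h => by rw [h] at h42; omega)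
  have h6' : 6 % C.relIndex N = 0 := Nat.mod_eq_zero_of_dvd h6
  have hr : C.relIndex N = 2 ∨ C.relIndex N = 3 ∨ C.relIndex N = 6 := by
    interval_cases hr : C.relIndex N
    · exact absurd rfl hne1
    · left; rfl
    · right; left; rfl
    · omega
    · omega
    · right; right; rfl
  rcases hr with hr | hr | hr
  · rw [hr] at h42
    have h21 : Nat.card C = 21 := by omega
    exact (case21 hG P hPcard hNcard hNidx h21 hr).elim
  · rw [hr] at h42
    have h14 : Nat.card C = 14 := by omega
    exact (case14 hG P hPcard hNcard hNidx h14 hr).elim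
  · rw [hr] at h42
    omega

end Cfsg.Agent.Lib.H9.O5040
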