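import Mathlib

/-!
S0980 piece (E3) `arith_three`: PURE integer combinatorics.  Exact signature of
`tools/blueprints/S0980_sigs.lean` (architect helper16).

`f(A,m) = 2A² - 2Am + 3m² = A² + (A-m)² + 2m²`, `N(A,m) = A² - Am - m²`.  Points with `f ≤ 8`:
`f = 0` at `(0,0)`; `f = 2, N = 1` at `(±1,0)`; `f = 3, N = -1` at `(0,±1), (1,1), (-1,-1)`;
`f = 7, N = 1`; `f = 8, N = 4`.  With `u, v, w, z` the numbers of indices `≠ i₁` of the four
nonzero types: `2u + 3v + 7w + 8z = 8`, `u - v + w + 4z = -1`, hence `u = 1`, `v = 2`, `w = z = 0`.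
-/

set_option autoImplicit false

namespace Cfsg.Agent.Lib.H9.O5760

open scoped BigOperators

universe u

/-- the norm-type form `2A² - 2Am + 3m²` -/
def fq (A m : ℤ) : ℤ := 2 * A ^ 2 - 2 * A * m + 3 * m ^ 2

/-- the form `A² - Am - m²` -/
def nq (A m : ℤ) : ℤ := A ^ 2 - A * m - m ^ 2

theorem fq_nonneg (A m : ℤ) : 0 ≤ fq A m := by
  unfold fq
  nlinarith [sq_nonneg A, sq_nonneg (A - m), sq_nonneg m]

/-- classification of the points with `f ≤ 8` -/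
theorem fq_small (A m : ℤ) (h : fq A m ≤ 8) :
    (fq A m = 0 ∧ nq A m = 0 ∧ A = 0 ∧ m = 0) ∨
    (fq A m = 2 ∧ nq A m = 1 ∧ ((A = 1 ∧ m = 0) ∨ (A = -1 ∧ m = 0))) ∨
    (fq A m = 3 ∧ nq A m = -1 ∧
      ((A = 0 ∧ m = 1) ∨ (A = 0 ∧ m = -1) ∨ (A = 1 ∧ m = 1) ∨ (A = -1 ∧ m = -1))) ∨
    (fq A m = 7 ∧ nq A m = 1) ∨ (fq A m = 8 ∧ nq A m = 4) := by
  unfold fq nq at *
  have hA2 : A ≤ 2 := by
    by_contra hc
    push Not at hc
    nlinarith [sq_nonneg (A - m), sq_nonneg m]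
  have hA1 : -2 ≤ A := by
    by_contra hc
    push Not at hc
    nlinarith [sq_nonneg (A - m), sq_nonneg m]
  have hm2 : m ≤ 2 := by
    by_contra hc
    push Not at hc
    nlinarith [sq_nonneg (A - m), sq_nonneg A]
  have hm1 : -2 ≤ m := by
    by_contra hc
    push Not at hc
    nlinarith [sq_nonneg (A - m), sq_nonneg A]
  interval_cases A <;> interval_cases m <;> simp_all

/-- (E3) -/
theorem arith_three {ι : Type u} [Fintype ι] [DecidableEq ι] (A m : ι → ℤ) (i₁ : ι) (hA1 : A i₁ = 1) (hm1 : m i₁ = 0)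
    (hf : ∑ i, (2 * A i ^ 2 - 2 * A i * m i + 3 * m i ^ 2) = 10)
    (hN : ∑ i, (A i ^ 2 - A i * m i - m i ^ 2) = 0) :
    ∃ i₀ j₁ j₂ : ι, i₀ ≠ i₁ ∧ j₁ ≠ i₁ ∧ j₂ ≠ i₁ ∧ i₀ ≠ j₁ ∧ i₀ ≠ j₂ ∧ j₁ ≠ j₂ ∧
      ((A i₀ = 1 ∧ m i₀ = 0) ∨ (A i₀ = -1 ∧ m i₀ = 0)) ∧
      ((A j₁ = 0 ∧ m j₁ = 1) ∨ (A j₁ = 0 ∧ m j₁ = -1) ∨ (A j₁ = 1 ∧ m j₁ = 1) ∨ (A j₁ = -1 ∧ m j₁ = -1)) ∧
      ((A j₂ = 0 ∧ m j₂ = 1) ∨ (A j₂ = 0 ∧ m j₂ = -1) ∨ (A j₂ = 1 ∧ m j₂ = 1) ∨ (A j₂ = -1 ∧ m j₂ = -1)) ∧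
      ∀ i, i ≠ i₁ → i ≠ i₀ → i ≠ j₁ → i ≠ j₂ → A i = 0 ∧ m i = 0 := by
  classical
  set f : ι → ℤ := fun i => fq (A i) (m i) with hfdef
  set N : ι → ℤ := fun i => nq (A i) (m i) with hNdef
  have hf' : ∑ i, f i = 10 := hf
  have hN' : ∑ i, N i = 0 := hN
  set S : Finset ι := Finset.univ.erase i₁ with hS
  have hfi₁ : f i₁ = 2 := by simp [hfdef, fq, hA1, hm1]
  have hNi₁ : N i₁ = 1 := by simp [hNdef, nq, hA1, hm1]
  have hfS : ∑ i ∈ S, f i = 8 := by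
    have h1 := Finset.add_sum_erase Finset.univ f (Finset.mem_univ i₁)
    linarith
  have hNS : ∑ i ∈ S, N i = -1 := by
    have h1 := Finset.add_sum_erase Finset.univ N (Finset.mem_univ i₁)
    linarith
  have hnn : ∀ i, 0 ≤ f i := fun i => fq_nonneg _ _
  have hle : ∀ i ∈ S, f i ≤ 8 := by
    intro i hi
    have h1 := Finset.single_le_sum (f := f) (fun j _ => hnn j) hi
    linarith
  have hcls := fun i (hi : i ∈ S) => fq_small (A i) (m i) (hle i hi)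
  -- the four counts
  set U := S.filter (fun i => f i = 2) with hU
  set V := S.filter (fun i => f i = 3) with hV
  set W := S.filter (fun i => f i = 7) with hW
  set X := S.filter (fun i => f i = 8) with hX
  have e1 : ∑ i ∈ S, f i = 2 * (U.card : ℤ) + 3 * V.card + 7 * W.card + 8 * X.card := by
    have h1 : ∀ i ∈ S, f i = (if f i = 2 then 2 else 0) + (if f i = 3 then 3 else 0) +
        (if f i = 7 then 7 else 0) + (if f i = 8 then 8 else 0) := by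
      intro i hi
      have hc := hcls i hi
      change (f i = 0 ∧ _) ∨ (f i = 2 ∧ _) ∨ (f i = 3 ∧ _) ∨ (f i = 7 ∧ _) ∨ (f i = 8 ∧ _) at hc
      rcases hc with h | h | h | h | h <;> rw [h.1] <;> norm_num
    rw [Finset.sum_congr rfl h1]
    simp only [Finset.sum_add_distrib, Finset.sum_ite, Finset.sum_const_zero, add_zero,
      Finset.sum_const, nsmul_eq_mul]
    ring
  have e2 : ∑ i ∈ S, N i = (U.card : ℤ) - V.card + W.card + 4 * X.card := by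
    have h1 : ∀ i ∈ S, N i = (if f i = 2 then 1 else 0) + (if f i = 3 then -1 else 0) +
        (if f i = 7 then 1 else 0) + (if f i = 8 then 4 else 0) := by
      intro i hi
      have hc := hcls i hi
      change (f i = 0 ∧ N i = 0 ∧ _) ∨ (f i = 2 ∧ N i = 1 ∧ _) ∨ (f i = 3 ∧ N i = -1 ∧ _) ∨
        (f i = 7 ∧ N i = 1) ∨ (f i = 8 ∧ N i = 4) at hc
      rcases hc with h | h | h | h | h
      · rw [h.1, h.2.1]; norm_num
      · rw [h.1, h.2.1]; norm_num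
      · rw [h.1, h.2.1]; norm_num
      · rw [h.1, h.2]; norm_num
      · rw [h.1, h.2]; norm_num
    rw [Finset.sum_congr rfl h1]
    simp only [Finset.sum_add_distrib, Finset.sum_ite, Finset.sum_const_zero, add_zero,
      Finset.sum_const, nsmul_eq_mul]
    ring
  rw [hfS] at e1
  rw [hNS] at e2
  have hu : U.card = 1 := by omega
  have hv : V.card = 2 := by omega
  have hw : W.card = 0 := by omega
  have hx : X.card = 0 := by omega
  obtain ⟨i₀, hi₀⟩ := Finset.card_eq_one.1 hu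
  obtain ⟨j₁, j₂, hj12, hj⟩ := Finset.card_eq_two.1 hv
  have hWe : W = ∅ := Finset.card_eq_zero.1 hw
  have hXe : X = ∅ := Finset.card_eq_zero.1 hx
  have hi₀U : i₀ ∈ U := by rw [hi₀]; exact Finset.mem_singleton_self _
  have hj₁V : j₁ ∈ V := by rw [hj]; simp
  have hj₂V : j₂ ∈ V := by rw [hj]; simp
  obtain ⟨hi₀S, hi₀f⟩ := Finset.mem_filter.1 hi₀U
  obtain ⟨hj₁S, hj₁f⟩ := Finset.mem_filter.1 hj₁V
  obtain ⟨hj₂S, hj₂f⟩ := Finset.mem_filter.1 hj₂V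
  have hne : ∀ i, i ∈ S → i ≠ i₁ := fun i hi => (Finset.mem_erase.1 hi).1
  refine ⟨i₀, j₁, j₂, hne _ hi₀S, hne _ hj₁S, hne _ hj₂S, ?_, ?_, hj12, ?_, ?_, ?_, ?_⟩
  · intro h
    rw [h] at hi₀f
    rw [hi₀f] at hj₁f
    norm_num at hj₁f
  · intro h
    rw [h] at hi₀f
    rw [hi₀f] at hj₂f
    norm_num at hj₂f
  · have hc := hcls i₀ hi₀S
    change (f i₀ = 0 ∧ _) ∨ (f i₀ = 2 ∧ _) ∨ (f i₀ = 3 ∧ _) ∨ (f i₀ = 7 ∧ _) ∨ (f i₀ = 8 ∧ _) at hc
    rcases hc with h | h | h | h | h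
    · rw [hi₀f] at h; norm_num at h
    · exact h.2.2
    · rw [hi₀f] at h; norm_num at h
    · rw [hi₀f] at h; norm_num at h
    · rw [hi₀f] at h; norm_num at h
  · have hc := hcls j₁ hj₁S
    change (f j₁ = 0 ∧ _) ∨ (f j₁ = 2 ∧ _) ∨ (f j₁ = 3 ∧ _) ∨ (f j₁ = 7 ∧ _) ∨ (f j₁ = 8 ∧ _) at hc
    rcases hc with h | h | h | h | h
    · rw [hj₁f] at h; norm_num at h
    · rw [hj₁f] at h; norm_num at h
    · exact h.2.2
    · rw [hj₁f] at h; norm_num at h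
    · rw [hj₁f] at h; norm_num at h
  · have hc := hcls j₂ hj₂S
    change (f j₂ = 0 ∧ _) ∨ (f j₂ = 2 ∧ _) ∨ (f j₂ = 3 ∧ _) ∨ (f j₂ = 7 ∧ _) ∨ (f j₂ = 8 ∧ _) at hc
    rcases hc with h | h | h | h | h
    · rw [hj₂f] at h; norm_num at h
    · rw [hj₂f] at h; norm_num at h
    · exact h.2.2
    · rw [hj₂f] at h; norm_num at h
    · rw [hj₂f] at h; norm_num at h
  · intro i hi1 hi0 hij1 hij2
    have hiS : i ∈ S := Finset.mem_erase.2 ⟨hi1, Finset.mem_univ _⟩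
    have hc := hcls i hiS
    change (f i = 0 ∧ _) ∨ (f i = 2 ∧ _) ∨ (f i = 3 ∧ _) ∨ (f i = 7 ∧ _) ∨ (f i = 8 ∧ _) at hc
    rcases hc with h | h | h | h | h
    · exact h.2.2
    · exfalso
      have : i ∈ U := Finset.mem_filter.2 ⟨hiS, h.1⟩
      rw [hi₀, Finset.mem_singleton] at this
      exact hi0 this
    · exfalso
      have : i ∈ V := Finset.mem_filter.2 ⟨hiS, h.1⟩
      rw [hj, Finset.mem_insert, Finset.mem_singleton] at this
      rcases this with h' | h'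
      · exact hij1 h'
      · exact hij2 h'
    · exfalso
      have : i ∈ W := Finset.mem_filter.2 ⟨hiS, h.1⟩
      rw [hWe] at this
      exact absurd this (Finset.notMem_empty _)
    · exfalso
      have : i ∈ X := Finset.mem_filter.2 ⟨hiS, h.1⟩
      rw [hXe] at this
      exact absurd this (Finset.notMem_empty _)

end Cfsg.Agent.Lib.H9.O5760
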