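import Mathlib
import Cfsg.Agent.S0904
import Cfsg.Agent.Lib.H5.Ord.GenTests3

/-!
S0983 filler, list B(a) of `tools/blueprints/S0983.md`: the general step.

For a simple group of order `n = p^a q^b r` (`r` prime, `r ∤ p^a q^b`) the Sylow `r`-subgroup is
self-centralizing (`Cfsg.Agent.S0904.result`), so helper5's `prime_data_explicit` gives numbers
`r' = |N : C|` and `n_r` with `r * r' * n_r = n`, `r' ∣ r - 1`, `r' ≠ 1`, `n_r % r = 1`, `n_r ∣ n / r`
and `2 n ∣ n_r !`.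
-/

set_option autoImplicit false

namespace Cfsg.Agent.Lib.H9.O983

open Subgroup Cfsg.Agent.Lib.H5 Cfsg.Agent.Lib.H5.GenTests

/-- the numerical data of a self-centralizing Sylow `r`-subgroup of order `r` -/
theorem selfcentralizing_data {G : Type*} [Group G] [Finite G] [IsSimpleGroup G]
    (p q r a b n m : ℕ) (hp : p.Prime) (hq : q.Prime) [Fact r.Prime] (hpq : p ≠ q) (hpr : p ≠ r)
    (hqr : q ≠ r) (hn : Nat.card G = n) (hcard : n = p ^ a * q ^ b * r) (hnm : n = r * m)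
    (hrm : ¬ r ∣ m) (hm : m ≠ 1) (hnp : ¬ n.Prime) :
    ∃ (P : Sylow r G) (r' nr : ℕ), r * r' * nr = n ∧ r' ∣ r - 1 ∧ r' ≠ 1 ∧ nr % r = 1 ∧ nr ∣ m ∧
      nr ≠ 1 ∧ 2 * n ∣ nr.factorial ∧ Nat.card (Sylow r G) = nr ∧
      Nat.card (P : Subgroup G) = r ∧
      Nat.card (normalizer ((P : Subgroup G) : Set G)) = r * r' ∧
      centralizer ((P : Subgroup G) : Set G) = (P : Subgroup G) := by
  have hnc : ¬ IsMulCommutative G :=
    not_isMulCommutative_of_card_not_prime (by rw [hn]; exact hnp)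
  let P : Sylow r G := default
  have hC := Cfsg.Agent.S0904.result (G := G) p q r a b hp hq hpq hpr hqr (by rw [hn, hcard]) P
  obtain ⟨h1, h2, h3, h4, h5, h6, h7, -, hP, hNd, -, -, hcr, -⟩ :=
    prime_data_explicit hnc hn (p := r) (m := m) hnm hrm hm P
  have hC' : centralizer ((P : Subgroup G) : Set G) = (P : Subgroup G) := hC
  rw [hC'] at h5 h6 h7 hcr
  rw [hP] at h7 hcr
  exact ⟨P, _, _, h7, h5, h6, h2, h1, h3, h4, rfl, hP, hcr.symm, hC'⟩

end Cfsg.Agent.Lib.H9.O983
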