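import Mathlib
import Cfsg.Agent.S0111

/-!
S0983 filler (helper9): a general 2-local tool.

`eight_dvd_card_centralizer_of_involution`: in a finite group without normal subgroups of index `2`
whose Sylow `2`-subgroups have order `8`, the centralizer of every involution has order divisible
by `8` (if the Sylow `2`-subgroup `S ∋ y` does not centralize `y`, it is nonabelian, has a cyclic
subgroup `⟨σ⟩` of index `2`, `σ ^ 2` is central in `S`, and the Thompson transfer lemma S0111
makes `y` conjugate to `σ ^ 2`).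
-/

set_option autoImplicit false

namespace Cfsg.Agent.Lib.H9.O983

open Subgroup

/-- conjugate elements have centralizers of the same order -/
theorem card_centralizer_conj {G : Type*} [Group G] (g y : G) :
    Nat.card (centralizer ({g * y * g⁻¹} : Set G)) = Nat.card (centralizer ({y} : Set G)) := by
  have h : centralizer ({g * y * g⁻¹} : Set G) =
      (centralizer ({y} : Set G)).map (MulAut.conj g).toMonoidHom := by
    ext x
    rw [Subgroup.mem_map]
    constructor
    · intro hx
      refine ⟨g⁻¹ * x * g, ?_, by simp [mul_assoc]⟩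
      rw [mem_centralizer_singleton_iff] at hx ⊢
      calc g⁻¹ * x * g * y = g⁻¹ * (x * (g * y * g⁻¹)) * g := by group
        _ = g⁻¹ * (g * y * g⁻¹ * x) * g := by rw [hx]
        _ = y * (g⁻¹ * x * g) := by group
    · rintro ⟨c, hc, rfl⟩
      rw [mem_centralizer_singleton_iff] at hc ⊢
      have : (MulAut.conj g).toMonoidHom c = g * c * g⁻¹ := by simp
      rw [this]
      calc g * c * g⁻¹ * (g * y * g⁻¹) = g * (c * y) * g⁻¹ := by group
        _ = g * (y * c) * g⁻¹ := by rw [hc]
        _ = g * y * g⁻¹ * (g * c * g⁻¹) := by group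
  rw [h, Subgroup.card_map_of_injective (MulAut.conj g).injective]

/-- the elements of a cyclic group of order `4` -/
theorem mem_zpowers_of_orderOf_four {G : Type*} [Group G] [Finite G] (σ x : G)
    (h4 : orderOf σ = 4) (hx : x ∈ zpowers σ) : x = 1 ∨ x = σ ∨ x = σ ^ 2 ∨ x = σ ^ 3 := by
  classical
  rw [mem_zpowers_iff_mem_range_orderOf, h4] at hx
  simp only [Finset.mem_image, Finset.mem_range] at hx
  obtain ⟨k, hk, rfl⟩ := hx
  interval_cases k
  · left; simp
  · right; left; simp
  · right; right; left; rfl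
  · right; right; right; rfl

theorem eq_sq_of_mem_zpowers {G : Type*} [Group G] [Finite G] (σ x : G) (h4 : orderOf σ = 4)
    (hx : x ∈ zpowers σ) (hx1 : x ≠ 1) (hx2 : x ^ 2 = 1) : x = σ ^ 2 := by
  have hσ2 : σ ^ 2 ≠ 1 := pow_ne_one_of_lt_orderOf (by norm_num) (by rw [h4]; norm_num)
  have hσ4 : σ ^ 4 = 1 := by rw [← h4]; exact pow_orderOf_eq_one σ
  rcases mem_zpowers_of_orderOf_four σ x h4 hx with h | h | h | h
  · exact absurd h hx1
  · rw [h] at hx2; exact absurd hx2 hσ2
  · exact h
  · exfalso
    rw [h, ← pow_mul] at hx2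
    have : σ ^ (3 * 2) = σ ^ 4 * σ ^ 2 := by rw [← pow_add]
    rw [this, hσ4, one_mul] at hx2
    exact hσ2 hx2

theorem sq_eq_sq_of_mem_zpowers {G : Type*} [Group G] [Finite G] (σ t : G) (h4 : orderOf σ = 4)
    (ht : t ∈ zpowers σ) (ht2 : t ^ 2 ≠ 1) : t ^ 2 = σ ^ 2 := by
  have hσ4 : σ ^ 4 = 1 := by rw [← h4]; exact pow_orderOf_eq_one σ
  rcases mem_zpowers_of_orderOf_four σ t h4 ht with h | h | h | h
  · exfalso; apply ht2; rw [h, one_pow]
  · rw [h]
  · exfalso; apply ht2; rw [h, ← pow_mul]; exact hσ4
  · rw [h, ← pow_mul]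
    have : σ ^ (3 * 2) = σ ^ 4 * σ ^ 2 := by rw [← pow_add]
    rw [this, hσ4, one_mul]

/-- the key step: `y ∈ S`, `|S| = 8`. -/
theorem eight_dvd_card_centralizer_of_mem {G : Type*} [Group G] [Finite G]
    (hno2 : ∀ M : Subgroup G, M.Normal → M.index ≠ 2)
    (S : Sylow 2 G) (hS : Nat.card (S : Subgroup G) = 8) (y : G) (hy : orderOf y = 2)
    (hyS : y ∈ (S : Subgroup G)) :
    8 ∣ Nat.card (centralizer ({y} : Set G)) := by
  have hy2 : y ^ 2 = 1 := by rw [← hy]; exact pow_orderOf_eq_one y
  have hy1 : y ≠ 1 := by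
    intro h
    rw [h, orderOf_one] at hy
    omega
  -- it suffices to find a conjugate of `y` centralized by `S`
  have key : ∀ w : G, (∀ s ∈ (S : Subgroup G), s * w = w * s) →
      8 ∣ Nat.card (centralizer ({w} : Set G)) := by
    intro w hw
    have hle : (S : Subgroup G) ≤ centralizer ({w} : Set G) := by
      intro s hs
      rw [mem_centralizer_singleton_iff]
      exact hw s hs
    have := Subgroup.card_dvd_of_le hle
    rwa [hS] at this
  by_cases hA : ∀ s ∈ (S : Subgroup G), s * y = y * s
  · exact key y hA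
  · push Not at hA
    obtain ⟨s₀, hs₀S, hs₀⟩ := hA
    -- an element of `S` whose square is not trivial
    obtain ⟨σ, hσS, hσ2⟩ : ∃ σ ∈ (S : Subgroup G), σ ^ 2 ≠ 1 := by
      by_contra hcon
      push Not at hcon
      apply hs₀
      have h1 := hcon s₀ hs₀S
      have h3 := hcon (s₀ * y) (mul_mem hs₀S hyS)
      have e1 : s₀⁻¹ = s₀ := inv_eq_of_mul_eq_one_right (by rw [← pow_two]; exact h1)
      have e2 : y⁻¹ = y := inv_eq_of_mul_eq_one_right (by rw [← pow_two]; exact hy2)
      have e3 : (s₀ * y)⁻¹ = s₀ * y := inv_eq_of_mul_eq_one_right (by rw [← pow_two]; exact h3)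
      calc s₀ * y = (s₀ * y)⁻¹ := e3.symm
        _ = y⁻¹ * s₀⁻¹ := mul_inv_rev _ _
        _ = y * s₀ := by rw [e1, e2]
    have hσd : orderOf σ ∣ 8 := by
      have := orderOf_dvd_natCard (⟨σ, hσS⟩ : (S : Subgroup G))
      rw [Subgroup.orderOf_mk, hS] at this
      exact this
    have hσn2 : ¬ orderOf σ ∣ 2 := fun h => hσ2 (orderOf_dvd_iff_pow_eq_one.mp h)
    have hσ48 : orderOf σ = 4 ∨ orderOf σ = 8 := by
      have hle : orderOf σ ≤ 8 := Nat.le_of_dvd (by norm_num) hσd
      have hpos : 0 < orderOf σ := Nat.pos_of_dvd_of_pos hσd (by norm_num)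
      interval_cases h : orderOf σ <;> simp_all
    rcases hσ48 with h4 | h8
    · -- the main case
      set Q : Subgroup G := zpowers σ with hQ
      have hQS : Q ≤ (S : Subgroup G) := by
        rw [hQ]
        exact (zpowers_le).mpr hσS
      have hQc : Nat.card Q = 4 := by rw [hQ, Nat.card_zpowers, h4]
      have hQi : Q.relIndex (S : Subgroup G) = 2 := by
        have h := Subgroup.card_mul_index (Q.subgroupOf (S : Subgroup G))
        have hc : Nat.card (Q.subgroupOf (S : Subgroup G)) = Nat.card Q :=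
          Nat.card_congr (Subgroup.subgroupOfEquivOfLe hQS).toEquiv
        rw [hc, hQc, hS] at h
        have : (Q.subgroupOf (S : Subgroup G)).index = 2 := by omega
        exact this
      have hQn : (Q.subgroupOf (S : Subgroup G)).Normal := Subgroup.normal_of_index_eq_two hQi
      -- `σ ^ 2` is central in `S`
      have hw : ∀ s ∈ (S : Subgroup G), s * σ ^ 2 = σ ^ 2 * s := by
        intro s hs
        have hmem : s * σ * s⁻¹ ∈ Q := by
          have h := hQn.conj_mem (⟨σ, hσS⟩ : (S : Subgroup G))
            (Subgroup.mem_subgroupOf.mpr (by rw [hQ]; exact mem_zpowers σ)) ⟨s, hs⟩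
          rw [Subgroup.mem_subgroupOf] at h
          simpa using h
        have hne : (s * σ * s⁻¹) ^ 2 ≠ 1 := by
          rw [conj_pow]
          intro h
          apply hσ2
          have := congrArg (fun t => s⁻¹ * t * s) h
          simpa [mul_assoc] using this
        have hsq := sq_eq_sq_of_mem_zpowers σ (s * σ * s⁻¹) h4 hmem hne
        rw [conj_pow] at hsq
        calc s * σ ^ 2 = s * σ ^ 2 * s⁻¹ * s := by group
          _ = σ ^ 2 * s := by rw [hsq]
      have hw8 := key (σ ^ 2) hw
      by_cases hyQ : y ∈ Q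
      · have := eq_sq_of_mem_zpowers σ y h4 hyQ hy1 hy2
        rw [this]
        exact hw8
      · rcases Cfsg.Agent.S0111.result S Q hQS hQi y hy hyS hyQ with ⟨M, hMn, hMi, -⟩ | ⟨g, hg⟩
        · exact absurd hMi (hno2 M hMn)
        · have hg1 : g * y * g⁻¹ ≠ 1 := by
            intro h
            apply hy1
            have := congrArg (fun t => g⁻¹ * t * g) h
            simpa [mul_assoc] using this
          have hg2 : (g * y * g⁻¹) ^ 2 = 1 := by
            rw [conj_pow, hy2]; group
          have := eq_sq_of_mem_zpowers σ (g * y * g⁻¹) h4 hg hg1 hg2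
          rw [← card_centralizer_conj g y, this]
          exact hw8
    · -- `S` cyclic: abelian
      exfalso
      apply hs₀
      have hle : zpowers σ ≤ (S : Subgroup G) := (zpowers_le).mpr hσS
      have hc : Nat.card (zpowers σ) = 8 := by rw [Nat.card_zpowers, h8]
      have heq : zpowers σ = (S : Subgroup G) :=
        Subgroup.eq_of_le_of_card_ge hle (by rw [hc, hS])
      have h1 : s₀ ∈ zpowers σ := by rw [heq]; exact hs₀S
      have h2 : y ∈ zpowers σ := by rw [heq]; exact hyS
      obtain ⟨a, rfl⟩ := mem_zpowers_iff.mp h1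
      obtain ⟨b, hb⟩ := mem_zpowers_iff.mp h2
      rw [← hb, ← zpow_add, ← zpow_add, add_comm]

/-- In a finite group without normal subgroups of index `2` whose order is `8 m`, `m` odd, the
centralizer of every involution has order divisible by `8`. -/
theorem eight_dvd_card_centralizer_of_involution {G : Type*} [Group G] [Finite G]
    (hno2 : ∀ M : Subgroup G, M.Normal → M.index ≠ 2) {m : ℕ} (hcard : Nat.card G = 2 ^ 3 * m)
    (hm : ¬ 2 ∣ m) (y : G) (hy : orderOf y = 2) :
    8 ∣ Nat.card (centralizer ({y} : Set G)) := by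
  have : Fact (Nat.Prime 2) := ⟨Nat.prime_two⟩
  have hp : IsPGroup 2 (zpowers y) := by
    apply IsPGroup.of_card (n := 1)
    rw [Nat.card_zpowers, hy, pow_one]
  obtain ⟨S, hS⟩ := hp.exists_le_sylow
  have hSc : Nat.card (S : Subgroup G) = 8 := by
    have h := Sylow.card_eq_multiplicity S
    have hm0 : m ≠ 0 := fun h => hm (h ▸ dvd_zero 2)
    rw [hcard, Nat.factorization_mul (by norm_num) hm0] at h
    simp only [Finsupp.coe_add, Pi.add_apply] at h
    rw [Nat.prime_two.factorization_pow, Nat.factorization_eq_zero_of_not_dvd hm] at h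
    simpa using h
  exact eight_dvd_card_centralizer_of_mem hno2 S hSc y hy (hS (mem_zpowers y))

/-- the simple-group form -/
theorem eight_dvd_card_centralizer_of_simple {G : Type*} [Group G] [Finite G] [IsSimpleGroup G]
    {m : ℕ} (hcard : Nat.card G = 2 ^ 3 * m) (hm : ¬ 2 ∣ m) (y : G) (hy : orderOf y = 2) :
    8 ∣ Nat.card (centralizer ({y} : Set G)) := by
  apply eight_dvd_card_centralizer_of_involution _ hcard hm y hy
  intro M hMn hMi
  rcases hMn.eq_bot_or_eq_top with h | h
  · rw [h, Subgroup.index_bot, hcard] at hMi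
    omega
  · rw [h, Subgroup.index_top] at hMi
    omega

end Cfsg.Agent.Lib.H9.O983
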