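import Mathlib
import Cfsg.Agent.Lib.H9.O983T8
import Cfsg.Agent.Lib.H5.Ord.GenTests
import Cfsg.Agent.Lib.H5.SimpleTools
import Cfsg.Agent.Lib.H5.SubgroupCard

/-!
S0983 filler (helper9): no simple group of order `4200 = 2^3 * 3 * 5^2 * 7`.

`p = 7`: `n_7 = 50`, `|N(P)| = 84`, `|C(P)| ∈ {14, 28, 42}` (`n_7 = 8`: `A_8`-embedding; `15`: fixed
point test with `q = 5`; `120`: arithmetic).  Let `y` be an involution of `C(P)` and `H = C(y) ⊇ P`.
By the Thompson transfer tool `eight_dvd_card_centralizer_of_simple` we have `8 ∣ |H|`, so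
`|H| = 56 k` with `k ∣ 75` and `75 / k ≥ 10`: `|H| ∈ {56, 168, 280}`.  `N_H(P) = H ⊓ N(P)` has
order `m` with `14 ∣ m ∣ 84`, `m ∣ |H|`, and `n_7(H) = |H| / m ≡ 1 (mod 7)`: no solution.
-/

set_option autoImplicit false

namespace Cfsg.Agent.Lib.H9.O983

open Subgroup Cfsg.Agent.Lib.H5 Cfsg.Agent.Lib.H5.GenTests

theorem arith_4200 (h m t i : ℕ) (h56 : 56 ∣ h) (hi : h * i = 4200)
    (hfac : 8400 ∣ i.factorial) (hmt : m * t = h) (ht : t % 7 = 1) (hm84 : m ∣ 84)
    (hm14 : 14 ∣ m) : False := by
  obtain ⟨k, rfl⟩ := h56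
  have hki : k * i = 75 := by
    have : 56 * (k * i) = 56 * 75 := by rw [← mul_assoc]; exact hi
    exact Nat.eq_of_mul_eq_mul_left (by norm_num) this
  obtain ⟨a, rfl⟩ := hm14
  have ha6 : a ∣ 6 := by
    have : 14 * a ∣ 14 * 6 := hm84
    exact Nat.dvd_of_mul_dvd_mul_left (by norm_num) this
  have hale : a ≤ 6 := Nat.le_of_dvd (by norm_num) ha6
  have hat : a * t = 4 * k := by
    have : 14 * (a * t) = 14 * (4 * k) := by rw [← mul_assoc, hmt]; ring
    exact Nat.eq_of_mul_eq_mul_left (by norm_num) this
  have hi75 : i ∣ 75 := Dvd.intro_left k hki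
  have hile : i ≤ 75 := Nat.le_of_dvd (by norm_num) hi75
  have hi10 : 10 ≤ i := by
    by_contra hlt
    push Not at hlt
    have h1 : i.factorial ∣ (9 : ℕ).factorial := Nat.factorial_dvd_factorial (by omega)
    have h2 : 8400 ∣ (9 : ℕ).factorial := dvd_trans hfac h1
    revert h2
    decide
  have hk : k = 1 ∨ k = 3 ∨ k = 5 := by
    have hkle : k ≤ 7 := by
      by_contra hlt
      push Not at hlt
      have : 8 * 10 ≤ k * i := Nat.mul_le_mul hlt hi10
      omega
    interval_cases k <;> omega
  rcases hk with rfl | rfl | rfl <;> interval_cases a <;> omega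

theorem not_simple_4200 {G : Type*} [Group G] [Finite G] [IsSimpleGroup G] :
    Nat.card G ≠ 4200 := by
  intro hn
  have hnc : ¬ IsMulCommutative G :=
    not_isMulCommutative_of_card_not_prime (by rw [hn]; norm_num)
  have : Fact (Nat.Prime 7) := ⟨by norm_num⟩
  let P : Sylow 7 G := default
  obtain ⟨h1, h2, h3, h4, h5, h6, h7, -, hP, hNd, -, -, hcr, hfp⟩ :=
    prime_data_explicit hnc hn (p := 7) (m := 600) (by norm_num) (by norm_num) (by norm_num) P
  set N := normalizer ((P : Subgroup G) : Set G) with hNdef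
  set C := centralizer ((P : Subgroup G) : Set G) with hCdef
  set r := C.relIndex N with hr
  set c₀ := Nat.card C with hc₀
  have hd : Nat.card (Sylow 7 G) = 8 ∨ Nat.card (Sylow 7 G) = 15 ∨ Nat.card (Sylow 7 G) = 50 ∨
      Nat.card (Sylow 7 G) = 120 := by
    have hmem : Nat.card (Sylow 7 G) ∈ (Nat.divisors 600).filter (fun d => d % 7 = 1) := by
      rw [Finset.mem_filter, Nat.mem_divisors]
      exact ⟨⟨h1, by norm_num⟩, h2⟩
    have hfil : (Nat.divisors 600).filter (fun d => d % 7 = 1) = {1, 8, 15, 50, 120} := by decide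
    rw [hfil] at hmem
    simp only [Finset.mem_insert, Finset.mem_singleton] at hmem
    rcases hmem with h | h | h | h | h
    · exact absurd h h3
    · exact Or.inl h
    · exact Or.inr (Or.inl h)
    · exact Or.inr (Or.inr (Or.inl h))
    · exact Or.inr (Or.inr (Or.inr h))
  have hr6 : r ≤ 6 := Nat.le_of_dvd (by norm_num) h5
  rcases hd with hd | hd | hd | hd
  · -- n_7 = 8
    rw [hd] at h4
    revert h4
    decide
  · -- n_7 = 15 : fixed point test with q = 5
    rw [hd] at h7 hfp
    have h5c : 5 ∣ c₀ := by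
      interval_cases r <;> omega
    obtain ⟨f, hf1, hf2, hf3, -⟩ := hfp 5 (by norm_num) h5c
    omega
  · -- n_7 = 50
    rw [hd] at h7 hNd
    have hNcard : Nat.card N = 84 := by omega
    have h2c : 2 ∣ c₀ := by
      interval_cases r <;> omega
    obtain ⟨y0, hy0⟩ := exists_prime_orderOf_dvd_card' (G := C) 2 h2c
    set y : G := (y0 : G) with hy
    have hyo : orderOf y = 2 := by rw [hy, Subgroup.orderOf_coe]; exact hy0
    have hyC : y ∈ C := y0.2
    have hCN : C ≤ N := centralizer_le_normalizer _
    set H : Subgroup G := centralizer ({y} : Set G) with hH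
    have hPH : (P : Subgroup G) ≤ H := by
      intro x hx
      rw [hH, mem_centralizer_singleton_iff]
      rw [hCdef, mem_centralizer_iff] at hyC
      exact hyC x hx
    have hyH : y ∈ H := by
      rw [hH, mem_centralizer_singleton_iff]
    have h8H : 8 ∣ Nat.card H :=
      eight_dvd_card_centralizer_of_simple (m := 525) (by rw [hn]; norm_num) (by norm_num) y hyo
    have h7H : 7 ∣ Nat.card H := by
      rw [← hP]; exact card_dvd_of_le hPH
    have h56 : 56 ∣ Nat.card H := by omega
    have hHtop : H ≠ ⊤ := by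
      intro htop
      have hycen : y ∈ Subgroup.center G := by
        rw [Subgroup.mem_center_iff]
        intro g
        have hg : g ∈ H := by rw [htop]; exact Subgroup.mem_top g
        rw [hH, mem_centralizer_singleton_iff] at hg
        exact hg
      rcases (Subgroup.center G).normal_of_characteristic.eq_bot_or_eq_top with hcb | hct
      · rw [hcb, Subgroup.mem_bot] at hycen
        rw [hycen, orderOf_one] at hyo
        omega
      · apply hnc
        exact ⟨⟨fun a b => by
          have : a ∈ Subgroup.center G := by rw [hct]; exact Subgroup.mem_top a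
          exact (Subgroup.mem_center_iff.mp this b).symm⟩⟩
    have hfac := two_mul_card_dvd_factorial_index hnc H hHtop
    rw [hn] at hfac
    have hHi : Nat.card H * H.index = 4200 := by rw [Subgroup.card_mul_index, hn]
    -- Sylow counting in `H`
    let P' : Sylow 7 H := P.subtype hPH
    have hmod : Nat.card (Sylow 7 H) % 7 = 1 := by
      have := card_sylow_modEq_one 7 H
      rw [Nat.ModEq] at this
      omega
    have hP' : (P' : Subgroup H) = (P : Subgroup G).subgroupOf H := Sylow.coe_subtype P hPH
    have hidx : Nat.card (Sylow 7 H) = N.relIndex H := by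
      have e1 := Sylow.card_eq_index_normalizer P'
      have e2 : normalizer ((P' : Subgroup H) : Set H) = N.subgroupOf H := by
        rw [hP']
        exact (Subgroup.subgroupOf_normalizer_eq hPH).symm
      have e3 : (normalizer ((P' : Subgroup H) : Set H)).index = N.relIndex H := by
        rw [e2]
        rfl
      exact e1.trans e3
    set M : Subgroup G := N ⊓ H with hM
    have hMt : Nat.card M * N.relIndex H = Nat.card H := by
      have := card_mul_relIndex_of_le (inf_le_right : N ⊓ H ≤ H)
      rwa [Subgroup.inf_relIndex_right] at this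
    have hM84 : Nat.card M ∣ 84 := by
      rw [← hNcard]; exact card_dvd_of_le inf_le_left
    have hM7 : 7 ∣ Nat.card M := by
      rw [← hP]
      exact card_dvd_of_le (le_inf le_normalizer hPH)
    have hM2 : 2 ∣ Nat.card M := by
      have hle : zpowers y ≤ M := by
        rw [zpowers_le]
        exact Subgroup.mem_inf.mpr ⟨hCN hyC, hyH⟩
      have := card_dvd_of_le hle
      rwa [Nat.card_zpowers, hyo] at this
    have hM14 : 14 ∣ Nat.card M := by omega
    rw [← hidx] at hMt
    exact arith_4200 (Nat.card H) (Nat.card M) (Nat.card (Sylow 7 H)) H.index h56 hHi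
      (by simpa using hfac) hMt hmod hM84 hM14
  · -- n_7 = 120
    rw [hd] at h7
    interval_cases r <;> omega

end Cfsg.Agent.Lib.H9.O983
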