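import Mathlib
import Cfsg.Agent.Lib.H24.BrauerP4

/-!
S0983 filler (helper26's plan `tools/blueprints/S0983.md`): no simple group of order
`5104 = 2^4 * 11 * 29` (Brauer's exceptional characters for the self-centralizing Sylow
29-subgroup, `e = 2`, `t = 14`; copy of `Cfsg.Agent.S0974.result`).
-/

set_option autoImplicit false

namespace Cfsg.Agent.Lib.H9.O983

theorem not_simple_5104 {G : Type*} [Group G] [Finite G] [IsSimpleGroup G] : Nat.card G ≠ 5104 := by
  intro hG
  have : Fact (Nat.Prime 29) := ⟨by norm_num⟩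
  have hdiv : ∀ d, d ∣ 176 → d % 29 = 1 → d = 1 ∨ d = 88 := by
    intro d hd hmod
    have hle : d ≤ 176 := Nat.le_of_dvd (by norm_num) hd
    interval_cases d <;> omega
  obtain ⟨ι, S, b, d, εz, x, hεz, hxd, hS, hsq, hdeg, hx, hdsq⟩ :=
    Cfsg.Agent.Lib.H24.BrP.simple_data (G := G) (p := 29) (m := 176) (n₀ := 88) (e₀ := 2) (t := 14)
      (by rw [hG]) (by norm_num) (by norm_num) (by norm_num) hdiv (by norm_num) (by norm_num)
  push_cast at hsq hx
  have hne : S.Nonempty := by
    by_contra h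
    rw [Finset.not_nonempty_iff_eq_empty] at h
    rw [h] at hsq
    simp at hsq
  obtain ⟨i, hi⟩ := hne
  obtain ⟨hb0, hdd, hd1, m', hm'⟩ := hS i hi
  have hbsq : b i ^ 2 ≤ 1 := by
    have := Finset.single_le_sum (f := fun i => b i ^ 2) (fun j _ => sq_nonneg (b j)) hi
    rw [hsq] at this
    linarith
  have hdle : d i ^ 2 ≤ 5104 := by
    have := Finset.single_le_sum (f := fun i => d i ^ 2) (fun j _ => Nat.zero_le _) hi
    omega
  have hd71 : d i ≤ 71 := by nlinarith
  have hb : b i = 1 ∨ b i = -1 := by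
    have : -1 ≤ b i ∧ b i ≤ 1 := by constructor <;> nlinarith
    omega
  rw [hG] at hdd
  obtain ⟨n, hn⟩ : ∃ n, n = d i := ⟨_, rfl⟩
  rw [← hn] at hdd hd1 hm' hd71
  push_cast at hm'
  interval_cases n <;> omega

end Cfsg.Agent.Lib.H9.O983
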