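import Mathlib
import Cfsg.Agent.Lib.H24.BrauerP4

/-!
S0983 filler (helper26's plan `tools/blueprints/S0983.md`): no simple group of order
`5724 = 2^2 * 3^3 * 53` (Brauer's exceptional characters for the self-centralizing Sylow
53-subgroup, `e = 2`, `t = 26`; pattern of `Cfsg.Agent.S0975.result`): the only non-exceptional
character besides `1` has `b = 1`, `d = 54`, so the exceptional degree is `x = 55 ∤ 5724`.
-/

set_option autoImplicit false

namespace Cfsg.Agent.Lib.H9.O983

theorem not_simple_5724 {G : Type*} [Group G] [Finite G] [IsSimpleGroup G] : Nat.card G ≠ 5724 := by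
  intro hG
  have : Fact (Nat.Prime 53) := ⟨by norm_num⟩
  have hdiv : ∀ d, d ∣ 108 → d % 53 = 1 → d = 1 ∨ d = 54 := by
    intro d hd hmod
    have hle : d ≤ 108 := Nat.le_of_dvd (by norm_num) hd
    interval_cases d <;> omega
  obtain ⟨ι, S, b, d, εz, x, hεz, hxd, hS, hsq, hdeg, hx, hdsq⟩ :=
    Cfsg.Agent.Lib.H24.BrP.simple_data (G := G) (p := 53) (m := 108) (n₀ := 54) (e₀ := 2) (t := 26)
      (by rw [hG]) (by norm_num) (by norm_num) (by norm_num) hdiv (by norm_num) (by norm_num)
  push_cast at hsq hx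
  have hall : ∀ i ∈ S, b i = 1 ∧ d i = 54 := by
    intro i hi
    obtain ⟨hb0, hdd, hd1, m', hm'⟩ := hS i hi
    have hbsq : b i ^ 2 ≤ 1 := by
      have := Finset.single_le_sum (f := fun i => b i ^ 2) (fun j _ => sq_nonneg (b j)) hi
      rw [hsq] at this
      linarith
    have hdle : d i ^ 2 ≤ 5724 := by
      have := Finset.single_le_sum (f := fun i => d i ^ 2) (fun j _ => Nat.zero_le _) hi
      omega
    have hd75 : d i ≤ 75 := by nlinarith
    have hb : b i = 1 ∨ b i = -1 := by
      have : -1 ≤ b i ∧ b i ≤ 1 := by constructor <;> nlinarith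
      omega
    rw [hG] at hdd
    obtain ⟨n, hn⟩ : ∃ n, n = d i := ⟨_, rfl⟩
    rw [← hn] at hdd hd1 hm' hd75 ⊢
    push_cast at hm'
    interval_cases n <;> omega
  have h1 : ∑ i ∈ S, b i ^ 2 = (S.card : ℤ) := by
    rw [Finset.sum_congr rfl fun i hi => by rw [(hall i hi).1], Finset.sum_const]
    simp
  have h2 : ∑ i ∈ S, b i * (d i : ℤ) = 54 * (S.card : ℤ) := by
    rw [Finset.sum_congr rfl fun i hi => by rw [(hall i hi).1, (hall i hi).2], Finset.sum_const]
    simp
    ring
  rw [h1] at hsq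
  rw [h2, hsq] at hdeg
  rw [hG] at hxd
  have hx55 : x = 55 := by
    rcases hεz with h | h <;> rw [h] at hdeg <;> omega
  rw [hx55] at hxd
  omega

end Cfsg.Agent.Lib.H9.O983
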