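import Mathlib
import Cfsg.Agent.Lib.H9.O983Self
import Cfsg.Agent.Lib.H5.EmbedAlt

/-!
S0983 filler, list B(a) of `tools/blueprints/S0983.md` (helper9): no simple groups of the orders
3840, 4400, 4480, 4512, 4536, 4800, 4896, 4928, 5376, 5952.

Each order is `p^a q^b r`; the Sylow `r`-subgroup is self-centralizing (S0904) and the numerical
data `r * r' * n_r = n`, `r' ∣ r - 1`, `r' ≠ 1`, `n_r % r = 1` have no solution
(for 4896, `r = 17`: the only solution is `n_17 = 18`, `|N| = 272`, excluded by the embedding into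
`A_18`, `H5.two_mul_card_normalizer_dvd`).
-/

set_option autoImplicit false

namespace Cfsg.Agent.Lib.H9.O983

open Subgroup Cfsg.Agent.Lib.H5

theorem not_simple_3840 {G : Type*} [Group G] [Finite G] [IsSimpleGroup G] : Nat.card G ≠ 3840 := by
  intro hn
  have : Fact (Nat.Prime 5) := ⟨by norm_num⟩
  obtain ⟨P, r', nr, h1, h2, h3, h4, -⟩ :=
    selfcentralizing_data (G := G) 2 3 5 8 1 3840 768 (by norm_num) (by norm_num) (by norm_num)
      (by norm_num) (by norm_num) hn (by norm_num) (by norm_num) (by norm_num) (by norm_num)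
      (by norm_num)
  have hle : r' ≤ 4 := Nat.le_of_dvd (by norm_num) h2
  interval_cases r' <;> omega

theorem not_simple_4400 {G : Type*} [Group G] [Finite G] [IsSimpleGroup G] : Nat.card G ≠ 4400 := by
  intro hn
  have : Fact (Nat.Prime 11) := ⟨by norm_num⟩
  obtain ⟨P, r', nr, h1, h2, h3, h4, -⟩ :=
    selfcentralizing_data (G := G) 2 5 11 4 2 4400 400 (by norm_num) (by norm_num) (by norm_num)
      (by norm_num) (by norm_num) hn (by norm_num) (by norm_num) (by norm_num) (by norm_num)
      (by norm_num)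
  have hle : r' ≤ 10 := Nat.le_of_dvd (by norm_num) h2
  interval_cases r' <;> omega

theorem not_simple_4480 {G : Type*} [Group G] [Finite G] [IsSimpleGroup G] : Nat.card G ≠ 4480 := by
  intro hn
  have : Fact (Nat.Prime 5) := ⟨by norm_num⟩
  obtain ⟨P, r', nr, h1, h2, h3, h4, -⟩ :=
    selfcentralizing_data (G := G) 2 7 5 7 1 4480 896 (by norm_num) (by norm_num) (by norm_num)
      (by norm_num) (by norm_num) hn (by norm_num) (by norm_num) (by norm_num) (by norm_num)
      (by norm_num)
  have hle : r' ≤ 4 := Nat.le_of_dvd (by norm_num) h2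
  interval_cases r' <;> omega

theorem not_simple_4512 {G : Type*} [Group G] [Finite G] [IsSimpleGroup G] : Nat.card G ≠ 4512 := by
  intro hn
  have : Fact (Nat.Prime 3) := ⟨by norm_num⟩
  obtain ⟨P, r', nr, h1, h2, h3, h4, -⟩ :=
    selfcentralizing_data (G := G) 2 47 3 5 1 4512 1504 (by norm_num) (by norm_num) (by norm_num)
      (by norm_num) (by norm_num) hn (by norm_num) (by norm_num) (by norm_num) (by norm_num)
      (by norm_num)
  have hle : r' ≤ 2 := Nat.le_of_dvd (by norm_num) h2
  interval_cases r' <;> omega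

theorem not_simple_4536 {G : Type*} [Group G] [Finite G] [IsSimpleGroup G] : Nat.card G ≠ 4536 := by
  intro hn
  have : Fact (Nat.Prime 7) := ⟨by norm_num⟩
  obtain ⟨P, r', nr, h1, h2, h3, h4, -⟩ :=
    selfcentralizing_data (G := G) 2 3 7 3 4 4536 648 (by norm_num) (by norm_num) (by norm_num)
      (by norm_num) (by norm_num) hn (by norm_num) (by norm_num) (by norm_num) (by norm_num)
      (by norm_num)
  have hle : r' ≤ 6 := Nat.le_of_dvd (by norm_num) h2
  interval_cases r' <;> omega

theorem not_simple_4800 {G : Type*} [Group G] [Finite G] [IsSimpleGroup G] : Nat.card G ≠ 4800 := by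
  intro hn
  have : Fact (Nat.Prime 3) := ⟨by norm_num⟩
  obtain ⟨P, r', nr, h1, h2, h3, h4, -⟩ :=
    selfcentralizing_data (G := G) 2 5 3 6 2 4800 1600 (by norm_num) (by norm_num) (by norm_num)
      (by norm_num) (by norm_num) hn (by norm_num) (by norm_num) (by norm_num) (by norm_num)
      (by norm_num)
  have hle : r' ≤ 2 := Nat.le_of_dvd (by norm_num) h2
  interval_cases r' <;> omega

theorem not_simple_4928 {G : Type*} [Group G] [Finite G] [IsSimpleGroup G] : Nat.card G ≠ 4928 := by
  intro hn
  have : Fact (Nat.Prime 7) := ⟨by norm_num⟩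
  obtain ⟨P, r', nr, h1, h2, h3, h4, -⟩ :=
    selfcentralizing_data (G := G) 2 11 7 6 1 4928 704 (by norm_num) (by norm_num) (by norm_num)
      (by norm_num) (by norm_num) hn (by norm_num) (by norm_num) (by norm_num) (by norm_num)
      (by norm_num)
  have hle : r' ≤ 6 := Nat.le_of_dvd (by norm_num) h2
  interval_cases r' <;> omega

theorem not_simple_5376 {G : Type*} [Group G] [Finite G] [IsSimpleGroup G] : Nat.card G ≠ 5376 := by
  intro hn
  have : Fact (Nat.Prime 3) := ⟨by norm_num⟩
  obtain ⟨P, r', nr, h1, h2, h3, h4, -⟩ :=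
    selfcentralizing_data (G := G) 2 7 3 8 1 5376 1792 (by norm_num) (by norm_num) (by norm_num)
      (by norm_num) (by norm_num) hn (by norm_num) (by norm_num) (by norm_num) (by norm_num)
      (by norm_num)
  have hle : r' ≤ 2 := Nat.le_of_dvd (by norm_num) h2
  interval_cases r' <;> omega

theorem not_simple_5952 {G : Type*} [Group G] [Finite G] [IsSimpleGroup G] : Nat.card G ≠ 5952 := by
  intro hn
  have : Fact (Nat.Prime 3) := ⟨by norm_num⟩
  obtain ⟨P, r', nr, h1, h2, h3, h4, -⟩ :=
    selfcentralizing_data (G := G) 2 31 3 6 1 5952 1984 (by norm_num) (by norm_num) (by norm_num)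
      (by norm_num) (by norm_num) hn (by norm_num) (by norm_num) (by norm_num) (by norm_num)
      (by norm_num)
  have hle : r' ≤ 2 := Nat.le_of_dvd (by norm_num) h2
  interval_cases r' <;> omega

theorem not_simple_4896 {G : Type*} [Group G] [Finite G] [IsSimpleGroup G] : Nat.card G ≠ 4896 := by
  intro hn
  have : Fact (Nat.Prime 17) := ⟨by norm_num⟩
  have hnc : ¬ IsMulCommutative G :=
    not_isMulCommutative_of_card_not_prime (by rw [hn]; norm_num)
  obtain ⟨P, r', nr, h1, h2, h3, h4, -, -, -, hnr, hP, hN, -⟩ :=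
    selfcentralizing_data (G := G) 2 3 17 5 2 4896 288 (by norm_num) (by norm_num) (by norm_num)
      (by norm_num) (by norm_num) hn (by norm_num) (by norm_num) (by norm_num) (by norm_num)
      (by norm_num)
  have hle : r' ≤ 16 := Nat.le_of_dvd (by norm_num) h2
  have h16 : r' = 16 ∧ nr = 18 := by
    interval_cases r' <;> omega
  obtain ⟨rfl, rfl⟩ := h16
  have hidx : (normalizer ((P : Subgroup G) : Set G)).index = 17 + 1 := by
    rw [index_normalizer_eq_card_sylow P, hnr]
  have := two_mul_card_normalizer_dvd hnc (p := 17) (by norm_num) _ (Or.inr hidx) P hP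
  rw [hN] at this
  omega

end Cfsg.Agent.Lib.H9.O983
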