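import Mathlib
import Cfsg.Prelude.Def_Characters
import Cfsg.Prelude.Def_Blocks
import Cfsg.Agent.Lib.H24.GlaubAmb7
import Cfsg.Agent.Lib.H24.CharBasic
import Cfsg.Agent.Lib.H23.DegreeDvd

/-!
# S4930, piece (P3b) in the exact signature of `tools/blueprints/S4930_sigs.lean` (helper9)

A `P`-invariant irreducible character of a normal subgroup `K` of odd order with `C_K(P) = 1`
(`P` a Sylow 2-subgroup) is trivial: Glauberman's correspondence `H24.Glaub.pgroup_corr` with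
`Γ := G`, `G := K`, `S := P`, `C := K ⊓ C_G(P) = ⊥`; injectivity against the trivial character
of `C` (every multiplicity `[χ_C, 1_C] = χ(1)` is odd).
-/

set_option autoImplicit false

namespace Cfsg.Agent.Lib.H9.OD

open Cfsg Cfsg.Agent.Lib.L0 Cfsg.Agent.Lib.H24 Cfsg.Agent.Lib.H24.Glaub
open scoped ComplexConjugate

universe u

/-- (P3b) -/
theorem eq_one_of_invariant {G : Type u} [Group G] [Finite G] (P : Sylow 2 G) (K : Subgroup G) [K.Normal]
    (hK : ¬ 2 ∣ Nat.card K) (hC : K ⊓ Subgroup.centralizer ((P : Subgroup G) : Set G) = ⊥)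
    (θ : IrrCharacter ↥K)
    (hθ : ∀ x ∈ (P : Subgroup G), ∀ k k' : ↥K, (k' : G) = x * (k : G) * x⁻¹ →
      (θ : ↥K → ℂ) k' = (θ : ↥K → ℂ) k) : ∀ k : ↥K, (θ : ↥K → ℂ) k = 1 := by
  classical
  have := Fintype.ofFinite G
  obtain ⟨C, hCdef⟩ : ∃ C : Subgroup G,
      C = K ⊓ Subgroup.centralizer ((P : Subgroup G) : Set G) := ⟨_, rfl⟩
  have hCbot : C = ⊥ := hCdef.trans hC
  have : Fintype ↥C := Fintype.ofFinite _
  have hCK : C ≤ K := by rw [hCdef]; exact inf_le_left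
  have hcorr := pgroup_corr (Γ := G) Nat.prime_two (Nat.card (P : Subgroup G)) K (P : Subgroup G) C rfl
    (fun s _ g hg => Subgroup.Normal.conj_mem inferInstance g hg s) P.isPGroup' hK hCdef hCK
  have hinv1 : ∀ x ∈ (P : Subgroup G), InvUnder K x ((trivialIrr ↥K : IrrCharacter ↥K) : ↥K → ℂ) :=
    fun _ _ _ _ _ => rfl
  have hc1 : ∀ c : ↥C, c = 1 := by
    intro c
    apply Subtype.ext
    have h1 : (c : G) ∈ (⊥ : Subgroup G) := hCbot ▸ c.2
    rw [Subgroup.mem_bot] at h1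
    rw [h1]; rfl
  have hodd : ∀ χ : IrrCharacter ↥K,
      ¬ 2 ∣ resMult hCK (χ : ↥K → ℂ) ((trivialIrr ↥C : IrrCharacter ↥C) : ↥C → ℂ) := by
    intro χ
    have hspec := resMult_spec hCK (isCharacter_of_irr χ.2) (trivialIrr ↥C).2
    have hval : classInner (res hCK (χ : ↥K → ℂ)) ((trivialIrr ↥C : IrrCharacter ↥C) : ↥C → ℂ) =
        (χ : ↥K → ℂ) 1 := by
      have hsub : Subsingleton ↥C := ⟨fun a b => by rw [hc1 a, hc1 b]⟩
      have hcard : Nat.card ↥C = 1 := Nat.card_unique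
      unfold classInner
      rw [hcard, Fintype.sum_subsingleton _ (1 : ↥C)]
      simp [res, trivialIrr]
      rfl
    rw [hval, Cfsg.Agent.Lib.H23.apply_one_eq_charDegree _ χ.2] at hspec
    have heq : resMult hCK (χ : ↥K → ℂ) ((trivialIrr ↥C : IrrCharacter ↥C) : ↥C → ℂ) =
        charDegree (χ : ↥K → ℂ) := by exact_mod_cast hspec
    rw [heq]
    intro h2
    exact hK (dvd_trans h2 (Cfsg.Agent.Lib.H23.charDegree_dvd_card _ χ.2))
  have heq := hcorr.inj θ (trivialIrr ↥K) hθ hinv1 (trivialIrr ↥C) (hodd θ) (hodd _)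
  intro k
  rw [heq]
  rfl

end Cfsg.Agent.Lib.H9.OD
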