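import Mathlib
import Cfsg.Prelude.Def_Characters
import Cfsg.Prelude.Def_Blocks
import Cfsg.Agent.Lib.H9.OD1

/-!
# S4930, pieces (P1a) + (P1b) in the exact signatures of `tools/blueprints/S4930_sigs.lean` (helper9)

Thin wrappers of `Cfsg.Agent.Lib.H9.OD.not_dvd_degree_iff` / `sum_sq_pprime` at `p = 2`.
-/

set_option autoImplicit false

namespace Cfsg.Agent.Lib.H9.OD

open Cfsg

universe u

/-- the sum of the squares of the odd degrees -/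
noncomputable abbrev oddSq (X : Type u) [Group X] : ℕ :=
  ∑ᶠ χ : {χ : IrrCharacter X // ¬ 2 ∣ charDegree (χ : X → ℂ)}, charDegree (χ.1 : X → ℂ) ^ 2

/-- (P1a) `Q` a normal 2-subgroup of odd index of `X`: `ψ(1)` odd iff `Q' ≤ ker ψ`. -/
theorem odd_iff_commutator_le_ker {X : Type u} [Group X] [Finite X] (Q : Subgroup X) [Q.Normal]
    (hQ : IsPGroup 2 Q) (hidx : ¬ 2 ∣ Q.index) (ψ : IrrCharacter X) :
    ¬ 2 ∣ charDegree (ψ : X → ℂ) ↔
      ∀ x : ↥Q, x ∈ commutator ↥Q → (ψ : X → ℂ) (x : X) = (ψ : X → ℂ) 1 :=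
  haveI : Fact (Nat.Prime 2) := ⟨Nat.prime_two⟩
  not_dvd_degree_iff 2 Q hQ hidx ψ

/-- (P1b) hence `Σ_{ψ odd} ψ(1)^2 = |X / Q'|`. -/
theorem card_eq_mul_oddSq {X : Type u} [Group X] [Finite X] (Q : Subgroup X) [Q.Normal]
    (hQ : IsPGroup 2 Q) (hidx : ¬ 2 ∣ Q.index) :
    Nat.card X = Nat.card (commutator ↥Q) * oddSq X :=
  haveI : Fact (Nat.Prime 2) := ⟨Nat.prime_two⟩
  (sum_sq_pprime 2 Q hQ hidx).symm

end Cfsg.Agent.Lib.H9.OD
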