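import Cfsg.Agent.Lib.H4.OG.MinusGen
import Cfsg.Agent.S0287

/-!
# `Ω_{2m+1}(q)`, `m ≥ 3`, `q` odd, is generated by two elements: the sum-form model (helper9)

Adaptation of helper4's `OG/MinusGen` to the second summand `Q₂ = x²` on `Unit → F`.
-/

set_option autoImplicit false
set_option linter.unusedSectionVars false

namespace Cfsg.Agent.Lib.H9.OddGen

open Matrix Cfsg.Agent.Lib.H13 Cfsg.Agent.Lib.H13.PlusLevi Cfsg.Agent.Lib.H13.OrthSum
open Cfsg.Agent.Lib.H4.OG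

variable {F : Type*} [Field F]

/-- the unary form `x²` -/
noncomputable def sqQF : QuadraticForm F (Unit → F) :=
  QuadraticMap.linMulLin (LinearMap.proj (R := F) (φ := fun _ : Unit => F) ())
    (LinearMap.proj (R := F) (φ := fun _ : Unit => F) ())

theorem sqQF_apply (w : Unit → F) : sqQF w = w () * w () := by
  simp [sqQF]

theorem polar_sqQF (w w' : Unit → F) :
    QuadraticMap.polar (⇑(sqQF (F := F))) w w' = 2 * w () * w' () := by
  unfold QuadraticMap.polar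
  rw [sqQF_apply, sqQF_apply, sqQF_apply]
  simp only [Pi.add_apply]
  ring

/-- the unit vector -/
def uV : Unit → F := fun _ => 1

theorem sq_uV : sqQF (uV : Unit → F) = 1 := by
  rw [sqQF_apply]; simp [uV]

theorem polar_uV_uV : QuadraticMap.polar (⇑(sqQF (F := F))) uV uV = 2 := by
  rw [polar_sqQF]; simp [uV]

theorem eq_smul_uV (w : Unit → F) : w = w () • (uV : Unit → F) := by
  funext i
  simp [uV]

theorem nondeg_sq (h2 : (2 : F) ≠ 0) : (QuadraticMap.polarBilin (sqQF (F := F))).Nondegenerate := by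
  have key : ∀ x : Unit → F, (∀ y, QuadraticMap.polar (⇑(sqQF (F := F))) x y = 0) → x = 0 := by
    intro x hx
    have h := hx uV
    rw [polar_sqQF] at h
    have hx0 : x () = 0 := by
      have : 2 * x () = 0 := by simpa [uV] using h
      rcases mul_eq_zero.1 this with h' | h'
      · exact absurd h' h2
      · exact h'
    funext i
    exact hx0
  constructor
  · intro x hx
    exact key x hx
  · intro y hy
    apply key y
    intro x
    have := hy x
    rw [QuadraticMap.polarBilin_apply_apply] at this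
    rw [QuadraticMap.polar_comm]
    exact this

theorem nondeg_QM_sq (h2 : (2 : F) ≠ 0) (k : ℕ) :
    (QuadraticMap.polarBilin (QM k (sqQF (F := F)))).Nondegenerate :=
  nondeg_sumQF _ _ (Cfsg.Agent.S0287.nondeg (F := F) k) (nondeg_sq h2)

variable [Fintype F]

/-- the core of the argument, for a general second summand -/
theorem two_gen_core' {ι₂ : Type} [Fintype ι₂] [DecidableEq ι₂] (Q₂ : QuadraticForm F (ι₂ → F))
    (n : ℕ) (hn : 2 ≤ n) (hnd : (QuadraticMap.polarBilin (QM (n + 1) Q₂)).Nondegenerate)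
    (g₁ g₂ : Matrix.SpecialLinearGroup (Fin (n + 1)) F)
    (hgen : Subgroup.closure ({g₁, g₂} : Set (Matrix.SpecialLinearGroup (Fin (n + 1)) F)) = ⊤)
    (z : ↥(Cfsg.isometryGroup F ⇑(QM (n + 1) Q₂)))
    (hzΩ : z ∈ Cfsg.Omega F ⇑(QM (n + 1) Q₂))
    (hcomm : Commute (leviM Q₂ (n + 1) g₁) z) (mT mz : ℕ)
    (hT : (leviM Q₂ (n + 1) g₁) ^ mT = 1) (hz : z ^ mz = 1) (hcop : Nat.Coprime mT mz)
    (c₀ c : Fin (n + 1)) (hac : c₀ ≠ c) (lam nu mu nu' : F) (w₃ w₄ : ι₂ → F)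
    (hnu : nu ≠ 0) (hnu' : nu' ≠ 0)
    (hz1 : act (QM (n + 1) Q₂) z (eM c₀) = eM c₀)
    (hz3 : act (QM (n + 1) Q₂) z (fM c₀) = fM c₀)
    (hz2 : act (QM (n + 1) Q₂) z (fM c) = lam • fM c + nu • eM c + ιR w₃)
    (hz4 : act (QM (n + 1) Q₂) z (eM c) = mu • eM c + nu' • fM c + ιR w₄)
    (hspan : ∀ w : ι₂ → F, ∃ s t : F, w = s • w₃ + t • w₄) :
    ∃ A B : ↥(Cfsg.isometryGroup F ⇑(QM (n + 1) Q₂)),
      A ∈ Cfsg.Omega F ⇑(QM (n + 1) Q₂) ∧ B ∈ Cfsg.Omega F ⇑(QM (n + 1) Q₂) ∧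
      Cfsg.Omega F ⇑(QM (n + 1) Q₂) ≤ Subgroup.closure {A, B} := by
  set A := leviM Q₂ (n + 1) g₂ with hA
  set T := leviM Q₂ (n + 1) g₁ with hT'
  have hmem := mem_zpowers_mul_of_coprime T z hcomm _ _ hT hz hcop
  refine ⟨A, T * z, leviM_mem_omega _ (by omega) g₂,
    Subgroup.mul_mem _ (leviM_mem_omega _ (by omega) g₁) hzΩ, ?_⟩
  set H := Subgroup.closure ({A, T * z} :
    Set ↥(Cfsg.isometryGroup F ⇑(QM (n + 1) Q₂))) with hH
  have hAH : A ∈ H := Subgroup.subset_closure (by simp)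
  have hBH : T * z ∈ H := Subgroup.subset_closure (by simp)
  have hzp : Subgroup.zpowers (T * z) ≤ H := by
    rw [Subgroup.zpowers_le]; exact hBH
  have hTH : T ∈ H := hzp hmem.1
  have hzH : z ∈ H := hzp hmem.2
  have hL : ∀ s : Matrix.SpecialLinearGroup (Fin (n + 1)) F,
      leviM Q₂ (n + 1) s ∈ H := by
    have hle : Subgroup.closure ({g₁, g₂} : Set (Matrix.SpecialLinearGroup (Fin (n + 1)) F)) ≤
        H.comap (leviM Q₂ (n + 1)) := by
      rw [Subgroup.closure_le]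
      rintro s (rfl | rfl)
      · exact hTH
      · exact hAH
    rw [hgen] at hle
    intro s
    exact hle (Subgroup.mem_top s)
  apply omega_le_minus Q₂ (by omega) hnd H ?_ z hzH c₀ c hac lam nu mu nu' w₃ w₄ hnu hnu'
    hz1 hz3 hz2 hz4 hspan
  intro i j hij t
  rw [← leviM_transvection _ hij t]
  exact hL _

theorem card7 (n : ℕ) (hn : 2 ≤ n) : 7 ≤ Fintype.card (K (n + 1) ⊕ Unit) := by
  rw [Fintype.card_sum, Fintype.card_sum, Fintype.card_fin, Fintype.card_unit]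
  omega

/-- the case of a field with more than three elements -/
theorem two_gen_odd_large (hF : 3 < Fintype.card F) (h2 : (2 : F) ≠ 0) (n : ℕ) (hn : 2 ≤ n) :
    ∃ A B : ↥(Cfsg.isometryGroup F ⇑(QM (n + 1) (sqQF (F := F)))),
      A ∈ Cfsg.Omega F ⇑(QM (n + 1) (sqQF (F := F))) ∧
      B ∈ Cfsg.Omega F ⇑(QM (n + 1) (sqQF (F := F))) ∧
      Cfsg.Omega F ⇑(QM (n + 1) (sqQF (F := F))) ≤ Subgroup.closure {A, B} := by
  obtain ⟨κ, h, g, hκ0, hh, hgen⟩ := exists_gen_large hF n hn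
  obtain ⟨p, hpp, hp0, hcop⟩ := char_facts (F := F)
  have hnd := nondeg_QM_sq h2 (n + 1)
  have hcard7 := card7 n hn
  obtain ⟨c, hc⟩ : ∃ c : Fin (n + 1), c.val = 2 := ⟨⟨2, by omega⟩, rfl⟩
  have h0c : (0 : Fin (n + 1)) ≠ c := by
    intro h'
    have := congrArg Fin.val h'
    rw [hc] at this
    simp at this
  set T := leviM (sqQF (F := F)) (n + 1) h with hT
  have hδ := torW_mul_inv n κ hκ0
  have hcfix : torW n κ c = 1 := torW_of_two_le n κ c (by omega)
  have hTe : act (QM (n + 1) (sqQF (F := F))) T (eM c) = eM c := by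
    rw [eM, hT, leviM_ιL, leviSL_diag_fix_e h _ _ hh hδ c hcfix]
  have hTf : act (QM (n + 1) (sqQF (F := F))) T (fM c) = fM c := by
    rw [fM, hT, leviM_ιL, leviSL_diag_fix_f h _ _ hh hδ c hcfix]
  have hTR : ∀ w : Unit → F, act (QM (n + 1) (sqQF (F := F))) T (ιR w) = ιR w :=
    fun w => leviM_ιR _ _ w
  have hcX := commute_Xel (sqQF (F := F)) T c uV hTe (hTR uV)
  have hcY := commute_Yel (sqQF (F := F)) T c uV hTf (hTR uV)
  have hcomm : Commute T (Xel (sqQF (F := F)) c uV * Yel (sqQF (F := F)) c uV *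
      (Xel (sqQF (F := F)) c uV)⁻¹) := (hcX.mul_right hcY).mul_right hcX.inv_right
  have hTpow : T ^ (Fintype.card F - 1) = 1 := by
    rw [hT, ← map_pow, diag_pow_card_sub_one h _ hh (torW_ne_zero n κ hκ0), map_one]
  have hzΩ : Xel (sqQF (F := F)) c uV * Yel (sqQF (F := F)) c uV *
      (Xel (sqQF (F := F)) c uV)⁻¹ ∈ Cfsg.Omega F ⇑(QM (n + 1) (sqQF (F := F))) :=
    Subgroup.mul_mem _ (Subgroup.mul_mem _ (Xel_mem_omega _ hnd hcard7 h0c uV)
      (Yel_mem_omega _ hnd hcard7 h0c uV)) (Subgroup.inv_mem _ (Xel_mem_omega _ hnd hcard7 h0c uV))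
  refine two_gen_core' (sqQF (F := F)) n hn hnd h g hgen _ hzΩ hcomm _ _ hTpow
    (z3_pow (sqQF (F := F)) c uV uV p hp0) hcop 0 c h0c _ _ _ _ _ _ ?_ ?_
    (z3_fix_e (sqQF (F := F)) h0c uV uV) (z3_fix_f (sqQF (F := F)) h0c uV uV)
    (z3_f (sqQF (F := F)) c uV uV) (z3_e (sqQF (F := F)) c uV uV) ?_
  · rw [sq_uV]; simp
  · rw [sq_uV]; simp
  · intro w
    refine ⟨-(w () / 2), 0, ?_⟩
    rw [sq_uV, polar_uV_uV]
    funext i
    simp only [uV, Pi.add_apply, Pi.smul_apply, Pi.sub_apply, smul_eq_mul]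
    field_simp
    ring

end Cfsg.Agent.Lib.H9.OddGen
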