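import Cfsg.Agent.Lib.H9.OddGenA

/-!
# `Ω_{2m+1}(3)`: the small-field case, with a mixing involution (helper9)
-/

set_option autoImplicit false
set_option linter.unusedSectionVars false

namespace Cfsg.Agent.Lib.H9.OddGen

open Matrix Cfsg.Agent.Lib.H13 Cfsg.Agent.Lib.H13.PlusLevi Cfsg.Agent.Lib.H13.OrthSum
open Cfsg.Agent.Lib.H4.OG

variable {F : Type*} [Field F] {k : ℕ}

/-- the Weyl element of the short root -/
noncomputable def nEl (c : Fin k) : ↥(Cfsg.isometryGroup F ⇑(QM k (sqQF (F := F)))) :=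
  Xel (sqQF (F := F)) c uV * Yel (sqQF (F := F)) c uV * Xel (sqQF (F := F)) c uV

theorem nEl_e (c : Fin k) : act (QM k (sqQF (F := F))) (nEl c) (eM c) = -fM c := by
  unfold nEl
  simp only [act_mul, act_sub, act_add, act_smul, act_neg, Xel_e, Xel_f, Xel_r, Yel_e, Yel_f,
    Yel_r, sq_uV, polar_uV_uV]
  module

theorem nEl_f (c : Fin k) : act (QM k (sqQF (F := F))) (nEl c) (fM c) = -eM c := by
  unfold nEl
  simp only [act_mul, act_sub, act_add, act_smul, act_neg, Xel_e, Xel_f, Xel_r, Yel_e, Yel_f,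
    Yel_r, sq_uV, polar_uV_uV]
  module

theorem nEl_r (c : Fin k) : act (QM k (sqQF (F := F))) (nEl c) (ιR uV) = -ιR uV := by
  unfold nEl
  simp only [act_mul, act_sub, act_add, act_smul, act_neg, Xel_e, Xel_f, Xel_r, Yel_e, Yel_f,
    Yel_r, sq_uV, polar_uV_uV]
  module

theorem nEl_e_ne {c j : Fin k} (hjc : j ≠ c) :
    act (QM k (sqQF (F := F))) (nEl c) (eM j) = eM j := by
  unfold nEl
  rw [act_mul, act_mul, Xel_e, Yel_e_ne _ hjc, Xel_e]

theorem nEl_f_ne {c j : Fin k} (hjc : j ≠ c) :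
    act (QM k (sqQF (F := F))) (nEl c) (fM j) = fM j := by
  unfold nEl
  rw [act_mul, act_mul, Xel_f_ne _ hjc, Yel_f, Xel_f_ne _ hjc]

theorem nEl_sq (c : Fin k) : (nEl (F := F) c) ^ 2 = 1 := by
  apply eq_one_of_fix_all
  · intro j
    by_cases hj : j = c
    · rw [hj, pow_two, act_mul, nEl_e, act_neg, nEl_f, neg_neg]
    · rw [pow_two, act_mul, nEl_e_ne hj, nEl_e_ne hj]
  · intro j
    by_cases hj : j = c
    · rw [hj, pow_two, act_mul, nEl_f, act_neg, nEl_e, neg_neg]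
    · rw [pow_two, act_mul, nEl_f_ne hj, nEl_f_ne hj]
  · intro w
    rw [eq_smul_uV w, ιR_smul, act_smul, pow_two, act_mul, nEl_r, act_neg, nEl_r, neg_neg]

/-- the mixing involution -/
theorem zEl_sq (c : Fin k) :
    (Xel (sqQF (F := F)) c (uV + uV) * Yel (sqQF (F := F)) c uV) ^ 2 = 1 := by
  have h1 : Xel (sqQF (F := F)) c (uV + uV) =
      Xel (sqQF (F := F)) c uV * Xel (sqQF (F := F)) c uV := by
    unfold Xel
    rw [ιR_add, Tl_mul _ (Q_eM _ c) (polar_eM_ιR _ c uV) (polar_eM_ιR _ c uV)]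
  have h2 : Xel (sqQF (F := F)) c (uV + uV) * Yel (sqQF (F := F)) c uV =
      Xel (sqQF (F := F)) c uV * nEl c * (Xel (sqQF (F := F)) c uV)⁻¹ := by
    rw [h1]
    unfold nEl
    group
  rw [h2, conj_pow, nEl_sq, mul_one, mul_inv_cancel]

variable [Fintype F]

/-- the case of the field with three elements -/
theorem two_gen_odd_small (hF : Fintype.card F ≤ 3) (h2 : (2 : F) ≠ 0) (n : ℕ) (hn : 2 ≤ n) :
    ∃ A B : ↥(Cfsg.isometryGroup F ⇑(QM (n + 1) (sqQF (F := F)))),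
      A ∈ Cfsg.Omega F ⇑(QM (n + 1) (sqQF (F := F))) ∧
      B ∈ Cfsg.Omega F ⇑(QM (n + 1) (sqQF (F := F))) ∧
      Cfsg.Omega F ⇑(QM (n + 1) (sqQF (F := F))) ≤ Subgroup.closure {A, B} := by
  obtain ⟨w, hgen⟩ := exists_gen_small hF n hn
  obtain ⟨p, hpp, hp0, _⟩ := char_facts (F := F)
  have hp2 : Nat.Coprime p 2 := by
    rw [Nat.coprime_primes hpp Nat.prime_two]
    intro h'
    apply h2
    rw [h'] at hp0
    exact_mod_cast hp0
  have h01 := fin_zero_ne_one n (by omega)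
  have hfr := frameM (F := F) (k := n + 1) (sqQF (F := F))
  have hnd := nondeg_QM_sq h2 (n + 1)
  have hcard7 := card7 n hn
  obtain ⟨c, hc⟩ : ∃ c : Fin (n + 1), c.val = 2 := ⟨⟨2, by omega⟩, rfl⟩
  have h0c : (0 : Fin (n + 1)) ≠ c := by
    intro h'
    have := congrArg Fin.val h'
    rw [hc] at this
    simp at this
  have hv1 : (1 : Fin (n + 1)).val = 1 := by
    rw [Fin.val_one']; exact Nat.mod_eq_of_lt (by omega)
  have h1c : (1 : Fin (n + 1)) ≠ c := by
    intro h'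
    have := congrArg Fin.val h'
    rw [hv1, hc] at this
    simp at this
  set T := leviM (sqQF (F := F)) (n + 1) (Matrix.SpecialLinearGroup.transvection h01 (1 : F))
    with hT
  have hTl : T = Tl (QM (n + 1) (sqQF (F := F))) (eM 0) ((1 : F) • fM 1) :=
    leviM_transvection _ h01 1
  have hTe : act (QM (n + 1) (sqQF (F := F))) T (eM c) = eM c := by
    rw [hTl]; exact hfr.levi_fix_e _ h01 (Ne.symm h1c) 1
  have hTf : act (QM (n + 1) (sqQF (F := F))) T (fM c) = fM c := by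
    rw [hTl]; exact hfr.levi_fix_f _ h01 (Ne.symm h0c) 1
  have hTR : ∀ w : Unit → F, act (QM (n + 1) (sqQF (F := F))) T (ιR w) = ιR w :=
    fun w => leviM_ιR _ _ w
  have hcX := commute_Xel (sqQF (F := F)) T c (uV + uV) hTe (hTR _)
  have hcY := commute_Yel (sqQF (F := F)) T c uV hTf (hTR uV)
  have hcomm : Commute T (Xel (sqQF (F := F)) c (uV + uV) * Yel (sqQF (F := F)) c uV) :=
    hcX.mul_right hcY
  have hTpow : T ^ p = 1 := by
    rw [hTl, Tl_pow _ (hfr.Qe 0) (by rw [polar_smul_right', hfr.ef_ne 0 1 h01, mul_zero]), hp0,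
      zero_smul, Tl_zero _ (hfr.Qe 0)]
  have hzΩ : Xel (sqQF (F := F)) c (uV + uV) * Yel (sqQF (F := F)) c uV ∈
      Cfsg.Omega F ⇑(QM (n + 1) (sqQF (F := F))) :=
    Subgroup.mul_mem _ (Xel_mem_omega _ hnd hcard7 h0c _) (Yel_mem_omega _ hnd hcard7 h0c uV)
  have hQ2 : sqQF (uV + uV : Unit → F) = 4 := by
    rw [sqQF_apply]; simp [uV]; ring
  refine two_gen_core' (sqQF (F := F)) n hn hnd _ w hgen _ hzΩ hcomm p 2 hTpow (zEl_sq c) hp2
    0 c h0c _ _ _ _ _ _ ?_ ?_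
    (z2_fix_e (sqQF (F := F)) h0c _ _) (z2_fix_f (sqQF (F := F)) h0c _ _)
    (z2_f (sqQF (F := F)) c _ _) (z2_e (sqQF (F := F)) c _ _) ?_
  · rw [hQ2]
    intro h'
    apply h2
    have : (2 : F) * 2 = 0 := by linear_combination -h'
    rcases mul_eq_zero.1 this with h'' | h'' <;> exact h''
  · rw [sq_uV]; simp
  · intro v
    refine ⟨-(v () / 2), 0, ?_⟩
    rw [sq_uV]
    funext i
    simp only [uV, Pi.add_apply, Pi.smul_apply, Pi.sub_apply, Pi.neg_apply, smul_eq_mul]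
    field_simp
    ring

end Cfsg.Agent.Lib.H9.OddGen
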