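import Mathlib
import Cfsg.Agent.Lib.H29.O5Iso
import Cfsg.Agent.S1056
import Cfsg.Agent.S2411

/-!
# `PΩ₅(q)`, `q` odd, is generated by two elements (helper9)

Via helper29's isomorphism `PSp₄(F) ≅ Ω₅(F)` (`Cfsg.Agent.Lib.H29.O5.isoOmega`) and helper15's
two-generation of `PSp₄(F)` (`Cfsg.Agent.S2411.result`).
-/

set_option autoImplicit false

namespace Cfsg.Agent.Lib.H9.Omega5Gen

/-- two generators of a group give two generators of any quotient-image under a surjection -/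
theorem two_gen_of_surjective {G H : Type*} [Group G] [Group H] (φ : G →* H)
    (hφ : Function.Surjective φ) (a b : G) (hab : Subgroup.closure ({a, b} : Set G) = ⊤) :
    Subgroup.closure ({φ a, φ b} : Set H) = ⊤ := by
  rw [← Set.image_pair, ← MonoidHom.map_closure, hab, Subgroup.map_top_of_surjective _ hφ]

/-- `Ω₅(F)` is generated by two elements as soon as `|F| > 2` -/
theorem omega5_two_gen' {F : Type*} [Field F] [Fintype F] (hF : 2 < Fintype.card F) :
    ∃ a b : ↥(Cfsg.Omega F (Cfsg.quadFormOdd 2 F)),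
      Subgroup.closure ({a, b} : Set ↥(Cfsg.Omega F (Cfsg.quadFormOdd 2 F))) = ⊤ := by
  have hF' : ∃ a : F, a ≠ 0 ∧ a ≠ 1 := by
    obtain ⟨x, y, z, hxy, hxz, hyz⟩ := Fintype.two_lt_card_iff.1 hF
    by_cases hx0 : x = 0
    · by_cases hy1 : y = 1
      · refine ⟨z, ?_, ?_⟩
        · rw [← hx0]; exact Ne.symm hxz
        · rw [← hy1]; exact Ne.symm hyz
      · exact ⟨y, by rw [← hx0]; exact Ne.symm hxy, hy1⟩
    · by_cases hx1 : x = 1
      · by_cases hy0 : y = 0
        · refine ⟨z, ?_, ?_⟩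
          · rw [← hy0]; exact Ne.symm hyz
          · rw [← hx1]; exact Ne.symm hxz
        · exact ⟨y, hy0, by rw [← hx1]; exact Ne.symm hxy⟩
      · exact ⟨x, hx0, hx1⟩
  have hperf := Cfsg.Agent.S1056.perfect hF'
  obtain ⟨a, b, hab⟩ := Cfsg.Agent.S2411.result (F := F) 2 (le_refl 2) (fun _ => hF)
  let e : Cfsg.PSp 2 F ≃* ↥(Cfsg.Omega F (Cfsg.quadFormOdd 2 F)) :=
    Cfsg.Agent.Lib.H29.O5.isoOmega hperf
  exact ⟨e a, e b, two_gen_of_surjective e.toMonoidHom e.surjective a b hab⟩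

/-- `PΩ₅(F)` is generated by two elements as soon as `|F| > 2` -/
theorem pomega5_two_gen' {F : Type*} [Field F] [Fintype F] (hF : 2 < Fintype.card F) :
    ∃ a b : Cfsg.POmega F (Cfsg.quadFormOdd 2 F),
      Subgroup.closure ({a, b} : Set (Cfsg.POmega F (Cfsg.quadFormOdd 2 F))) = ⊤ := by
  obtain ⟨a, b, hab⟩ := omega5_two_gen' hF
  exact ⟨_, _, two_gen_of_surjective
    (QuotientGroup.mk' (Subgroup.center ↥(Cfsg.Omega F (Cfsg.quadFormOdd 2 F))))
    (QuotientGroup.mk'_surjective _) a b hab⟩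

/-- the case `m = 2` of S2413 -/
theorem pomega5_two_gen {F : Type*} [Field F] [Fintype F] (hodd : Odd (Fintype.card F)) :
    ∃ a b : Cfsg.POmega F (Cfsg.quadFormOdd 2 F),
      Subgroup.closure ({a, b} : Set (Cfsg.POmega F (Cfsg.quadFormOdd 2 F))) = ⊤ := by
  apply pomega5_two_gen'
  have h1 : 1 < Fintype.card F := Fintype.one_lt_card
  rcases hodd with ⟨k, hk⟩
  omega

end Cfsg.Agent.Lib.H9.Omega5Gen
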