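import Cfsg.Agent.Lib.H9.OddGenB
import Cfsg.Agent.Lib.H9.Omega5Gen

/-!
# `PΩ_{2m+1}(q)`, `m ≥ 2`, `q` odd, is generated by two elements (helper9)

Transport of the sum-form model `H^m ⊥ ⟨x²⟩` to `Cfsg.quadFormOdd m F`, and the final assembly
(`m = 2` through `Ω₅ ≅ PSp₄`, `m ≥ 3` through helper4's Levi method).
-/

set_option autoImplicit false
set_option linter.unusedSectionVars false

namespace Cfsg.Agent.Lib.H9.OddGen

open Matrix Cfsg.Agent.Lib.H13 Cfsg.Agent.Lib.H13.PlusLevi Cfsg.Agent.Lib.H13.OrthSum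
open Cfsg.Agent.Lib.H4.OG

/-- two generators of the commutator subgroup are transported by an isomorphism -/
theorem two_gen_transport {G G' : Type*} [Group G] [Group G'] (Θ : G ≃* G') (A B : G)
    (hA : A ∈ commutator G) (hB : B ∈ commutator G)
    (hle : commutator G ≤ Subgroup.closure {A, B}) :
    Θ A ∈ commutator G' ∧ Θ B ∈ commutator G' ∧
      commutator G' ≤ Subgroup.closure {Θ A, Θ B} := by
  refine ⟨(Cfsg.Agent.Lib.H11.IsoReindex.mem_commutator_iff Θ A).2 hA,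
    (Cfsg.Agent.Lib.H11.IsoReindex.mem_commutator_iff Θ B).2 hB, ?_⟩
  intro g hg
  have h1 : Θ.symm g ∈ commutator G := by
    rw [← Cfsg.Agent.Lib.H11.IsoReindex.mem_commutator_iff Θ, MulEquiv.apply_symm_apply]
    exact hg
  have h2 := hle h1
  have h3 : Θ.toMonoidHom (Θ.symm g) ∈ (Subgroup.closure ({A, B} : Set G)).map Θ.toMonoidHom :=
    Subgroup.mem_map_of_mem _ h2
  rw [MonoidHom.map_closure, Set.image_pair] at h3
  have h4 : Θ.toMonoidHom (Θ.symm g) = g := Θ.apply_symm_apply g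
  rw [h4] at h3
  exact h3

variable {F : Type*} [Field F]

/-- the reindexed sum form is the standard odd-dimensional form -/
theorem tr_QM_sq (m : ℕ) :
    Cfsg.Agent.Lib.H11.IsoReindex.tr (Equiv.sumComm (K m) Unit) ⇑(QM m (sqQF (F := F))) =
      Cfsg.quadFormOdd m F := by
  funext x
  unfold Cfsg.Agent.Lib.H11.IsoReindex.tr
  rw [QM_apply, plusQF_apply, sqQF_apply]
  unfold Cfsg.quadFormOdd Cfsg.quadFormPlus
  simp only [Function.comp_apply, Equiv.sumComm_apply, Sum.swap_inl, Sum.swap_inr]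
  ring

variable [Fintype F]

/-- two generators of `Ω` in the sum-form model -/
theorem two_gen_odd_sum (h2 : (2 : F) ≠ 0) (n : ℕ) (hn : 2 ≤ n) :
    ∃ A B : ↥(Cfsg.isometryGroup F ⇑(QM (n + 1) (sqQF (F := F)))),
      A ∈ Cfsg.Omega F ⇑(QM (n + 1) (sqQF (F := F))) ∧
      B ∈ Cfsg.Omega F ⇑(QM (n + 1) (sqQF (F := F))) ∧
      Cfsg.Omega F ⇑(QM (n + 1) (sqQF (F := F))) ≤ Subgroup.closure {A, B} := by
  rcases Nat.lt_or_ge 3 (Fintype.card F) with hF | hF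
  · exact two_gen_odd_large hF h2 n hn
  · exact two_gen_odd_small hF h2 n hn

/-- two generators of `Ω_{2m+1}(F)`, `m ≥ 3` -/
theorem two_gen_odd_omega (h2 : (2 : F) ≠ 0) (m : ℕ) (hm : 3 ≤ m) :
    ∃ A B : ↥(Cfsg.isometryGroup F (Cfsg.quadFormOdd m F)),
      A ∈ Cfsg.Omega F (Cfsg.quadFormOdd m F) ∧ B ∈ Cfsg.Omega F (Cfsg.quadFormOdd m F) ∧
      Cfsg.Omega F (Cfsg.quadFormOdd m F) ≤ Subgroup.closure {A, B} := by
  obtain ⟨n, rfl⟩ : ∃ n, m = n + 1 := ⟨m - 1, by omega⟩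
  have hn : 2 ≤ n := by omega
  obtain ⟨A, B, hA, hB, hle⟩ := two_gen_odd_sum h2 n hn
  have Θ₀ := Cfsg.Agent.Lib.H11.IsoReindex.isoEquiv (F := F) (Equiv.sumComm (K (n + 1)) Unit)
    ⇑(QM (n + 1) (sqQF (F := F)))
  rw [tr_QM_sq] at Θ₀
  obtain ⟨h1, h2', h3⟩ := two_gen_transport Θ₀ A B hA hB hle
  exact ⟨Θ₀ A, Θ₀ B, h1, h2', h3⟩

theorem two_ne_zero_of_odd_card (hodd : Odd (Fintype.card F)) : (2 : F) ≠ 0 := by
  intro h2
  have hchar : ringChar F = 2 :=
    CharP.ringChar_of_prime_eq_zero Nat.prime_two (by exact_mod_cast h2)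
  have := FiniteField.even_card_of_char_two hchar
  rcases hodd with ⟨k, hk⟩
  omega

/-- **S2413**: `PΩ_{2m+1}(q)`, `m ≥ 2`, `q` odd, is generated by two elements -/
theorem two_gen_odd (hodd : Odd (Fintype.card F)) (m : ℕ) (hm : 2 ≤ m) :
    ∃ a b : Cfsg.POmega F (Cfsg.quadFormOdd m F),
      Subgroup.closure ({a, b} : Set (Cfsg.POmega F (Cfsg.quadFormOdd m F))) = ⊤ := by
  rcases Nat.lt_or_ge m 3 with h | h
  · obtain rfl : m = 2 := by omega
    exact Cfsg.Agent.Lib.H9.Omega5Gen.pomega5_two_gen hodd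
  · obtain ⟨A, B, hA, hB, hle⟩ := two_gen_odd_omega (two_ne_zero_of_odd_card hodd) m h
    exact two_gen_quot (Cfsg.Omega F (Cfsg.quadFormOdd m F)) A B hA hB hle

end Cfsg.Agent.Lib.H9.OddGen
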