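import Mathlib
import Cfsg.Agent.Lib.H12.SLMinB

/-!
# Rank-one support on a set of characters: dimension and trace identities (helper9)

Abstract layer of S2345 (minimal degree of `Ω⁺_{2n}(q)`), in the setting of helper12's `SLMinA/B`:
`t : S → G` is an additive map from a finite abelian group, `rk ρ t ψ` the rank of the `ψ`-isotypic projection.
Here the non-trivial characters of `t S` occurring in `ρ` form a set `Sig` (the "singular" characters), each of rank one.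

* `finrank_of_supp` : `finrank V = rk 1 + #Sig`;
* `trace_t_of_supp` : `tr ρ(t X₀) = rk 1 + ∑ ψ ∈ Sig, ψ X₀`;
* `trace_mul_proj_one_of_supp` : the trace identity `tr (ρ y * proj 1) = rk 1 + ∑ ψ ∈ Sig, ψ X₀ - #{ψ ∈ Sig fixed by y}`;
* `resRep_ne_one` : if `∑ ψ ∈ Sig, ψ X₀ ≠ #{ψ ∈ Sig fixed by y}` then `y = ι γ₀` acts non-trivially on the fixed space of `t S`.
-/

set_option autoImplicit false
set_option linter.unusedSectionVars false

namespace Cfsg.Agent.Lib.H9.OrthMin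

open scoped BigOperators
open Module Cfsg.Agent.Lib.H4 Cfsg.Agent.Lib.H12.SLMin

variable {G : Type*} [Group G] {S : Type*} [AddCommGroup S] [Fintype S]
  {V : Type*} [AddCommGroup V] [Module ℂ V] [FiniteDimensional ℂ V]
  (ρ : G →* Module.End ℂ V) (t : S → G) (ht : ∀ X X', t (X + X') = t X * t X')

/-- a character of rank zero has zero projection -/
theorem proj_eq_zero_of_rk {ψ : AddChar S ℂ} (h : rk ρ t ψ = 0) : RepChar.proj ρ t ψ = 0 := by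
  by_contra h0
  exact RepChar.finrank_range_ne_zero ρ t h0 h

/-- the rank function of a representation supported on `{1} ∪ Sig` with rank one on `Sig` -/
theorem rk_eq_ite [DecidableEq (AddChar S ℂ)] (Sig : Finset (AddChar S ℂ)) (h1 : (1 : AddChar S ℂ) ∉ Sig)
    (hS1 : ∀ ψ ∈ Sig, rk ρ t ψ = 1) (hS0 : ∀ ψ : AddChar S ℂ, ψ ≠ 1 → ψ ∉ Sig → rk ρ t ψ = 0)
    (ψ : AddChar S ℂ) :
    rk ρ t ψ = (if ψ = 1 then rk ρ t 1 else 0) + (if ψ ∈ Sig then 1 else 0) := by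
  by_cases hψ : ψ = 1
  · subst hψ
    rw [if_pos rfl, if_neg h1, add_zero]
  · by_cases hm : ψ ∈ Sig
    · rw [if_neg hψ, if_pos hm, zero_add, hS1 ψ hm]
    · rw [if_neg hψ, if_neg hm, add_zero, hS0 ψ hψ hm]

include ht in
/-- the dimension formula: `finrank V = rk 1 + #Sig` -/
theorem finrank_of_supp [DecidableEq (AddChar S ℂ)] (Sig : Finset (AddChar S ℂ))
    (h1 : (1 : AddChar S ℂ) ∉ Sig)
    (hS1 : ∀ ψ ∈ Sig, rk ρ t ψ = 1) (hS0 : ∀ ψ : AddChar S ℂ, ψ ≠ 1 → ψ ∉ Sig → rk ρ t ψ = 0) :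
    finrank ℂ V = rk ρ t 1 + Sig.card := by
  rw [RepChar.finrank_eq_sum ρ t ht]
  have h : ∀ ψ ∈ (Finset.univ : Finset (AddChar S ℂ)),
      finrank ℂ (LinearMap.range (RepChar.proj ρ t ψ)) =
        (if ψ = 1 then rk ρ t 1 else 0) + (if ψ ∈ Sig then 1 else 0) :=
    fun ψ _ => rk_eq_ite ρ t Sig h1 hS1 hS0 ψ
  rw [Finset.sum_congr rfl h, Finset.sum_add_distrib,
    Finset.sum_ite_eq' Finset.univ (1 : AddChar S ℂ), if_pos (Finset.mem_univ _),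
    Finset.sum_ite_mem, Finset.univ_inter, Finset.sum_const, smul_eq_mul, mul_one]

include ht in
/-- `tr ρ(t X₀) = rk 1 + ∑ ψ ∈ Sig, ψ X₀` -/
theorem trace_t_of_supp [DecidableEq (AddChar S ℂ)] (Sig : Finset (AddChar S ℂ))
    (h1 : (1 : AddChar S ℂ) ∉ Sig)
    (hS1 : ∀ ψ ∈ Sig, rk ρ t ψ = 1) (hS0 : ∀ ψ : AddChar S ℂ, ψ ≠ 1 → ψ ∉ Sig → rk ρ t ψ = 0)
    (X₀ : S) :
    LinearMap.trace ℂ V (ρ (t X₀)) = (rk ρ t 1 : ℂ) + ∑ ψ ∈ Sig, ψ X₀ := by
  rw [trace_t ρ t ht X₀]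
  have h : ∀ ψ ∈ (Finset.univ : Finset (AddChar S ℂ)), ψ X₀ * (rk ρ t ψ : ℂ) =
      (if ψ = 1 then (rk ρ t 1 : ℂ) else 0) + (if ψ ∈ Sig then ψ X₀ else 0) := by
    intro ψ _
    rw [rk_eq_ite ρ t Sig h1 hS1 hS0 ψ]
    by_cases hψ : ψ = 1
    · subst hψ
      simp [h1]
    · by_cases hm : ψ ∈ Sig
      · simp [hψ, hm]
      · simp [hψ, hm]
  rw [Finset.sum_congr rfl h, Finset.sum_add_distrib,
    Finset.sum_ite_eq' Finset.univ (1 : AddChar S ℂ), if_pos (Finset.mem_univ _),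
    Finset.sum_ite_mem, Finset.univ_inter]

include ht in
/-- THE TRACE IDENTITY for a rank-one support `Sig` -/
theorem trace_mul_proj_one_of_supp [DecidableEq (AddChar S ℂ)] (Sig : Finset (AddChar S ℂ))
    (h1 : (1 : AddChar S ℂ) ∉ Sig)
    (hS1 : ∀ ψ ∈ Sig, rk ρ t ψ = 1) (hS0 : ∀ ψ : AddChar S ℂ, ψ ≠ 1 → ψ ∉ Sig → rk ρ t ψ = 0)
    (X₀ : S) (w y : G) (hy : y = w * t X₀ * w⁻¹)
    (a : S ≃+ S) (hya : ∀ X, y * t X * y⁻¹ = t (a X))
    (htriv : ∀ ψ ∈ Sig, ψ.compAddMonoidHom (a.symm : S →+ S) = ψ →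
      ρ y * RepChar.proj ρ t ψ = RepChar.proj ρ t ψ) :
    LinearMap.trace ℂ V (ρ y * RepChar.proj ρ t 1) =
      (rk ρ t 1 : ℂ) + ∑ ψ ∈ Sig, ψ X₀ -
        ((Sig.filter (fun ψ : AddChar S ℂ => ψ.compAddMonoidHom (a.symm : S →+ S) = ψ)).card : ℂ) := by
  have hy1 : LinearMap.trace ℂ V (ρ y) = (rk ρ t 1 : ℂ) + ∑ ψ ∈ Sig, ψ X₀ := by
    rw [hy, trace_conj, trace_t_of_supp ρ t ht Sig h1 hS1 hS0 X₀]
  have h2 := trace_eq_sum_fixed ρ t ht y a hya 1 (fun ψ => by rw [one_mul, mul_one])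
  rw [mul_one] at h2
  have hfix1 : (1 : AddChar S ℂ).compAddMonoidHom (a.symm : S →+ S) = 1 := by
    ext X
    simp [AddChar.compAddMonoidHom_apply]
  -- the terms of the sum
  have hterm : ∀ ψ ∈ Finset.univ.filter
      (fun ψ : AddChar S ℂ => ψ.compAddMonoidHom (a.symm : S →+ S) = ψ),
      LinearMap.trace ℂ V (ρ y * RepChar.proj ρ t ψ * 1) =
        (if ψ = 1 then LinearMap.trace ℂ V (ρ y * RepChar.proj ρ t 1) else 0) +
          (if ψ ∈ Sig then (1 : ℂ) else 0) := by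
    intro ψ hψ
    rw [Finset.mem_filter] at hψ
    rw [mul_one]
    by_cases hψ1 : ψ = 1
    · subst hψ1
      rw [if_pos rfl, if_neg h1, add_zero]
    · by_cases hm : ψ ∈ Sig
      · rw [if_neg hψ1, if_pos hm, zero_add, htriv ψ hm hψ.2, trace_proj ρ t ht, hS1 ψ hm,
          Nat.cast_one]
      · rw [if_neg hψ1, if_neg hm, add_zero, proj_eq_zero_of_rk ρ t (hS0 ψ hψ1 hm), mul_zero,
          map_zero]
  rw [Finset.sum_congr rfl hterm, Finset.sum_add_distrib] at h2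
  have hA : ∑ ψ ∈ Finset.univ.filter
      (fun ψ : AddChar S ℂ => ψ.compAddMonoidHom (a.symm : S →+ S) = ψ),
      (if ψ = 1 then LinearMap.trace ℂ V (ρ y * RepChar.proj ρ t 1) else 0) =
        LinearMap.trace ℂ V (ρ y * RepChar.proj ρ t 1) := by
    rw [Finset.sum_ite_eq', if_pos]
    rw [Finset.mem_filter]
    exact ⟨Finset.mem_univ _, hfix1⟩
  have hB : ∑ ψ ∈ Finset.univ.filter
      (fun ψ : AddChar S ℂ => ψ.compAddMonoidHom (a.symm : S →+ S) = ψ),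
      (if ψ ∈ Sig then (1 : ℂ) else 0) =
        ((Sig.filter (fun ψ : AddChar S ℂ =>
          ψ.compAddMonoidHom (a.symm : S →+ S) = ψ)).card : ℂ) := by
    rw [Finset.sum_ite_mem, Finset.sum_const, nsmul_eq_mul, mul_one]
    congr 2
    ext ψ
    simp only [Finset.mem_inter, Finset.mem_filter, Finset.mem_univ, true_and]
    exact and_comm
  rw [hA, hB] at h2
  rw [← hy1, h2]
  ring

include ht in
/-- if the character sum differs from the number of fixed characters, `ι γ₀ = y` acts non-trivially on the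
fixed space of `t S` -/
theorem resRep_ne_one [DecidableEq (AddChar S ℂ)] (Sig : Finset (AddChar S ℂ))
    (h1 : (1 : AddChar S ℂ) ∉ Sig)
    (hS1 : ∀ ψ ∈ Sig, rk ρ t ψ = 1) (hS0 : ∀ ψ : AddChar S ℂ, ψ ≠ 1 → ψ ∉ Sig → rk ρ t ψ = 0)
    {Γ : Type*} [Group Γ] (ι : Γ →* G)
    (hι : ∀ γ, ρ (ι γ) * RepChar.proj ρ t 1 = RepChar.proj ρ t 1 * ρ (ι γ))
    (X₀ : S) (w : G) (γ₀ : Γ) (hy : ι γ₀ = w * t X₀ * w⁻¹)
    (a : S ≃+ S) (hya : ∀ X, ι γ₀ * t X * (ι γ₀)⁻¹ = t (a X))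
    (htriv : ∀ ψ ∈ Sig, ψ.compAddMonoidHom (a.symm : S →+ S) = ψ →
      ρ (ι γ₀) * RepChar.proj ρ t ψ = RepChar.proj ρ t ψ)
    (hne : ∑ ψ ∈ Sig, ψ X₀ ≠
      ((Sig.filter (fun ψ : AddChar S ℂ => ψ.compAddMonoidHom (a.symm : S →+ S) = ψ)).card : ℂ)) :
    resRep ρ (RepChar.proj ρ t 1) ι hι γ₀ ≠ 1 := by
  intro h
  have hp := RepChar.proj_mul_proj ρ t ht (1 : AddChar S ℂ)
  have h3 := trace_resRep ρ (RepChar.proj ρ t 1) ι hp hι γ₀
  rw [h, LinearMap.trace_one,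
    trace_mul_proj_one_of_supp ρ t ht Sig h1 hS1 hS0 X₀ w (ι γ₀) hy a hya htriv] at h3
  apply hne
  have h5 : (finrank ℂ (LinearMap.range (RepChar.proj ρ t 1)) : ℂ) = (rk ρ t 1 : ℂ) := rfl
  rw [h5] at h3
  linear_combination -h3

end Cfsg.Agent.Lib.H9.OrthMin
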