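import Mathlib
import Cfsg.Agent.Lib.H19.PGL2
import Cfsg.Agent.Lib.H13.PGLInvol

set_option autoImplicit false

/-!
# Sylow 2-subgroups of `PGL₂(q)` for a Mersenne prime `q`

Every Sylow 2-subgroup is the centralizer of an elliptic involution, and two such
centralizers always share an involution.
-/

namespace Cfsg.Agent.Lib.H9.PGL2Mersenne

open Matrix Cfsg.Agent.Lib.H19.PGL2
open scoped Pointwise

section general
variable {F : Type*} [Field F]

/-- elliptic trace zero matrix: square is a non-square scalar -/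
structure Ell (E : Matrix (Fin 2) (Fin 2) F) (δ : F) : Prop where
  tr : E 0 0 + E 1 1 = 0
  sq : E * E = δ • (1 : Matrix (Fin 2) (Fin 2) F)
  ns : ¬ IsSquare δ

theorem Ell.delta_eq {E : Matrix (Fin 2) (Fin 2) F} {δ : F} (h : Ell E δ) :
    δ = E 0 0 ^ 2 + E 0 1 * E 1 0 := by
  have h1 := congrFun (congrFun h.sq 0) 0
  simp only [Matrix.mul_apply, Fin.sum_univ_two, Matrix.smul_apply, Matrix.one_apply_eq,
    smul_eq_mul, mul_one] at h1
  rw [← h1]; ring

theorem Ell.e01_ne {E : Matrix (Fin 2) (Fin 2) F} {δ : F} (h : Ell E δ) : E 0 1 ≠ 0 := by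
  intro h0
  apply h.ns
  rw [h.delta_eq, h0, zero_mul, add_zero]
  exact ⟨E 0 0, by ring⟩

theorem Ell.not_scalar {E : Matrix (Fin 2) (Fin 2) F} {δ : F} (h : Ell E δ) : ¬ IsScalar E :=
  fun hs => h.e01_ne hs.1

theorem Ell.delta_ne_zero {E : Matrix (Fin 2) (Fin 2) F} {δ : F} (h : Ell E δ) : δ ≠ 0 := by
  intro h0
  apply h.ns
  rw [h0]
  exact ⟨0, by ring⟩

theorem Ell.delta_ne_one {E : Matrix (Fin 2) (Fin 2) F} {δ : F} (h : Ell E δ) : δ ≠ 1 := by
  intro h0
  apply h.ns
  rw [h0]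
  exact ⟨1, by ring⟩

/-- a singular trace zero matrix anticommuting with an elliptic matrix is zero -/
theorem eq_zero_of_anticomm {E A : Matrix (Fin 2) (Fin 2) F} {δ : F}
    (hE : Ell E δ) (hA : A 0 0 + A 1 1 = 0) (hanti : A * E = -(E * A)) (hdet : A.det = 0) :
    A = 0 := by
  have hd := hE.delta_eq
  have hE11 : E 1 1 = - E 0 0 := by linear_combination hE.tr
  have hA11 : A 1 1 = - A 0 0 := by linear_combination hA
  have h00 := congrFun (congrFun hanti 0) 0
  simp only [Matrix.mul_apply, Fin.sum_univ_two, Matrix.neg_apply] at h00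
  rw [Matrix.det_fin_two, hA11] at hdet
  -- relation: 2 a x + c y + b w = 0 ; x^2 + y w = 0
  have hy : δ * A 0 1 ^ 2 = (E 0 0 * A 0 1 - E 0 1 * A 0 0) ^ 2 := by
    rw [hd]
    linear_combination (E 0 1 * A 0 1) * h00 + (E 0 1 ^ 2) * hdet
  have hw : δ * A 1 0 ^ 2 = (E 0 0 * A 1 0 - E 1 0 * A 0 0) ^ 2 := by
    rw [hd]
    linear_combination (E 1 0 * A 1 0) * h00 + (E 1 0 ^ 2) * hdet
  have y0 : A 0 1 = 0 := by
    by_contra hne
    apply hE.ns
    refine ⟨(E 0 0 * A 0 1 - E 0 1 * A 0 0) / A 0 1, ?_⟩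
    field_simp
    linear_combination hy
  have w0 : A 1 0 = 0 := by
    by_contra hne
    apply hE.ns
    refine ⟨(E 0 0 * A 1 0 - E 1 0 * A 0 0) / A 1 0, ?_⟩
    field_simp
    linear_combination hw
  have x0 : A 0 0 = 0 := by
    rw [y0] at hdet
    have : A 0 0 ^ 2 = 0 := by linear_combination -hdet
    exact pow_eq_zero_iff (two_ne_zero) |>.mp this
  ext i j
  fin_cases i <;> fin_cases j <;> simp [x0, y0, w0, hA11]


local notation "PG" => GL (Fin 2) F ⧸ Subgroup.center (GL (Fin 2) F)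

theorem exists_smul_of_mk_eq {x y : GL (Fin 2) F}
    (h : ((x : GL (Fin 2) F) : PG) = ((y : GL (Fin 2) F) : PG)) :
    ∃ c : F, (y : Matrix (Fin 2) (Fin 2) F) = c • (x : Matrix (Fin 2) (Fin 2) F) := by
  rw [QuotientGroup.eq, Cfsg.Agent.Lib.H13.PGLInvol.mem_center_iff] at h
  obtain ⟨c, hc⟩ := h
  refine ⟨c, ?_⟩
  have h2 : y = x * (x⁻¹ * y) := by group
  rw [h2, Units.val_mul, hc, Matrix.mul_smul, mul_one]

/-- commuting in `PGL₂` means commuting or anticommuting matrices -/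
theorem comm_or_anticomm {g h : GL (Fin 2) F}
    (hc : Commute ((g : GL (Fin 2) F) : PG) ((h : GL (Fin 2) F) : PG)) :
    (g : Matrix (Fin 2) (Fin 2) F) * h = h * g ∨
      (g : Matrix (Fin 2) (Fin 2) F) * h = -((h : Matrix (Fin 2) (Fin 2) F) * g) := by
  have h1 : ((g * h : GL (Fin 2) F) : PG) = ((h * g : GL (Fin 2) F) : PG) := by
    rw [QuotientGroup.mk_mul, QuotientGroup.mk_mul]; exact hc.eq
  obtain ⟨c, hc'⟩ := exists_smul_of_mk_eq h1
  rw [Units.val_mul, Units.val_mul] at hc'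
  have hdet : c ^ 2 = 1 := by
    have := congrArg Matrix.det hc'
    rw [Matrix.det_smul, Matrix.det_mul, Matrix.det_mul, Fintype.card_fin,
      mul_comm (det (h : Matrix (Fin 2) (Fin 2) F))] at this
    have hne : det (g : Matrix (Fin 2) (Fin 2) F) * det (h : Matrix (Fin 2) (Fin 2) F) ≠ 0 := by
      apply mul_ne_zero
      · exact (Matrix.isUnits_det_units g).ne_zero
      · exact (Matrix.isUnits_det_units h).ne_zero
    exact mul_right_cancel₀ hne (by rw [← this, one_mul])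
  have hu1 : c = 1 ∨ c = -1 := by
    have : (c - 1) * (c + 1) = 0 := by linear_combination hdet
    rcases mul_eq_zero.mp this with h | h
    · left; linear_combination h
    · right; linear_combination h
  rcases hu1 with h1 | h1
  · left; rw [hc', h1, one_smul]
  · right; rw [hc', h1, neg_one_smul, neg_neg]

theorem commute_of_comm {g h : GL (Fin 2) F}
    (hc : (g : Matrix (Fin 2) (Fin 2) F) * h = h * g) :
    Commute ((g : GL (Fin 2) F) : PG) ((h : GL (Fin 2) F) : PG) := by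
  have : g * h = h * g := Units.ext (by rw [Units.val_mul, Units.val_mul, hc])
  change ((g : GL (Fin 2) F) : PG) * ((h : GL (Fin 2) F) : PG) = (h : PG) * (g : PG)
  rw [← QuotientGroup.mk_mul, ← QuotientGroup.mk_mul, this]

theorem commute_of_anticomm {g h : GL (Fin 2) F}
    (hc : (g : Matrix (Fin 2) (Fin 2) F) * h = -((h : Matrix (Fin 2) (Fin 2) F) * g)) :
    Commute ((g : GL (Fin 2) F) : PG) ((h : GL (Fin 2) F) : PG) := by
  change ((g : GL (Fin 2) F) : PG) * ((h : GL (Fin 2) F) : PG) = (h : PG) * (g : PG)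
  rw [← QuotientGroup.mk_mul, ← QuotientGroup.mk_mul]
  apply Cfsg.Agent.Lib.H13.PGLInvol.mk_eq_of_smul _ _ (-1 : F)
  rw [Units.val_mul, Units.val_mul, hc, neg_one_smul]

theorem mk_ne_one_of_not_scalar {g : GL (Fin 2) F}
    (hs : ¬ IsScalar (g : Matrix (Fin 2) (Fin 2) F)) : ((g : GL (Fin 2) F) : PG) ≠ 1 := by
  intro h
  rw [Cfsg.Agent.Lib.H13.PGLInvol.mk_eq_one_iff] at h
  obtain ⟨c, hc⟩ := h
  apply hs
  rw [hc]
  simp [IsScalar]


theorem eq_zero_of_eq_neg (h2 : (2 : F) ≠ 0) {X : Matrix (Fin 2) (Fin 2) F} (h : X = -X) :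
    X = 0 := by
  have h3 : (2 : F) • X = 0 := by
    rw [two_smul]
    nth_rewrite 1 [h]
    exact neg_add_cancel X
  exact (smul_eq_zero.mp h3).resolve_left h2

/-- an invertible matrix anticommuting with a given elliptic matrix -/
theorem Ell.exists_anticomm {E : Matrix (Fin 2) (Fin 2) F} {δ : F} (hE : Ell E δ) :
    ∃ A : GL (Fin 2) F, (A : Matrix (Fin 2) (Fin 2) F) * E = -(E * A) := by
  have hE11 : E 1 1 = - E 0 0 := by linear_combination hE.tr
  have hdet : (!![E 0 1, 0; -2 * E 0 0, -E 0 1] : Matrix (Fin 2) (Fin 2) F).det ≠ 0 := by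
    rw [Matrix.det_fin_two_of]
    have := hE.e01_ne
    intro h
    apply this
    have : E 0 1 ^ 2 = 0 := by linear_combination -h
    exact pow_eq_zero_iff two_ne_zero |>.mp this
  refine ⟨Matrix.GeneralLinearGroup.mkOfDetNeZero _ hdet, ?_⟩
  change (!![E 0 1, 0; -2 * E 0 0, -E 0 1] : Matrix (Fin 2) (Fin 2) F) * E = -(E * !![E 0 1, 0; -2 * E 0 0, -E 0 1])
  ext i j
  fin_cases i <;> fin_cases j <;>
    simp [Matrix.mul_apply, Fin.sum_univ_two, hE11] <;> ring

theorem Ell.det_one_add {E : Matrix (Fin 2) (Fin 2) F} {δ : F} (hE : Ell E δ) :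
    (1 + E).det ≠ 0 := by
  have hE11 : E 1 1 = - E 0 0 := by linear_combination hE.tr
  rw [Matrix.det_fin_two]
  simp only [Matrix.add_apply, Matrix.one_apply_eq, hE11]
  have h1 := hE.delta_ne_one
  have h2 := hE.delta_eq
  intro h
  apply h1
  rw [h2]
  simp at h
  linear_combination -h

/-- the double centralizer of an elliptic involution of `PGL₂` -/
theorem eq_one_or_eq_of_commute_centralizer (h2 : (2 : F) ≠ 0) {E : GL (Fin 2) F} {δ : F}
    (hE : Ell (E : Matrix (Fin 2) (Fin 2) F) δ) (b : PG)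
    (hb : ∀ c ∈ Subgroup.centralizer {((E : GL (Fin 2) F) : PG)}, Commute b c) :
    b = 1 ∨ b = ((E : GL (Fin 2) F) : PG) := by
  obtain ⟨B, rfl⟩ := QuotientGroup.mk_surjective b
  obtain ⟨A, hA⟩ := hE.exists_anticomm
  have hAc : ((A : GL (Fin 2) F) : PG) ∈ Subgroup.centralizer {((E : GL (Fin 2) F) : PG)} := by
    rw [Subgroup.mem_centralizer_singleton_iff]
    exact commute_of_anticomm hA
  have hEc : ((E : GL (Fin 2) F) : PG) ∈ Subgroup.centralizer {((E : GL (Fin 2) F) : PG)} := by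
    rw [Subgroup.mem_centralizer_singleton_iff]
  rcases comm_or_anticomm (hb _ hEc) with hBE | hBE
  · obtain ⟨α, β, hB⟩ := exists_eq_add_smul hE.not_scalar hBE
    rcases comm_or_anticomm (hb _ hAc) with h | h
    · left
      -- β = 0
      have h3 : (β • ((E : Matrix (Fin 2) (Fin 2) F) * A)) = -(β • ((E : Matrix (Fin 2) (Fin 2) F) * A)) := by
        rw [hB] at h
        simp only [add_mul, mul_add, smul_mul_assoc, mul_smul_comm, one_mul, mul_one] at h
        have h4 := add_left_cancel h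
        rw [hA, smul_neg] at h4
        exact h4
      have h5 := eq_zero_of_eq_neg h2 h3
      have hβ : β = 0 := by
        rcases smul_eq_zero.mp h5 with h6 | h6
        · exact h6
        · exfalso
          rw [← Units.val_mul] at h6
          exact Units.ne_zero _ h6
      rw [Cfsg.Agent.Lib.H13.PGLInvol.mk_eq_one_iff]
      exact ⟨α, by rw [hB, hβ, zero_smul, add_zero]⟩
    · right
      have h3 : (α • (A : Matrix (Fin 2) (Fin 2) F)) = -(α • (A : Matrix (Fin 2) (Fin 2) F)) := by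
        rw [hB] at h
        simp only [add_mul, mul_add, smul_mul_assoc, mul_smul_comm, one_mul, mul_one, hA,
          smul_neg, neg_add, neg_neg] at h
        exact add_right_cancel h
      have h5 := eq_zero_of_eq_neg h2 h3
      have hα : α = 0 := by
        rcases smul_eq_zero.mp h5 with h6 | h6
        · exact h6
        · exfalso
          exact Units.ne_zero _ h6
      apply Cfsg.Agent.Lib.H13.PGLInvol.mk_eq_of_smul _ _ β
      rw [hB, hα, zero_smul, zero_add]
  · exfalso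
    let f : GL (Fin 2) F := Matrix.GeneralLinearGroup.mkOfDetNeZero _ hE.det_one_add
    have hf : (f : Matrix (Fin 2) (Fin 2) F) = 1 + E := rfl
    have hfc : ((f : GL (Fin 2) F) : PG) ∈ Subgroup.centralizer {((E : GL (Fin 2) F) : PG)} := by
      rw [Subgroup.mem_centralizer_singleton_iff]
      apply commute_of_comm
      rw [hf, add_mul, mul_add, one_mul, mul_one]
    rcases comm_or_anticomm (hb _ hfc) with h | h
    · rw [hf, add_mul, mul_add, one_mul, mul_one, hBE] at h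
      have h4 := add_left_cancel h
      have h5 := eq_zero_of_eq_neg h2 h4.symm
      rw [← Units.val_mul] at h5
      exact Units.ne_zero _ h5
    · rw [hf, add_mul, mul_add, one_mul, mul_one, hBE, neg_add] at h
      have h4 := add_right_cancel h
      have h5 := eq_zero_of_eq_neg h2 h4
      exact Units.ne_zero _ h5


/-- two elliptic involution centralizers in `PGL₂` meet non-trivially -/
theorem exists_mem_centralizer_inf (h2 : (2 : F) ≠ 0) {E E' : GL (Fin 2) F} {δ δ' : F}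
    (hE : Ell (E : Matrix (Fin 2) (Fin 2) F) δ) (hE' : Ell (E' : Matrix (Fin 2) (Fin 2) F) δ') :
    ∃ y : PG, y ≠ 1 ∧ y ∈ Subgroup.centralizer {((E : GL (Fin 2) F) : PG)} ∧
      y ∈ Subgroup.centralizer {((E' : GL (Fin 2) F) : PG)} := by
  by_cases hA0 : (E : Matrix (Fin 2) (Fin 2) F) * E' - E' * E = 0
  · refine ⟨((E' : GL (Fin 2) F) : PG), mk_ne_one_of_not_scalar hE'.not_scalar, ?_, ?_⟩
    · rw [Subgroup.mem_centralizer_singleton_iff]
      exact commute_of_comm (sub_eq_zero.mp hA0).symm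
    · rw [Subgroup.mem_centralizer_singleton_iff]
  · have hAE : ((E : Matrix (Fin 2) (Fin 2) F) * E' - E' * E) * E =
        -(E * ((E : Matrix (Fin 2) (Fin 2) F) * E' - E' * E)) := by
      have key : ((E : Matrix (Fin 2) (Fin 2) F) * E' - E' * E) * E +
          E * ((E : Matrix (Fin 2) (Fin 2) F) * E' - E' * E) =
          (E : Matrix (Fin 2) (Fin 2) F) * E * E' - E' * ((E : Matrix (Fin 2) (Fin 2) F) * E) := by
        noncomm_ring
      rw [hE.sq, smul_mul_assoc, mul_smul_comm, one_mul, mul_one, sub_self] at key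
      exact eq_neg_of_add_eq_zero_left key
    have hAE' : ((E : Matrix (Fin 2) (Fin 2) F) * E' - E' * E) * E' =
        -(E' * ((E : Matrix (Fin 2) (Fin 2) F) * E' - E' * E)) := by
      have key : ((E : Matrix (Fin 2) (Fin 2) F) * E' - E' * E) * E' +
          E' * ((E : Matrix (Fin 2) (Fin 2) F) * E' - E' * E) =
          (E : Matrix (Fin 2) (Fin 2) F) * ((E' : Matrix (Fin 2) (Fin 2) F) * E') -
            (E' : Matrix (Fin 2) (Fin 2) F) * E' * E := by
        noncomm_ring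
      rw [hE'.sq, smul_mul_assoc, mul_smul_comm, one_mul, mul_one, sub_self] at key
      exact eq_neg_of_add_eq_zero_left key
    have htr : ((E : Matrix (Fin 2) (Fin 2) F) * E' - E' * E) 0 0 +
        ((E : Matrix (Fin 2) (Fin 2) F) * E' - E' * E) 1 1 = 0 := by
      rw [← Matrix.trace_fin_two, Matrix.trace_sub, Matrix.trace_mul_comm, sub_self]
    have hdet : ((E : Matrix (Fin 2) (Fin 2) F) * E' - E' * E).det ≠ 0 :=
      fun hd => hA0 (eq_zero_of_anticomm hE htr hAE hd)
    let A : GL (Fin 2) F := Matrix.GeneralLinearGroup.mkOfDetNeZero _ hdet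
    have hAv : (A : Matrix (Fin 2) (Fin 2) F) = (E : Matrix (Fin 2) (Fin 2) F) * E' - E' * E := rfl
    refine ⟨((A : GL (Fin 2) F) : PG), mk_ne_one_of_not_scalar ?_, ?_, ?_⟩
    · rintro ⟨h01, h10, h00⟩
      rw [hAv] at h01 h10 h00
      have h3 : ((E : Matrix (Fin 2) (Fin 2) F) * E' - E' * E) 0 0 = 0 := by
        have : (2 : F) * ((E : Matrix (Fin 2) (Fin 2) F) * E' - E' * E) 0 0 = 0 := by
          rw [← h00] at htr
          linear_combination htr
        exact (mul_eq_zero.mp this).resolve_left h2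
      apply hA0
      ext i j
      fin_cases i <;> fin_cases j
      · exact h3
      · exact h01
      · exact h10
      · exact h00.symm.trans h3
    · rw [Subgroup.mem_centralizer_singleton_iff]
      exact commute_of_anticomm (by rw [hAv]; exact hAE)
    · rw [Subgroup.mem_centralizer_singleton_iff]
      exact commute_of_anticomm (by rw [hAv]; exact hAE')

theorem conj_smul_centralizer {G : Type*} [Group G] (g a : G) :
    MulAut.conj g • Subgroup.centralizer {a} = Subgroup.centralizer {g * a * g⁻¹} := by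
  ext y
  rw [Subgroup.mem_pointwise_smul_iff_inv_smul_mem, Subgroup.mem_centralizer_singleton_iff,
    Subgroup.mem_centralizer_singleton_iff, ← map_inv, MulAut.smul_def, MulAut.conj_apply, inv_inv]
  constructor
  · intro h
    have : y * (g * a * g⁻¹) = g * (g⁻¹ * y * g * a) * g⁻¹ := by group
    rw [this, h]; group
  · intro h
    have : g⁻¹ * y * g * a = g⁻¹ * (y * (g * a * g⁻¹)) * g := by group
    rw [this, h]; group

theorem Ell.conj {E : GL (Fin 2) F} {δ : F} (hE : Ell (E : Matrix (Fin 2) (Fin 2) F) δ)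
    (X : GL (Fin 2) F) : Ell ((X * E * X⁻¹ : GL (Fin 2) F) : Matrix (Fin 2) (Fin 2) F) δ := by
  refine ⟨?_, ?_, hE.ns⟩
  · rw [← Matrix.trace_fin_two, Units.val_mul, Units.val_mul, Matrix.trace_units_conj,
      Matrix.trace_fin_two]
    exact hE.tr
  · rw [← Units.val_mul]
    have : X * E * X⁻¹ * (X * E * X⁻¹) = X * (E * E) * X⁻¹ := by group
    rw [this, Units.val_mul, Units.val_mul, Units.val_mul, hE.sq, mul_smul_comm, smul_mul_assoc,
      mul_one, ← Units.val_mul, mul_inv_cancel, Units.val_one]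

end general


section zmod
variable {q : ℕ} [Fact q.Prime]

theorem Ell.pow_card {E : Matrix (Fin 2) (Fin 2) (ZMod q)} {δ : ZMod q} (hE : Ell E δ)
    (hq2 : q ≠ 2) : E ^ q = -E := by
  have hodd : Odd q := (Fact.out : q.Prime).odd_of_ne_two hq2
  have hq : 2 * (q / 2) + 1 = q := Nat.two_mul_div_two_add_one_of_odd hodd
  have hd : δ ^ (q / 2) = -1 := by
    rcases ZMod.pow_div_two_eq_neg_one_or_one q hE.delta_ne_zero with h | h
    · exact absurd ((ZMod.euler_criterion q hE.delta_ne_zero).mpr h) hE.ns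
    · exact h
  have h1 : E ^ (2 * (q / 2) + 1) = -E := by
    rw [pow_succ, pow_mul, pow_two, hE.sq, smul_pow, one_pow, hd, smul_mul_assoc, one_mul,
      neg_one_smul]
  rwa [hq] at h1

theorem Ell.pow_card_succ {E : Matrix (Fin 2) (Fin 2) (ZMod q)} {δ : ZMod q} (hE : Ell E δ)
    (hq2 : q ≠ 2) (α β : ZMod q) :
    (α • (1 : Matrix (Fin 2) (Fin 2) (ZMod q)) + β • E) ^ (q + 1) =
      (α ^ 2 - β ^ 2 * δ) • (1 : Matrix (Fin 2) (Fin 2) (ZMod q)) := by
  have hc : Commute (α • (1 : Matrix (Fin 2) (Fin 2) (ZMod q))) (β • E) :=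
    ((Commute.one_left E).smul_left α).smul_right β
  rw [pow_succ, add_pow_char_of_commute q hc, smul_pow, smul_pow, one_pow, ZMod.pow_card,
    ZMod.pow_card, hE.pow_card hq2]
  simp only [add_mul, mul_add, smul_mul_assoc, mul_smul_comm, one_mul, mul_one, smul_neg,
    neg_mul, hE.sq, smul_smul]
  module


local notation "PGq" => GL (Fin 2) (ZMod q) ⧸ Subgroup.center (GL (Fin 2) (ZMod q))

theorem pow_card_succ_eq_one (hq2 : q ≠ 2) {E B : GL (Fin 2) (ZMod q)} {δ : ZMod q}
    (hE : Ell (E : Matrix (Fin 2) (Fin 2) (ZMod q)) δ)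
    (hc : (B : Matrix (Fin 2) (Fin 2) (ZMod q)) * E = E * B) :
    ((B : GL (Fin 2) (ZMod q)) : PGq) ^ (q + 1) = 1 := by
  obtain ⟨α, β, hB⟩ := exists_eq_add_smul hE.not_scalar hc
  rw [← QuotientGroup.mk_pow, Cfsg.Agent.Lib.H13.PGLInvol.mk_eq_one_iff]
  refine ⟨α ^ 2 - β ^ 2 * δ, ?_⟩
  rw [Units.val_pow_eq_pow_val, hB, hE.pow_card_succ hq2]

theorem pow_eq_one_of_commute {k : ℕ} (hk : q + 1 = 2 ^ k) (hq2 : q ≠ 2)
    {E B : GL (Fin 2) (ZMod q)} {δ : ZMod q}
    (hE : Ell (E : Matrix (Fin 2) (Fin 2) (ZMod q)) δ)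
    (hc : Commute ((B : GL (Fin 2) (ZMod q)) : PGq) ((E : GL (Fin 2) (ZMod q)) : PGq)) :
    ((B : GL (Fin 2) (ZMod q)) : PGq) ^ (2 ^ (k + 1)) = 1 := by
  rcases comm_or_anticomm hc with h | h
  · rw [pow_succ, ← hk, pow_mul, pow_card_succ_eq_one hq2 hE h, one_pow]
  · have h2 : ((B * B : GL (Fin 2) (ZMod q)) : Matrix (Fin 2) (Fin 2) (ZMod q)) * E = E * (B * B : GL (Fin 2) (ZMod q)) := by
      rw [Units.val_mul, Matrix.mul_assoc, h, Matrix.mul_neg, ← Matrix.mul_assoc, h,
        Matrix.neg_mul, neg_neg, Matrix.mul_assoc]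
    have h3 := pow_card_succ_eq_one hq2 hE h2
    rw [pow_succ, ← hk, mul_comm, pow_mul, pow_two, ← QuotientGroup.mk_mul]
    exact h3

theorem isPGroup_centralizer {k : ℕ} (hk : q + 1 = 2 ^ k) (hq2 : q ≠ 2)
    {E : GL (Fin 2) (ZMod q)} {δ : ZMod q}
    (hE : Ell (E : Matrix (Fin 2) (Fin 2) (ZMod q)) δ) :
    IsPGroup 2 ↥(Subgroup.centralizer {((E : GL (Fin 2) (ZMod q)) : PGq)}) := by
  rintro ⟨g, hg⟩
  obtain ⟨B, rfl⟩ := QuotientGroup.mk_surjective g
  refine ⟨k + 1, Subtype.ext ?_⟩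
  rw [Subgroup.mem_centralizer_singleton_iff] at hg
  rw [Subgroup.coe_pow, Subgroup.coe_one]
  exact pow_eq_one_of_commute hk hq2 hE (show Commute _ _ from hg)


theorem two_ne_zero_of_ne (hq2 : q ≠ 2) : (2 : ZMod q) ≠ 0 := by
  intro h
  have h1 : ((2 : ℕ) : ZMod q) = 0 := by exact_mod_cast h
  rw [ZMod.natCast_eq_zero_iff] at h1
  have := (Nat.prime_dvd_prime_iff_eq (Fact.out : q.Prime) Nat.prime_two).mp h1
  exact hq2 this

/-- the centralizer of an elliptic involution is a Sylow `2`-subgroup -/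
theorem exists_sylow_eq_centralizer {k : ℕ} (hk : q + 1 = 2 ^ k) (hq2 : q ≠ 2)
    {E : GL (Fin 2) (ZMod q)} {δ : ZMod q}
    (hE : Ell (E : Matrix (Fin 2) (Fin 2) (ZMod q)) δ) :
    ∃ P : Sylow 2 PGq, (P : Subgroup PGq) =
      Subgroup.centralizer {((E : GL (Fin 2) (ZMod q)) : PGq)} := by
  have : Fact (Nat.Prime 2) := ⟨Nat.prime_two⟩
  obtain ⟨P, hP⟩ := (isPGroup_centralizer hk hq2 hE).exists_le_sylow
  refine ⟨P, le_antisymm ?_ hP⟩
  have heP : ((E : GL (Fin 2) (ZMod q)) : PGq) ∈ (P : Subgroup PGq) := by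
    apply hP
    rw [Subgroup.mem_centralizer_singleton_iff]
  have hne : ((E : GL (Fin 2) (ZMod q)) : PGq) ≠ 1 := mk_ne_one_of_not_scalar hE.not_scalar
  have hnt : Nontrivial ↥(P : Subgroup PGq) :=
    ⟨⟨⟨_, heP⟩, 1, fun h => hne (congrArg Subtype.val h)⟩⟩
  have hcn := IsPGroup.center_nontrivial P.isPGroup'
  obtain ⟨⟨z, hz⟩, hz1⟩ := exists_ne (1 : ↥(Subgroup.center ↥(P : Subgroup PGq)))
  have hz1' : (z : PGq) ≠ 1 := by
    intro h
    apply hz1
    apply Subtype.ext
    apply Subtype.ext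
    exact h
  rw [Subgroup.mem_center_iff] at hz
  have hzc : ∀ c ∈ Subgroup.centralizer {((E : GL (Fin 2) (ZMod q)) : PGq)},
      Commute (z : PGq) c := by
    intro c hc
    have := hz ⟨c, hP hc⟩
    have h3 := congrArg Subtype.val this
    simp only [Subgroup.coe_mul] at h3
    exact h3.symm
  rcases eq_one_or_eq_of_commute_centralizer (two_ne_zero_of_ne hq2) hE _ hzc with h | h
  · exact absurd h hz1'
  · intro p hp
    rw [Subgroup.mem_centralizer_singleton_iff, ← h]
    have := hz ⟨p, hp⟩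
    have h3 := congrArg Subtype.val this
    simp only [Subgroup.coe_mul] at h3
    exact h3

/-- the standard elliptic element -/
theorem exists_ell (hq : q % 4 = 3) :
    ∃ (E : GL (Fin 2) (ZMod q)) (δ : ZMod q), Ell (E : Matrix (Fin 2) (Fin 2) (ZMod q)) δ := by
  have hdet : (!![0, -1; 1, 0] : Matrix (Fin 2) (Fin 2) (ZMod q)).det ≠ 0 := by
    rw [Matrix.det_fin_two_of]
    simp
  refine ⟨Matrix.GeneralLinearGroup.mkOfDetNeZero _ hdet, -1, ?_, ?_, ?_⟩
  · change (!![0, -1; 1, 0] : Matrix (Fin 2) (Fin 2) (ZMod q)) 0 0 + (!![0, -1; 1, 0] : Matrix (Fin 2) (Fin 2) (ZMod q)) 1 1 = 0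
    simp
  · change (!![0, -1; 1, 0] : Matrix (Fin 2) (Fin 2) (ZMod q)) * !![0, -1; 1, 0] = _
    ext i j
    fin_cases i <;> fin_cases j <;> simp [Matrix.mul_apply, Fin.sum_univ_two]
  · rw [ZMod.exists_sq_eq_neg_one_iff]
    intro h; exact h hq

/-- every Sylow `2`-subgroup of `PGL₂(q)`, `q` a Mersenne prime, is the centralizer of an
elliptic involution -/
theorem sylow_eq_centralizer {k : ℕ} (hk : q + 1 = 2 ^ k) (hq : q % 4 = 3)
    (H : Sylow 2 PGq) :
    ∃ (E : GL (Fin 2) (ZMod q)) (δ : ZMod q), Ell (E : Matrix (Fin 2) (Fin 2) (ZMod q)) δ ∧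
      (H : Subgroup PGq) = Subgroup.centralizer {((E : GL (Fin 2) (ZMod q)) : PGq)} := by
  have : Fact (Nat.Prime 2) := ⟨Nat.prime_two⟩
  have hq2 : q ≠ 2 := by rintro rfl; omega
  obtain ⟨E0, δ, hE0⟩ := exists_ell hq
  obtain ⟨P, hP⟩ := exists_sylow_eq_centralizer hk hq2 hE0
  obtain ⟨g, hg⟩ := MulAction.exists_smul_eq PGq P H
  obtain ⟨X, rfl⟩ := QuotientGroup.mk_surjective g
  refine ⟨X * E0 * X⁻¹, δ, hE0.conj X, ?_⟩
  rw [← hg, Sylow.smul_def, Sylow.pointwise_smul_def, hP, conj_smul_centralizer]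
  rfl

end zmod

end Cfsg.Agent.Lib.H9.PGL2Mersenne
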