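import Mathlib
import Cfsg.Agent.Lib.H9.PolySeq

/-!
helper9: polynomial sequences with respect to a pair of filtrations `Γ' ≤ Γ` with
`[Γ i, Γ j] ≤ Γ' (i + j)` and `Γ (i+1) ≤ Γ' i`: the Newton expansion
`f = ∏_{i=1}^{N} B (D^i f 0) i * r` with `r` polynomial with respect to `Γ'`, vanishing at `0, 1`.
-/

set_option autoImplicit false

namespace Cfsg.Agent.Lib.H9.PolyPair

open Cfsg.Agent.Lib.H9.PolySeq

open scoped commutatorElement

variable {G : Type*} [Group G]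

/-- a pair of strongly central filtrations, the second one absorbing the commutators of the first -/
structure IsPair (Γ Γ' : ℕ → Subgroup G) : Prop where
  h : IsNSeries Γ
  h' : IsNSeries Γ'
  le : ∀ i, Γ' i ≤ Γ i
  comm : ∀ i j, ⁅Γ i, Γ j⁆ ≤ Γ' (i + j)
  succ_le : ∀ i, Γ (i + 1) ≤ Γ' i

variable {Γ Γ' : ℕ → Subgroup G}

theorem pol_of' (hP : IsPair Γ Γ') (k : ℕ) : ∀ (d : ℕ) (f : ℕ → G), Pol Γ' k d f → Pol Γ k d f := by
  induction k with
  | zero => intro d f h n; exact hP.le d (h n)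
  | succ k ih => intro d f h; exact ⟨fun n => hP.le d (h.1 n), ih (d + 1) _ h.2⟩

/-- commutators of `Γ`-polynomial sequences are `Γ'`-polynomial -/
theorem pol_mixed (hP : IsPair Γ Γ') (k : ℕ) : ∀ (i j : ℕ) (f g : ℕ → G),
    Pol Γ k i f → Pol Γ k j g → Pol Γ' k (i + j) ⁅f, g⁆ := by
  induction k with
  | zero =>
    intro i j f g hf hg n
    exact hP.comm i j (Subgroup.commutator_mem_commutator (hf n) (hg n))
  | succ k ih =>
    intro i j f g hf hg
    refine ⟨fun n => hP.comm i j (Subgroup.commutator_mem_commutator (hf.1 n) (hg.1 n)), ?_⟩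
    rw [D_comm]
    have hQ' := Q_all hP.h' k
    have hf0 := hf.of_succ
    have hg0 := hg.of_succ
    have hc : Pol Γ' k (i + j) ⁅f, g⁆ := ih i j f g hf0 hg0
    have h1 : Pol Γ' k (i + j + 1) ⁅D f, g⁆ :=
      Pol.mono_le hP.h' (by omega) (ih (i + 1) j _ _ hf.2 hg0)
    have h2 : Pol Γ' k (i + j + 1) ⁅D f, D g⁆ :=
      Pol.mono_le hP.h' (by omega) (ih (i + 1) (j + 1) _ _ hf.2 hg.2)
    have h3 : Pol Γ' k (i + j + 1) ⁅f, D g⁆ :=
      Pol.mono_le hP.h' (by omega) (ih i (j + 1) _ _ hf0 hg.2)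
    have conj : ∀ (e e' : ℕ) (h u : ℕ → G), Pol Γ k e' h → Pol Γ' k e u →
        Pol Γ' k e (h * u * h⁻¹) := by
      intro e e' h u hh hu
      have : h * u * h⁻¹ = ⁅h, u⁆ * u := by rw [commutatorElement_def]; group
      rw [this]
      exact hQ'.mul e _ _
        (Pol.mono_le hP.h' (by omega) (ih e' e h u hh (pol_of' hP k e u hu))) hu
    have h4 := conj _ _ g _ hg0 h2
    have h5 := conj _ _ f _ hf0 (hQ'.mul _ _ _ h1 h4)
    have h6 := Q.conj' hP.h' hQ' hc h5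
    have h7 := conj _ _ g _ hg0 h3
    exact hQ'.mul _ _ _ h6 h7

/-! ### polynomial sequences of all orders -/

/-- polynomial of all orders -/
def PA (Γ : ℕ → Subgroup G) (d : ℕ) (f : ℕ → G) : Prop := ∀ k, Pol Γ k d f

theorem PA.one (hΓ : IsNSeries Γ) (d : ℕ) : PA Γ d (1 : ℕ → G) := fun k => (Q_all hΓ k).one d

theorem PA.mul (hΓ : IsNSeries Γ) {d : ℕ} {f g : ℕ → G} (hf : PA Γ d f) (hg : PA Γ d g) :
    PA Γ d (f * g) := fun k => (Q_all hΓ k).mul d f g (hf k) (hg k)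

theorem PA.inv (hΓ : IsNSeries Γ) {d : ℕ} {f : ℕ → G} (hf : PA Γ d f) : PA Γ d f⁻¹ :=
  fun k => (Q_all hΓ k).inv d f (hf k)

theorem PA.diff {d : ℕ} {f : ℕ → G} (hf : PA Γ d f) : PA Γ (d + 1) (D f) := fun k => (hf (k + 1)).2

theorem PA.mono (hΓ : IsNSeries Γ) {d d' : ℕ} {f : ℕ → G} (h : d ≤ d') (hf : PA Γ d' f) :
    PA Γ d f := fun k => Pol.mono_le hΓ h (hf k)

theorem PA.mem {d : ℕ} {f : ℕ → G} (hf : PA Γ d f) (n : ℕ) : f n ∈ Γ d := hf 0 n

theorem PA.of' (hP : IsPair Γ Γ') {d : ℕ} {f : ℕ → G} (hf : PA Γ' d f) : PA Γ d f :=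
  fun k => pol_of' hP k d f (hf k)

theorem PA.mixed (hP : IsPair Γ Γ') {i j : ℕ} {f g : ℕ → G} (hf : PA Γ i f) (hg : PA Γ j g) :
    PA Γ' (i + j) ⁅f, g⁆ := fun k => pol_mixed hP k i j f g (hf k) (hg k)

theorem PA.conj (hP : IsPair Γ Γ') {e e' : ℕ} {h u : ℕ → G} (hh : PA Γ e' h) (hu : PA Γ' e u) :
    PA Γ' e (h * u * h⁻¹) := by
  have : h * u * h⁻¹ = ⁅h, u⁆ * u := by rw [commutatorElement_def]; group
  rw [this]
  exact PA.mul hP.h' (PA.mono hP.h' (by omega) (PA.mixed hP hh (PA.of' hP hu))) hu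

theorem PA.conj' (hP : IsPair Γ Γ') {e e' : ℕ} {h u : ℕ → G} (hh : PA Γ e' h) (hu : PA Γ' e u) :
    PA Γ' e (h⁻¹ * u * h) := by
  have := PA.conj hP (PA.inv hP.h hh) hu
  rwa [inv_inv] at this

theorem PA.iter {d : ℕ} {f : ℕ → G} (hf : PA Γ d f) : ∀ k, PA Γ (d + k) (D^[k] f) := by
  intro k
  induction k with
  | zero => exact hf
  | succ k ih =>
    rw [Function.iterate_succ_apply']
    exact ih.diff

theorem pol_of_iter : ∀ (k d : ℕ) (f : ℕ → G), (∀ j n, (D^[j] f) n ∈ Γ (d + j)) → Pol Γ k d f := by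
  intro k
  induction k with
  | zero =>
    intro d f h n
    exact h 0 n
  | succ k ih =>
    intro d f h
    refine ⟨fun n => h 0 n, ih (d + 1) (D f) ?_⟩
    intro j n
    have := h (j + 1) n
    rw [Function.iterate_succ_apply] at this
    rwa [show d + (j + 1) = d + 1 + j by omega] at this

/-! ### congruence modulo `Γ'`-polynomial sequences -/

/-- `u ≡ v` modulo `Γ'`-polynomial sequences of degree `d` -/
def Cg (Γ' : ℕ → Subgroup G) (d : ℕ) (u v : ℕ → G) : Prop := PA Γ' d (u⁻¹ * v)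

theorem Cg.refl (hP : IsPair Γ Γ') (d : ℕ) (u : ℕ → G) : Cg Γ' d u u := by
  unfold Cg
  rw [inv_mul_cancel]
  exact PA.one hP.h' d

theorem Cg.symm (hP : IsPair Γ Γ') {d : ℕ} {u v : ℕ → G} (h : Cg Γ' d u v) : Cg Γ' d v u := by
  unfold Cg at *
  have := PA.inv hP.h' h
  rwa [mul_inv_rev, inv_inv] at this

theorem Cg.trans (hP : IsPair Γ Γ') {d : ℕ} {u v w : ℕ → G} (h1 : Cg Γ' d u v)
    (h2 : Cg Γ' d v w) : Cg Γ' d u w := by
  unfold Cg at *
  have := PA.mul hP.h' h1 h2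
  rwa [show u⁻¹ * v * (v⁻¹ * w) = u⁻¹ * w by group] at this

theorem Cg.mul (hP : IsPair Γ Γ') {d e : ℕ} {u u' v v' : ℕ → G} (hv : PA Γ e v)
    (h1 : Cg Γ' d u u') (h2 : Cg Γ' d v v') : Cg Γ' d (u * v) (u' * v') := by
  unfold Cg at *
  have h3 := PA.conj' hP hv h1
  have := PA.mul hP.h' h3 h2
  rwa [show v⁻¹ * (u⁻¹ * u') * v * (v⁻¹ * v') = (u * v)⁻¹ * (u' * v') by group] at this

theorem Cg.inv (hP : IsPair Γ Γ') {d e : ℕ} {u v : ℕ → G} (hu : PA Γ e u)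
    (h : Cg Γ' d u v) : Cg Γ' d u⁻¹ v⁻¹ := by
  unfold Cg at *
  have := PA.conj hP hu (PA.inv hP.h' h)
  rwa [show u * (u⁻¹ * v)⁻¹ * u⁻¹ = (u⁻¹)⁻¹ * v⁻¹ by group] at this

theorem Cg.diff (hP : IsPair Γ Γ') {d : ℕ} {u v : ℕ → G} (hu : PA Γ d u)
    (h : Cg Γ' d u v) : Cg Γ' (d + 1) (D u) (D v) := by
  unfold Cg at *
  set w := u⁻¹ * v with hw
  have hv : v = u * w := by rw [hw]; group
  rw [hv, D_mul]
  have h1 : PA Γ' (d + 1) ⁅(D u)⁻¹, w⁻¹⁆ :=
    PA.mono hP.h' (by omega)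
      (PA.mixed hP (PA.inv hP.h hu.diff) (PA.inv hP.h (PA.of' hP h)))
  have := PA.mul hP.h' h1 h.diff
  rwa [show ⁅(D u)⁻¹, w⁻¹⁆ * D w = (D u)⁻¹ * (D u * ⁅(D u)⁻¹, w⁻¹⁆ * D w) by group] at this

theorem D_mul_cg (hP : IsPair Γ Γ') {d : ℕ} {u v : ℕ → G} (hu : PA Γ d u) (hv : PA Γ d v) :
    Cg Γ' (d + 1) (D (u * v)) (D u * D v) := by
  unfold Cg
  rw [D_mul]
  have h1 : PA Γ' (d + 1) ⁅(D u)⁻¹, v⁻¹⁆ :=
    PA.mono hP.h' (by omega) (PA.mixed hP (PA.inv hP.h hu.diff) (PA.inv hP.h hv))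
  have := PA.conj' hP hv.diff (PA.inv hP.h' h1)
  rwa [show (D v)⁻¹ * ⁅(D u)⁻¹, v⁻¹⁆⁻¹ * D v = (D u * ⁅(D u)⁻¹, v⁻¹⁆ * D v)⁻¹ * (D u * D v) by
    group] at this

theorem D_inv_cg (hP : IsPair Γ Γ') {d : ℕ} {u : ℕ → G} (hu : PA Γ d u) :
    Cg Γ' (d + 1) (D u⁻¹) (D u)⁻¹ := by
  unfold Cg
  rw [D_inv]
  have h1 : PA Γ' (d + 1) ⁅u, (D u)⁻¹⁆ :=
    PA.mono hP.h' (by omega) (PA.mixed hP hu (PA.inv hP.h hu.diff))
  have := PA.conj hP hu.diff (PA.inv hP.h' h1)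
  rwa [show D u * ⁅u, (D u)⁻¹⁆⁻¹ * (D u)⁻¹ = (⁅u, (D u)⁻¹⁆ * (D u)⁻¹)⁻¹ * (D u)⁻¹ by group] at this

theorem iter_mul_cg (hP : IsPair Γ Γ') {d : ℕ} {u v : ℕ → G} (hu : PA Γ d u) (hv : PA Γ d v) :
    ∀ k, Cg Γ' (d + k) (D^[k] (u * v)) (D^[k] u * D^[k] v) := by
  intro k
  induction k with
  | zero => exact Cg.refl hP d _
  | succ k ih =>
    rw [Function.iterate_succ_apply', Function.iterate_succ_apply', Function.iterate_succ_apply']
    exact Cg.trans hP (Cg.diff hP (PA.iter (PA.mul hP.h hu hv) k) ih)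
      (D_mul_cg hP (PA.iter hu k) (PA.iter hv k))

theorem iter_inv_cg (hP : IsPair Γ Γ') {d : ℕ} {u : ℕ → G} (hu : PA Γ d u) :
    ∀ k, Cg Γ' (d + k) (D^[k] u⁻¹) (D^[k] u)⁻¹ := by
  intro k
  induction k with
  | zero => exact Cg.refl hP d _
  | succ k ih =>
    rw [Function.iterate_succ_apply', Function.iterate_succ_apply']
    exact Cg.trans hP (Cg.diff hP (PA.iter (PA.inv hP.h hu) k) ih) (D_inv_cg hP (PA.iter hu k))

/-! ### iterated differences of the binomial sequences -/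

theorem iter_one : ∀ k, D^[k] (1 : ℕ → G) = 1 := by
  intro k
  induction k with
  | zero => rfl
  | succ k ih => rw [Function.iterate_succ_apply', ih, D_one]

theorem iter_B_add (g : G) : ∀ k m, D^[k] (B g (m + k)) = B g m := by
  intro k
  induction k with
  | zero => intro m; rfl
  | succ k ih =>
    intro m
    rw [Function.iterate_succ_apply, show m + (k + 1) = (m + k) + 1 by omega, D_B_succ, ih]

theorem iter_B_lt (g : G) {k m : ℕ} (h : m < k) : D^[k] (B g m) = 1 := by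
  obtain ⟨t, rfl⟩ : ∃ t, k = t + 1 + m := ⟨k - m - 1, by omega⟩
  rw [Function.iterate_add_apply]
  have := iter_B_add g m 0
  rw [zero_add] at this
  rw [this, Function.iterate_succ_apply, D_B_zero, iter_one]

theorem iter_B_zero (g : G) (k m : ℕ) : (D^[k] (B g m)) 0 = if m = k then g else 1 := by
  rcases lt_trichotomy m k with h | h | h
  · rw [iter_B_lt g h, if_neg (by omega)]; rfl
  · subst h
    have := iter_B_add g m 0
    rw [zero_add] at this
    rw [this, if_pos rfl]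
    simp [B]
  · obtain ⟨t, rfl⟩ : ∃ t, m = t + 1 + k := ⟨m - k - 1, by omega⟩
    rw [iter_B_add, if_neg (by omega)]
    simp [B]

/-! ### the Newton product -/

/-- `∏_{i=1}^{N} B (a i) i` (in this order) -/
def NP (a : ℕ → G) : ℕ → (ℕ → G)
  | 0 => 1
  | (N + 1) => NP a N * B (a (N + 1)) (N + 1)

/-- `∏_{i=1}^{N} D^k B (a i) i` -/
def NPD (a : ℕ → G) (k : ℕ) : ℕ → (ℕ → G)
  | 0 => 1
  | (N + 1) => NPD a k N * D^[k] (B (a (N + 1)) (N + 1))

theorem pa_B (hΓ : IsNSeries Γ) {g : G} {m : ℕ} (hg : g ∈ Γ m) : PA Γ 0 (B g m) :=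
  fun k => pol_B hΓ k 0 m g (by simpa using hg)

theorem pa_NP (hΓ : IsNSeries Γ) {a : ℕ → G} (ha : ∀ i, a i ∈ Γ i) : ∀ N, PA Γ 0 (NP a N) := by
  intro N
  induction N with
  | zero => exact PA.one hΓ 0
  | succ N ih => exact PA.mul hΓ ih (pa_B hΓ (ha (N + 1)))

theorem NP_cg (hP : IsPair Γ Γ') {a : ℕ → G} (ha : ∀ i, a i ∈ Γ i) (k : ℕ) :
    ∀ N, Cg Γ' (0 + k) (D^[k] (NP a N)) (NPD a k N) := by
  intro N
  induction N with
  | zero =>
    show Cg Γ' (0 + k) (D^[k] (1 : ℕ → G)) 1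
    rw [iter_one]
    exact Cg.refl hP _ _
  | succ N ih =>
    show Cg Γ' (0 + k) (D^[k] (NP a N * B (a (N + 1)) (N + 1)))
      (NPD a k N * D^[k] (B (a (N + 1)) (N + 1)))
    have hB : PA Γ 0 (B (a (N + 1)) (N + 1)) := pa_B hP.h (ha (N + 1))
    exact Cg.trans hP (iter_mul_cg hP (pa_NP hP.h ha N) hB k)
      (Cg.mul hP (PA.iter hB k) ih (Cg.refl hP _ _))

theorem NPD_zero (a : ℕ → G) (k : ℕ) :
    ∀ N, (NPD a k N) 0 = if 1 ≤ k ∧ k ≤ N then a k else 1 := by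
  intro N
  induction N with
  | zero =>
    rw [if_neg (by omega)]
    rfl
  | succ N ih =>
    show (NPD a k N) 0 * (D^[k] (B (a (N + 1)) (N + 1))) 0 = _
    rw [ih, iter_B_zero]
    by_cases h1 : N + 1 = k
    · subst h1
      rw [if_pos rfl, if_neg (by omega), if_pos (by omega), one_mul]
    · rw [if_neg h1, mul_one]
      by_cases h2 : 1 ≤ k ∧ k ≤ N
      · rw [if_pos h2, if_pos (by omega)]
      · rw [if_neg h2, if_neg (by omega)]

theorem NP_zero (a : ℕ → G) : ∀ N, (NP a N) 0 = 1 := by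
  intro N
  induction N with
  | zero => rfl
  | succ N ih =>
    show (NP a N) 0 * (B (a (N + 1)) (N + 1)) 0 = 1
    rw [ih]
    simp [B]

theorem NP_one (a : ℕ → G) : ∀ N, 1 ≤ N → (NP a N) 1 = a 1 := by
  intro N
  induction N with
  | zero => intro h; omega
  | succ N ih =>
    intro _
    show (NP a N) 1 * (B (a (N + 1)) (N + 1)) 1 = a 1
    rcases Nat.eq_zero_or_pos N with h | h
    · subst h
      show (1 : G) * _ = _
      simp [B]
    · rw [ih h]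
      have : Nat.choose 1 (N + 1) = 0 := Nat.choose_eq_zero_of_lt (by omega)
      simp [B, this]

/-- **Newton expansion modulo `Γ'`.** -/
theorem newton (hP : IsPair Γ Γ') {c N : ℕ} (hc : Γ' (c + 1) = ⊥) (hN : Γ (N + 1) = ⊥)
    (hN1 : 1 ≤ N) (f : ℕ → G) (hf : PA Γ 0 f) (hf0 : f 0 = 1) (n : ℕ) :
    ∃ w ∈ W Γ' 2 n, f n = (NP (fun i => (D^[i] f) 0) N) n * w := by
  set a : ℕ → G := fun i => (D^[i] f) 0 with ha_def
  have ha : ∀ i, a i ∈ Γ i := by
    intro i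
    have := (PA.iter hf i).mem 0
    simpa using this
  set r : ℕ → G := (NP a N)⁻¹ * f with hr
  have hrPA : PA Γ 0 r := PA.mul hP.h (PA.inv hP.h (pa_NP hP.h ha N)) hf
  -- the differences of `r` at `0`
  have hr0 : ∀ k, (D^[k] r) 0 ∈ Γ' k := by
    intro k
    have h1 : Cg Γ' (0 + k) (D^[k] r) (D^[k] (NP a N)⁻¹ * D^[k] f) :=
      iter_mul_cg hP (PA.inv hP.h (pa_NP hP.h ha N)) hf k
    have h2 : Cg Γ' (0 + k) (D^[k] (NP a N)⁻¹ * D^[k] f) ((D^[k] (NP a N))⁻¹ * D^[k] f) :=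
      Cg.mul hP (PA.iter hf k) (iter_inv_cg hP (pa_NP hP.h ha N) k) (Cg.refl hP _ _)
    have h3 : Cg Γ' (0 + k) ((D^[k] (NP a N))⁻¹ * D^[k] f) ((NPD a k N)⁻¹ * D^[k] f) :=
      Cg.mul hP (PA.iter hf k)
        (Cg.inv hP (PA.iter (pa_NP hP.h ha N) k) (NP_cg hP ha k N)) (Cg.refl hP _ _)
    have h4 := (Cg.trans hP (Cg.trans hP h1 h2) h3).mem 0
    simp only [Pi.mul_apply, Pi.inv_apply, zero_add] at h4
    rw [NPD_zero] at h4
    have h5 : (if 1 ≤ k ∧ k ≤ N then a k else 1)⁻¹ * (D^[k] f) 0 = 1 := by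
      by_cases hk : 1 ≤ k ∧ k ≤ N
      · rw [if_pos hk]
        exact inv_mul_cancel _
      · rw [if_neg hk, inv_one, one_mul]
        rcases Nat.eq_zero_or_pos k with h0 | h0
        · subst h0
          exact hf0
        · have h6 : (D^[k] f) 0 ∈ Γ (N + 1) := hP.h.antitone (by omega) (ha k)
          rw [hN] at h6
          exact (Subgroup.mem_bot).1 h6
    rw [h5, mul_one] at h4
    have := (Γ' k).inv_mem h4
    rwa [inv_inv] at this
  -- hence `r` is `Γ'`-polynomial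
  have hr' : ∀ j n, (D^[j] r) n ∈ Γ' (0 + j) := by
    intro j n
    induction n generalizing j with
    | zero => simpa using hr0 j
    | succ n ih =>
      have h1 : (D^[j] r) (n + 1) = (D^[j] r) n * (D^[j + 1] r) n := by
        rw [Function.iterate_succ_apply']
        simp only [D]
        group
      rw [h1]
      refine (Γ' (0 + j)).mul_mem (ih j) ?_
      have h2 := (PA.iter hrPA (j + 1)).mem n
      have h3 := hP.succ_le j (by simpa using h2)
      simpa using h3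
  have hrP : ∀ k, Pol Γ' k 0 r := fun k => pol_of_iter k 0 r hr'
  have hv : Vanish 2 r := by
    intro m hm
    interval_cases m
    · simp only [hr, Pi.mul_apply, Pi.inv_apply]
      rw [NP_zero, hf0]
      simp
    · simp only [hr, Pi.mul_apply, Pi.inv_apply]
      rw [NP_one a N hN1]
      have : a 1 = f 1 := by
        simp only [ha_def, Function.iterate_one, D]
        rw [hf0]
        simp
      rw [this]
      simp
  have := expansion hP.h' hc (c + 1) 2 r (by omega) hrP hv n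
  refine ⟨r n, this, ?_⟩
  simp only [hr, Pi.mul_apply, Pi.inv_apply]
  group

end Cfsg.Agent.Lib.H9.PolyPair
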