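import Mathlib
import Cfsg.Agent.Lib.H26.PPearlDefs
import Cfsg.Agent.Lib.H9.PolyPair

/-!
# S5238 piece COLLECT (helper9, twin): the exact collection formula
`(d e)^p ≡ d^p · d_{p-1} · e^p (mod K p)`
-/

set_option autoImplicit false

namespace Cfsg.Agent.Lib.H9.PPearl

open Cfsg.Agent.Lib.H26.PPearl Cfsg.Agent.Lib.H9.PolySeq Cfsg.Agent.Lib.H9.PolyPair

open scoped commutatorElement

section core

variable {Q : Type*} [Group Q]

/-- the sequence `m ↦ e^m x e^{-m}` -/
def cjs (e x : Q) : ℕ → Q := fun m => e ^ m * x * (e ^ m)⁻¹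

/-- the sequence `m ↦ (d e)^m e^{-m}` -/
def cfs (e d : Q) : ℕ → Q := fun m => (d * e) ^ m * (e ^ m)⁻¹

theorem D_cjs (e x : Q) : D (cjs e x) = cjs e (x⁻¹ * e * x * e⁻¹) := by
  funext m
  simp only [D, cjs, pow_succ]
  group

theorem cfs_succ (e d : Q) (m : ℕ) : cfs e d (m + 1) = cfs e d m * cjs e d m := by
  simp only [cfs, cjs, pow_succ]
  group

theorem D_cfs (e d : Q) : D (cfs e d) = cjs e d := by
  funext m
  simp only [D]
  rw [cfs_succ]
  group

theorem iter_cfs (e d : Q) : ∀ j, D^[j + 1] (cfs e d) = cjs e (itc e d j) := by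
  intro j
  induction j with
  | zero => exact D_cfs e d
  | succ j ih =>
    rw [Function.iterate_succ_apply', ih, D_cjs, itc_succ]

theorem collect_bot {p : ℕ} (hp : p.Prime) (K : ℕ → Subgroup Q) (e : Q)
    (hnorm : ∀ a, (K a).Normal) (hanti : ∀ a, K (a + 1) ≤ K a)
    (hcomm : ∀ a b, ∀ x ∈ K a, ∀ y ∈ K b, x * y * x⁻¹ * y⁻¹ ∈ K (a + b + 2))
    (hKe : ∀ a, ∀ x ∈ K a, x * e * x⁻¹ * e⁻¹ ∈ K (a + 1))
    (hexp : ∀ x ∈ K 1, x ^ p = 1) (hbot : K p = ⊥)
    (d : Q) (hd : d ∈ K 0) :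
    (d * e) ^ p = d ^ p * itc e d (p - 1) * e ^ p := by
  have hp2 : 2 ≤ p := hp.two_le
  have Kanti : ∀ {a b : ℕ}, a ≤ b → K b ≤ K a := by
    intro a b hab
    induction b, hab using Nat.le_induction with
    | base => exact le_rfl
    | succ b _ ih => exact (hanti b).trans ih
  set Γ : ℕ → Subgroup Q := fun i => K (i - 1) with hΓ
  have hcommK : ∀ a b c, c ≤ a + b + 2 → ⁅K a, K b⁆ ≤ K c := by
    intro a b c hc
    rw [Subgroup.commutator_le]
    intro x hx y hy
    rw [commutatorElement_def]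
    exact Kanti hc (hcomm a b x hx y hy)
  have hP : IsPair Γ K := by
    refine ⟨⟨fun i => hnorm _, fun i => Kanti (by omega), fun i j => ?_⟩,
      ⟨hnorm, hanti, fun i j => hcommK i j _ (by omega)⟩, fun i => Kanti (by omega),
      fun i j => ?_, fun i => ?_⟩
    · exact hcommK _ _ _ (by omega)
    · exact hcommK _ _ _ (by omega)
    · show K (i + 1 - 1) ≤ K i
      rw [Nat.add_sub_cancel]
  -- the iterated commutators
  have hitc : ∀ j, itc e d j ∈ K j := by
    intro j
    induction j with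
    | zero => exact hd
    | succ j ih =>
      rw [itc_succ]
      have := hKe j _ ((K j).inv_mem ih)
      rwa [inv_inv] at this
  have hcj : ∀ (a : ℕ) (x : Q), x ∈ K a → ∀ m, cjs e x m ∈ K a := by
    intro a x hx m
    exact (hnorm a).conj_mem x hx (e ^ m)
  -- `f` is polynomial
  have hf0 : cfs e d 0 = 1 := by simp [cfs]
  have hfmem : ∀ n, cfs e d n ∈ K 0 := by
    intro n
    induction n with
    | zero => rw [hf0]; exact one_mem _
    | succ n ih =>
      rw [cfs_succ]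
      exact mul_mem ih (hcj 0 d hd n)
  have hfPA : PA Γ 0 (cfs e d) := by
    intro k
    apply pol_of_iter
    intro j n
    cases j with
    | zero => exact hfmem n
    | succ j =>
      rw [iter_cfs]
      show cjs e (itc e d j) n ∈ K (0 + (j + 1) - 1)
      rw [show 0 + (j + 1) - 1 = j by omega]
      exact hcj j _ (hitc j) n
  have hc : K (p - 1 + 1) = ⊥ := by rw [Nat.sub_add_cancel (by omega)]; exact hbot
  have hN : Γ (p + 1) = ⊥ := by
    show K (p + 1 - 1) = ⊥
    rw [Nat.add_sub_cancel]; exact hbot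
  obtain ⟨w, hw, hfw⟩ := newton hP hc hN (by omega) (cfs e d) hfPA hf0 p
  -- the remainder is trivial
  have hpow1 : ∀ (i : ℕ) (g : Q), 1 ≤ i → i < p → g ∈ K 1 → g ^ (p.choose i) = 1 := by
    intro i g hi h hg
    obtain ⟨t, ht⟩ := hp.dvd_choose_self (by omega) h
    rw [ht, mul_comm, pow_mul]
    exact hexp _ ((K 1).pow_mem hg t)
  have hpow : ∀ (i : ℕ) (g : Q), 1 ≤ i → g ∈ K i → g ^ (p.choose i) = 1 := by
    intro i g hi hg
    rcases lt_trichotomy i p with h | h | h
    · exact hpow1 i g hi h (Kanti hi hg)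
    · subst h
      rw [hbot] at hg
      rw [(Subgroup.mem_bot).1 hg, one_pow]
    · rw [Nat.choose_eq_zero_of_lt h, pow_zero]
  have hW : W K 2 p ≤ ⊥ := by
    unfold W
    rw [Subgroup.closure_le]
    rintro y ⟨i, hi, g, hg, rfl⟩
    rw [SetLike.mem_coe, Subgroup.mem_bot]
    exact hpow i g (by omega) hg
  have hw1 : w = 1 := (Subgroup.mem_bot).1 (hW hw)
  -- the Newton product at `p`
  set a : ℕ → Q := fun i => (D^[i] (cfs e d)) 0 with ha
  have ha_succ : ∀ j, a (j + 1) = itc e d j := by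
    intro j
    simp only [ha]
    rw [iter_cfs]
    simp [cjs]
  have hNP : ∀ N, 1 ≤ N → N < p → (NP a N) p = d ^ p := by
    intro N
    induction N with
    | zero => intro h; omega
    | succ N ih =>
      intro _ hNp
      show (NP a N) p * (B (a (N + 1)) (N + 1)) p = d ^ p
      rcases Nat.eq_zero_or_pos N with h | h
      · subst h
        show (1 : Q) * _ = _
        rw [one_mul, ha_succ]
        simp [B]
      · rw [ih h (by omega), ha_succ]
        show d ^ p * (itc e d N) ^ (p.choose (N + 1)) = d ^ p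
        rw [hpow1 (N + 1) _ (by omega) hNp (Kanti h (hitc N)), mul_one]
  have hNPp : (NP a p) p = d ^ p * itc e d (p - 1) := by
    obtain ⟨q, rfl⟩ : ∃ q, p = q + 1 := ⟨p - 1, by omega⟩
    show (NP a q) (q + 1) * (B (a (q + 1)) (q + 1)) (q + 1) = _
    rw [hNP q (by omega) (by omega), ha_succ, Nat.add_sub_cancel]
    simp [B]
  rw [hNPp, hw1, mul_one] at hfw
  rw [← hfw]
  simp only [cfs]
  group

end core

section quot

variable {T : Type*} [Group T]

theorem itc_map {T' : Type*} [Group T'] (π : T →* T') (e d : T) :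
    ∀ j, itc (π e) (π d) j = π (itc e d j) := by
  intro j
  induction j with
  | zero => rfl
  | succ j ih =>
    rw [itc_succ, itc_succ, ih, map_mul, map_mul, map_mul, map_inv, map_inv]

theorem collect {p : ℕ} (hp : p.Prime) (K : ℕ → Subgroup T) (e : T)
    (hnorm : ∀ a, (K a).Normal) (hanti : ∀ a, K (a + 1) ≤ K a)
    (hcomm : ∀ a b, ∀ x ∈ K a, ∀ y ∈ K b, x * y * x⁻¹ * y⁻¹ ∈ K (a + b + 2))
    (hKe : ∀ a, ∀ x ∈ K a, x * e * x⁻¹ * e⁻¹ ∈ K (a + 1))
    (hexp : ∀ x ∈ K 1, x ^ p ∈ K p)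
    (d : T) (hd : d ∈ K 0) :
    ((d * e) ^ p)⁻¹ * (d ^ p * itc e d (p - 1) * e ^ p) ∈ K p := by
  have hN : (K p).Normal := hnorm p
  let π : T →* T ⧸ K p := QuotientGroup.mk' (K p)
  have hπ : Function.Surjective π := QuotientGroup.mk'_surjective (K p)
  have hmem : ∀ x : T, x ∈ K p ↔ π x = 1 := fun x => (QuotientGroup.eq_one_iff x).symm
  have key := collect_bot hp (fun a => (K a).map π) (π e)
    (fun a => Subgroup.Normal.map (hnorm a) π hπ)
    (fun a => Subgroup.map_mono (hanti a))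
    (by
      rintro a b _ ⟨x, hx, rfl⟩ _ ⟨y, hy, rfl⟩
      refine ⟨x * y * x⁻¹ * y⁻¹, hcomm a b x hx y hy, ?_⟩
      simp only [map_mul, map_inv])
    (by
      rintro a _ ⟨x, hx, rfl⟩
      refine ⟨x * e * x⁻¹ * e⁻¹, hKe a x hx, ?_⟩
      simp only [map_mul, map_inv])
    (by
      rintro _ ⟨x, hx, rfl⟩
      rw [← map_pow]
      exact (hmem _).1 (hexp x hx))
    (by
      rw [Subgroup.map_eq_bot_iff, QuotientGroup.ker_mk'])
    (π d) ⟨d, hd, rfl⟩
  rw [hmem, map_mul, map_inv, map_mul, map_mul, map_pow, map_pow, map_pow, map_mul,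
    ← itc_map π e d, key]
  group

end quot

end Cfsg.Agent.Lib.H9.PPearl
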