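import Cfsg.Agent.Lib.H14.Kieler
import Cfsg.Prelude.Def_LocalEven

/-!
S2806 piece (AK): Kieler's lemma inside the `p`-local subgroup `N_H(Z)`, in ambient form.
Blueprint: tools/blueprints/S2806.md (architect helper27).
-/

set_option autoImplicit false
open Cfsg Cfsg.Agent.Lib.H14

namespace Cfsg.Agent.Lib.H9.PS

variable {H : Type*} [Group H] [Finite H] {p : ℕ} [Fact p.Prime]

omit [Finite H] [Fact p.Prime] in
/-- `Ω₁Z` commutes with the inclusion of a subgroup. -/
theorem oz_map_subtype (M : Subgroup H) (X : Subgroup ↥M) :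
    (oz p X).map M.subtype = oz p (X.map M.subtype) := by
  unfold oz
  rw [omegaOne_map_subtype, map_subtype_inf_centralizer']

/-- (AK) Kieler's lemma inside the `p`-local subgroup `N_H(Z)`, in ambient form. -/
theorem kieler_local (hH : Cfsg.IsOfLocalCharacteristic p H) (Z : Subgroup H) (hZ : IsPGroup p Z) (hZ1 : Z ≠ ⊥)
    (S : Subgroup H) (hSM : S ≤ Subgroup.normalizer (Z : Set H)) (hSp : IsPGroup p S)
    (hS : ¬ p ∣ S.relIndex (Subgroup.normalizer (Z : Set H)))
    {A : Subgroup H} (hA : A.IsSubnormal) :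
    A ⊓ Subgroup.normalizer (Z : Set H) ⊓ Subgroup.centralizer (oz p S : Set H) =
      A ⊓ Subgroup.normalizer (Z : Set H) ⊓ Subgroup.centralizer (oz p (S ⊓ A) : Set H) := by
  have hchar := hH.2 Z hZ hZ1
  have hSp' : IsPGroup p ↥(S.subgroupOf (Subgroup.normalizer (Z : Set H))) :=
    hSp.comap_subtype
  have hidx : ¬ p ∣ (S.subgroupOf (Subgroup.normalizer (Z : Set H))).index := hS
  have key := (kieler hchar (hSp'.toSylow hidx)
    (A.subgroupOf (Subgroup.normalizer (Z : Set H))) hA.subgroupOf).2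
  rw [IsPGroup.toSylow_coe] at key
  have hinf : S.subgroupOf (Subgroup.normalizer (Z : Set H)) ⊓
      A.subgroupOf (Subgroup.normalizer (Z : Set H)) =
      (S ⊓ A).subgroupOf (Subgroup.normalizer (Z : Set H)) :=
    (Subgroup.comap_inf S A _).symm
  rw [hinf] at key
  have h2 := congrArg (Subgroup.map (Subgroup.normalizer (Z : Set H)).subtype) key
  rw [map_subtype_inf_centralizer', map_subtype_inf_centralizer', oz_map_subtype, oz_map_subtype,
    Subgroup.subgroupOf_map_subtype, Subgroup.subgroupOf_map_subtype,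
    Subgroup.subgroupOf_map_subtype, inf_eq_left.2 hSM,
    inf_eq_left.2 (inf_le_left.trans hSM : S ⊓ A ≤ _)] at h2
  exact h2
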