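import Mathlib
import Cfsg.Agent.Lib.H12.SemiC

set_option autoImplicit false

/-!
# Subgroups of order three of `PSL₃(𝔽₄)`

Every element of order three of `PSL₃(𝔽₄)` lifts to a matrix with cube one and characteristic
polynomial `X³ - 1`; all such matrices are conjugate in `SL₃(𝔽₄)`.
-/

namespace Cfsg.Agent.Lib.H9.PSL34

open Matrix Polynomial
open scoped Pointwise

variable {F : Type*} [Field F] [Fintype F]

theorem cube_eq_one_of_card (hF : Fintype.card F = 4) {a : F} (ha : a ≠ 0) : a ^ 3 = 1 := by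
  have := FiniteField.pow_card_sub_one_eq_one a ha
  rwa [hF] at this

theorem four_eq_zero (hF : Fintype.card F = 4) : (4 : F) = 0 := by
  have := Nat.cast_card_eq_zero F
  rw [hF] at this
  exact_mod_cast this

theorem three_ne_zero' (hF : Fintype.card F = 4) : ((3 : ℕ) : F) ≠ 0 := by
  intro h
  have h4 := four_eq_zero hF
  have h3 : (3 : F) = 0 := by exact_mod_cast h
  have : (1 : F) = 0 := by linear_combination h4 - h3
  exact one_ne_zero this

/-- expansion of the characteristic polynomial of a `3 × 3` matrix of determinant one -/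
theorem charpoly_expand (A : Matrix (Fin 3) (Fin 3) F) (hdet : A.det = 1) :
    A.charpoly = X ^ 3 + C (A.charpoly.coeff 2) * X ^ 2 + C (A.charpoly.coeff 1) * X - 1 := by
  have hm := A.charpoly_monic
  have hd : A.charpoly.natDegree = 3 := by
    rw [Matrix.charpoly_natDegree_eq_dim]; rfl
  have h0 : A.charpoly.coeff 0 = -1 := by
    have := Matrix.det_eq_sign_charpoly_coeff A
    rw [hdet, Fintype.card_fin] at this
    linear_combination this
  conv_lhs => rw [hm.as_sum, hd]
  simp only [Finset.sum_range_succ, Finset.sum_range_zero, h0]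
  simp
  ring


theorem cayley_hamilton (A : Matrix (Fin 3) (Fin 3) F) (hdet : A.det = 1) :
    A ^ 3 + A.charpoly.coeff 2 • A ^ 2 + A.charpoly.coeff 1 • A - 1 = 0 := by
  have h := Matrix.aeval_self_charpoly A
  rw [charpoly_expand A hdet] at h
  simpa [Algebra.smul_def] using h

/-- a non-scalar `3 × 3` matrix of determinant one over `𝔽₄` whose cube is scalar has cube `1`
and characteristic polynomial `X³ - 1` -/
theorem cube_and_charpoly (hF : Fintype.card F = 4) (A : Matrix (Fin 3) (Fin 3) F)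
    (hdet : A.det = 1) (c : F) (hc : A ^ 3 = c • (1 : Matrix (Fin 3) (Fin 3) F))
    (hns : ∀ μ : F, A ≠ μ • (1 : Matrix (Fin 3) (Fin 3) F)) :
    A ^ 3 = 1 ∧ A.charpoly = X ^ 3 - 1 := by
  set s := A.charpoly.coeff 2 with hs
  set r := A.charpoly.coeff 1 with hr
  have h1 : s • A ^ 2 + r • A + (c - 1) • (1 : Matrix (Fin 3) (Fin 3) F) = 0 := by
    have := cayley_hamilton A hdet
    rw [hc] at this
    rw [← this]
    module
  -- multiply by `A`
  have h2 : r • A ^ 2 + (c - 1) • A + (s * c) • (1 : Matrix (Fin 3) (Fin 3) F) = 0 := by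
    have := congrArg (fun M => A * M) h1
    simp only [mul_add, mul_smul_comm, mul_one, mul_zero] at this
    rw [← pow_succ', hc] at this
    rw [← this, pow_two]
    module
  -- a linear relation `α A + β = 0` forces `α = 0`
  have hlin : ∀ α β : F, α • A + β • (1 : Matrix (Fin 3) (Fin 3) F) = 0 → α = 0 := by
    intro α β h
    by_contra hα
    apply hns (-β / α)
    have : α • A = (-β) • (1 : Matrix (Fin 3) (Fin 3) F) := by
      rw [neg_smul]; exact eq_neg_of_add_eq_zero_left h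
    calc A = α⁻¹ • (α • A) := by rw [smul_smul, inv_mul_cancel₀ hα, one_smul]
      _ = (-β / α) • (1 : Matrix (Fin 3) (Fin 3) F) := by
        rw [this, smul_smul]; congr 1; field_simp
  have hA0 : A ≠ 0 := by
    intro h
    apply hns 0
    rw [h, zero_smul]
  have hc0 : c ≠ 0 := by
    intro h
    rw [h, zero_smul] at hc
    have := congrArg Matrix.det hc
    rw [Matrix.det_pow, hdet, one_pow, Matrix.det_zero] at this
    exact one_ne_zero this
  -- eliminate `A ^ 2`
  have h3 : (r ^ 2 - s * (c - 1)) • A + (r * (c - 1) - s ^ 2 * c) • (1 : Matrix (Fin 3) (Fin 3) F) = 0 := by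
    have e : (r ^ 2 - s * (c - 1)) • A + (r * (c - 1) - s ^ 2 * c) • (1 : Matrix (Fin 3) (Fin 3) F)
        = r • (s • A ^ 2 + r • A + (c - 1) • (1 : Matrix (Fin 3) (Fin 3) F))
          - s • (r • A ^ 2 + (c - 1) • A + (s * c) • (1 : Matrix (Fin 3) (Fin 3) F)) := by
      module
    rw [e, h1, h2, smul_zero, smul_zero, sub_zero]
  have h4 : r ^ 2 = s * (c - 1) := by
    have := hlin _ _ h3
    linear_combination this
  have h5 : r * (c - 1) = s ^ 2 * c := by
    rw [h4, sub_self, zero_smul, zero_add] at h3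
    by_contra hne
    have h6 : (1 : Matrix (Fin 3) (Fin 3) F) = 0 := by
      have := (smul_eq_zero.mp h3).resolve_left (sub_ne_zero.mpr hne)
      exact this
    exact one_ne_zero h6
  have hc1 : c = 1 := by
    by_contra hne
    have hc1' : c - 1 ≠ 0 := sub_ne_zero.mpr hne
    have hs0 : s ≠ 0 := by
      intro hs0
      rw [hs0, zero_mul] at h4
      have hr0 : r = 0 := pow_eq_zero_iff (two_ne_zero) |>.mp h4
      rw [hs0, hr0, zero_smul, zero_smul, zero_add, zero_add] at h1
      have := (smul_eq_zero.mp h1).resolve_left hc1'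
      exact one_ne_zero this
    have hr0 : r ≠ 0 := by
      intro hr0
      rw [hr0] at h4
      have : s * (c - 1) = 0 := by rw [← h4]; ring
      rcases mul_eq_zero.mp this with h | h
      · exact hs0 h
      · exact hc1' h
    have h7 : r ^ 3 = s ^ 3 * c := by
      have : r ^ 3 * s = s ^ 3 * c * s := by
        calc r ^ 3 * s = r * (r ^ 2) * s := by ring
          _ = r * (s * (c - 1)) * s := by rw [h4]
          _ = (r * (c - 1)) * s ^ 2 := by ring
          _ = s ^ 2 * c * s ^ 2 := by rw [h5]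
          _ = s ^ 3 * c * s := by ring
      exact mul_right_cancel₀ hs0 this
    rw [cube_eq_one_of_card hF hr0, cube_eq_one_of_card hF hs0, one_mul] at h7
    exact hne h7.symm
  subst hc1
  rw [sub_self, mul_zero] at h4
  have hr0 : r = 0 := pow_eq_zero_iff (two_ne_zero) |>.mp h4
  have hs0 : s = 0 := by
    rw [hr0, sub_self, zero_mul, mul_one] at h5
    exact pow_eq_zero_iff (two_ne_zero) |>.mp h5.symm
  refine ⟨by rw [hc, one_smul], ?_⟩
  rw [charpoly_expand A hdet, ← hs, ← hr, hs0, hr0]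
  simp


theorem exists_omega (hF : Fintype.card F = 4) : ∃ ω : F, ω ^ 2 + ω + 1 = 0 ∧ ω ^ 3 = 1 := by
  classical
  have : ∃ ω : F, ω ≠ 0 ∧ ω ≠ 1 := by
    by_contra h
    push Not at h
    have hsub : (Finset.univ : Finset F) ⊆ {0, 1} := by
      intro x _
      by_cases hx : x = 0
      · simp [hx]
      · simp [h x hx]
    have := Finset.card_le_card hsub
    rw [Finset.card_univ, hF] at this
    have h2 : ({0, 1} : Finset F).card ≤ 2 := Finset.card_le_two
    omega
  obtain ⟨ω, h0, h1⟩ := this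
  have h3 := cube_eq_one_of_card hF h0
  refine ⟨ω, ?_, h3⟩
  have : (ω - 1) * (ω ^ 2 + ω + 1) = 0 := by linear_combination h3
  exact (mul_eq_zero.mp this).resolve_left (sub_ne_zero.mpr h1)

theorem charpoly_diag {ω : F} (hω : ω ^ 2 + ω + 1 = 0) (hω3 : ω ^ 3 = 1) :
    (Matrix.diagonal ![1, ω, ω ^ 2] : Matrix (Fin 3) (Fin 3) F).charpoly = X ^ 3 - 1 := by
  rw [Matrix.charpoly_diagonal, Fin.prod_univ_three]
  simp only [Matrix.cons_val_zero, Matrix.cons_val_one, Matrix.cons_val_two, Matrix.head_cons,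
    Matrix.tail_cons]
  have e : (X - C (1 : F)) * (X - C ω) * (X - C (ω ^ 2)) =
      X ^ 3 - C (ω ^ 2 + ω + 1) * X ^ 2 + C ((ω ^ 2 + ω + 1) * ω) * X - C (ω ^ 3) := by
    simp only [map_add, map_mul, map_pow, map_one]
    ring
  rw [e, hω, hω3]
  simp

theorem diag_pow_three {ω : F} (hω3 : ω ^ 3 = 1) :
    (Matrix.diagonal ![1, ω, ω ^ 2] : Matrix (Fin 3) (Fin 3) F) ^ 3 = 1 := by
  rw [Matrix.diagonal_pow, ← Matrix.diagonal_one]
  congr 1
  funext i
  fin_cases i
  · simp
  · simpa using hω3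
  · simp only [Pi.pow_apply]
    change (ω ^ 2) ^ 3 = 1
    rw [← pow_mul, mul_comm, pow_mul, hω3, one_pow]

/-- conjugating matrix to the diagonal form -/
theorem exists_conj_diag (hF : Fintype.card F = 4) {ω : F} (hω : ω ^ 2 + ω + 1 = 0)
    (hω3 : ω ^ 3 = 1) (A : Matrix (Fin 3) (Fin 3) F) (hA3 : A ^ 3 = 1)
    (hAc : A.charpoly = X ^ 3 - 1) :
    ∃ P : Matrix (Fin 3) (Fin 3) F, P.det ≠ 0 ∧ P * A = Matrix.diagonal ![1, ω, ω ^ 2] * P := by
  have hAu : IsUnit A.det := by
    have := congrArg Matrix.det hA3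
    rw [Matrix.det_pow, Matrix.det_one] at this
    exact IsUnit.of_pow_eq_one this (by norm_num)
  have hDu : IsUnit (Matrix.diagonal ![1, ω, ω ^ 2] : Matrix (Fin 3) (Fin 3) F).det := by
    have := congrArg Matrix.det (diag_pow_three hω3)
    rw [Matrix.det_pow, Matrix.det_one] at this
    exact IsUnit.of_pow_eq_one this (by norm_num)
  let Ag : GL (Fin 3) F := Matrix.GeneralLinearGroup.mk'' A hAu
  let Dg : GL (Fin 3) F := Matrix.GeneralLinearGroup.mk'' _ hDu
  have hconj : IsConj Ag Dg := by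
    apply Cfsg.Agent.Lib.H12.Semi.isConj_GL_of_charpoly_eq
    · exact Cfsg.Agent.Lib.H12.Semi.isSemisimple_toLin'_of_pow_eq_one A 3 (three_ne_zero' hF) hA3
    · exact Cfsg.Agent.Lib.H12.Semi.isSemisimple_toLin'_of_pow_eq_one _ 3 (three_ne_zero' hF)
        (diag_pow_three hω3)
    · change A.charpoly = (Matrix.diagonal ![1, ω, ω ^ 2] : Matrix (Fin 3) (Fin 3) F).charpoly
      rw [hAc, charpoly_diag hω hω3]
  obtain ⟨c, hc⟩ := isConj_iff.mp hconj
  refine ⟨(c : Matrix (Fin 3) (Fin 3) F), ?_, ?_⟩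
  · exact (Matrix.isUnits_det_units c).ne_zero
  · have h1 : c * Ag = Dg * c := by rw [← hc]; group
    have := congrArg (fun x : GL (Fin 3) F => (x : Matrix (Fin 3) (Fin 3) F)) h1
    exact this


/-- two elements of `SL₃(𝔽₄)` with cube one and characteristic polynomial `X³ - 1` are conjugate
in `SL₃(𝔽₄)` -/
theorem exists_sl_conj (hF : Fintype.card F = 4) (a b : Matrix.SpecialLinearGroup (Fin 3) F)
    (ha3 : (a : Matrix (Fin 3) (Fin 3) F) ^ 3 = 1)
    (hac : (a : Matrix (Fin 3) (Fin 3) F).charpoly = X ^ 3 - 1)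
    (hb3 : (b : Matrix (Fin 3) (Fin 3) F) ^ 3 = 1)
    (hbc : (b : Matrix (Fin 3) (Fin 3) F).charpoly = X ^ 3 - 1) :
    ∃ r : Matrix.SpecialLinearGroup (Fin 3) F, r * a * r⁻¹ = b := by
  obtain ⟨ω, hω, hω3⟩ := exists_omega hF
  obtain ⟨P, hP, hPA⟩ := exists_conj_diag hF hω hω3 _ ha3 hac
  obtain ⟨Q, hQ, hQB⟩ := exists_conj_diag hF hω hω3 _ hb3 hbc
  have hQu : IsUnit Q.det := isUnit_iff_ne_zero.mpr hQ
  set D : Matrix (Fin 3) (Fin 3) F := Matrix.diagonal ![1, ω, ω ^ 2] with hD
  set T : Matrix (Fin 3) (Fin 3) F := Matrix.diagonal ![Q.det / P.det, 1, 1] with hT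
  have hTD : T * D = D * T := by
    rw [hT, hD, Matrix.diagonal_mul_diagonal, Matrix.diagonal_mul_diagonal]
    congr 1
    funext i
    exact mul_comm _ _
  have hTdet : T.det = Q.det / P.det := by
    rw [hT, Matrix.det_diagonal, Fin.prod_univ_three]
    simp
  have hBQ : (b : Matrix (Fin 3) (Fin 3) F) * Q⁻¹ = Q⁻¹ * D := by
    have h1 : Q⁻¹ * (Q * (b : Matrix (Fin 3) (Fin 3) F)) * Q⁻¹ = Q⁻¹ * (D * Q) * Q⁻¹ := by
      rw [hQB]
    rw [← Matrix.mul_assoc, Matrix.nonsing_inv_mul _ hQu, Matrix.one_mul, Matrix.mul_assoc,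
      Matrix.mul_assoc, Matrix.mul_nonsing_inv _ hQu, Matrix.mul_one] at h1
    exact h1
  have hRdet : (Q⁻¹ * T * P).det = 1 := by
    rw [Matrix.det_mul, Matrix.det_mul, hTdet, Matrix.det_nonsing_inv, Ring.inverse_eq_inv']
    field_simp
  let r : Matrix.SpecialLinearGroup (Fin 3) F := ⟨Q⁻¹ * T * P, hRdet⟩
  have hra : r * a = b * r := by
    apply Subtype.ext
    change Q⁻¹ * T * P * (a : Matrix (Fin 3) (Fin 3) F) = (b : Matrix (Fin 3) (Fin 3) F) * (Q⁻¹ * T * P)
    rw [Matrix.mul_assoc, hPA, ← Matrix.mul_assoc, Matrix.mul_assoc Q⁻¹ T D, hTD,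
      ← Matrix.mul_assoc, ← Matrix.mul_assoc, ← Matrix.mul_assoc, hBQ]
  exact ⟨r, by rw [hra, mul_inv_cancel_right]⟩


/-- a subgroup of order three of `PSL₃(𝔽₄)` is generated by the image of a matrix with cube one
and characteristic polynomial `X³ - 1` -/
theorem exists_lift (hF : Fintype.card F = 4)
    (U : Subgroup (Matrix.ProjectiveSpecialLinearGroup (Fin 3) F)) (hX : Nat.card ↥U = 3) :
    ∃ a : Matrix.SpecialLinearGroup (Fin 3) F, (a : Matrix (Fin 3) (Fin 3) F) ^ 3 = 1 ∧
      (a : Matrix (Fin 3) (Fin 3) F).charpoly = X ^ 3 - 1 ∧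
      U = Subgroup.zpowers (QuotientGroup.mk a : Matrix.ProjectiveSpecialLinearGroup (Fin 3) F) := by
  have : Fact (Nat.Prime 3) := ⟨Nat.prime_three⟩
  have hcyc : IsCyclic ↥U := isCyclic_of_prime_card hX
  obtain ⟨⟨x, hxX⟩, hgen⟩ := hcyc.exists_generator
  have hXz : U = Subgroup.zpowers x := by
    apply le_antisymm
    · intro y hy
      obtain ⟨k, hk⟩ := hgen ⟨y, hy⟩
      refine ⟨k, ?_⟩
      have := congrArg Subtype.val hk
      simpa using this
    · rw [Subgroup.zpowers_le]; exact hxX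
  have hx3 : x ^ 3 = 1 := by
    have h1 : (⟨x, hxX⟩ : ↥U) ^ Nat.card ↥U = 1 := pow_card_eq_one'
    rw [hX] at h1
    have := congrArg Subtype.val h1
    simpa using this
  have hx1 : x ≠ 1 := by
    intro h
    rw [h, Subgroup.zpowers_one_eq_bot] at hXz
    rw [hXz] at hX
    simp at hX
  obtain ⟨a, rfl⟩ := QuotientGroup.mk_surjective x
  -- the cube of `a` is central
  have h3c : a ^ 3 ∈ Subgroup.center (Matrix.SpecialLinearGroup (Fin 3) F) := by
    rw [← QuotientGroup.eq_one_iff, QuotientGroup.mk_pow]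
    exact hx3
  rw [Matrix.SpecialLinearGroup.mem_center_iff] at h3c
  obtain ⟨c, _, hc⟩ := h3c
  have hc' : (a : Matrix (Fin 3) (Fin 3) F) ^ 3 = c • (1 : Matrix (Fin 3) (Fin 3) F) := by
    rw [← Matrix.SpecialLinearGroup.coe_pow, ← hc, Matrix.scalar_apply,
      Matrix.smul_one_eq_diagonal]
  have hns : ∀ μ : F, (a : Matrix (Fin 3) (Fin 3) F) ≠ μ • (1 : Matrix (Fin 3) (Fin 3) F) := by
    intro μ hμ
    apply hx1
    rw [QuotientGroup.eq_one_iff, Matrix.SpecialLinearGroup.mem_center_iff]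
    refine ⟨μ, ?_, ?_⟩
    · have := congrArg Matrix.det hμ
      rw [a.det_coe, Matrix.det_smul, Matrix.det_one, mul_one] at this
      exact this.symm
    · rw [hμ, Matrix.scalar_apply, Matrix.smul_one_eq_diagonal]
  obtain ⟨h1, h2⟩ := cube_and_charpoly hF _ a.det_coe c hc' hns
  exact ⟨a, h1, h2, hXz⟩

theorem conj_smul_zpowers {G : Type*} [Group G] (g x : G) :
    MulAut.conj g • Subgroup.zpowers x = Subgroup.zpowers (g * x * g⁻¹) := by
  change Subgroup.map (MulAut.conj g).toMonoidHom (Subgroup.zpowers x) = _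
  rw [MonoidHom.map_zpowers]
  rfl

/-- all subgroups of order three of `PSL₃(𝔽₄)` are conjugate -/
theorem main (hF : Fintype.card F = 4)
    (U V : Subgroup (Matrix.ProjectiveSpecialLinearGroup (Fin 3) F))
    (hX : Nat.card ↥U = 3) (hY : Nat.card ↥V = 3) :
    ∃ g : Matrix.ProjectiveSpecialLinearGroup (Fin 3) F, MulAut.conj g • U = V := by
  obtain ⟨a, ha3, hac, hXa⟩ := exists_lift hF U hX
  obtain ⟨b, hb3, hbc, hYb⟩ := exists_lift hF V hY
  obtain ⟨r, hr⟩ := exists_sl_conj hF a b ha3 hac hb3 hbc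
  refine ⟨QuotientGroup.mk r, ?_⟩
  rw [hXa, hYb, conj_smul_zpowers, ← QuotientGroup.mk_inv, ← QuotientGroup.mk_mul,
    ← QuotientGroup.mk_mul, hr]

end Cfsg.Agent.Lib.H9.PSL34
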