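import Mathlib

/-!
# S5239 piece SYL9 (helper9): a group of order `81` with a core-free subgroup of order `9`
is a Sylow `3`-subgroup of `S₉`
-/

set_option autoImplicit false

namespace Cfsg.Agent.Lib.H9.Pearl

theorem syl9_factorization : (Nat.card (Equiv.Perm (Fin 9))).factorization 3 = 4 := by
  have h1 : Nat.card (Equiv.Perm (Fin 9)) = 3 ^ 4 * 4480 := by
    rw [Nat.card_perm, Nat.card_eq_fintype_card, Fintype.card_fin]
    decide
  rw [h1, Nat.factorization_mul (by norm_num) (by norm_num), Finsupp.add_apply,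
    Nat.Prime.factorization_pow Nat.prime_three, Finsupp.single_eq_same,
    Nat.factorization_eq_zero_of_not_dvd (by norm_num)]

theorem exists_mulEquiv_sylow_perm_nine {G : Type*} [Group G] [Finite G] (hG : Nat.card G = 81)
    (B : Subgroup G) (hB : Nat.card ↥B = 9) (hcore : B.normalCore = ⊥) :
    ∃ W : Sylow 3 (Equiv.Perm (Fin 9)), Nonempty (G ≃* ↥(W : Subgroup (Equiv.Perm (Fin 9)))) := by
  classical
  have : Fact (Nat.Prime 3) := ⟨Nat.prime_three⟩
  have hq : Nat.card (G ⧸ B) = 9 := by
    have h := Subgroup.card_eq_card_quotient_mul_card_subgroup B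
    rw [hG, hB] at h
    omega
  have : Fintype (G ⧸ B) := Fintype.ofFinite _
  have hq' : Fintype.card (G ⧸ B) = 9 := by rw [← Nat.card_eq_fintype_card, hq]
  let ε : (G ⧸ B) ≃ Fin 9 := Fintype.equivFinOfCardEq hq'
  let φ : G →* Equiv.Perm (Fin 9) :=
    (ε.permCongrHom : Equiv.Perm (G ⧸ B) →* Equiv.Perm (Fin 9)).comp
      (MulAction.toPermHom G (G ⧸ B))
  have hinj : Function.Injective φ := by
    rw [← MonoidHom.ker_eq_bot_iff]
    ext g
    rw [MonoidHom.mem_ker, Subgroup.mem_bot]
    constructor
    · intro hg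
      have h1 : MulAction.toPermHom G (G ⧸ B) g = 1 := by
        have : ε.permCongrHom (MulAction.toPermHom G (G ⧸ B) g) = ε.permCongrHom 1 := by
          rw [map_one]; exact hg
        exact ε.permCongrHom.injective this
      have h2 : g ∈ B.normalCore := by
        rw [Subgroup.normalCore_eq_ker, MonoidHom.mem_ker]; exact h1
      rw [hcore, Subgroup.mem_bot] at h2
      exact h2
    · rintro rfl
      exact map_one φ
  have hcard : Nat.card ↥φ.range = 3 ^ (Nat.card (Equiv.Perm (Fin 9))).factorization 3 := by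
    rw [syl9_factorization, Nat.card_congr (MonoidHom.ofInjective hinj).toEquiv.symm, hG]
    norm_num
  exact ⟨Sylow.ofCard φ.range hcard, ⟨MonoidHom.ofInjective hinj⟩⟩

end Cfsg.Agent.Lib.H9.Pearl
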