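import Mathlib
import Cfsg.Agent.Lib.H18.MinNormal
import Cfsg.Agent.Lib.H3.PrimSolv

set_option autoImplicit false

/-!
# The socle of a finite primitive permutation group

A primitive group has at most two minimal normal subgroups; an abelian one is unique and regular;
two distinct ones are isomorphic regular subgroups.  `socle` is the baby O'Nan--Scott statement.
-/

namespace Cfsg.Agent.Lib.H9.PrimSocle

variable {G Ω : Type*} [Group G] [MulAction G Ω]

/-- minimal normal subgroup predicate, in the unfolded form used by the statement -/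
def IsMinN (V : Subgroup G) : Prop :=
  V.Normal ∧ V ≠ ⊥ ∧ ∀ M : Subgroup G, M.Normal → M ≤ V → M = ⊥ ∨ M = V

/-- elementwise transitivity of a subgroup -/
def Trans (M : Subgroup G) (Ω : Type*) [MulAction G Ω] : Prop :=
  ∀ ω ω' : Ω, ∃ m ∈ M, m • ω = ω'

theorem trans_of_isPretransitive (M : Subgroup G) (h : MulAction.IsPretransitive M Ω) :
    Trans M Ω := by
  intro ω ω'
  obtain ⟨⟨m, hm⟩, hm'⟩ := MulAction.exists_smul_eq M ω ω'
  exact ⟨m, hm, hm'⟩

/-- an element centralizing a transitive subgroup and fixing a point is trivial -/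
theorem eq_one_of_fix_of_commute [FaithfulSMul G Ω] {M : Subgroup G} (htr : Trans M Ω) {c : G}
    (hc : ∀ m ∈ M, Commute c m) {ω : Ω} (hfix : c • ω = ω) : c = 1 := by
  apply FaithfulSMul.eq_of_smul_eq_smul (α := Ω)
  intro ω'
  obtain ⟨m, hm, rfl⟩ := htr ω ω'
  rw [one_smul, ← mul_smul, (hc m hm).eq, mul_smul, hfix]

/-- a subgroup centralizing a transitive subgroup and containing a transitive subgroup equals it -/
theorem le_of_commute_of_trans [FaithfulSMul G Ω] [Nonempty Ω] {M M' K : Subgroup G}
    (htr : Trans M Ω) (htr' : Trans M' Ω) (hM'K : M' ≤ K)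
    (hK : ∀ k ∈ K, ∀ m ∈ M, Commute k m) : K ≤ M' := by
  intro k hk
  obtain ⟨ω⟩ := (inferInstance : Nonempty Ω)
  obtain ⟨m', hm', hm'ω⟩ := htr' ω (k • ω)
  have h1 : m'⁻¹ * k = 1 := by
    apply eq_one_of_fix_of_commute htr (hK _ (K.mul_mem (K.inv_mem (hM'K hm')) hk)) (ω := ω)
    rw [mul_smul, ← hm'ω, inv_smul_smul]
  have : k = m' := by
    rw [inv_mul_eq_one] at h1; exact h1.symm
  rw [this]; exact hm'

theorem IsMinN.disjoint {M M' : Subgroup G} (hM : IsMinN M) (hM' : IsMinN M') (hne : M ≠ M') :
    Disjoint M M' := by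
  obtain ⟨hMn, hM0, hMmin⟩ := hM
  obtain ⟨hM'n, hM'0, hM'min⟩ := hM'
  rw [disjoint_iff]
  rcases hMmin (M ⊓ M') inferInstance inf_le_left with h | h
  · exact h
  · exfalso
    have hle : M ≤ M' := by rw [← h]; exact inf_le_right
    rcases hM'min M hMn hle with h' | h'
    · exact hM0 h'
    · exact hne h'

theorem IsMinN.commute {M M' : Subgroup G} (hM : IsMinN M) (hM' : IsMinN M') (hne : M ≠ M') :
    ∀ x ∈ M, ∀ y ∈ M', Commute x y := fun x hx y hy =>
  Subgroup.commute_of_normal_of_disjoint M M' hM.1 hM'.1 (hM.disjoint hM' hne) x y hx hy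

theorem IsMinN.trans [Finite G] [FaithfulSMul G Ω] (hprim : MulAction.IsPreprimitive G Ω)
    {M : Subgroup G} (hM : IsMinN M) : Trans M Ω := by
  have := hM.1
  exact trans_of_isPretransitive M
    (Cfsg.Agent.Lib.H3.isPretransitive_of_normal_of_isPreprimitive hprim M hM.2.1)

theorem nonempty_of_ne_bot [FaithfulSMul G Ω] {M : Subgroup G} (hM : M ≠ ⊥) : Nonempty Ω := by
  by_contra h
  rw [not_nonempty_iff] at h
  apply hM
  rw [eq_bot_iff]
  intro m _
  rw [Subgroup.mem_bot]
  apply FaithfulSMul.eq_of_smul_eq_smul (α := Ω)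
  intro ω
  exact h.elim ω

/-- an abelian minimal normal subgroup of a primitive group is the only minimal normal subgroup -/
theorem IsMinN.unique_of_comm [Finite G] [FaithfulSMul G Ω] (hprim : MulAction.IsPreprimitive G Ω)
    {M : Subgroup G} (hM : IsMinN M) (hcomm : ∀ x ∈ M, ∀ y ∈ M, x * y = y * x)
    {M' : Subgroup G} (hM' : IsMinN M') : M' = M := by
  by_contra hne
  have : Nonempty Ω := nonempty_of_ne_bot (Ω := Ω) hM.2.1
  have htr := hM.trans hprim
  have hK : Subgroup.centralizer (M : Set G) ≤ M := by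
    apply le_of_commute_of_trans htr htr
    · intro m hm
      rw [Subgroup.mem_centralizer_iff]
      intro y hy
      exact hcomm y hy m hm
    · intro k hk m hm
      rw [Subgroup.mem_centralizer_iff] at hk
      exact (hk m hm).symm
  have hle : M' ≤ M := by
    refine le_trans ?_ hK
    intro y hy
    rw [Subgroup.mem_centralizer_iff]
    intro m hm
    exact (hM.commute hM' (Ne.symm hne) m hm y hy).eq
  rcases hM.2.2 M' hM'.1 hle with h | h
  · exact hM'.2.1 h
  · exact hne h

/-- a primitive group has at most two minimal normal subgroups -/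
theorem IsMinN.eq_or_eq [Finite G] [FaithfulSMul G Ω] (hprim : MulAction.IsPreprimitive G Ω)
    {M M' M'' : Subgroup G} (hM : IsMinN M) (hM' : IsMinN M') (hne : M ≠ M')
    (hM'' : IsMinN M'') : M'' = M ∨ M'' = M' := by
  by_cases h1 : M'' = M
  · exact Or.inl h1
  · right
    have : Nonempty Ω := nonempty_of_ne_bot (Ω := Ω) hM.2.1
    have htr := hM.trans hprim
    have htr' := hM'.trans hprim
    have hK : Subgroup.centralizer (M : Set G) ≤ M' := by
      apply le_of_commute_of_trans htr htr'
      · intro y hy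
        rw [Subgroup.mem_centralizer_iff]
        intro m hm
        exact (hM.commute hM' hne m hm y hy).eq
      · intro k hk m hm
        rw [Subgroup.mem_centralizer_iff] at hk
        exact (hk m hm).symm
    have hle : M'' ≤ M' := by
      refine le_trans ?_ hK
      intro y hy
      rw [Subgroup.mem_centralizer_iff]
      intro m hm
      exact (hM.commute hM'' (Ne.symm h1) m hm y hy).eq
    rcases hM'.2.2 M'' hM''.1 hle with h | h
    · exact absurd h hM''.2.1
    · exact h


/-- `T ^ k × T ^ l ≃* T ^ (k + l)` -/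
def piAppendMulEquiv (T : Type*) [Mul T] (k l : ℕ) :
    (Fin k → T) × (Fin l → T) ≃* (Fin (k + l) → T) where
  toFun p := Fin.append p.1 p.2
  invFun f := (fun i => f (Fin.castAdd l i), fun j => f (Fin.natAdd k j))
  left_inv := by
    rintro ⟨a, b⟩
    ext <;> simp
  right_inv := by
    intro f
    ext i
    refine Fin.addCases ?_ ?_ i <;> intro j <;> simp
  map_mul' := by
    rintro ⟨a, b⟩ ⟨c, d⟩
    ext i
    refine Fin.addCases ?_ ?_ i <;> intro j <;> simp

/-- two distinct minimal normal subgroups of a primitive group are isomorphic -/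
theorem IsMinN.nonempty_mulEquiv [Finite G] [FaithfulSMul G Ω]
    (hprim : MulAction.IsPreprimitive G Ω) {M M' : Subgroup G} (hM : IsMinN M) (hM' : IsMinN M')
    (hne : M ≠ M') : Nonempty (M ≃* M') := by
  classical
  have : Nonempty Ω := nonempty_of_ne_bot (Ω := Ω) hM.2.1
  obtain ⟨ω⟩ := (inferInstance : Nonempty Ω)
  have htr := hM.trans hprim
  have htr' := hM'.trans hprim
  have hcomm := hM.commute hM' hne
  have hex : ∀ m : M, ∃ y, y ∈ M' ∧ (y * (m : G)) • ω = ω := by
    intro m
    obtain ⟨y, hy, hyω⟩ := htr' ((m : G) • ω) ω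
    exact ⟨y, hy, by rw [mul_smul]; exact hyω⟩
  let θ : M → M' := fun m => ⟨Classical.choose (hex m), (Classical.choose_spec (hex m)).1⟩
  have hθ : ∀ m : M, ((θ m : G) * (m : G)) • ω = ω := fun m => (Classical.choose_spec (hex m)).2
  have huniq : ∀ (m : M) (y : G), y ∈ M' → (y * (m : G)) • ω = ω → y = (θ m : G) := by
    intro m y hy hyω
    have h1 : ((θ m : G)⁻¹ * y) • ((m : G) • ω) = (m : G) • ω := by
      have e1 : y • ((m : G) • ω) = ω := by rw [← mul_smul]; exact hyω
      have e2 : (θ m : G) • ((m : G) • ω) = ω := by rw [← mul_smul]; exact hθ m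
      rw [mul_smul, e1]
      nth_rewrite 1 [← e2]
      rw [inv_smul_smul]
    have h2 : (θ m : G)⁻¹ * y = 1 := by
      apply eq_one_of_fix_of_commute htr _ h1
      intro x hx
      exact (hcomm x hx _ (M'.mul_mem (M'.inv_mem (θ m).2) hy)).symm
    rw [inv_mul_eq_one] at h2
    exact h2.symm
  have hmul : ∀ a b : M, θ (a * b) = θ a * θ b := by
    intro a b
    apply Subtype.ext
    symm
    apply huniq (a * b) _ (M'.mul_mem (θ a).2 (θ b).2)
    have hc : (θ b : G) * (a : G) = (a : G) * (θ b : G) := (hcomm a a.2 _ (θ b).2).eq.symm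
    calc (((θ a * θ b : M') : G) * ((a * b : M) : G)) • ω
        = ((θ a : G) * ((θ b : G) * (a : G)) * (b : G)) • ω := by
          simp only [Subgroup.coe_mul, mul_assoc]
      _ = ((θ a : G) * (a : G)) • (((θ b : G) * (b : G)) • ω) := by
          rw [hc, ← mul_smul]; simp only [mul_assoc]
      _ = ω := by rw [hθ b, hθ a]
  let f : M →* M' := MonoidHom.mk' θ hmul
  have hinj : Function.Injective f := by
    intro a b hab
    have hab' : (θ a : G) = (θ b : G) := congrArg Subtype.val hab
    have h1 : ((b : G)⁻¹ * (a : G)) • ω = ω := by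
      have h2 : (a : G) • ω = (b : G) • ω := by
        have ha := hθ a
        have hb := hθ b
        rw [hab', mul_smul] at ha
        rw [mul_smul] at hb
        exact smul_left_cancel _ (ha.trans hb.symm)
      rw [mul_smul, h2, inv_smul_smul]
    have h3 : (b : G)⁻¹ * (a : G) = 1 := by
      apply eq_one_of_fix_of_commute htr' _ h1
      intro y hy
      exact hcomm _ (M.mul_mem (M.inv_mem b.2) a.2) y hy
    rw [inv_mul_eq_one] at h3
    exact (Subtype.ext h3).symm
  have hsurj : Function.Surjective f := by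
    intro y
    obtain ⟨m, hm, hmω⟩ := htr ω ((y : G)⁻¹ • ω)
    refine ⟨⟨m, hm⟩, ?_⟩
    apply Subtype.ext
    symm
    apply huniq ⟨m, hm⟩ _ y.2
    rw [mul_smul, hmω, smul_inv_smul]
  exact ⟨MulEquiv.ofBijective f ⟨hinj, hsurj⟩⟩


/-- a minimal normal subgroup is a power of a simple group (living in `Type`) -/
theorem IsMinN.exists_simple_pow [Finite G] {M : Subgroup G} (hM : IsMinN M) :
    ∃ (T : Type) (_ : Group T) (k : ℕ), 0 < k ∧ IsSimpleGroup T ∧
      Nonempty (M ≃* (Fin k → T)) := by
  obtain ⟨hMn, hM0, hMmin⟩ := hM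
  have hnt : Nontrivial M := (Subgroup.nontrivial_iff_ne_bot M).mpr hM0
  have hminφ : ∀ K : Subgroup M,
      (∀ g : G, K.map (MulAut.conjNormal g : MulAut M).toMonoidHom ≤ K) → K = ⊥ ∨ K = ⊤ := by
    intro K hK
    have hKn : (K.map M.subtype).Normal := by
      constructor
      intro y hy g
      obtain ⟨y', hy', rfl⟩ := hy
      have h1 := hK g (Subgroup.mem_map_of_mem _ hy')
      refine ⟨_, h1, ?_⟩
      simp [MulAut.conjNormal_apply]
    rcases hMmin _ hKn (Subgroup.map_subtype_le K) with h | h
    · left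
      exact (Subgroup.map_eq_bot_iff_of_injective K M.subtype_injective).mp h
    · right
      have := Subgroup.comap_map_eq_self_of_injective M.subtype_injective K
      rw [h] at this
      rw [← this]
      exact Subgroup.subgroupOf_self M
  obtain ⟨T, m, hTs, hm, ⟨e⟩⟩ := Cfsg.Agent.Lib.H18.exists_simple_pow
    (MulAut.conjNormal : G →* MulAut M) hminφ
  refine ⟨Shrink.{0} T, inferInstance, m, hm, (Shrink.mulEquiv.{0} (α := T)).isSimpleGroup, ?_⟩
  exact ⟨e.trans (MulEquiv.piCongrRight (fun _ => (Shrink.mulEquiv.{0} (α := T)).symm))⟩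

theorem not_comm_of_pow {M : Type*} [Group M] {T : Type*} [Group T] {k : ℕ} (e : M ≃* (Fin k → T))
    (hM : ¬ ∀ x y : M, x * y = y * x) : ¬ IsMulCommutative T := by
  intro hT
  apply hM
  intro x y
  apply e.injective
  rw [map_mul, map_mul]
  funext i
  exact hT.is_comm.comm _ _


/-- the socle of a finite primitive permutation group -/
theorem socle [Finite G] [FaithfulSMul G Ω] (hprim : MulAction.IsPreprimitive G Ω)
    (N : Subgroup G)
    (hN : N = sSup {V : Subgroup G | V.Normal ∧ V ≠ ⊥ ∧
      ∀ M : Subgroup G, M.Normal → M ≤ V → M = ⊥ ∨ M = V}) :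
    (∃ p : ℕ, p.Prime ∧ IsMulCommutative N ∧ (∀ x : N, x ^ p = 1) ∧
      MulAction.IsPretransitive N Ω ∧ ∀ ω : Ω, MulAction.stabilizer N ω = ⊥) ∨
    (∃ (T : Type) (_ : Group T) (m : ℕ), 1 ≤ m ∧ IsSimpleGroup T ∧ ¬ IsMulCommutative T ∧
      Nonempty (N ≃* (Fin m → T))) := by
  by_cases hex : ∃ M : Subgroup G, IsMinN M
  · obtain ⟨M, hM⟩ := hex
    have hMn := hM.1
    by_cases hcomm : ∀ x ∈ M, ∀ y ∈ M, x * y = y * x
    · -- abelian socle
      have hNM : N = M := by
        rw [hN]
        apply le_antisymm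
        · apply sSup_le
          intro V hV
          exact (hM.unique_of_comm hprim hcomm hV).le
        · exact le_sSup hM
      subst hNM
      left
      obtain ⟨p, d, hp, _, _, hexp⟩ :=
        Cfsg.Agent.Lib.H3.minNormal_exists_prime_pow N hM.2.1 hM.2.2 hcomm
      have htr := Cfsg.Agent.Lib.H3.isPretransitive_of_normal_of_isPreprimitive hprim N hM.2.1
      refine ⟨p, hp, ⟨⟨fun a b => Subtype.ext (hcomm a a.2 b b.2)⟩⟩,
        fun x => Subtype.ext (hexp x x.2), htr, ?_⟩
      intro ω
      rw [eq_bot_iff]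
      intro x hx
      rw [Subgroup.mem_bot]
      rw [MulAction.mem_stabilizer_iff] at hx
      apply Subtype.ext
      exact Cfsg.Agent.Lib.H3.eq_one_of_smul_eq_of_comm_of_isPretransitive N hcomm htr x.2
        (ω := ω) hx
    · right
      have hcomm' : ¬ ∀ x y : M, x * y = y * x := by
        intro h
        apply hcomm
        intro x hx y hy
        exact congrArg Subtype.val (h ⟨x, hx⟩ ⟨y, hy⟩)
      obtain ⟨T, instT, k, hk, hTs, ⟨e⟩⟩ := hM.exists_simple_pow
      by_cases huniq : ∀ M', IsMinN M' → M' = M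
      · have hNM : N = M := by
          rw [hN]
          apply le_antisymm
          · apply sSup_le
            intro V hV
            exact (huniq V hV).le
          · exact le_sSup hM
        subst hNM
        exact ⟨T, instT, k, hk, hTs, not_comm_of_pow e hcomm', ⟨e⟩⟩
      · push Not at huniq
        obtain ⟨M', hM', hne⟩ := huniq
        have hNM : N = M ⊔ M' := by
          rw [hN]
          apply le_antisymm
          · apply sSup_le
            intro V hV
            rcases hM.eq_or_eq hprim hM' (Ne.symm hne) hV with h | h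
            · rw [h]; exact le_sup_left
            · rw [h]; exact le_sup_right
          · exact sup_le (le_sSup hM) (le_sSup hM')
        subst hNM
        obtain ⟨e'⟩ := hM.nonempty_mulEquiv hprim hM' (Ne.symm hne)
        have e1 : (M ⊔ M' : Subgroup G) ≃* M × M' :=
          Cfsg.Agent.Lib.H18.supMulEquivProd M M' (hM.commute hM' (Ne.symm hne))
            (hM.disjoint hM' (Ne.symm hne))
        have e2 : M × M' ≃* (Fin k → T) × (Fin k → T) :=
          MulEquiv.prodCongr e (e'.symm.trans e)
        exact ⟨T, instT, k + k, by omega, hTs, not_comm_of_pow e hcomm',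
          ⟨(e1.trans e2).trans (piAppendMulEquiv T k k)⟩⟩
  · -- no minimal normal subgroup: `G` is trivial
    have hsub : Subsingleton G := by
      by_contra h
      rw [not_subsingleton_iff_nontrivial] at h
      obtain ⟨T, h1, h2, h3⟩ := Cfsg.Agent.Lib.H18.exists_minimal_normal (N := G)
      exact hex ⟨T, h1, h2, h3⟩
    left
    have hΩ : Subsingleton Ω := by
      constructor
      intro ω ω'
      obtain ⟨g, hg⟩ := MulAction.exists_smul_eq G ω ω'
      rw [Subsingleton.elim g 1, one_smul] at hg
      exact hg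
    refine ⟨2, Nat.prime_two, ⟨⟨fun a b => Subsingleton.elim _ _⟩⟩, fun x => Subsingleton.elim _ _,
      ⟨fun ω ω' => ⟨1, Subsingleton.elim _ _⟩⟩, fun ω => Subsingleton.elim _ _⟩

end Cfsg.Agent.Lib.H9.PrimSocle
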