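import Mathlib
import Cfsg.Prelude.Def_HallClasses

set_option autoImplicit false

namespace Cfsg.Agent.Lib.H9.Pron

theorem sylow_smul_coe {G : Type*} [Group G] {p : ℕ} (g : G) (P : Sylow p G) :
    ((g • P : Sylow p G) : Subgroup G) = (P : Subgroup G).map (MulAut.conj g).toMonoidHom := rfl

theorem map_conj_eq_self {G : Type*} [Group G] (H : Subgroup G) {y : G}
    (hy : y ∈ Subgroup.normalizer (H : Set G)) : H.map (MulAut.conj y).toMonoidHom = H :=
  Subgroup.mem_normalizer_iff_map_conj_eq.mp hy

theorem map_conj_mul {G : Type*} [Group G] (H : Subgroup G) (a b : G) :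
    H.map (MulAut.conj (a * b)).toMonoidHom =
      (H.map (MulAut.conj b).toMonoidHom).map (MulAut.conj a).toMonoidHom := by
  rw [Subgroup.map_map]
  congr 1
  ext z
  simp [mul_assoc]

/-- Lemma A: a subgroup containing a Sylow subgroup `S` with `N(S) ≤ N(H)` is pronormal. -/
theorem pronormal_of_sylow {G : Type*} [Group G] [Finite G] {p : ℕ} [Fact p.Prime]
    (S : Sylow p G) (H : Subgroup G) (hSH : (S : Subgroup G) ≤ H)
    (hN : Subgroup.normalizer ((S : Subgroup G) : Set G) ≤ Subgroup.normalizer (H : Set G)) :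
    Cfsg.IsPronormal H := by
  intro g
  set K : Subgroup G := H ⊔ H.map (MulAut.conj g).toMonoidHom with hK
  have h1 : (S : Subgroup G) ≤ K := hSH.trans le_sup_left
  have h2 : ((g • S : Sylow p G) : Subgroup G) ≤ K := by
    rw [sylow_smul_coe]
    exact (Subgroup.map_mono hSH).trans le_sup_right
  obtain ⟨k, hk⟩ := MulAction.exists_smul_eq K (S.subtype h1) ((g • S).subtype h2)
  rw [Sylow.smul_subtype] at hk
  have hk' : (k : G) • S = g • S := Sylow.subtype_injective hk
  have h3 : ((k : G)⁻¹ * g) • S = S := by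
    rw [mul_smul, ← hk', inv_smul_smul]
  have h4 : (k : G)⁻¹ * g ∈ Subgroup.normalizer (H : Set G) :=
    hN (Sylow.smul_eq_iff_mem_normalizer.mp h3)
  refine ⟨k.1, k.2, ?_⟩
  have h5 : g = (k : G) * ((k : G)⁻¹ * g) := by group
  conv_lhs => rw [h5]
  rw [map_conj_mul, map_conj_eq_self H h4]

/-- Lemma M: a subgroup with no proper intermediate overgroups is pronormal. -/
theorem pronormal_of_maximal {G : Type*} [Group G] [Finite G] (H : Subgroup G)
    (hmax : ∀ K : Subgroup G, H ≤ K → K = H ∨ K = ⊤) : Cfsg.IsPronormal H := by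
  intro g
  rcases hmax (H ⊔ H.map (MulAut.conj g).toMonoidHom) le_sup_left with h | h
  · refine ⟨1, Subgroup.one_mem _, ?_⟩
    have h1 : H.map (MulAut.conj g).toMonoidHom ≤ H := le_sup_right.trans h.le
    have hinj : Function.Injective (MulAut.conj g).toMonoidHom := fun a b hab =>
      (MulAut.conj g).injective hab
    have h2 : Nat.card (H.map (MulAut.conj g).toMonoidHom) = Nat.card H :=
      Subgroup.card_map_of_injective hinj
    have h3 : H.map (MulAut.conj g).toMonoidHom = H :=
      Subgroup.eq_of_le_of_card_ge h1 h2.ge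
    rw [h3]
    ext z
    simp
  · refine ⟨g, ?_, rfl⟩
    rw [h]
    exact Subgroup.mem_top g

/-- Step C: a subgroup of index prime to `p` contains a Sylow `p`-subgroup. -/
theorem exists_sylow_le {G : Type*} [Group G] [Finite G] {p : ℕ} [hp : Fact p.Prime]
    (H : Subgroup G) (hH : ¬ p ∣ H.index) : ∃ S : Sylow p G, (S : Subgroup G) ≤ H := by
  let Q : Sylow p H := default
  have h1 : Nat.card (Q : Subgroup H) = p ^ (Nat.card H).factorization p :=
    Sylow.card_eq_multiplicity Q
  have h2 : (Nat.card G).factorization p = (Nat.card H).factorization p := by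
    rw [← Subgroup.card_mul_index H]
    have hi : H.index ≠ 0 := Subgroup.index_ne_zero_of_finite
    rw [Nat.factorization_mul Nat.card_pos.ne' hi, Finsupp.add_apply,
      Nat.factorization_eq_zero_of_not_dvd hH, add_zero]
  have h3 : Nat.card ((Q : Subgroup H).map H.subtype) = p ^ (Nat.card G).factorization p := by
    rw [Subgroup.card_map_of_injective H.subtype_injective, h1, h2]
  refine ⟨Sylow.ofCard _ h3, ?_⟩
  rw [Sylow.coe_ofCard]
  exact Subgroup.map_subtype_le _

end Cfsg.Agent.Lib.H9.Pron
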