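import Mathlib
import Cfsg.Agent.Lib.H9.SylSymC

set_option autoImplicit false

namespace Cfsg.Agent.Lib.H9.Pron

open Equiv SylSym

/-- odd-order normalizing permutations are trivial -/
def ONT {Ω : Type*} (G : Subgroup (Perm Ω)) : Prop :=
  ∀ g : Perm Ω, (∃ k, Odd k ∧ g ^ k = 1) → (∀ s ∈ G, g * s * g⁻¹ ∈ G) → g = 1

section W

variable {ι : Type*} [Fintype ι] [DecidableEq ι]

theorem perm_inv_apply {α : Type*} (g : Perm α) (x : α) : g⁻¹ (g x) = x := by simp

theorem perm_apply_inv {α : Type*} (g : Perm α) (x : α) : g (g⁻¹ x) = x := by simp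

/-- fibre preserving -/
def FP (g : Perm (ι × ZMod 2)) : Prop := ∀ x y : ι × ZMod 2, x.1 = y.1 → (g x).1 = (g y).1

theorem FP.mul {g h : Perm (ι × ZMod 2)} (hg : FP g) (hh : FP h) : FP (g * h) := by
  intro x y hxy
  rw [Perm.mul_apply, Perm.mul_apply]
  exact hg _ _ (hh _ _ hxy)

theorem FP.one : FP (1 : Perm (ι × ZMod 2)) := fun _ _ h => h

theorem FP.pow {g : Perm (ι × ZMod 2)} (hg : FP g) (k : ℕ) : FP (g ^ k) := by
  induction k with
  | zero => rw [pow_zero]; exact FP.one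
  | succ k ih => rw [pow_succ]; exact ih.mul hg

theorem inv_eq_pow_of_pow_eq_one {M : Type*} [Group M] {g : M} {k : ℕ} (hk : 0 < k)
    (h : g ^ k = 1) : g⁻¹ = g ^ (k - 1) := by
  apply inv_eq_of_mul_eq_one_right
  rw [← pow_succ', Nat.sub_add_cancel hk, h]

theorem zmod2_cases (z : ZMod 2) : z = 0 ∨ z = 1 := by
  fin_cases z
  · left; rfl
  · right; rfl

theorem zmod2_ne {z w : ZMod 2} (h : z ≠ w) : w = z + 1 := by
  revert z w; decide

theorem zmod2_add_one_ne (z : ZMod 2) : z + 1 ≠ z := by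
  revert z; decide

theorem zmod2_third {a b c : ZMod 2} (h1 : a ≠ b) (h2 : c ≠ a) : c = b := by
  revert a b c; decide

theorem zmod2_of_ne_zero {z : ZMod 2} (h : z ≠ 0) : z = 1 := by
  revert z; decide

/-- the induced permutation on the index set -/
noncomputable def piOf (g : Perm (ι × ZMod 2)) (hg : FP g) (hg' : FP g⁻¹) : Perm ι where
  toFun i := (g (i, 0)).1
  invFun i := (g⁻¹ (i, 0)).1
  left_inv i := by
    show (g⁻¹ ((g (i, 0)).1, 0)).1 = i
    have h1 : (g⁻¹ ((g (i, 0)).1, 0)).1 = (g⁻¹ (g (i, 0))).1 := hg' _ _ rfl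
    rw [h1]; simp
  right_inv i := by
    show (g ((g⁻¹ (i, 0)).1, 0)).1 = i
    have h1 : (g ((g⁻¹ (i, 0)).1, 0)).1 = (g (g⁻¹ (i, 0))).1 := hg _ _ rfl
    rw [h1]; simp

theorem piOf_spec (g : Perm (ι × ZMod 2)) (hg : FP g) (hg' : FP g⁻¹) (x : ι × ZMod 2) :
    (g x).1 = piOf g hg hg' x.1 := hg _ _ rfl

theorem piOf_inv_spec (g : Perm (ι × ZMod 2)) (hg : FP g) (hg' : FP g⁻¹) (x : ι × ZMod 2) :
    (g⁻¹ x).1 = (piOf g hg hg')⁻¹ x.1 := hg' _ _ rfl

theorem piOf_pow_spec (g : Perm (ι × ZMod 2)) (hg : FP g) (hg' : FP g⁻¹) (k : ℕ)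
    (x : ι × ZMod 2) : ((g ^ k) x).1 = ((piOf g hg hg') ^ k) x.1 := by
  induction k generalizing x with
  | zero => simp
  | succ k ih =>
    rw [pow_succ, pow_succ, Perm.mul_apply, Perm.mul_apply, ih, piOf_spec g hg hg']

/-- Lemma FPN -/
theorem eq_one_of_FP {Q : Subgroup (Perm ι)} (hQ : ONT Q) (g : Perm (ι × ZMod 2))
    {k : ℕ} (hk : Odd k) (hgk : g ^ k = 1) (hg : FP g)
    (hnorm : ∀ σ ∈ Q, g * tau 2 ι σ * g⁻¹ ∈ wr 2 Q) : g = 1 := by
  have : Fact (Nat.Prime 2) := ⟨Nat.prime_two⟩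
  have hkpos : 0 < k := hk.pos
  have hg' : FP g⁻¹ := by
    rw [inv_eq_pow_of_pow_eq_one hkpos hgk]
    exact hg.pow _
  set π := piOf g hg hg' with hπ
  have hπk : π ^ k = 1 := by
    ext i
    have := piOf_pow_spec g hg hg' k (i, 0)
    rw [hgk] at this
    simpa using this.symm
  have hπnorm : ∀ σ ∈ Q, π * σ * π⁻¹ ∈ Q := by
    intro σ hσ
    obtain ⟨f, σ', hσ', h⟩ := hnorm σ hσ
    have h2 : σ' = π * σ * π⁻¹ := by
      ext i
      have h3 := congrArg (fun (u : Perm (ι × ZMod 2)) => (u (i, 0)).1) h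
      simp only [beta_mul_tau_apply] at h3
      have h4 : ((g * tau 2 ι σ * g⁻¹) (i, 0)).1 = π (σ (π⁻¹ i)) := by
        rw [Perm.mul_apply, Perm.mul_apply, piOf_spec g hg hg', tau_apply,
          piOf_inv_spec g hg hg']
      rw [← h3, h4]
      rfl
    rw [← h2]
    exact hσ'
  have hπ1 : π = 1 := hQ π ⟨k, hk, hπk⟩ hπnorm
  have hfix : ∀ x, (g x).1 = x.1 := by
    intro x
    rw [piOf_spec g hg hg', ← hπ, hπ1, Perm.one_apply]
  -- g² = 1
  have hsq : g ^ 2 = 1 := by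
    ext x : 1
    rw [pow_two, Perm.mul_apply, Perm.one_apply]
    by_cases hx : g x = x
    · rw [hx, hx]
    · have h1 : (g x).2 ≠ x.2 := by
        intro h
        exact hx (Prod.ext (hfix x) h)
      have h2 : (g (g x)).1 = x.1 := by rw [hfix, hfix]
      have h3 : (g (g x)).2 ≠ (g x).2 := by
        intro h
        have : g (g x) = g x := Prod.ext (hfix (g x)) h
        exact hx (g.injective this)
      exact Prod.ext h2 (zmod2_third h1 h3)
  obtain ⟨m, rfl⟩ := hk
  have : g ^ (2 * m + 1) = g := by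
    rw [pow_succ, pow_mul, hsq, one_pow, one_mul]
  rw [← this, hgk]

/-- supports of elements of the wreath product are saturated -/
theorem supp_sat {Q : Subgroup (Perm ι)} {s : Perm (ι × ZMod 2)} (hs : s ∈ wr 2 Q)
    {x y : ι × ZMod 2} (hxy : x.1 = y.1) (hx : s x ≠ x) : s y ≠ y := by
  obtain ⟨f, σ, -, rfl⟩ := hs
  intro hy
  apply hx
  rw [beta_mul_tau_apply] at hy ⊢
  have h1 : σ y.1 = y.1 := congrArg Prod.fst hy
  have h2 : y.2 + Multiplicative.toAdd (f (σ y.1)) = y.2 := congrArg Prod.snd hy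
  rw [h1] at h2
  have h3 : Multiplicative.toAdd (f y.1) = 0 := by
    have := add_left_cancel (a := y.2) (b := Multiplicative.toAdd (f y.1)) (c := 0)
      (by rw [h2, add_zero])
    exact this
  rw [hxy, h1, h3, add_zero]
  exact Prod.ext hxy.symm rfl

/-- the transposition in fibre `i` -/
noncomputable def tI (i : ι) : Perm (ι × ZMod 2) :=
  beta 2 ι (Pi.mulSingle i (Multiplicative.ofAdd (1 : ZMod 2)))

theorem tI_apply_of_eq {i : ι} {x : ι × ZMod 2} (h : x.1 = i) : tI i x = (x.1, x.2 + 1) := by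
  unfold tI
  rw [beta_apply, h, Pi.mulSingle_eq_same]
  rfl

theorem tI_apply_of_ne {i : ι} {x : ι × ZMod 2} (h : x.1 ≠ i) : tI i x = x := by
  unfold tI
  rw [beta_apply, Pi.mulSingle_eq_of_ne h]
  simp

theorem tI_apply_ne_iff {i : ι} {x : ι × ZMod 2} : tI i x ≠ x ↔ x.1 = i := by
  constructor
  · intro h
    by_contra hne
    exact h (tI_apply_of_ne hne)
  · intro h
    rw [tI_apply_of_eq h]
    intro h2
    exact zmod2_add_one_ne x.2 (congrArg Prod.snd h2)

theorem tI_mem_wr (Q : Subgroup (Perm ι)) (i : ι) : tI i ∈ wr 2 Q := beta_mem_wr Q _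

theorem tI_eq_swap (i : ι) : tI i = Equiv.swap (i, 0) (i, 1) := by
  ext x : 1
  by_cases h : x.1 = i
  · rw [tI_apply_of_eq h]
    obtain ⟨j, z⟩ := x
    simp only at h
    subst h
    rcases zmod2_cases z with rfl | rfl
    · rw [Equiv.swap_apply_left, zero_add]
    · rw [Equiv.swap_apply_right]
      rfl
  · rw [tI_apply_of_ne h, Equiv.swap_apply_of_ne_of_ne]
    · intro h2; exact h (congrArg Prod.fst h2)
    · intro h2; exact h (congrArg Prod.fst h2)

theorem sign_tI (i : ι) : Perm.sign (tI i) = -1 := by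
  rw [tI_eq_swap]
  apply Perm.sign_swap
  intro h
  have := congrArg Prod.snd h
  exact zero_ne_one this

/-- Criterion for fibre preservation. -/
theorem FP_crit {Q : Subgroup (Perm ι)} (g : Perm (ι × ZMod 2))
    (hyp : ∀ i : ι, ∀ v : ι × ZMod 2, v.1 ≠ i → ∃ s : Perm (ι × ZMod 2),
      g * s * g⁻¹ ∈ wr 2 Q ∧ (∀ x : ι × ZMod 2, x.1 = i → s x ≠ x) ∧ s v = v) : FP g := by
  intro x y hxy
  by_cases hne : x = y
  · rw [hne]
  set i := x.1 with hi
  set w : ι × ZMod 2 := ((g x).1, (g x).2 + 1) with hw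
  set v := g⁻¹ w with hv
  have hgv : g v = w := by rw [hv]; simp
  have hwne : w ≠ g x := by
    intro h
    exact zmod2_add_one_ne (g x).2 (congrArg Prod.snd h)
  have hv1 : v.1 = i := by
    by_contra hvi
    obtain ⟨s, hs, hmove, hfix⟩ := hyp i v hvi
    have h1 : (g * s * g⁻¹) (g x) ≠ g x := by
      rw [Perm.mul_apply, Perm.mul_apply, perm_inv_apply]
      intro h
      exact hmove x rfl (g.injective h)
    have h2 : (g * s * g⁻¹) w ≠ w := supp_sat hs (x := g x) (y := w) rfl h1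
    apply h2
    rw [Perm.mul_apply, Perm.mul_apply, ← hv, hfix, hgv]
  have hvx : v ≠ x := by
    intro h
    apply hwne
    rw [← hgv, h]
  have hvy : v = y := by
    apply Prod.ext
    · exact hv1.trans hxy
    · have hx2 : x.2 ≠ y.2 := by
        intro h
        exact hne (Prod.ext hxy h)
      have hv2 : v.2 ≠ x.2 := by
        intro h
        exact hvx (Prod.ext hv1 h)
      exact zmod2_third hx2 hv2
  rw [← hvy, hgv]

/-- Lemma W: the wreath step for the symmetric group. -/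
theorem ONT_wr {Q : Subgroup (Perm ι)} (hQ : ONT Q) : ONT (wr 2 Q) := by
  rintro g ⟨k, hk, hgk⟩ hnorm
  have hFP : FP g := by
    apply FP_crit (Q := Q) g
    intro i v _
    refine ⟨tI i, hnorm _ (tI_mem_wr Q i), fun x hx => tI_apply_ne_iff.mpr hx, ?_⟩
    apply tI_apply_of_ne
    assumption
  exact eq_one_of_FP hQ g hk hgk hFP (fun σ hσ => hnorm _ (tau_mem_wr hσ))

/-- Lemma W': the wreath step for the alternating group. -/
theorem ONT_wr_alt {Q : Subgroup (Perm ι)} (hQ : ONT Q) (hι : 3 ≤ Fintype.card ι) :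
    ONT (wr 2 Q ⊓ alternatingGroup (ι × ZMod 2)) := by
  rintro g ⟨k, hk, hgk⟩ hnorm
  have hFP : FP g := by
    apply FP_crit (Q := Q) g
    intro i v hvi
    -- choose `j ∉ {i, v.1}`
    obtain ⟨j, hj⟩ : ∃ j : ι, j ∉ ({i, v.1} : Finset ι) := by
      by_contra hcon
      push Not at hcon
      have h1 : (Finset.univ : Finset ι) ⊆ {i, v.1} := fun j _ => hcon j
      have h2 := Finset.card_le_card h1
      rw [Finset.card_univ] at h2
      have h3 : ({i, v.1} : Finset ι).card ≤ 2 := Finset.card_le_two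
      omega
    rw [Finset.mem_insert, Finset.mem_singleton, not_or] at hj
    obtain ⟨hji, hjv⟩ := hj
    refine ⟨tI i * tI j, ?_, ?_, ?_⟩
    · refine (hnorm _ ⟨Subgroup.mul_mem _ (tI_mem_wr Q i) (tI_mem_wr Q j), ?_⟩).1
      show tI i * tI j ∈ alternatingGroup (ι × ZMod 2)
      rw [Perm.mem_alternatingGroup, map_mul, sign_tI, sign_tI]
      rfl
    · intro x hx
      rw [Perm.mul_apply, tI_apply_of_ne (i := j) (x := x) (by rw [hx]; exact fun h => hji h.symm)]
      exact tI_apply_ne_iff.mpr hx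
    · rw [Perm.mul_apply, tI_apply_of_ne (i := j) (x := v) (fun h => hjv h.symm),
        tI_apply_of_ne hvi]
  refine eq_one_of_FP hQ g hk hgk hFP (fun σ hσ => ?_)
  refine (hnorm _ ⟨tau_mem_wr hσ, ?_⟩).1
  show tau 2 ι σ ∈ alternatingGroup (ι × ZMod 2)
  rw [Perm.mem_alternatingGroup, sign_tau_two]

end W

end Cfsg.Agent.Lib.H9.Pron
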