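import Mathlib
import Cfsg.Agent.Lib.H9.PronB

set_option autoImplicit false

namespace Cfsg.Agent.Lib.H9.Pron

open Equiv SylSym

section V

variable {α β : Type*}

theorem via_apply (e : α ↪ β) (s : Perm α) (x : α) :
    Perm.viaEmbeddingHom e s (e x) = e (s x) := by
  rw [Perm.viaEmbeddingHom_apply, Perm.viaEmbedding_apply]

theorem via_apply_of_notMem (e : α ↪ β) (s : Perm α) (y : β) (hy : y ∉ Set.range e) :
    Perm.viaEmbeddingHom e s y = y := by
  rw [Perm.viaEmbeddingHom_apply, Perm.viaEmbedding_apply_of_notMem _ _ _ hy]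

theorem normalizes_pow {M : Type*} [Group M] (G : Subgroup M) {g : M}
    (h : ∀ s ∈ G, g * s * g⁻¹ ∈ G) (m : ℕ) : ∀ s ∈ G, g ^ m * s * (g ^ m)⁻¹ ∈ G := by
  induction m with
  | zero => intro s hs; simpa using hs
  | succ m ih =>
    intro s hs
    have h1 := h _ (ih s hs)
    have h2 : g * (g ^ m * s * (g ^ m)⁻¹) * g⁻¹ = g ^ (m + 1) * s * (g ^ (m + 1))⁻¹ := by
      rw [pow_succ']
      group
    rw [← h2]
    exact h1

theorem normalizes_inv {M : Type*} [Group M] (G : Subgroup M) {g : M} {k : ℕ} (hk : 0 < k)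
    (hgk : g ^ k = 1) (h : ∀ s ∈ G, g * s * g⁻¹ ∈ G) : ∀ s ∈ G, g⁻¹ * s * g⁻¹⁻¹ ∈ G := by
  intro s hs
  have := normalizes_pow G h (k - 1) s hs
  rw [← inv_eq_pow_of_pow_eq_one hk hgk] at this
  exact this

/-- Lemma V: transport of `ONT` along an embedding missing at most one point. -/
theorem ONT_via [Fintype α] [Fintype β] (e : α ↪ β)
    (hcard : Fintype.card β ≤ Fintype.card α + 1) {G : Subgroup (Perm α)}
    (hmove : ∀ x : α, ∃ s ∈ G, s x ≠ x) (hG : ONT G) :
    ONT (G.map (Perm.viaEmbeddingHom e)) := by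
  rintro g ⟨k, hk, hgk⟩ hnorm
  have hnorm' := normalizes_inv _ hk.pos hgk hnorm
  have key : ∀ g : Perm β, (∀ s ∈ G.map (Perm.viaEmbeddingHom e),
      g * s * g⁻¹ ∈ G.map (Perm.viaEmbeddingHom e)) → ∀ x : α, g (e x) ∈ Set.range e := by
    intro g hnorm x
    obtain ⟨s, hs, hsx⟩ := hmove x
    obtain ⟨s', hs', h⟩ := hnorm _ ⟨s, hs, rfl⟩
    by_contra hnot
    have h1 : (Perm.viaEmbeddingHom e s') (g (e x)) = g (e x) :=
      via_apply_of_notMem e s' _ hnot
    rw [h, Perm.mul_apply, Perm.mul_apply, perm_inv_apply, via_apply] at h1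
    exact hsx (e.injective (g.injective h1))
  have hr := key g hnorm
  have hr' := key g⁻¹ hnorm'
  have hout : ∀ y, y ∉ Set.range e → g y = y := by
    intro y hy
    have h1 : g y ∉ Set.range e := by
      rintro ⟨x, hx⟩
      apply hy
      have := hr' x
      rw [hx, perm_inv_apply] at this
      exact this
    by_contra hne
    have : Fintype.card α + 2 ≤ Fintype.card β := by
      classical
      have hdisj : Disjoint (Finset.univ.map e) ({y, g y} : Finset β) := by
        rw [Finset.disjoint_left]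
        intro z hz hz2
        rw [Finset.mem_map] at hz
        obtain ⟨x, -, rfl⟩ := hz
        rw [Finset.mem_insert, Finset.mem_singleton] at hz2
        rcases hz2 with h | h
        · exact hy ⟨x, h⟩
        · exact h1 ⟨x, h⟩
      have := Finset.card_le_card (Finset.subset_univ ((Finset.univ.map e) ∪ ({y, g y} : Finset β)))
      rw [Finset.card_union_of_disjoint hdisj, Finset.card_map, Finset.card_univ,
        Finset.card_pair (Ne.symm hne), Finset.card_univ] at this
      exact this
    omega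
  choose h hh using hr
  choose h' hh' using hr'
  let hp : Perm α :=
    { toFun := h
      invFun := h'
      left_inv := by
        intro x
        apply e.injective
        rw [hh', hh, perm_inv_apply]
      right_inv := by
        intro x
        apply e.injective
        rw [hh, hh', perm_apply_inv] }
  have hg : g = Perm.viaEmbeddingHom e hp := by
    ext y : 1
    by_cases hy : y ∈ Set.range e
    · obtain ⟨x, rfl⟩ := hy
      rw [via_apply]
      exact (hh x).symm
    · rw [hout y hy, via_apply_of_notMem e hp y hy]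
  have hinj := Perm.viaEmbeddingHom_injective e
  have hpk : hp ^ k = 1 := by
    apply hinj
    rw [map_pow, ← hg, hgk, map_one]
  have hpn : ∀ s ∈ G, hp * s * hp⁻¹ ∈ G := by
    intro s hs
    obtain ⟨s', hs', h⟩ := hnorm _ ⟨s, hs, rfl⟩
    have : s' = hp * s * hp⁻¹ := by
      apply hinj
      rw [h, hg, map_mul, map_mul, map_inv]
    rw [← this]
    exact hs'
  have := hG hp ⟨k, hk, hpk⟩ hpn
  rw [hg, this, map_one]

end V

end Cfsg.Agent.Lib.H9.Pron

namespace Cfsg.Agent.Lib.H9.Pron

open Equiv SylSym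

theorem map_inf_alt {α β : Type*} [Fintype α] [DecidableEq α] [Fintype β] [DecidableEq β]
    (e : α ↪ β) (G : Subgroup (Perm α)) :
    (G ⊓ alternatingGroup α).map (Perm.viaEmbeddingHom e) =
      G.map (Perm.viaEmbeddingHom e) ⊓ alternatingGroup β := by
  ext g
  constructor
  · rintro ⟨s, ⟨hs1, hs2⟩, rfl⟩
    refine ⟨⟨s, hs1, rfl⟩, ?_⟩
    show Perm.viaEmbeddingHom e s ∈ alternatingGroup β
    rw [Perm.mem_alternatingGroup, sign_via]
    exact Perm.mem_alternatingGroup.mp hs2
  · rintro ⟨⟨s, hs, rfl⟩, hg⟩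
    refine ⟨s, ⟨hs, ?_⟩, rfl⟩
    have hg' : Perm.viaEmbeddingHom e s ∈ alternatingGroup β := hg
    rw [Perm.mem_alternatingGroup, sign_via] at hg'
    exact Perm.mem_alternatingGroup.mpr hg'

theorem exists_model (n : ℕ) : ∃ P : Subgroup (Perm (Fin n)),
    Nat.card P = 2 ^ (n.factorial).factorization 2 ∧ ONT P ∧
    (6 ≤ n → ONT (P ⊓ alternatingGroup (Fin n))) ∧ (2 ≤ n → ∃ s ∈ P, Perm.sign s = -1) := by
  have : Fact (Nat.Prime 2) := ⟨Nat.prime_two⟩
  induction n using Nat.strong_induction_on with
  | _ n ih =>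
    by_cases hn2 : n < 2
    · refine ⟨⊥, ?_, ?_, fun h => by omega, fun h => by omega⟩
      · rw [Subgroup.card_bot]
        have : (n.factorial).factorization 2 = 0 := by
          apply Nat.factorization_eq_zero_of_not_dvd
          rw [Nat.prime_two.dvd_factorial]
          omega
        rw [this, pow_zero]
      · intro g _ _
        have : Subsingleton (Fin n) := Fin.subsingleton_iff_le_one.mpr (by omega)
        exact Equiv.ext fun x => Subsingleton.elim _ _
    · push Not at hn2
      have ha : n / 2 < n := Nat.div_lt_self (by omega) (by omega)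
      obtain ⟨Q, hQcard, hQ, -, -⟩ := ih (n / 2) ha
      have hcard_le : Fintype.card (Fin (n / 2) × ZMod 2) ≤ Fintype.card (Fin n) := by
        rw [Fintype.card_prod, Fintype.card_fin, ZMod.card, Fintype.card_fin]
        exact Nat.div_mul_le_self n 2
      obtain ⟨e⟩ := Function.Embedding.nonempty_of_card_le hcard_le
      have hcard' : Fintype.card (Fin n) ≤ Fintype.card (Fin (n / 2) × ZMod 2) + 1 := by
        rw [Fintype.card_prod, Fintype.card_fin, ZMod.card, Fintype.card_fin]
        omega
      refine ⟨wrN e Q, ?_, ?_, ?_, ?_⟩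
      · rw [card_wrN, hQcard, legendre_step (p := 2) n, ← pow_add, add_comm]
      · unfold wrN
        apply ONT_via e hcard' _ (ONT_wr hQ)
        intro x
        exact ⟨tI x.1, tI_mem_wr Q x.1, tI_apply_ne_iff.mpr rfl⟩
      · intro h6
        unfold wrN
        rw [← map_inf_alt]
        have h3 : 3 ≤ Fintype.card (Fin (n / 2)) := by
          rw [Fintype.card_fin]; omega
        apply ONT_via e hcard' _ (ONT_wr_alt hQ h3)
        intro x
        obtain ⟨j, hj⟩ : ∃ j : Fin (n / 2), j ≠ x.1 := by
          have : Nontrivial (Fin (n / 2)) := Fin.nontrivial_iff_two_le.mpr (by omega)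
          exact exists_ne x.1
        refine ⟨tI x.1 * tI j, ⟨Subgroup.mul_mem _ (tI_mem_wr Q x.1) (tI_mem_wr Q j), ?_⟩, ?_⟩
        · show tI x.1 * tI j ∈ alternatingGroup (Fin (n / 2) × ZMod 2)
          rw [Perm.mem_alternatingGroup, map_mul, sign_tI, sign_tI]
          rfl
        · rw [Perm.mul_apply, tI_apply_of_ne (i := j) (x := x) (fun h => hj h.symm)]
          exact tI_apply_ne_iff.mpr rfl
      · intro _
        have hpos : 0 < n / 2 := by omega
        refine ⟨Perm.viaEmbeddingHom e (tI ⟨0, hpos⟩), ⟨_, tI_mem_wr Q _, rfl⟩, ?_⟩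
        rw [sign_via, sign_tI]

end Cfsg.Agent.Lib.H9.Pron
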