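import Mathlib
import Cfsg.Agent.Lib.H9.PronC

set_option autoImplicit false

namespace Cfsg.Agent.Lib.H9.Pron

open Equiv SylSym

theorem card_ker_two {Q : Type*} [Group Q] [Finite Q] (s : Q →* ℤˣ)
    (hs : Function.Surjective s) : Nat.card s.ker * 2 = Nat.card Q := by
  have h1 := Subgroup.card_mul_index s.ker
  rw [Subgroup.index_ker, MonoidHom.range_eq_top.mpr hs, Subgroup.card_top] at h1
  have h2 : Nat.card ℤˣ = 2 := by
    rw [Nat.card_eq_fintype_card, Fintype.card_units_int]
  rw [h2] at h1
  exact h1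

/-- The standard Sylow 2-subgroup of `A_n` -/
theorem exists_std_sylow (n : ℕ) (hn : 6 ≤ n) :
    ∃ S : Sylow 2 (alternatingGroup (Fin n)),
      Subgroup.normalizer ((S : Subgroup (alternatingGroup (Fin n))) :
        Set (alternatingGroup (Fin n))) = (S : Subgroup (alternatingGroup (Fin n))) := by
  have : Fact (Nat.Prime 2) := ⟨Nat.prime_two⟩
  obtain ⟨P, hPcard, -, hONT, hodd⟩ := exists_model n
  have hONT := hONT hn
  obtain ⟨t, htP, htsign⟩ := hodd (by omega)
  have hPfin : Finite P := inferInstance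
  obtain ⟨S₁, hmem⟩ : ∃ S₁ : Subgroup (alternatingGroup (Fin n)),
      ∀ x : alternatingGroup (Fin n), x ∈ S₁ ↔ x.1 ∈ P :=
    ⟨P.subgroupOf (alternatingGroup (Fin n)), fun x => Subgroup.mem_subgroupOf⟩
  -- sign on P
  let sP : P →* ℤˣ := (Perm.sign).comp P.subtype
  have hsurj : Function.Surjective sP := by
    intro u
    rcases Int.units_eq_one_or u with rfl | rfl
    · exact ⟨1, map_one _⟩
    · exact ⟨⟨t, htP⟩, htsign⟩
  have e : ↥S₁ ≃ ↥sP.ker :=
    { toFun := fun x => ⟨⟨x.1.1, (hmem x.1).mp x.2⟩, by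
        rw [MonoidHom.mem_ker]
        exact Perm.mem_alternatingGroup.mp x.1.2⟩
      invFun := fun y => ⟨⟨y.1.1, Perm.mem_alternatingGroup.mpr (MonoidHom.mem_ker.mp y.2)⟩, by
        rw [hmem]
        exact y.1.2⟩
      left_inv := fun _ => rfl
      right_inv := fun _ => rfl }
  have hv : 1 ≤ (n.factorial).factorization 2 := by
    have hd : 2 ∣ n.factorial := Nat.dvd_factorial (by norm_num) (by omega)
    exact (Nat.Prime.dvd_iff_one_le_factorization Nat.prime_two (Nat.factorial_ne_zero n)).mp hd
  obtain ⟨v, hv'⟩ : ∃ v, (n.factorial).factorization 2 = v + 1 :=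
    ⟨(n.factorial).factorization 2 - 1, by omega⟩
  have hS₁card : Nat.card S₁ = 2 ^ v := by
    have h1 := card_ker_two sP hsurj
    rw [hPcard, hv', pow_succ, ← Nat.card_congr e] at h1
    exact Nat.eq_of_mul_eq_mul_right (by norm_num) h1
  have hAv : (Nat.card (alternatingGroup (Fin n))).factorization 2 = v := by
    have : Nontrivial (Fin n) := Fin.nontrivial_iff_two_le.mpr (by omega)
    have h2 := two_mul_nat_card_alternatingGroup (α := Fin n)
    rw [Nat.card_perm, Nat.card_fin] at h2
    have hne : Nat.card (alternatingGroup (Fin n)) ≠ 0 := Nat.card_pos.ne'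
    have h3 : (2 * Nat.card (alternatingGroup (Fin n))).factorization 2 =
        (n.factorial).factorization 2 := by rw [h2]
    rw [Nat.factorization_mul (by norm_num) hne, Finsupp.add_apply,
      Nat.Prime.factorization_self Nat.prime_two, hv'] at h3
    omega
  have hcard : Nat.card S₁ = 2 ^ (Nat.card (alternatingGroup (Fin n))).factorization 2 := by
    rw [hAv, hS₁card]
  refine ⟨Sylow.ofCard S₁ hcard, ?_⟩
  rw [Sylow.coe_ofCard]
  -- the normalizer is a 2-group
  have hp : IsPGroup 2 (Subgroup.normalizer (S₁ : Set (alternatingGroup (Fin n)))) := by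
    intro x
    have hx0 : orderOf x ≠ 0 := (orderOf_pos x).ne'
    obtain ⟨a, m, hm, hx⟩ := Nat.exists_eq_two_pow_mul_odd hx0
    refine ⟨a, ?_⟩
    have hym : (x ^ (2 ^ a)) ^ m = 1 := by
      rw [← pow_mul, ← hx, pow_orderOf_eq_one]
    obtain ⟨y, hy⟩ : ∃ y : alternatingGroup (Fin n), y = (x : alternatingGroup (Fin n)) ^ (2 ^ a) :=
      ⟨_, rfl⟩
    have hyn : y ∈ Subgroup.normalizer (S₁ : Set (alternatingGroup (Fin n))) := by
      rw [hy]
      exact Subgroup.pow_mem _ x.2 _
    have hym' : (y : Perm (Fin n)) ^ m = 1 := by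
      have := congrArg (fun z : Subgroup.normalizer (S₁ : Set (alternatingGroup (Fin n))) =>
        ((z : alternatingGroup (Fin n)) : Perm (Fin n))) hym
      rw [hy]
      simpa using this
    have h1 : (y : Perm (Fin n)) = 1 := by
      apply hONT _ ⟨m, hm, hym'⟩
      intro s hs
      have hs1 : (⟨s, hs.2⟩ : alternatingGroup (Fin n)) ∈ S₁ := by
        rw [hmem]
        exact hs.1
      have h2 := (Subgroup.mem_normalizer_iff.mp hyn _).mp hs1
      rw [hmem] at h2
      refine ⟨h2, ?_⟩
      exact (y * ⟨s, hs.2⟩ * y⁻¹).2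
    apply Subtype.ext
    apply Subtype.ext
    rw [Subgroup.coe_pow, ← hy, h1]
    rfl
  have hmax := (Sylow.ofCard S₁ hcard).is_maximal' hp
  rw [Sylow.coe_ofCard] at hmax
  exact hmax Subgroup.le_normalizer

/-- Self-normalizing for one Sylow subgroup implies it for all. -/
theorem sylow_self_normalizing_all {G : Type*} [Group G] [Finite G] {p : ℕ} [Fact p.Prime]
    (S : Sylow p G) (hS : Subgroup.normalizer ((S : Subgroup G) : Set G) = (S : Subgroup G))
    (T : Sylow p G) : Subgroup.normalizer ((T : Subgroup G) : Set G) = (T : Subgroup G) := by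
  have h1 : Nat.card (Sylow p G) = (Subgroup.normalizer ((S : Subgroup G) : Set G)).index :=
    Sylow.card_eq_index_normalizer S
  have h2 : Nat.card (Sylow p G) = (Subgroup.normalizer ((T : Subgroup G) : Set G)).index :=
    Sylow.card_eq_index_normalizer T
  rw [hS] at h1
  have h3 : Nat.card (S : Subgroup G) = Nat.card (T : Subgroup G) := by
    rw [Sylow.card_eq_multiplicity, Sylow.card_eq_multiplicity]
  have h4 := Subgroup.card_mul_index (S : Subgroup G)
  have h5 := Subgroup.card_mul_index (Subgroup.normalizer ((T : Subgroup G) : Set G))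
  rw [← h2, h1] at h5
  have h6 : Nat.card (Subgroup.normalizer ((T : Subgroup G) : Set G)) = Nat.card (T : Subgroup G) := by
    rw [← h3]
    have hi : (S : Subgroup G).index ≠ 0 := Subgroup.index_ne_zero_of_finite
    exact Nat.eq_of_mul_eq_mul_right (Nat.pos_of_ne_zero hi) (h5.trans h4.symm)
  exact (Subgroup.eq_of_le_of_card_ge Subgroup.le_normalizer h6.le).symm

theorem alt_sylow_self_normalizing (n : ℕ) (hn : 6 ≤ n)
    (T : Sylow 2 (alternatingGroup (Fin n))) :
    Subgroup.normalizer ((T : Subgroup (alternatingGroup (Fin n))) :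
      Set (alternatingGroup (Fin n))) = (T : Subgroup (alternatingGroup (Fin n))) := by
  have : Fact (Nat.Prime 2) := ⟨Nat.prime_two⟩
  obtain ⟨S, hS⟩ := exists_std_sylow n hn
  exact sylow_self_normalizing_all S hS T

end Cfsg.Agent.Lib.H9.Pron
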