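import Mathlib
import Cfsg.Agent.Lib.H22.UniqueInvolution
import Cfsg.Agent.Lib.H22.NilpotentCoprime
import Cfsg.Agent.Lib.L0.QuatData

/-!
# Groups with a generalized quaternion quotient by a central subgroup (helper9)
-/

set_option autoImplicit false

namespace Cfsg.Agent.Lib.H9.QuatQuot

open Subgroup
open scoped commutatorElement

universe u

/-- Structure data (with `M` even) of a non-abelian finite 2-group with exactly one involution. -/
theorem exists_data_even {Q : Type u} [Group Q] [Finite Q] (hQ : IsPGroup 2 Q)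
    (hnc : ¬ IsMulCommutative Q) (hu : ∃! x : Q, orderOf x = 2) :
    ∃ (M : ℕ) (a : Q), Even M ∧ 2 ≤ M ∧ orderOf a = 2 * M ∧ Nat.card Q = 4 * M ∧
      (∀ q : Q, q ∉ zpowers a → q * a * q⁻¹ = a⁻¹) ∧
      (∀ q : Q, q ∉ zpowers a → q * q = a ^ M) ∧
      Cfsg.Agent.Lib.H22.AtMostOneOrderP 2 Q := by
  have hamo : Cfsg.Agent.Lib.H22.AtMostOneOrderP 2 Q := by
    apply Cfsg.Agent.Lib.H22.atMostOne_two_of_unique_involution
    intro x y hx hx1 hy hy1
    obtain ⟨t, -, ht⟩ := hu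
    rw [ht x (orderOf_eq_prime hx hx1), ht y (orderOf_eq_prime hy hy1)]
  rcases Cfsg.Agent.Lib.H22.cyclic_or_quaternion_of_atMostOne hQ hamo with hc | ⟨n, hn, ⟨e⟩⟩
  · exfalso
    apply hnc
    obtain ⟨g, hg⟩ := hc.exists_generator
    refine ⟨⟨fun a b => ?_⟩⟩
    obtain ⟨k, rfl⟩ := Subgroup.mem_zpowers_iff.mp (hg a)
    obtain ⟨l, rfl⟩ := Subgroup.mem_zpowers_iff.mp (hg b)
    exact (Commute.zpow_zpow_self g k l).eq
  · have : NeZero (2 ^ n) := ⟨by positivity⟩
    obtain ⟨a, ha⟩ := Cfsg.Agent.Lib.L0.exists_quatData (⊤ : Subgroup Q) (2 ^ n)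
      (Subgroup.topEquiv.trans e)
    refine ⟨2 ^ n, a, ?_, ?_, ha.order_a, ?_, ?_, ?_, hamo⟩
    · exact (Nat.even_pow' (by omega)).mpr even_two
    · calc 2 = 2 ^ 1 := by norm_num
        _ ≤ 2 ^ n := Nat.pow_le_pow_right (by norm_num) hn
    · rw [← ha.card, Subgroup.card_top]
    · intro q hq
      exact ha.conj_of_not_mem q (Subgroup.mem_top q) hq
    · intro q hq
      exact ha.sq_of_not_mem q (Subgroup.mem_top q) hq

/-- Structure data of a non-abelian finite 2-group with exactly one involution. -/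
theorem exists_data {Q : Type u} [Group Q] [Finite Q] (hQ : IsPGroup 2 Q)
    (hnc : ¬ IsMulCommutative Q) (hu : ∃! x : Q, orderOf x = 2) :
    ∃ (M : ℕ) (a : Q), 2 ≤ M ∧ orderOf a = 2 * M ∧ Nat.card Q = 4 * M ∧
      (∀ q : Q, q ∉ zpowers a → q * a * q⁻¹ = a⁻¹) ∧
      (∀ q : Q, q ∉ zpowers a → q * q = a ^ M) ∧
      Cfsg.Agent.Lib.H22.AtMostOneOrderP 2 Q := by
  obtain ⟨M, a, -, h⟩ := exists_data_even hQ hnc hu
  exact ⟨M, a, h⟩

/-- `G = A ∪ A y` with `A` abelian normal: the derived subgroup lies in any subgroup containing all `⁅a, y⁆`. -/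
theorem commutator_le_of_index_two {G : Type*} [Group G] (A N : Subgroup G)
    (hAc : ∀ a ∈ A, ∀ b ∈ A, a * b = b * a) (hAn : A.Normal) (y : G)
    (hidx : ∀ s : G, s ∈ A ∨ s * y⁻¹ ∈ A) (hN : ∀ a ∈ A, ⁅a, y⁆ ∈ N) :
    commutator G ≤ N := by
  rw [commutator_def, Subgroup.commutator_le]
  -- case (a, b y)
  have h2 : ∀ a ∈ A, ∀ b ∈ A, ⁅a, b * y⁆ ∈ N := by
    intro a ha b hb
    have hu : y * a⁻¹ * y⁻¹ ∈ A := hAn.conj_mem _ (A.inv_mem ha) y
    have : ⁅a, b * y⁆ = ⁅a, y⁆ := by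
      rw [commutatorElement_def, commutatorElement_def]
      calc a * (b * y) * a⁻¹ * (b * y)⁻¹ = a * (b * (y * a⁻¹ * y⁻¹)) * b⁻¹ := by group
        _ = a * ((y * a⁻¹ * y⁻¹) * b) * b⁻¹ := by rw [hAc b hb _ hu]
        _ = a * y * a⁻¹ * y⁻¹ := by group
    rw [this]; exact hN a ha
  have h4 : ∀ a ∈ A, ∀ b ∈ A, ⁅a * y, b * y⁆ ∈ N := by
    intro a ha b hb
    have hd : b * a⁻¹ ∈ A := A.mul_mem hb (A.inv_mem ha)
    have hv : y * (b * a⁻¹) * y⁻¹ ∈ A := hAn.conj_mem _ hd y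
    have : ⁅a * y, b * y⁆ = ⁅b * a⁻¹, y⁆⁻¹ := by
      rw [commutatorElement_def, commutatorElement_def]
      calc a * y * (b * y) * (a * y)⁻¹ * (b * y)⁻¹ = a * (y * (b * a⁻¹) * y⁻¹) * b⁻¹ := by group
        _ = (y * (b * a⁻¹) * y⁻¹) * a * b⁻¹ := by rw [hAc a ha _ hv]
        _ = (b * a⁻¹ * y * (b * a⁻¹)⁻¹ * y⁻¹)⁻¹ := by group
    rw [this]; exact N.inv_mem (hN _ hd)
  intro s₁ _ s₂ _
  rcases hidx s₁ with h1 | h1 <;> rcases hidx s₂ with h2' | h2'
  · rw [commutatorElement_eq_one_iff_commute.mpr (hAc s₁ h1 s₂ h2')]; exact N.one_mem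
  · have := h2 s₁ h1 _ h2'
    rwa [inv_mul_cancel_right] at this
  · have := h2 s₂ h2' _ h1
    rw [inv_mul_cancel_right] at this
    rw [← commutatorElement_inv]; exact N.inv_mem this
  · have := h4 _ h1 _ h2'
    rwa [inv_mul_cancel_right, inv_mul_cancel_right] at this

/-- If `S / E` (`E` central) has a cyclic subgroup of index 2, then `S'` is cyclic. -/
theorem isCyclic_commutator {S : Type*} [Group S] (E : Subgroup S) [E.Normal]
    (hE : E ≤ center S) (x : S) (hidx : (zpowers (x : S ⧸ E)).index = 2) :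
    IsCyclic (commutator S) := by
  set π := QuotientGroup.mk' E with hπ
  set A : Subgroup S := (zpowers (π x)).comap π with hA
  have hAi : A.index = 2 := by
    rw [hA, Subgroup.index_comap_of_surjective _ (QuotientGroup.mk'_surjective E)]
    exact hidx
  have memA : ∀ s ∈ A, ∃ k : ℤ, ∃ e ∈ E, s = x ^ k * e := by
    intro s hs
    rw [hA, Subgroup.mem_comap, Subgroup.mem_zpowers_iff] at hs
    obtain ⟨k, hk⟩ := hs
    refine ⟨k, (x ^ k)⁻¹ * s, ?_, by group⟩
    rw [← map_zpow] at hk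
    exact QuotientGroup.eq.mp hk
  have hxA : x ∈ A := by
    rw [hA, Subgroup.mem_comap]; exact Subgroup.mem_zpowers _
  have hcen : ∀ e ∈ E, ∀ g : S, e * g = g * e := by
    intro e he g
    exact ((Subgroup.mem_center_iff.mp (hE he)) g).symm
  have hAc : ∀ a ∈ A, ∀ b ∈ A, a * b = b * a := by
    intro a ha b hb
    obtain ⟨k, e, he, rfl⟩ := memA a ha
    obtain ⟨l, f, hf, rfl⟩ := memA b hb
    have h1 : x ^ k * x ^ l = x ^ l * x ^ k := (Commute.zpow_zpow_self x k l).eq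
    calc x ^ k * e * (x ^ l * f) = x ^ k * (e * x ^ l) * f := by group
      _ = x ^ k * (x ^ l * e) * f := by rw [hcen e he]
      _ = (x ^ k * x ^ l) * (e * f) := by group
      _ = (x ^ l * x ^ k) * (f * e) := by rw [h1, hcen e he f]
      _ = x ^ l * (x ^ k * f) * e := by group
      _ = x ^ l * (f * x ^ k) * e := by rw [hcen f hf]
      _ = x ^ l * f * (x ^ k * e) := by group
  have hAn : A.Normal := Subgroup.normal_of_index_eq_two hAi
  obtain ⟨y, hy⟩ : ∃ y : S, y ∉ A := by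
    by_contra hcon
    push Not at hcon
    have : A = ⊤ := (Subgroup.eq_top_iff' A).mpr hcon
    rw [this, Subgroup.index_top] at hAi
    omega
  have hyi : y⁻¹ ∉ A := fun h => hy (by simpa using A.inv_mem h)
  have hidx' : ∀ s : S, s ∈ A ∨ s * y⁻¹ ∈ A := by
    intro s
    by_cases hs : s ∈ A
    · exact Or.inl hs
    · right
      rw [Subgroup.mul_mem_iff_of_index_two hAi]
      exact ⟨fun h => absurd h hs, fun h => absurd h hyi⟩
  have hN : ∀ a ∈ A, ⁅a, y⁆ ∈ zpowers ⁅x, y⁆ := by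
    intro a ha
    obtain ⟨k, e, he, rfl⟩ := memA a ha
    have hu : y * x⁻¹ * y⁻¹ ∈ A := hAn.conj_mem _ (A.inv_mem hxA) y
    have hcomm : Commute x (y * x⁻¹ * y⁻¹) := hAc x hxA _ hu
    have h1 : ⁅x, y⁆ ^ k = x ^ k * (y * (x ^ k)⁻¹ * y⁻¹) := by
      rw [commutatorElement_def]
      have : x * y * x⁻¹ * y⁻¹ = x * (y * x⁻¹ * y⁻¹) := by group
      rw [this, hcomm.mul_zpow, conj_zpow, inv_zpow]
    have h2 : ⁅x ^ k * e, y⁆ = x ^ k * (y * (x ^ k)⁻¹ * y⁻¹) := by
      rw [commutatorElement_def]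
      calc x ^ k * e * y * (x ^ k * e)⁻¹ * y⁻¹ = x ^ k * (e * y) * e⁻¹ * (x ^ k)⁻¹ * y⁻¹ := by group
        _ = x ^ k * (y * e) * e⁻¹ * (x ^ k)⁻¹ * y⁻¹ := by rw [hcen e he]
        _ = x ^ k * (y * (x ^ k)⁻¹ * y⁻¹) := by group
    rw [h2, ← h1]
    exact Subgroup.zpow_mem_zpowers _ _
  have hle := commutator_le_of_index_two A (zpowers ⁅x, y⁆) hAc hAn y hidx' hN
  exact Subgroup.isCyclic_of_le hle

/-- The preimage `A` of a cyclic subgroup `⟨x̄⟩` of index 2 of `S / E`, `E` central. -/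
theorem exists_abelian_index_two {S : Type*} [Group S] (E : Subgroup S) [E.Normal]
    (hE : E ≤ center S) (x : S) (hidx : (zpowers (x : S ⧸ E)).index = 2) :
    ∃ A : Subgroup S, A.index = 2 ∧ E ≤ A ∧ x ∈ A ∧
      (∀ s ∈ A, ∃ k : ℤ, ∃ e ∈ E, s = x ^ k * e) ∧ (∀ a ∈ A, ∀ b ∈ A, a * b = b * a) ∧
      (∀ s : S, s ∈ A ↔ (s : S ⧸ E) ∈ zpowers (x : S ⧸ E)) := by
  set π := QuotientGroup.mk' E with hπ
  set A : Subgroup S := (zpowers (π x)).comap π with hA
  have hAi : A.index = 2 := by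
    rw [hA, Subgroup.index_comap_of_surjective _ (QuotientGroup.mk'_surjective E)]
    exact hidx
  have memA : ∀ s ∈ A, ∃ k : ℤ, ∃ e ∈ E, s = x ^ k * e := by
    intro s hs
    rw [hA, Subgroup.mem_comap, Subgroup.mem_zpowers_iff] at hs
    obtain ⟨k, hk⟩ := hs
    refine ⟨k, (x ^ k)⁻¹ * s, ?_, by group⟩
    rw [← map_zpow] at hk
    exact QuotientGroup.eq.mp hk
  have hxA : x ∈ A := by
    rw [hA, Subgroup.mem_comap]; exact Subgroup.mem_zpowers _
  have hcen : ∀ e ∈ E, ∀ g : S, e * g = g * e := by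
    intro e he g
    exact ((Subgroup.mem_center_iff.mp (hE he)) g).symm
  have hAc : ∀ a ∈ A, ∀ b ∈ A, a * b = b * a := by
    intro a ha b hb
    obtain ⟨k, e, he, rfl⟩ := memA a ha
    obtain ⟨l, f, hf, rfl⟩ := memA b hb
    have h1 : x ^ k * x ^ l = x ^ l * x ^ k := (Commute.zpow_zpow_self x k l).eq
    calc x ^ k * e * (x ^ l * f) = x ^ k * (e * x ^ l) * f := by group
      _ = x ^ k * (x ^ l * e) * f := by rw [hcen e he]
      _ = (x ^ k * x ^ l) * (e * f) := by group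
      _ = (x ^ l * x ^ k) * (f * e) := by rw [h1, hcen e he f]
      _ = x ^ l * (x ^ k * f) * e := by group
      _ = x ^ l * (f * x ^ k) * e := by rw [hcen f hf]
      _ = x ^ l * f * (x ^ k * e) := by group
  refine ⟨A, hAi, ?_, hxA, memA, hAc, fun s => Iff.rfl⟩
  intro e he
  rw [hA, Subgroup.mem_comap]
  have : π e = 1 := (QuotientGroup.eq_one_iff e).mpr he
  rw [this]; exact Subgroup.one_mem _

/-- In a quotient `S / E` that is a non-abelian 2-group with a unique involution, the elements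
outside an abelian subgroup `A ⊇ E` of index 2 invert `A` modulo `E` and square to an element
outside `E` whose square lies in `E`. -/
theorem invert_of_quotient {S : Type*} [Group S] [Finite S] (hS : IsPGroup 2 S)
    (E : Subgroup S) [E.Normal] (hnc : ¬ IsMulCommutative (S ⧸ E))
    (hu : ∃! x : S ⧸ E, orderOf x = 2) (A : Subgroup S) (hAi : A.index = 2) (hEA : E ≤ A)
    (hAc : ∀ a ∈ A, ∀ b ∈ A, a * b = b * a) :
    (∀ y : S, y ∉ A → ∀ a ∈ A, y * a * y⁻¹ * a ∈ E) ∧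
    (∀ y : S, y ∉ A → y * y ∉ E ∧ (y * y) * (y * y) ∈ E) ∧
    (∃ a ∈ A, ∀ M : ℕ, 0 < M → Nat.card (S ⧸ E) = 4 * M → a ^ M ∉ E) := by
  have : Fact (Nat.Prime 2) := ⟨Nat.prime_two⟩
  set π := QuotientGroup.mk' E with hπ
  have hQ : IsPGroup 2 (S ⧸ E) := hS.to_quotient E
  have hamo : Cfsg.Agent.Lib.H22.AtMostOneOrderP 2 (S ⧸ E) := by
    apply Cfsg.Agent.Lib.H22.atMostOne_two_of_unique_involution
    intro x y hx hx1 hy hy1
    obtain ⟨t, -, ht⟩ := hu
    rw [ht x (orderOf_eq_prime hx hx1), ht y (orderOf_eq_prime hy hy1)]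
  set Aj : Subgroup (S ⧸ E) := A.map π with hAj
  have hker : π.ker ≤ A := by rw [hπ, QuotientGroup.ker_mk']; exact hEA
  have hAji : Aj.index = 2 := by
    rw [hAj, Subgroup.index_map_eq A (QuotientGroup.mk'_surjective E) hker]; exact hAi
  have hAjc : ∀ b c : Aj, b * c = c * b := by
    rintro ⟨b, hb⟩ ⟨c, hc⟩
    obtain ⟨b', hb', rfl⟩ := Subgroup.mem_map.mp hb
    obtain ⟨c', hc', rfl⟩ := Subgroup.mem_map.mp hc
    apply Subtype.ext
    show π b' * π c' = π c' * π b'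
    rw [← map_mul, ← map_mul, hAc b' hb' c' hc']
  have hcyc : IsCyclic Aj :=
    Cfsg.Agent.Lib.H22.isCyclic_of_comm_of_atMostOne (hQ.to_subgroup Aj) (hamo.subgroup Aj) hAjc
  obtain ⟨g, hg⟩ := hcyc.exists_generator
  set b : S ⧸ E := (g : S ⧸ E) with hb
  have hAjz : Aj = zpowers b := by
    apply le_antisymm
    · intro q hq
      obtain ⟨k, hk⟩ := Subgroup.mem_zpowers_iff.mp (hg ⟨q, hq⟩)
      refine Subgroup.mem_zpowers_iff.mpr ⟨k, ?_⟩
      have := congrArg (Subtype.val : Aj → S ⧸ E) hk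
      simpa using this
    · rw [Subgroup.zpowers_le]; exact g.2
  have hbn : (zpowers b).Normal := by
    rw [← hAjz]; exact Subgroup.normal_of_index_eq_two hAji
  have hnotmem : ∀ y : S, y ∉ A → π y ∉ zpowers b := by
    intro y hy hmem
    rw [← hAjz, hAj] at hmem
    obtain ⟨a, ha, hay⟩ := Subgroup.mem_map.mp hmem
    have h1 : a⁻¹ * y ∈ E := QuotientGroup.eq.mp hay
    apply hy
    have : y = a * (a⁻¹ * y) := by group
    rw [this]; exact A.mul_mem ha (hEA h1)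
  have hsqmem : ∀ q : S ⧸ E, q * q ∈ zpowers b := by
    intro q
    rw [← hAjz, Subgroup.mul_mem_iff_of_index_two hAji]
  have hnoncomm : ∀ q : S ⧸ E, q ∉ zpowers b → q * b ≠ b * q := by
    intro q hq hcomm
    apply hnc
    have hidx' : ∀ s : S ⧸ E, s ∈ zpowers b ∨ s * q⁻¹ ∈ zpowers b := by
      intro s
      by_cases hs : s ∈ zpowers b
      · exact Or.inl hs
      · right
        have hqi : q⁻¹ ∉ zpowers b := fun h => hq (by simpa using (zpowers b).inv_mem h)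
        rw [← hAjz] at hs hqi ⊢
        rw [Subgroup.mul_mem_iff_of_index_two hAji]
        exact ⟨fun h => absurd h hs, fun h => absurd h hqi⟩
    have hzc : ∀ a ∈ zpowers b, ∀ c ∈ zpowers b, a * c = c * a := by
      intro a ha c hc
      obtain ⟨k, rfl⟩ := Subgroup.mem_zpowers_iff.mp ha
      obtain ⟨l, rfl⟩ := Subgroup.mem_zpowers_iff.mp hc
      exact (Commute.zpow_zpow_self b k l).eq
    have hle := commutator_le_of_index_two (zpowers b) ⊥ hzc hbn q hidx' (by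
      intro a ha
      obtain ⟨k, rfl⟩ := Subgroup.mem_zpowers_iff.mp ha
      rw [Subgroup.mem_bot, commutatorElement_eq_one_iff_commute]
      exact (Commute.zpow_left (show Commute b q from hcomm.symm) k))
    refine ⟨⟨fun p r => ?_⟩⟩
    have h1 : ⁅p, r⁆ ∈ commutator (S ⧸ E) := by
      rw [commutator_def]
      exact Subgroup.commutator_mem_commutator (Subgroup.mem_top p) (Subgroup.mem_top r)
    have h2 := hle h1
    rwa [Subgroup.mem_bot, commutatorElement_eq_one_iff_mul_comm] at h2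
  have hinv : ∀ y : S, y ∉ A → π y * b * (π y)⁻¹ = b⁻¹ ∧ (π y * π y) ^ 2 = 1 ∧ π y * π y ≠ 1 := by
    intro y hy
    exact Cfsg.Agent.Lib.H22.inverts_of_atMostOne hQ hamo b (π y) hbn (hnotmem y hy)
      (hsqmem _) (hnoncomm _ (hnotmem y hy))
  refine ⟨?_, ?_, ?_⟩
  · intro y hy a ha
    obtain ⟨h1, -, -⟩ := hinv y hy
    have hpa : π a ∈ zpowers b := by
      rw [← hAjz, hAj]; exact Subgroup.mem_map_of_mem π ha
    obtain ⟨k, hk⟩ := Subgroup.mem_zpowers_iff.mp hpa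
    have h2 : π y * π a * (π y)⁻¹ = (π a)⁻¹ := by
      rw [← hk, ← conj_zpow, h1, inv_zpow]
    have h3 : π (y * a * y⁻¹ * a) = 1 := by
      rw [map_mul, map_mul, map_mul, map_inv, h2, inv_mul_cancel]
    exact (QuotientGroup.eq_one_iff _).mp h3
  · intro y hy
    obtain ⟨-, h2, h3⟩ := hinv y hy
    constructor
    · intro hmem
      apply h3
      rw [← map_mul]
      exact (QuotientGroup.eq_one_iff _).mpr hmem
    · have : π ((y * y) * (y * y)) = 1 := by
        rw [map_mul, map_mul, ← pow_two, h2]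
      exact (QuotientGroup.eq_one_iff _).mp this
  · have hbA : b ∈ Aj := by rw [hAjz]; exact Subgroup.mem_zpowers b
    obtain ⟨a, ha, hab⟩ := Subgroup.mem_map.mp hbA
    refine ⟨a, ha, ?_⟩
    intro M hM hcard hmem
    have h1 : Nat.card Aj * 2 = 4 * M := by
      rw [← hcard, ← hAji]; exact Subgroup.card_mul_index Aj
    have h2 : orderOf b = 2 * M := by
      have : orderOf b = Nat.card (zpowers b) := (Nat.card_zpowers b).symm
      rw [this, ← hAjz]; omega
    have h3 : b ^ M ≠ 1 := pow_ne_one_of_lt_orderOf (by omega) (by omega)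
    apply h3
    rw [← hab, ← map_pow]
    exact (QuotientGroup.eq_one_iff _).mpr hmem

end Cfsg.Agent.Lib.H9.QuatQuot
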