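import Cfsg.Agent.Lib.H9.S28GEN

/-!
# S2928 piece C2 LTRANS (helper9): `L` is transitive

Exact signature of `tools/blueprints/S2928_sigs.lean`, section C2.
-/

set_option autoImplicit false

namespace Cfsg.Agent.Lib.H9.S28

open Equiv Cfsg.Agent.Lib.H9.S28 Cfsg.Agent.Lib.H15.SymF

variable {β : Type*} [Fintype β] [DecidableEq β] {G L : Subgroup (Perm β)}

/-- an element of `G` fixing all points outside a 4-set preserves every `L`-orbit. -/
theorem c2_orbit_of_fix (h : Core G L) {S : Finset β} (hS4 : S.card ≤ 4) {u : Perm β} (hu : u ∈ G)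
    (hfix : ∀ q, q ∉ S → u q = q) (p : β) : ∃ y ∈ L, y p = u p := by
  obtain ⟨x, hx, hxp⟩ := exists_apply_not_mem h p S hS4
  refine ⟨u * x⁻¹ * u⁻¹ * x, L.mul_mem (h.normal u hu x⁻¹ (L.inv_mem hx)) hx, ?_⟩
  simp only [Perm.mul_apply]
  have h1 : u⁻¹ (x p) = x p := by
    rw [Perm.inv_eq_iff_eq]; exact (hfix _ hxp).symm
  rw [h1]
  simp

theorem c2_swap_fix {a b c d : β} {S : Finset β} (ha : a ∈ S) (hb : b ∈ S) (hc : c ∈ S)
    (hd : d ∈ S) : ∀ q, q ∉ S → (swap a b * swap c d) q = q := by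
  intro q hq
  have h1 : q ≠ a := fun e => hq (e ▸ ha)
  have h2 : q ≠ b := fun e => hq (e ▸ hb)
  have h3 : q ≠ c := fun e => hq (e ▸ hc)
  have h4 : q ≠ d := fun e => hq (e ▸ hd)
  rw [Perm.mul_apply, swap_apply_of_ne_of_ne h3 h4, swap_apply_of_ne_of_ne h1 h2]

theorem L_transitive (h : Core G L) {S : Finset β} (hS : IsKlein G S) :
    ∀ a b : β, ∃ x ∈ L, x a = b := by
  classical
  obtain ⟨hS4, hSG⟩ := hS
  obtain ⟨a, b, c, d, hab, hac, had, hbc, hbd, hcd, rfl⟩ := Finset.card_eq_four.1 hS4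
  have haS : a ∈ ({a, b, c, d} : Finset β) := by simp
  have hbS : b ∈ ({a, b, c, d} : Finset β) := by simp
  have hcS : c ∈ ({a, b, c, d} : Finset β) := by simp
  have hdS : d ∈ ({a, b, c, d} : Finset β) := by simp
  -- the three double transpositions
  have hu1 : swap a b * swap c d ∈ G := hSG a b c d haS hbS hcS hdS hab hac had hbc hbd hcd
  have hu2 : swap a c * swap b d ∈ G :=
    hSG a c b d haS hcS hbS hdS hac hab had hbc.symm hcd hbd
  have hu3 : swap a d * swap b c ∈ G :=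
    hSG a d b c haS hdS hbS hcS had hab hac hbd.symm hcd.symm hbc
  -- `S` is inside the orbit of `a`
  have hRab : ∃ y ∈ L, y a = b := by
    obtain ⟨y, hy, hya⟩ := c2_orbit_of_fix h (le_of_eq hS4) hu1 (c2_swap_fix haS hbS hcS hdS) a
    refine ⟨y, hy, ?_⟩
    rw [hya, Perm.mul_apply, swap_apply_of_ne_of_ne hac had, swap_apply_left]
  have hRac : ∃ y ∈ L, y a = c := by
    obtain ⟨y, hy, hya⟩ := c2_orbit_of_fix h (le_of_eq hS4) hu2 (c2_swap_fix haS hcS hbS hdS) a
    refine ⟨y, hy, ?_⟩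
    rw [hya, Perm.mul_apply, swap_apply_of_ne_of_ne hab had, swap_apply_left]
  have hRad : ∃ y ∈ L, y a = d := by
    obtain ⟨y, hy, hya⟩ := c2_orbit_of_fix h (le_of_eq hS4) hu3 (c2_swap_fix haS hdS hbS hcS) a
    refine ⟨y, hy, ?_⟩
    rw [hya, Perm.mul_apply, swap_apply_of_ne_of_ne hab hac, swap_apply_left]
  have hSorb : ∀ p ∈ ({a, b, c, d} : Finset β), ∃ y ∈ L, y a = p := by
    intro p hp
    simp only [Finset.mem_insert, Finset.mem_singleton] at hp
    rcases hp with rfl | rfl | rfl | rfl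
    · exact ⟨1, L.one_mem, rfl⟩
    · exact hRab
    · exact hRac
    · exact hRad
  -- every point is in the orbit of `a`
  have hall : ∀ e : β, ∃ y ∈ L, y a = e := by
    intro e
    by_contra hne
    -- the orbit of `e` is disjoint from `S`
    have hdisj : ∀ p, (∃ y ∈ L, y e = p) → p ∉ ({a, b, c, d} : Finset β) := by
      rintro p ⟨y, hy, rfl⟩ hp
      obtain ⟨z, hz, hza⟩ := hSorb _ hp
      apply hne
      refine ⟨y⁻¹ * z, L.mul_mem (L.inv_mem hy) hz, ?_⟩
      rw [Perm.mul_apply, hza]; simp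
    let N : Subgroup (Perm β) :=
      { carrier := {y | y ∈ L ∧ ∀ p, (∃ z ∈ L, z e = p) → y p = p}
        one_mem' := ⟨L.one_mem, fun _ _ => rfl⟩
        mul_mem' := by
          rintro y y' ⟨hy, hyf⟩ ⟨hy', hyf'⟩
          refine ⟨L.mul_mem hy hy', fun p hp => ?_⟩
          rw [Perm.mul_apply, hyf' p hp, hyf p hp]
        inv_mem' := by
          rintro y ⟨hy, hyf⟩
          refine ⟨L.inv_mem hy, fun p hp => ?_⟩
          rw [Perm.inv_eq_iff_eq, hyf p hp] }
    have hNL : N ≤ L := fun y hy => hy.1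
    have hNinv : ∀ x ∈ L, ∀ y ∈ N, x * y * x⁻¹ ∈ N := by
      rintro x hx y ⟨hy, hyf⟩
      refine ⟨L.mul_mem (L.mul_mem hx hy) (L.inv_mem hx), ?_⟩
      rintro p ⟨z, hz, rfl⟩
      have h1 : y (x⁻¹ (z e)) = x⁻¹ (z e) :=
        hyf _ ⟨x⁻¹ * z, L.mul_mem (L.inv_mem hx) hz, rfl⟩
      simp only [Perm.mul_apply]
      rw [h1]; simp
    have hNne : N ≠ L := by
      intro hNL'
      obtain ⟨x, hx, hxe⟩ := h.moved e
      have : x ∈ N := by rw [hNL']; exact hx
      exact hxe (this.2 e ⟨1, L.one_mem, rfl⟩)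
    have hcen : ∀ y ∈ N, ∀ x ∈ L, x * y = y * x := by
      rcases eq_or_central_of_quasisimple L h.qs N hNL hNinv with h1 | h1
      · exact absurd h1 hNne
      · exact h1
    set u : Perm β := swap a b * swap c d with hu
    have hufix := c2_swap_fix (S := ({a, b, c, d} : Finset β)) haS hbS hcS hdS
    have hwN : ∀ x ∈ L, u * x * u⁻¹ * x⁻¹ ∈ N := by
      intro x hx
      refine ⟨L.mul_mem (h.normal u hu1 x hx) (L.inv_mem hx), ?_⟩
      rintro p ⟨z, hz, rfl⟩
      have h1 : x⁻¹ (z e) ∉ ({a, b, c, d} : Finset β) :=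
        hdisj _ ⟨x⁻¹ * z, L.mul_mem (L.inv_mem hx) hz, rfl⟩
      have h2 : z e ∉ ({a, b, c, d} : Finset β) := hdisj _ ⟨z, hz, rfl⟩
      have h3 : u⁻¹ (x⁻¹ (z e)) = x⁻¹ (z e) := by
        rw [Perm.inv_eq_iff_eq]; exact (hufix _ h1).symm
      simp only [Perm.mul_apply]
      rw [h3]
      have h4 : x (x⁻¹ (z e)) = z e := by simp
      rw [h4]
      exact hufix _ h2
    have hu_ne : u ≠ 1 := by
      intro h1
      have h2 : u a = b := by
        rw [hu, Perm.mul_apply, swap_apply_of_ne_of_ne hac had, swap_apply_left]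
      rw [h1] at h2
      exact hab h2
    have hsupp : u.support.card ≤ 4 := by
      rw [← hS4]
      apply Finset.card_le_card
      intro q hq
      by_contra hqS
      exact (Perm.mem_support.1 hq) (hufix q hqS)
    exact small_not_central_mod h hu1 hu_ne hsupp
      (fun x hx y hy => (hcen _ (hwN x hx) y hy).symm)
  intro p q
  obtain ⟨y, hy, hya⟩ := hall p
  obtain ⟨z, hz, hza⟩ := hall q
  refine ⟨z * y⁻¹, L.mul_mem hz (L.inv_mem hy), ?_⟩
  rw [Perm.mul_apply, ← hya]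
  simpa using hza

end Cfsg.Agent.Lib.H9.S28
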