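import Cfsg.Agent.Lib.H9.S28C7a
import Cfsg.Agent.Lib.H2.S28C5

/-!
# S2928 piece C7 COUNT (helper9): exact signature, and the intersection lemma
-/

set_option autoImplicit false

namespace Cfsg.Agent.Lib.H9.S28

open Equiv Cfsg.Agent.Lib.H9.S28 Cfsg.Agent.Lib.H15.SymF

variable {β : Type*} [Fintype β] [DecidableEq β] {G L : Subgroup (Perm β)}

/-- distinct Klein sets meet in 0 or 2 points when `G` has no 3-cycle. -/
theorem inter_card_of_no_threeCycle (hno : ∀ c ∈ G, ¬ c.IsThreeCycle) :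
    ∀ S S' : Finset β, IsKlein G S → IsKlein G S' → S ≠ S' →
      (S ∩ S').card = 0 ∨ (S ∩ S').card = 2 := by
  intro S S' hS hS' hne
  have h4 : (S ∩ S').card ≤ 4 := by
    rw [← hS.1]; exact Finset.card_le_card Finset.inter_subset_left
  have hne4 : (S ∩ S').card ≠ 4 := by
    intro h
    apply hne
    have h1 : S ∩ S' = S :=
      Finset.eq_of_subset_of_card_le Finset.inter_subset_left (by rw [h, hS.1])
    have h2 : S ∩ S' = S' :=
      Finset.eq_of_subset_of_card_le Finset.inter_subset_right (by rw [h, hS'.1])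
    rw [← h1, h2]
  have hne1 : (S ∩ S').card ≠ 1 := by
    intro h
    obtain ⟨c, hc, h3⟩ := Cfsg.Agent.Lib.H2.S28.threeCycle_of_inter_one hS hS' h
    exact hno c hc h3
  have hne3 : (S ∩ S').card ≠ 3 := by
    intro h
    obtain ⟨c, hc, h3⟩ := Cfsg.Agent.Lib.H2.S28.threeCycle_of_inter_three hS hS' h
    exact hno c hc h3
  omega

theorem card_eight_of_no_threeCycle (h8 : 8 ≤ Fintype.card β) {S : Finset β} (hS : IsKlein G S)
    (h2 : ∀ a b c d : β, a ≠ b → c ≠ d → ∃ g ∈ G, g a = c ∧ g b = d)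
    (hno : ∀ c ∈ G, ¬ c.IsThreeCycle) :
    Fintype.card β = 8 ∧ (∀ a : β, ((kleinSets G).filter (fun S => a ∈ S)).card = 7) ∧
      ∀ a b : β, a ≠ b → ((kleinSets G).filter (fun S => a ∈ S ∧ b ∈ S)).card = 3 :=
  c7_aux h8 hS h2 (fun _ hS' _ hg => Cfsg.Agent.Lib.H2.S28.IsKlein_image hS' hg)
    (inter_card_of_no_threeCycle hno)

end Cfsg.Agent.Lib.H9.S28
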