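import Cfsg.Agent.Lib.H9.S28Defs
import Cfsg.Agent.Lib.H2.S28C6

/-!
# S2928 piece C7 COUNT (helper9), parametric form

`c7_aux`: the counting argument, with the two facts of piece C5 as hypotheses.
-/

set_option autoImplicit false

namespace Cfsg.Agent.Lib.H9.S28

open Equiv Cfsg.Agent.Lib.H9.S28

variable {β : Type*} [Fintype β] [DecidableEq β] {G : Subgroup (Perm β)}

theorem c7_aux (h8 : 8 ≤ Fintype.card β) {S : Finset β} (hS : IsKlein G S)
    (h2 : ∀ a b c d : β, a ≠ b → c ≠ d → ∃ g ∈ G, g a = c ∧ g b = d)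
    (himg : ∀ S : Finset β, IsKlein G S → ∀ g ∈ G, IsKlein G (S.image g))
    (hint2 : ∀ S S' : Finset β, IsKlein G S → IsKlein G S' → S ≠ S' →
      (S ∩ S').card = 0 ∨ (S ∩ S').card = 2) :
    Fintype.card β = 8 ∧ (∀ a : β, ((kleinSets G).filter (fun S => a ∈ S)).card = 7) ∧
      ∀ a b : β, a ≠ b → ((kleinSets G).filter (fun S => a ∈ S ∧ b ∈ S)).card = 3 := by
  classical
  -- the number of Klein sets through two points
  set lamf : β → β → ℕ := fun a x => ((kleinSets G).filter (fun S => a ∈ S ∧ x ∈ S)).card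
    with hlamf
  -- monotonicity under an element of `G`
  have hmono : ∀ (a x x' : β) (g : Perm β), g ∈ G → g a = a → g x = x' → lamf a x ≤ lamf a x' := by
    intro a x x' g hg hga hgx
    apply Finset.card_le_card_of_injOn (fun S => S.image g)
    · intro S hS'
      simp only [Finset.coe_filter, Set.mem_ofPred_eq] at hS'
      obtain ⟨hSK, haS, hxS⟩ := hS'
      simp only [Finset.coe_filter, Set.mem_ofPred_eq]
      refine ⟨mem_kleinSets.2 (himg S (mem_kleinSets.1 hSK) g hg), ?_, ?_⟩
      · rw [← hga]; exact Finset.mem_image_of_mem _ haS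
      · rw [← hgx]; exact Finset.mem_image_of_mem _ hxS
    · intro S _ S' _ hSS'
      exact Finset.image_injective g.injective hSS'
  have key : ∀ a : β, Fintype.card β = 8 ∧ ((kleinSets G).filter (fun S => a ∈ S)).card = 7 ∧
      ∀ b : β, a ≠ b → lamf a b = 3 := by
    intro a
    set Ka := (kleinSets G).filter (fun S => a ∈ S) with hKa
    set X : Finset β := Finset.univ.erase a with hX
    have hXcard : X.card = Fintype.card β - 1 := by
      rw [hX, Finset.card_erase_of_mem (Finset.mem_univ a), Finset.card_univ]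
    set T : Finset (Finset β) := Ka.image (fun S => S.erase a) with hT
    have hinj : Set.InjOn (fun S : Finset β => S.erase a) (Ka : Set (Finset β)) := by
      intro S hS' S' hS'' hSS'
      simp only [hKa, Finset.coe_filter, Set.mem_ofPred_eq] at hS' hS''
      have h1 : insert a (S.erase a) = insert a (S'.erase a) := by
        show insert a ((fun S : Finset β => S.erase a) S) = insert a ((fun S : Finset β => S.erase a) S')
        rw [hSS']
      rwa [Finset.insert_erase hS'.2, Finset.insert_erase hS''.2] at h1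
    -- a point of `X`
    obtain ⟨x₀, hx₀⟩ : ∃ x₀, x₀ ∈ X := by
      apply Finset.card_pos.1
      rw [hXcard]; omega
    have hx₀a : a ≠ x₀ := fun e => (Finset.mem_erase.1 hx₀).1 e.symm
    -- constancy of `lamf a`
    have hconst : ∀ x ∈ X, lamf a x = lamf a x₀ := by
      intro x hx
      have hxa : a ≠ x := fun e => (Finset.mem_erase.1 hx).1 e.symm
      obtain ⟨g, hg, hga, hgx⟩ := h2 a x a x₀ hxa hx₀a
      obtain ⟨g', hg', hga', hgx'⟩ := h2 a x₀ a x hx₀a hxa
      exact le_antisymm (hmono a x x₀ g hg hga hgx) (hmono a x₀ x g' hg' hga' hgx')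
    have hfilter : ∀ x ∈ X, (T.filter (fun t => x ∈ t)).card = lamf a x := by
      intro x hx
      have hxa : x ≠ a := (Finset.mem_erase.1 hx).1
      have h1 : T.filter (fun t => x ∈ t) = (Ka.filter (fun S => x ∈ S)).image (fun S => S.erase a) := by
        ext t
        simp only [hT, Finset.mem_filter, Finset.mem_image]
        constructor
        · rintro ⟨⟨S', hS', rfl⟩, hxt⟩
          exact ⟨S', ⟨hS', (Finset.mem_erase.1 hxt).2⟩, rfl⟩
        · rintro ⟨S', ⟨hS', hxS'⟩, rfl⟩
          exact ⟨⟨S', hS', rfl⟩, Finset.mem_erase.2 ⟨hxa, hxS'⟩⟩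
      rw [h1, Finset.card_image_of_injOn (hinj.mono (by
        intro S' hS'; exact Finset.mem_coe.2 (Finset.mem_filter.1 (Finset.mem_coe.1 hS')).1)),
        hKa, Finset.filter_filter]
    -- a Klein set through `a`
    have hne : T.Nonempty := by
      obtain ⟨p, q, r, s, hpq, -, -, -, -, -, hSeq⟩ := Finset.card_eq_four.1 hS.1
      have hpS : p ∈ S := by rw [hSeq]; simp
      obtain ⟨g, hg, hgp, -⟩ := h2 p q a x₀ hpq hx₀a
      have hK : S.image g ∈ Ka := by
        rw [hKa, Finset.mem_filter, mem_kleinSets]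
        exact ⟨himg S hS g hg, by rw [← hgp]; exact Finset.mem_image_of_mem _ hpS⟩
      exact ⟨_, Finset.mem_image_of_mem _ hK⟩
    have hsub : ∀ t ∈ T, t ⊆ X := by
      intro t ht
      obtain ⟨S', -, rfl⟩ := Finset.mem_image.1 ht
      exact Finset.erase_subset_erase a (Finset.subset_univ S')
    have h3 : ∀ t ∈ T, t.card = 3 := by
      intro t ht
      obtain ⟨S', hS', rfl⟩ := Finset.mem_image.1 ht
      rw [hKa, Finset.mem_filter, mem_kleinSets] at hS'
      rw [Finset.card_erase_of_mem hS'.2, hS'.1.1]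
    have hint : ∀ t ∈ T, ∀ t' ∈ T, t ≠ t' → (t ∩ t').card = 1 := by
      intro t ht t' ht' htt'
      obtain ⟨S', hS', rfl⟩ := Finset.mem_image.1 ht
      obtain ⟨S'', hS'', rfl⟩ := Finset.mem_image.1 ht'
      rw [hKa, Finset.mem_filter, mem_kleinSets] at hS' hS''
      have hne' : S' ≠ S'' := fun e => htt' (by rw [e])
      have haI : a ∈ S' ∩ S'' := Finset.mem_inter.2 ⟨hS'.2, hS''.2⟩
      have hpos : 0 < (S' ∩ S'').card := Finset.card_pos.2 ⟨a, haI⟩
      have h2' : (S' ∩ S'').card = 2 := by
        rcases hint2 S' S'' hS'.1 hS''.1 hne' with h | h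
        · omega
        · exact h
      rw [Finset.erase_inter, Finset.inter_erase, Finset.erase_idem,
        Finset.card_erase_of_mem haI, h2']
    have hlam : ∀ x ∈ X, (T.filter (fun t => x ∈ t)).card = lamf a x₀ := by
      intro x hx
      rw [hfilter x hx, hconst x hx]
    have hTcard : T.card = Ka.card := Finset.card_image_of_injOn hinj
    rcases Cfsg.Agent.Lib.H2.S28.design_cases X T (lamf a x₀) hne hsub h3 hint hlam with
      ⟨h, -, -⟩ | ⟨h, -, -⟩ | ⟨hX7, hl3, hT7⟩
    · omega
    · omega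
    · refine ⟨by omega, by rw [← hTcard]; exact hT7, ?_⟩
      intro b hab
      have hbX : b ∈ X := Finset.mem_erase.2 ⟨hab.symm, Finset.mem_univ b⟩
      rw [hconst b hbX, hl3]
  have hne : Nonempty β := by
    rw [← Fintype.card_pos_iff]; omega
  obtain ⟨a₀⟩ := hne
  exact ⟨(key a₀).1, fun a => (key a).2.1, fun a b hab => (key a).2.2 b hab⟩

end Cfsg.Agent.Lib.H9.S28
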