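import Cfsg.Agent.Lib.H9.S28C2
import Cfsg.Agent.Lib.H9.S28C7
import Cfsg.Agent.Lib.H5.S28C3
import Cfsg.Agent.Lib.H5.S28C4
import Cfsg.Agent.Lib.H2.S28C8a
import Cfsg.Agent.Lib.H3.S28C8bi
import Cfsg.Agent.Lib.H3.S28C8bii
import Cfsg.Agent.Lib.H27.S28C8c
import Cfsg.Agent.Lib.H3.S28C9

/-!
# S2928: the core theorem (helper9, assembly of the pieces C1–C9)

`core_main`: `L ≤ G ≤ Perm β` with `L` quasisimple, normalized by `G`, moving every point; `G` contains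
the Klein four-group on some 4-set; `8 ≤ |β|` (and `64 ∣ |G|` if `|β| = 8`).  Then `L = Alt β`.
-/

set_option autoImplicit false

namespace Cfsg.Agent.Lib.H9.S28

open Equiv Cfsg.Agent.Lib.H9.S28 Cfsg.Agent.Lib.H15.SymF

variable {β : Type*} [Fintype β] [DecidableEq β] {G L : Subgroup (Perm β)}

theorem false_of_card_eight (h : Core G L) (hprim : MulAction.IsPreprimitive ↥G β)
    (htr : ∀ a b : β, ∃ x ∈ L, x a = b) (hc8 : Fintype.card β = 8) (h64 : 64 ∣ Nat.card ↥G)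
    (hno : ∀ c ∈ G, ¬ c.IsThreeCycle)
    (h7 : ∀ a : β, ((kleinSets G).filter (fun S => a ∈ S)).card = 7)
    (h3 : ∀ a b : β, a ≠ b → ((kleinSets G).filter (fun S => a ∈ S ∧ b ∈ S)).card = 3) : False := by
  classical
  have h4 : ∀ S ∈ kleinSets G, S.card = 4 := fun S hS => (mem_kleinSets.1 hS).1
  have hint : ∀ S ∈ kleinSets G, ∀ S' ∈ kleinSets G, S ≠ S' →
      (S ∩ S').card = 0 ∨ (S ∩ S').card = 2 := fun S hS S' hS' hne =>
    inter_card_of_no_threeCycle hno S S' (mem_kleinSets.1 hS) (mem_kleinSets.1 hS') hne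
  obtain ⟨-, hcompl⟩ := Cfsg.Agent.Lib.H2.S28.compl_mem_of_sqs hc8 (kleinSets G) h4 hint h7
  have hne : Nonempty β := by
    rw [← Fintype.card_pos_iff]; omega
  obtain ⟨a₀⟩ := hne
  obtain ⟨φ, hφ⟩ := Cfsg.Agent.Lib.H3.S28.exists_pairHom (G := G) a₀ hcompl (h7 a₀)
  set K : Subgroup (Perm β) := φ.ker.map G.subtype with hK
  have hKG : K ≤ G := by
    rintro _ ⟨g, -, rfl⟩
    exact g.2
  have hKn : ∀ g ∈ G, ∀ k ∈ K, g * k * g⁻¹ ∈ K := by
    rintro g hg _ ⟨k, hk, rfl⟩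
    refine ⟨⟨g, hg⟩ * k * ⟨g, hg⟩⁻¹, ?_, rfl⟩
    exact (inferInstance : φ.ker.Normal).conj_mem k hk ⟨g, hg⟩
  have hK2 : ∀ k ∈ K, k * k = 1 := by
    rintro _ ⟨k, hk, rfl⟩
    exact Cfsg.Agent.Lib.H3.S28.sq_eq_one_of_fix_pairs h7 h3 (hφ k (MonoidHom.mem_ker.1 hk))
  have hKne : K ≠ ⊥ := by
    intro hbot
    have hker : φ.ker = ⊥ := by
      rw [hK] at hbot
      exact (Subgroup.map_eq_bot_iff_of_injective _ G.subtype_injective).1 hbot
    have hinj : Function.Injective φ := (MonoidHom.ker_eq_bot_iff φ).1 hker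
    have hdvd : Nat.card ↥G ∣ Nat.card (Perm (Fin 7)) := Subgroup.card_dvd_of_injective φ hinj
    have h5040 : Nat.card (Perm (Fin 7)) = 5040 := by
      rw [Nat.card_perm, Nat.card_eq_fintype_card, Fintype.card_fin]; rfl
    rw [h5040] at hdvd
    have := dvd_trans h64 hdvd
    omega
  exact Cfsg.Agent.Lib.H27.S28.false_of_normal_two h hprim htr hc8 K hKG hKn hK2 hKne

/-- **Core theorem.** -/
theorem core_main (h : Core G L) {S : Finset β} (hS : IsKlein G S) (h8 : 8 ≤ Fintype.card β)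
    (h64 : Fintype.card β = 8 → 64 ∣ Nat.card ↥G) : L = alternatingGroup β := by
  classical
  have htr := L_transitive h hS
  have hprim := Cfsg.Agent.Lib.H5.S28.G_primitive h hS htr
  by_cases hex : ∃ c ∈ G, c.IsThreeCycle
  · obtain ⟨c, hc, h3⟩ := hex
    exact Cfsg.Agent.Lib.H3.S28.eq_alternatingGroup h hprim (by omega) hc h3
  · exfalso
    have hno : ∀ c ∈ G, ¬ c.IsThreeCycle := fun c hc h3 => hex ⟨c, hc, h3⟩
    have h2 := Cfsg.Agent.Lib.H5.S28.G_two_trans (by omega) hprim hS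
    obtain ⟨hc8, h7, h3⟩ := card_eight_of_no_threeCycle h8 hS h2 hno
    exact false_of_card_eight h hprim htr hc8 (h64 hc8) hno h7 h3

end Cfsg.Agent.Lib.H9.S28
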