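import Cfsg.Agent.Lib.H9.S28Core
import Cfsg.Agent.Lib.H18.S28O1KLEIN
import Cfsg.Agent.Lib.H18.S28O1PHI
import Cfsg.Agent.Lib.H25.S28O1Q
import Cfsg.Agent.Lib.H20.S28O1EIGHT
import Cfsg.Agent.Lib.H20.S28O2

/-!
# S2928: subgroups of `Perm α` containing a Sylow 2-subgroup of `Alt α`, with a quasisimple
self-centralizing normal subgroup (helper9, assembly)
-/

set_option autoImplicit false

namespace Cfsg.Agent.Lib.H9.S28

open Equiv Cfsg.Agent.Lib.H9.S28 Cfsg.Agent.Lib.H15.SymF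

variable {α : Type*} [Fintype α] [DecidableEq α]

theorem sylow_two_structure (h8 : 8 ≤ Fintype.card α) (H L : Subgroup (Perm α)) (hLH : L ≤ H)
    (hHN : ∀ h ∈ H, ∀ x ∈ L, h * x * h⁻¹ ∈ L) (hL : Cfsg.IsQuasisimple ↥L)
    (hbender : ∀ h ∈ H, (∀ x ∈ L, x * h = h * x) → h ∈ L)
    (P : Sylow 2 ↥(alternatingGroup α))
    (hPH : (P : Subgroup ↥(alternatingGroup α)).map (alternatingGroup α).subtype ≤ H) :
    Nonempty (↥L ≃* ↥(alternatingGroup {x // x ∈ mvd L})) ∧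
      Fintype.card α ≤ (mvd L).card + 3 := by
  classical
  have hHs := preserves_mvd hHN
  have hphi := Cfsg.Agent.Lib.H18.S28.card_le_mvd_add_three L hLH hHN hbender P hPH
  have hs8 := Cfsg.Agent.Lib.H20.S28.eight_le_card (mvd L) hHs P hPH h8 hphi
  obtain ⟨S, hSs, hS⟩ := Cfsg.Agent.Lib.H18.S28.exists_klein (mvd L) hHs P hPH (by omega)
  have hcore := Cfsg.Agent.Lib.H20.S28.core_res L hLH hHN hL
  have hS' := Cfsg.Agent.Lib.H20.S28.klein_res (mvd L) hSs hS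
  have hcard : Fintype.card {x // x ∈ mvd L} = (mvd L).card := Fintype.card_coe _
  have hmain : res L (mvd L) = alternatingGroup {x // x ∈ mvd L} := by
    refine core_main hcore hS' (by rw [hcard]; exact hs8) ?_
    intro hc
    rw [hcard] at hc
    obtain ⟨Q, hQH, hQ64, hQs⟩ := Cfsg.Agent.Lib.H25.S28.exists_Q (mvd L) hHs P hPH hc
    have := Cfsg.Agent.Lib.H20.S28.card_dvd_res (H := H) (mvd L) Q hQH hQs
    rwa [hQ64] at this
  obtain ⟨e⟩ := Cfsg.Agent.Lib.H20.S28.nonempty_equiv_res L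
  exact ⟨⟨e.trans (MulEquiv.subgroupCongr hmain)⟩, hphi⟩

end Cfsg.Agent.Lib.H9.S28
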