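import Mathlib
import Cfsg.Agent.Lib.H9.S3571Defs

/-!
# S3571, GROUP block: the assembly of the pieces of `S3571Defs.lean` (helper9)
-/

set_option autoImplicit false

namespace Cfsg.Agent.Lib.H9.S3571

open Equiv

universe u v

/-- (C1) from (C1a1), (C1a2), (C1a3), (C1b) -/
theorem c1_of (a1 : C1a1Stmt) (a2 : C1a2Stmt) (a3 : C1a3Stmt) (b : C1bStmt) : C1Stmt := by
  intro m Γ H n r hP hSS hntr
  obtain ⟨Δ, hk1, hk2, hΔ⟩ := a1 m H hntr
  have hkm : Δ.card < m := by have := hP.hm; omega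
  have hiff : ∀ g ∈ Γ, g ∈ H ↔ Δ.image g = Δ := fun g hg =>
    ⟨fun h => hΔ g h, fun h => a2 m Γ H n r hP Δ hk1 hkm hΔ g hg h⟩
  have hn : n = m.choose Δ.card := a3 m Γ H n r hP Δ hiff
  have hrd : r ∣ m.choose Δ.card := by rw [← hn]; exact hP.hrd
  have hrmax : ∀ s : ℕ, s.Prime → s ∣ m.choose Δ.card → s ≤ r := by
    intro s hs hd
    rw [← hn] at hd
    exact hP.hrmax s hs hd
  obtain ⟨σ, hσA, hσr, hσ⟩ := b m Δ.card r hP.hm hk1 hk2 hP.hr hrd hrmax hSS
  refine ⟨σ, hσA, hσr, ?_⟩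
  intro g hg hmem
  have hgΓ : g⁻¹ * σ * g ∈ Γ := Γ.mul_mem (Γ.mul_mem (Γ.inv_mem hg) (hP.hA hσA)) hg
  have h1 : Δ.image ⇑(g⁻¹ * σ * g) = Δ := (hiff _ hgΓ).1 hmem
  apply hσ (Δ.image g) (by rw [Finset.card_image_of_injective _ g.injective])
  calc (Δ.image g).image σ = Δ.image (⇑σ ∘ ⇑g) := Finset.image_image
    _ = Δ.image (⇑g ∘ ⇑(g⁻¹ * σ * g)) := by
        congr 1
        funext x
        simp
    _ = (Δ.image ⇑(g⁻¹ * σ * g)).image g := Finset.image_image.symm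
    _ = Δ.image g := by rw [h1]

/-- (C4) from (C4a), (C4b), (C4c) -/
theorem c4_of (a : C4aStmt) (b : C4bStmt) (c : C4cStmt) : C4Stmt := by
  intro m H hm h6 hprim hA
  have hcases : m = 5 ∨ m = 7 ∨ 8 ≤ m := by omega
  rcases hcases with rfl | rfl | h8
  · exact ⟨3, by norm_num, by norm_num, by norm_num, b H hprim hA⟩
  · exact ⟨5, by norm_num, by norm_num, by norm_num, c H hprim hA⟩
  · exact a m H h8 hprim hA

/-- the permutation-level core from (C1)-(C4) and Bertrand's postulate -/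
theorem pcore_of (c1 : C1Stmt) (c2 : C2Stmt) (c3 : C3Stmt) (c4 : C4Stmt) : PCoreStmt := by
  intro m Γ H n r hP h6 hSS
  by_cases htr : MulAction.IsPretransitive ↥H (Fin m)
  · by_cases hpr : MulAction.IsPreprimitive ↥H (Fin m)
    · obtain ⟨p', hp', h1, h2, h3⟩ := c4 m H hP.hm h6 hpr hP.hHA
      exact c2 m Γ H n r hP p' hp' h1 h2 h3
    · have hm := hP.hm
      obtain ⟨p', hp', h1, h2⟩ := Nat.exists_prime_lt_and_le_two_mul (m / 2) (by omega)
      have h1' : m < 2 * p' := by omega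
      have h2' : p' ≤ m := by omega
      exact c2 m Γ H n r hP p' hp' h1' h2' (c3 m H htr hpr p' hp' h1')
  · exact c1 m Γ H n r hP hSS htr

/-- the frozen statement from the pieces -/
theorem main_of (emb : EmbStmt.{u}) (tr1 : TR1Stmt.{u, v}) (tr2 : TR2Stmt.{u, v})
    (pc : PCoreStmt) (m6 : M6Stmt.{u, v}) (hSS : SSProp) : MainStmt.{u, v} := by
  intro G Ω _ _ _ _ _ T hT hTc m hm eT hprim hΩ r hr hrd hmax
  by_cases h6 : m = 6
  · subst h6
    exact m6 T hT eT hprim hΩ r hr hrd hmax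
  · obtain ⟨ψ, hψ, hψT⟩ := emb T hT hTc m hm h6 eT
    have hne : Nonempty Ω := by
      rw [← Finite.card_pos_iff]
      omega
    obtain ⟨ω⟩ := hne
    have hP := tr1 T hT m hm eT hprim hΩ r hr hrd hmax ψ hψ hψT ω
    have hC := pc m _ _ _ r hP h6 hSS
    exact tr2 T m eT hprim.toIsPretransitive r ψ hψ hψT ω hC

end Cfsg.Agent.Lib.H9.S3571
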