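import Mathlib
import Cfsg.Agent.Lib.H9.S3571Defs
import Cfsg.Agent.S3573

/-!
# S3571, GROUP block, piece (C1b) (helper9): an even permutation of order `r` fixing no `k`-subset
-/

set_option autoImplicit false

namespace Cfsg.Agent.Lib.H9.S3571

open Equiv Equiv.Perm

/-- a permutation of odd order is even -/
theorem sign_eq_one_of_odd_order {α : Type*} [Fintype α] [DecidableEq α] (σ : Perm α)
    (h : Odd (orderOf σ)) : Perm.sign σ = 1 := by
  have h1 : Perm.sign σ ^ orderOf σ = 1 := by
    rw [← map_pow, pow_orderOf_eq_one, map_one]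
  rcases Int.units_eq_one_or (Perm.sign σ) with h2 | h2
  · exact h2
  · rw [h2, h.neg_one_pow] at h1
    exact absurd h1 (by decide)

/-- a fixed-point-free involution on `m = 2q` points with `q` even is even -/
theorem sign_eq_one_of_fpf_invol {m : ℕ} (σ : Perm (Fin m)) (h2 : orderOf σ = 2)
    (hfpf : ∀ x, σ x ≠ x) (q : ℕ) (hm : m = 2 * q) (hq : Even q) : Perm.sign σ = 1 := by
  obtain ⟨n, hn⟩ := cycleType_prime_order (σ := σ) (by rw [h2]; exact Nat.prime_two)
  rw [h2] at hn
  have hsupp : σ.support = Finset.univ := by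
    ext x
    simp [hfpf x]
  have hsum : σ.cycleType.sum = m := by
    rw [sum_cycleType, hsupp, Finset.card_univ, Fintype.card_fin]
  rw [hn, Multiset.sum_replicate, smul_eq_mul] at hsum
  have hnq : n + 1 = q := by omega
  rw [sign_of_cycleType, hn, Multiset.sum_replicate, Multiset.card_replicate, smul_eq_mul, hnq]
  have heven : Even (q * 2 + q) := by
    obtain ⟨j, hj⟩ := hq
    exact ⟨3 * j, by omega⟩
  exact heven.neg_one_pow

/-- **(C1b)** -/
theorem c1b : C1bStmt := by
  intro m k r hm hk1 hk2 hr hrd hrmax hSS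
  obtain ⟨p, hp, hkp, hpd⟩ := hSS m k hk1 hk2
  have hkr : k < r := lt_of_lt_of_le hkp (hrmax p hp hpd)
  have hkm : k ≤ m := by omega
  have hmod : ¬ k ≤ m % r := fun h => Cfsg.Agent.S3573.not_dvd_choose m k r hr hkr h hrd
  have hnot : ¬ (∀ σ : Perm (Fin m), orderOf σ = r →
      ∃ s : Finset (Fin m), s.card = k ∧ s.image σ = s) := by
    rw [Cfsg.Agent.S3573.main_iff m k r hr hkm hrd, Nat.mod_eq_of_lt hkr]
    exact hmod
  have hex : ∃ σ : Perm (Fin m), orderOf σ = r ∧
      ∀ s : Finset (Fin m), s.card = k → s.image σ ≠ s := by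
    by_contra hcon
    apply hnot
    intro σ hσ
    by_contra hcon2
    apply hcon
    refine ⟨σ, hσ, ?_⟩
    intro s hs himg
    exact hcon2 ⟨s, hs, himg⟩
  obtain ⟨σ, hσr, hσ⟩ := hex
  refine ⟨σ, ?_, hσr, hσ⟩
  rw [mem_alternatingGroup]
  by_cases hr2 : r = 2
  · -- `r = 2`: `k = 1`, `m` is a power of `2`, `σ` is fixed-point-free
    subst hr2
    have hk : k = 1 := by omega
    subst hk
    rw [Nat.choose_one_right] at hrd hrmax
    obtain ⟨q, hq⟩ := hrd
    have hqeven : Even q := by
      by_contra hodd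
      rw [Nat.not_even_iff_odd] at hodd
      have hq3 : q ≠ 1 := by omega
      have hpq : (q.minFac).Prime := Nat.minFac_prime hq3
      have hdq : q.minFac ∣ m := by
        rw [hq]
        exact Dvd.dvd.mul_left (Nat.minFac_dvd q) 2
      have hle : q.minFac ≤ 2 := hrmax _ hpq hdq
      have h2 : q.minFac = 2 := le_antisymm hle hpq.two_le
      have : 2 ∣ q := h2 ▸ Nat.minFac_dvd q
      rcases hodd with ⟨j, hj⟩
      omega
    have hfpf : ∀ x, σ x ≠ x := by
      intro x hx
      apply hσ {x} (Finset.card_singleton x)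
      rw [Finset.image_singleton, hx]
    exact sign_eq_one_of_fpf_invol σ hσr hfpf q hq hqeven
  · apply sign_eq_one_of_odd_order
    rw [hσr]
    exact hr.odd_of_ne_two hr2

end Cfsg.Agent.Lib.H9.S3571
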