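import Cfsg.Agent.Lib.H9.S3776Defs

/-!
# S3776: the assembly of `(*)` from the pieces of the cut
-/

set_option autoImplicit false

namespace Cfsg.Agent.Lib.H9.S3776

universe u

/-- `(*)` from the pieces -/
theorem star_of (hFrame : FrameStmt.{u}) (hSub : SubIHStmt.{u}) (hLE : LemEMulStmt.{u})
    (h1A : S1AStmt.{u}) (h1Q : S1QStmt.{u}) (h1B : S1BStmt.{u}) (h1C : S1CStmt.{u})
    (hK1 : K1ExStmt.{u}) (h2A : S2AStmt.{u}) (h2B : S2BStmt.{u})
    (hR0 : R0Stmt.{u}) (hR1 : R1Stmt.{u}) (hR2 : R2Stmt.{u}) (hR3 : R3Stmt.{u}) :
    StarStmt.{u} := by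
  have key : ∀ n : ℕ, ∀ (G E : Type u) [Group G] [Finite G] [Group E] [Finite E]
      (φ : E →* MulAut G), Nat.card G = n → Hyp G E φ → Concl G := by
    intro n
    induction n using Nat.strong_induction_on with
    | _ n ih =>
      intro G E _ _ _ _ φ hn hyp
      have hIH : IH G := by
        intro H E' _ _ _ _ ψ hlt hH
        exact ih (Nat.card H) (hn ▸ hlt) H E' ψ rfl hH
      obtain ⟨V, hV⟩ := hFrame G E φ hyp
      have hsub : SubIH φ V := hSub G E φ V hyp hIH hV
      by_cases hc4 : ∃ z ∈ Subgroup.center G, z ^ 2 ≠ 1
      · -- STEP 1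
        left
        obtain ⟨hs1, hs2⟩ := h1A G E φ V hV hc4
        have hcomm : ∀ x y : G, x * y * x⁻¹ * y⁻¹ ∈ V := by
          rcases h1Q G E φ V hyp hIH hV hs1 hs2 with h | ⟨h4, hc2⟩
          · exact h
          · exact h1B G V hV.mem hs2 h4 hc2
        exact h1C G E φ V hLE hyp hV hs1 hs2 hcomm
      · -- STEP 2
        have hZ : ∀ z ∈ Subgroup.center G, z ^ 2 = 1 := by
          intro z hz
          by_contra hne
          exact hc4 ⟨z, hz, hne⟩
        by_cases hab : ∀ a b : G, a * b = b * a
        · left; exact hab
        · right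
          have hnc : ∃ a b : G, a * b ≠ b * a := by
            by_contra hcon
            apply hab
            intro a b
            by_contra hne
            exact hcon ⟨a, b, hne⟩
          obtain ⟨K, hKd, hKbig⟩ := hK1 G E φ V hyp hV
          have hbig := hKbig hnc
          rcases h2B G E φ V K hyp hV hKd hbig with hZK | ⟨hKab, hKcard, hKsq⟩
          · exact h2A G E φ V K hyp hV hZ hKd hnc hZK
          · exfalso
            have hGK : ∃ g : G, g ∉ K := by
              by_contra hcon
              apply hab
              intro a b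
              have ha : a ∈ K := by
                by_contra hna
                exact hcon ⟨a, hna⟩
              have hb : b ∈ K := by
                by_contra hnb
                exact hcon ⟨b, hnb⟩
              exact hKab a ha b hb
            have hres : Resid φ V K :=
              { hyp := hyp, fr := hV, sub := hsub, hZ := hZ, kd := hKd, ab := hKab, card := hKcard,
                sq := hKsq, big := hGK }
            obtain ⟨J, hJ⟩ := hR0 G E φ V K hres
            have hirr := hR1 G E φ V K J hres hJ
            have hJK : J = K := hR2 G E φ V K J hres hJ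
            subst hJK
            exact hR3 G E φ V J hLE hres hJ hirr
  intro G E _ _ _ _ φ hyp
  exact key _ G E φ rfl hyp

end Cfsg.Agent.Lib.H9.S3776
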