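import Mathlib

set_option autoImplicit false

namespace Cfsg.Agent.Lib.H9.S3777Struct

open Subgroup
open scoped commutatorElement

variable {G : Type*} [Group G]

/-- `h` lies in the preimage of the centralizer of the image of `g` iff `⁅g,h⁆ ∈ R`. -/
theorem mem_comap_centralizer (R : Subgroup G) [R.Normal] (g h : G) :
    h ∈ (centralizer {(g : G ⧸ R)}).comap (QuotientGroup.mk' R) ↔ ⁅g, h⁆ ∈ R := by
  rw [mem_comap, mem_centralizer_iff]
  simp only [Set.mem_singleton_iff, forall_eq, QuotientGroup.mk'_apply]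
  rw [← commutatorElement_eq_one_iff_mul_comm, ← QuotientGroup.eq_one_iff]
  rfl

theorem eq_top_of_sup (Y S : Subgroup G) (u : G) (h : Y ⊔ zpowers u = ⊤) (hY : Y ≤ S)
    (hu : u ∈ S) : S = ⊤ :=
  top_le_iff.1 (h ▸ sup_le hY (zpowers_le.2 hu))

/-- if `⁅g,·⁆` lands in the normal subgroup `R` on `Y` and on `u`, it does so everywhere. -/
theorem comm_mem_of_gen (R : Subgroup G) [R.Normal] (Y : Subgroup G) (u g : G)
    (h : Y ⊔ zpowers u = ⊤) (hY : ∀ a ∈ Y, ⁅g, a⁆ ∈ R) (hu : ⁅g, u⁆ ∈ R) (x : G) :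
    ⁅g, x⁆ ∈ R := by
  have := eq_top_of_sup Y ((centralizer {(g : G ⧸ R)}).comap (QuotientGroup.mk' R)) u h
    (fun a ha => (mem_comap_centralizer R g a).2 (hY a ha))
    ((mem_comap_centralizer R g u).2 hu)
  exact (mem_comap_centralizer R g x).1 (this ▸ mem_top x)

/-- The preimage in `M` of `Z(G/M')`. -/
def cen (M : Subgroup G) [M.Normal] : Subgroup G :=
  M ⊓ (center (G ⧸ ⁅M, M⁆)).comap (QuotientGroup.mk' ⁅M, M⁆)

theorem mem_cen (M : Subgroup G) [M.Normal] (a : G) :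
    a ∈ cen M ↔ a ∈ M ∧ ∀ g, ⁅a, g⁆ ∈ ⁅M, M⁆ := by
  unfold cen
  rw [mem_inf, mem_comap, mem_center_iff]
  refine and_congr Iff.rfl ?_
  rw [QuotientGroup.mk_surjective.forall]
  refine forall_congr' fun g => ?_
  rw [QuotientGroup.mk'_apply, eq_comm, ← commutatorElement_eq_one_iff_mul_comm,
    ← QuotientGroup.eq_one_iff]
  rfl

instance cen_normal (M : Subgroup G) [M.Normal] : (cen M).Normal := by
  unfold cen
  infer_instance

theorem cen_le (M : Subgroup G) [M.Normal] : cen M ≤ M := inf_le_left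

theorem comm_le_cen (M : Subgroup G) [M.Normal] : ⁅M, M⁆ ≤ cen M := by
  intro a ha
  rw [mem_cen]
  refine ⟨commutator_le_left M M ha, fun g => ?_⟩
  have hn : (⁅M, M⁆ : Subgroup G).Normal := inferInstance
  rw [commutatorElement_def]
  have := hn.conj_mem a⁻¹ (inv_mem ha) g
  have h2 := mul_mem ha this
  simpa [mul_assoc] using h2

/-- (s2) independence of `y`. -/
theorem mem_cen_iff_of_gen (M : Subgroup G) [M.Normal] (y : G) (hy : M ⊔ zpowers y = ⊤)
    (m : G) (hm : m ∈ M) : m ∈ cen M ↔ ⁅m, y⁆ ∈ ⁅M, M⁆ := by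
  rw [mem_cen]
  refine ⟨fun h => h.2 y, fun h => ⟨hm, fun g => ?_⟩⟩
  exact comm_mem_of_gen ⁅M, M⁆ M y m hy (fun a ha => commutator_mem_commutator hm ha) h g

/-- (s4a) the centralizer of `y` inside `M` lies in `cen M`. -/
theorem centralizer_inf_le_cen (M : Subgroup G) [M.Normal] (y : G) (hy : M ⊔ zpowers y = ⊤) :
    centralizer {y} ⊓ M ≤ cen M := by
  intro m hm
  rw [mem_inf] at hm
  rw [mem_cen_iff_of_gen M y hy m hm.2]
  have : ⁅m, y⁆ = 1 := by
    rw [commutatorElement_eq_one_iff_mul_comm]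
    have := mem_centralizer_iff.1 hm.1 y (Set.mem_singleton y)
    exact this.symm
  rw [this]
  exact one_mem _


theorem comm_mem_left (M : Subgroup G) [M.Normal] (a y : G) (ha : a ∈ M) : ⁅a, y⁆ ∈ M := by
  have hn : M.Normal := inferInstance
  rw [commutatorElement_def]
  have h1 := hn.conj_mem a⁻¹ (inv_mem ha) y
  have h2 := mul_mem ha h1
  simpa [mul_assoc] using h2

/-- the map `m ↦ ⁅m,y⁆` is multiplicative on `M` modulo `⁅M,M⁆`. -/
theorem phi_mul (M : Subgroup G) [M.Normal] (y a b : G) (ha : a ∈ M) (hb : b ∈ M) :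
    ((⁅a * b, y⁆ : G) : G ⧸ ⁅M, M⁆) = ((⁅a, y⁆ : G) : G ⧸ ⁅M, M⁆) * ((⁅b, y⁆ : G) : G ⧸ ⁅M, M⁆) := by
  have hn : (⁅M, M⁆ : Subgroup G).Normal := inferInstance
  rw [← QuotientGroup.mk_mul, eq_comm, QuotientGroup.eq]
  have hc : ⁅b, y⁆ ∈ M := comm_mem_left M b y hb
  have hd : ⁅a, y⁆ ∈ M := comm_mem_left M a y ha
  have key : (⁅a, y⁆ * ⁅b, y⁆)⁻¹ * ⁅a * b, y⁆
      = ((⁅a, y⁆ * ⁅b, y⁆)⁻¹ * ⁅a, ⁅b, y⁆⁆ * ((⁅a, y⁆ * ⁅b, y⁆)⁻¹)⁻¹) * ⁅(⁅b, y⁆)⁻¹, (⁅a, y⁆)⁻¹⁆ := by
    simp only [commutatorElement_def]; group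
  rw [key]
  exact mul_mem (hn.conj_mem _ (commutator_mem_commutator ha hc) _)
    (commutator_mem_commutator (inv_mem hc) (inv_mem hd))

/-- the hom `m ↦ ⁅m,y⁆ M'` on `M`. -/
noncomputable def phi (M : Subgroup G) [M.Normal] (y : G) : M →* G ⧸ ⁅M, M⁆ :=
  MonoidHom.mk' (fun m => ((⁅(m : G), y⁆ : G) : G ⧸ ⁅M, M⁆))
    (fun a b => by simpa using phi_mul M y a b a.2 b.2)

theorem phi_apply (M : Subgroup G) [M.Normal] (y : G) (m : M) :
    phi M y m = ((⁅(m : G), y⁆ : G) : G ⧸ ⁅M, M⁆) := rfl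

theorem phi_ker (M : Subgroup G) [M.Normal] (y : G) (hy : M ⊔ zpowers y = ⊤) :
    (phi M y).ker = (cen M).subgroupOf M := by
  ext m
  rw [MonoidHom.mem_ker, phi_apply, QuotientGroup.eq_one_iff, mem_subgroupOf,
    mem_cen_iff_of_gen M y hy m m.2]

/-- preimage of the range of `phi`. -/
theorem mem_comap_range (M : Subgroup G) [M.Normal] (y g : G) :
    g ∈ (phi M y).range.comap (QuotientGroup.mk' ⁅M, M⁆) ↔
      ∃ m ∈ M, (⁅m, y⁆)⁻¹ * g ∈ ⁅M, M⁆ := by
  rw [mem_comap, MonoidHom.mem_range]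
  constructor
  · rintro ⟨m, hm⟩
    refine ⟨m, m.2, ?_⟩
    rw [phi_apply, QuotientGroup.mk'_apply, QuotientGroup.eq] at hm
    exact hm
  · rintro ⟨m, hm, h⟩
    refine ⟨⟨m, hm⟩, ?_⟩
    rw [phi_apply, QuotientGroup.mk'_apply, QuotientGroup.eq]
    exact h


theorem comap_range_le (M : Subgroup G) [M.Normal] (y : G) :
    (phi M y).range.comap (QuotientGroup.mk' ⁅M, M⁆) ≤ M := by
  intro g hg
  rw [mem_comap_range] at hg
  obtain ⟨m, hm, h⟩ := hg
  have h1 : ⁅m, y⁆ ∈ M := comm_mem_left M m y hm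
  have h2 : (⁅m, y⁆)⁻¹ * g ∈ M := commutator_le_left M M h
  have := mul_mem h1 h2
  rwa [mul_inv_cancel_left] at this

theorem comm_le_comap_range (M : Subgroup G) [M.Normal] (y : G) :
    ⁅M, M⁆ ≤ (phi M y).range.comap (QuotientGroup.mk' ⁅M, M⁆) := by
  intro g hg
  rw [mem_comap_range]
  refine ⟨1, one_mem _, ?_⟩
  simpa using hg

theorem comap_range_normal [Finite G] (M : Subgroup G) [M.Normal] (y : G)
    (hy : M ⊔ zpowers y = ⊤) :
    ((phi M y).range.comap (QuotientGroup.mk' ⁅M, M⁆)).Normal := by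
  have hn : (⁅M, M⁆ : Subgroup G).Normal := inferInstance
  have hM : M.Normal := inferInstance
  rw [← normalizer_eq_top_iff]
  refine eq_top_of_sup M _ y hy ?_ ?_
  · intro x hx
    refine mem_normalizer_fintype ?_
    intro g hg
    have hgM : g ∈ M := comap_range_le M y hg
    rw [SetLike.mem_coe, mem_comap_range] at hg ⊢
    obtain ⟨m, hm, h⟩ := hg
    refine ⟨m, hm, ?_⟩
    have key : (⁅m, y⁆)⁻¹ * (x * g * x⁻¹) = ((⁅m, y⁆)⁻¹ * g) * ⁅g⁻¹, x⁆ := by
      simp only [commutatorElement_def]; group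
    rw [key]
    exact mul_mem h (commutator_mem_commutator (inv_mem hgM) hx)
  · refine mem_normalizer_fintype ?_
    intro g hg
    rw [SetLike.mem_coe, mem_comap_range] at hg ⊢
    obtain ⟨m, hm, h⟩ := hg
    refine ⟨y * m * y⁻¹, hM.conj_mem m hm y, ?_⟩
    have key : (⁅y * m * y⁻¹, y⁆)⁻¹ * (y * g * y⁻¹) = y * ((⁅m, y⁆)⁻¹ * g) * y⁻¹ := by
      simp only [commutatorElement_def, mul_inv_rev, inv_inv, mul_assoc, inv_mul_cancel_left]
    rw [key]
    exact hn.conj_mem _ h y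

theorem commutator_le_comap_range [Finite G] (M : Subgroup G) [M.Normal] (y : G)
    (hy : M ⊔ zpowers y = ⊤) :
    commutator G ≤ (phi M y).range.comap (QuotientGroup.mk' ⁅M, M⁆) := by
  have := comap_range_normal M y hy
  set R := (phi M y).range.comap (QuotientGroup.mk' ⁅M, M⁆) with hR
  have hmy : ∀ m ∈ M, ⁅m, y⁆ ∈ R := by
    intro m hm
    rw [hR, mem_comap_range]
    exact ⟨m, hm, by rw [inv_mul_cancel]; exact one_mem _⟩
  have h1 : ∀ g ∈ M, ∀ x, ⁅g, x⁆ ∈ R := by
    intro g hg x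
    refine comm_mem_of_gen R M y g hy (fun a ha => ?_) (hmy g hg) x
    exact comm_le_comap_range M y (commutator_mem_commutator hg ha)
  have h2 : ∀ x, ⁅y, x⁆ ∈ R := by
    intro x
    refine comm_mem_of_gen R M y y hy (fun a ha => ?_) ?_ x
    · have := inv_mem (hmy a ha)
      rwa [commutatorElement_inv] at this
    · rw [commutatorElement_self]; exact one_mem _
  -- the preimage of the centre of G/R is everything
  have h3 : (center (G ⧸ R)).comap (QuotientGroup.mk' R) = ⊤ := by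
    refine eq_top_of_sup M _ y hy ?_ ?_
    · intro g hg
      rw [mem_comap, mem_center_iff, QuotientGroup.mk_surjective.forall]
      intro x
      rw [QuotientGroup.mk'_apply, eq_comm, ← commutatorElement_eq_one_iff_mul_comm]
      exact (QuotientGroup.eq_one_iff (⁅g, x⁆)).2 (h1 g hg x)
    · rw [mem_comap, mem_center_iff, QuotientGroup.mk_surjective.forall]
      intro x
      rw [QuotientGroup.mk'_apply, eq_comm, ← commutatorElement_eq_one_iff_mul_comm]
      exact (QuotientGroup.eq_one_iff (⁅y, x⁆)).2 (h2 x)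
  rw [commutator_def, commutator_le]
  intro g _ x _
  have hg : g ∈ (center (G ⧸ R)).comap (QuotientGroup.mk' R) := h3 ▸ mem_top g
  rw [mem_comap, mem_center_iff] at hg
  have := hg (x : G ⧸ R)
  rw [QuotientGroup.mk'_apply, eq_comm, ← commutatorElement_eq_one_iff_mul_comm] at this
  exact (QuotientGroup.eq_one_iff _).1 this


theorem comm_le_commutator (M : Subgroup G) : ⁅M, M⁆ ≤ commutator G := by
  rw [commutator_def]; exact commutator_mono le_top le_top

theorem phi_range [Finite G] (M : Subgroup G) [M.Normal] (y : G) (hy : M ⊔ zpowers y = ⊤) :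
    (phi M y).range = (commutator G).map (QuotientGroup.mk' ⁅M, M⁆) := by
  apply le_antisymm
  · rintro _ ⟨m, rfl⟩
    rw [phi_apply]
    refine mem_map.2 ⟨⁅(m : G), y⁆, ?_, rfl⟩
    rw [commutator_def]
    exact commutator_mem_commutator (mem_top _) (mem_top _)
  · rw [map_le_iff_le_comap]
    exact commutator_le_comap_range M y hy

theorem card_mul_relIndex_of_le (N H : Subgroup G) (h : N ≤ H) :
    Nat.card N * N.relIndex H = Nat.card H := by
  have := relIndex_mul_relIndex ⊥ N H bot_le h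
  rwa [relIndex_bot_left, relIndex_bot_left] at this

/-- (s3) `|M'| * |M : A| = |G'|`. -/
theorem card_comm_mul_relIndex_cen [Finite G] (M : Subgroup G) [M.Normal] (y : G)
    (hy : M ⊔ zpowers y = ⊤) :
    Nat.card (⁅M, M⁆ : Subgroup G) * (cen M).relIndex M = Nat.card (commutator G) := by
  have h1 : (cen M).relIndex M = Nat.card ((commutator G).map (QuotientGroup.mk' ⁅M, M⁆)) := by
    rw [← phi_range M y hy, ← index_ker, phi_ker M y hy]
    rfl
  have h2 : Nat.card ((commutator G).map (QuotientGroup.mk' ⁅M, M⁆))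
      = (⁅M, M⁆ : Subgroup G).relIndex (commutator G) := by
    rw [← relIndex_ker, QuotientGroup.ker_mk']
  rw [h1, h2]
  exact card_mul_relIndex_of_le _ _ (comm_le_commutator M)

/-- (s4) `|G : C_G(y)| = |M : A| * |A : C_A(y)|`. -/
theorem index_centralizer_eq [Finite G] (M : Subgroup G) [M.Normal] (y : G)
    (hy : M ⊔ zpowers y = ⊤) :
    (centralizer {y}).index = (cen M).relIndex M * (centralizer {y} ⊓ cen M).relIndex (cen M) := by
  -- `|G : C| = |M : C ⊓ M|` since `C M = G`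
  have hsup : centralizer {y} ⊔ M = ⊤ := by
    refine top_le_iff.1 (hy ▸ sup_le le_sup_right (le_sup_of_le_left ?_))
    rw [zpowers_le]
    exact mem_centralizer_iff.2 (fun h hh => by rw [Set.mem_singleton_iff.1 hh])
  have h2 : (centralizer {y}).index = (centralizer {y} ⊓ M).relIndex M := by
    have e1 := relIndex_mul_index (inf_le_left : centralizer {y} ⊓ M ≤ centralizer {y})
    have e2 := relIndex_mul_index (inf_le_right : centralizer {y} ⊓ M ≤ M)
    have e3 : (centralizer {y} ⊓ M).relIndex (centralizer {y}) = M.index := by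
      rw [inf_relIndex_left, ← relIndex_sup_right, hsup, relIndex_top_right]
    rw [e3, ← e2] at e1
    have hpos : 0 < M.index := Nat.pos_of_ne_zero index_ne_zero_of_finite
    rw [mul_comm] at e1
    exact Nat.eq_of_mul_eq_mul_right hpos e1
  have h3 : centralizer {y} ⊓ M = centralizer {y} ⊓ cen M := by
    apply le_antisymm
    · exact le_inf inf_le_left (centralizer_inf_le_cen M y hy)
    · exact inf_le_inf_left _ (cen_le M)
  rw [h2, h3, mul_comm]
  exact (relIndex_mul_relIndex _ _ _ inf_le_right (cen_le M)).symm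

end Cfsg.Agent.Lib.H9.S3777Struct
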