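import Cfsg.Agent.Lib.H12.Lucido

/-!
# S3814, fact (F2): in a solvable group with elements of orders `t * a`, `t * b`, `t * c` and no
element of order `t * a * b`, `t * a * c`, `t * b * c`, there is a subgroup `C_t × C_t`
(elementwise form).
-/

set_option autoImplicit false

namespace Cfsg.Agent.Lib.H9.S3814Rank2

universe u

open scoped Pointwise

/-- an element of prime order is conjugate into any Sylow subgroup -/
theorem conj_mem_sylow {G : Type u} [Group G] [Finite G] {t : ℕ} [Fact t.Prime] (P : Sylow t G)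
    (x : G) (hx : orderOf x = t) : ∃ k : G, k * x * k⁻¹ ∈ P := by
  have hpg : IsPGroup t (Subgroup.zpowers x) := by
    apply IsPGroup.of_card (n := 1)
    rw [Nat.card_zpowers, hx, pow_one]
  obtain ⟨Q, hQ⟩ := hpg.exists_le_sylow
  obtain ⟨k, hk⟩ := MulAction.exists_smul_eq G Q P
  refine ⟨k, ?_⟩
  have hxQ : x ∈ (Q : Subgroup G) := hQ (Subgroup.mem_zpowers x)
  have h1 : MulAut.conj k • x ∈ MulAut.conj k • (Q : Subgroup G) :=
    Subgroup.smul_mem_pointwise_smul _ _ _ hxQ
  have h2 : ((k • Q : Sylow t G) : Subgroup G) = MulAut.conj k • (Q : Subgroup G) :=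
    Sylow.coe_subgroup_smul
  rw [← h2, hk] at h1
  have h3 : k * x * k⁻¹ ∈ (P : Subgroup G) := by simpa [MulAut.smul_def] using h1
  exact h3

/-- the two parts of an element of order `t * s` -/
theorem parts {G : Type u} [Group G] {t s : ℕ} (ht : t.Prime) (hs : s.Prime)
    (g : G) (hg : orderOf g = t * s) :
    orderOf (g ^ s) = t ∧ orderOf (g ^ t) = s ∧ Commute (g ^ s) (g ^ t) := by
  refine ⟨?_, ?_, (Commute.refl g).pow_pow s t⟩
  · rw [orderOf_pow' g hs.ne_zero, hg, Nat.gcd_eq_right (Dvd.intro_left t rfl),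
      Nat.mul_div_cancel _ hs.pos]
  · rw [orderOf_pow' g ht.ne_zero, hg, Nat.gcd_eq_right (Dvd.intro s rfl),
      Nat.mul_div_cancel_left _ ht.pos]

theorem rank_two {G : Type u} [Group G] [Finite G] [Group.IsSolvable G] {t a b c : ℕ}
    (ht : t.Prime) (ha : a.Prime) (hb : b.Prime) (hc : c.Prime)
    (hta : t ≠ a) (htb : t ≠ b) (htc : t ≠ c) (hab : a ≠ b) (hac : a ≠ c) (hbc : b ≠ c)
    (wa : ∃ g : G, orderOf g = t * a) (wb : ∃ g : G, orderOf g = t * b)
    (wc : ∃ g : G, orderOf g = t * c)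
    (hN : ∀ g : G, orderOf g ≠ t * (a * b) ∧ orderOf g ≠ t * (a * c) ∧ orderOf g ≠ t * (b * c)) :
    ∃ x y : G, orderOf x = t ∧ orderOf y = t ∧ Commute x y ∧ y ∉ Subgroup.zpowers x := by
  have : Fact t.Prime := ⟨ht⟩
  by_contra hcon
  have hall : ∀ x y : G, orderOf x = t → orderOf y = t → Commute x y → y ∈ Subgroup.zpowers x := by
    intro x y hx hy hxy
    by_contra hny
    exact hcon ⟨x, y, hx, hy, hxy, hny⟩
  -- a Sylow subgroup and a central element of order `t`
  obtain ⟨ga, hga⟩ := wa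
  obtain ⟨hxa, -, -⟩ := parts ht ha ga hga
  let P : Sylow t G := default
  obtain ⟨k0, hk0⟩ := conj_mem_sylow P (ga ^ a) hxa
  have hPnt : Nontrivial (P : Subgroup G) := by
    refine ⟨⟨⟨k0 * ga ^ a * k0⁻¹, hk0⟩, 1, ?_⟩⟩
    intro h
    have h1 : k0 * ga ^ a * k0⁻¹ = 1 := congrArg Subtype.val h
    have h2 : ga ^ a = 1 := by
      have := congrArg (fun y => k0⁻¹ * y * k0) h1
      simpa [mul_assoc] using this
    rw [h2, orderOf_one] at hxa
    exact ht.one_lt.ne hxa
  have hP : IsPGroup t (P : Subgroup G) := P.isPGroup'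
  have : Nontrivial (Subgroup.center (P : Subgroup G)) := hP.center_nontrivial
  have hZ : IsPGroup t (Subgroup.center (P : Subgroup G)) := hP.to_subgroup _
  have hdvd : t ∣ Nat.card (Subgroup.center (P : Subgroup G)) := by
    rcases hZ.card_eq_or_dvd with h | h
    · exfalso
      have := Finite.one_lt_card (α := Subgroup.center (P : Subgroup G))
      omega
    · exact h
  obtain ⟨z0, hz0⟩ := exists_prime_orderOf_dvd_card' t hdvd
  set z : G := ((z0 : (P : Subgroup G)) : G) with hzdef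
  have hz : orderOf z = t := by
    rw [hzdef, Subgroup.orderOf_coe, Subgroup.orderOf_coe, hz0]
  have hzc : ∀ y : G, y ∈ (P : Subgroup G) → Commute z y := by
    intro y hy
    have h1 := Subgroup.mem_center_iff.mp z0.2 ⟨y, hy⟩
    have h2 : y * z = z * y := congrArg Subtype.val h1
    exact h2.symm
  -- every witness gives a divisor of the order of the centraliser of `z`
  have key : ∀ s : ℕ, s.Prime → t ≠ s → (∃ g : G, orderOf g = t * s) →
      s ∣ Nat.card (Subgroup.centralizer ({z} : Set G)) := by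
    intro s hs hts ⟨g, hg⟩
    obtain ⟨hx, hh, hcomm⟩ := parts ht hs g hg
    obtain ⟨k, hk⟩ := conj_mem_sylow P (g ^ s) hx
    have hx' : orderOf (k * g ^ s * k⁻¹) = t := by
      have := (MulAut.conj k).orderOf_eq (g ^ s)
      rw [MulAut.conj_apply] at this
      rw [this, hx]
    have hh' : orderOf (k * g ^ t * k⁻¹) = s := by
      have := (MulAut.conj k).orderOf_eq (g ^ t)
      rw [MulAut.conj_apply] at this
      rw [this, hh]
    have hmem : k * g ^ s * k⁻¹ ∈ Subgroup.zpowers z := hall z _ hz hx' (hzc _ hk)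
    have heq : Subgroup.zpowers (k * g ^ s * k⁻¹) = Subgroup.zpowers z := by
      apply Subgroup.eq_of_le_of_card_ge
      · rw [Subgroup.zpowers_le]; exact hmem
      · rw [Nat.card_zpowers, Nat.card_zpowers, hx', hz]
    have hzmem : z ∈ Subgroup.zpowers (k * g ^ s * k⁻¹) := by
      rw [heq]; exact Subgroup.mem_zpowers z
    obtain ⟨j, hj⟩ := Subgroup.mem_zpowers_iff.mp hzmem
    have hc1 : Commute (k * g ^ s * k⁻¹) (k * g ^ t * k⁻¹) := by
      have := hcomm
      unfold Commute SemiconjBy at this ⊢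
      calc k * g ^ s * k⁻¹ * (k * g ^ t * k⁻¹) = k * (g ^ s * g ^ t) * k⁻¹ := by group
        _ = k * (g ^ t * g ^ s) * k⁻¹ := by rw [this]
        _ = k * g ^ t * k⁻¹ * (k * g ^ s * k⁻¹) := by group
    have hc2 : Commute z (k * g ^ t * k⁻¹) := by
      rw [← hj]; exact hc1.zpow_left j
    have hmemc : k * g ^ t * k⁻¹ ∈ Subgroup.centralizer ({z} : Set G) := by
      rw [Subgroup.mem_centralizer_iff]
      intro y hy
      rw [Set.mem_singleton_iff] at hy
      rw [hy]
      exact hc2
    have ho : orderOf (⟨k * g ^ t * k⁻¹, hmemc⟩ : Subgroup.centralizer ({z} : Set G)) = s := by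
      rw [← Subgroup.orderOf_coe]; exact hh'
    rw [← ho]
    exact orderOf_dvd_natCard _
  obtain ⟨g, hg⟩ := Cfsg.Agent.Lib.H12.Lucido.centralizer_three_primes ht ha hb hc hta htb htc hab
    hac hbc z hz (key a ha hta ⟨ga, hga⟩) (key b hb htb wb) (key c hc htc wc)
  obtain ⟨h1, h2, h3⟩ := hN g
  rcases hg with h | h | h
  · exact h1 h
  · exact h2 h
  · exact h3 h

end Cfsg.Agent.Lib.H9.S3814Rank2
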