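import Cfsg.Agent.Lib.H7.S3814Defs2
import Cfsg.Agent.Lib.H9.S3814Rank2

/-!
# S3814, piece F2 of helper7's cut: bridge from `rank_two`.
-/

set_option autoImplicit false

namespace Cfsg.Agent.Lib.H9.S3814F2

open Cfsg.Agent.H7.S3814Defs

universe u

theorem f2 : F2Stmt.{u} := by
  intro G _ σ hG t ht
  have := hG.fin
  have := hG.sol
  have hcard : (σ.erase t).card = 3 := by
    rw [Finset.card_erase_of_mem ht, hG.card4]
  obtain ⟨a, b, c, hab, hac, hbc, hset⟩ := Finset.card_eq_three.mp hcard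
  have hmem : ∀ s, s ∈ ({a, b, c} : Finset ℕ) → s ∈ σ ∧ t ≠ s := by
    intro s hs
    rw [← hset, Finset.mem_erase] at hs
    exact ⟨hs.2, fun h => hs.1 h.symm⟩
  obtain ⟨haσ, hta⟩ := hmem a (by simp)
  obtain ⟨hbσ, htb⟩ := hmem b (by simp)
  obtain ⟨hcσ, htc⟩ := hmem c (by simp)
  have hN : ∀ g : G, orderOf g ≠ t * (a * b) ∧ orderOf g ≠ t * (a * c) ∧
      orderOf g ≠ t * (b * c) := by
    intro g
    refine ⟨?_, ?_, ?_⟩
    · rw [← mul_assoc]; exact hG.notriple t ht a haσ b hbσ hta hab htb g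
    · rw [← mul_assoc]; exact hG.notriple t ht a haσ c hcσ hta hac htc g
    · rw [← mul_assoc]; exact hG.notriple t ht b hbσ c hcσ htb hbc htc g
  obtain ⟨x, y, hx, hy, hxy, hny⟩ := Cfsg.Agent.Lib.H9.S3814Rank2.rank_two (hG.prime t ht)
    (hG.prime a haσ) (hG.prime b hbσ) (hG.prime c hcσ) hta htb htc hab hac hbc
    (hG.pairs t ht a haσ hta) (hG.pairs t ht b hbσ htb) (hG.pairs t ht c hcσ htc) hN
  exact ⟨x, Subgroup.mem_top x, y, Subgroup.mem_top y, hx, hy, hxy.eq, hny⟩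

example : F2Stmt.{0} := f2

end Cfsg.Agent.Lib.H9.S3814F2
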