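import Mathlib
import Cfsg.Agent.Lib.H22.S3901Defs

/-!
# S3901, piece (2) PROPA of helper22's cut (helper9)

`propA : LLStmt → PropAStmt`: a prime `r ∉ {p, q}` dividing `|N|` gives `R ∈ Syl_r(N)`,
`T = N_G(R)` (Frattini: `T N = G`), and the local lemma applied to `T`, `T ∩ N`, `T ∩ K`, `Z(R)`.
-/

set_option autoImplicit false

namespace Cfsg.Agent.Lib.H9.S3901PropA

open Cfsg.Agent.Lib.H22.S3901Defs

universe u

theorem propA (hLL : LLStmt.{u}) : PropAStmt.{u} := by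
  intro G _ _ N K _ _ p q hp hq hpq hNK hKidx hKN hKne hpp r hr hrN
  by_contra hcon
  have hrp : r ≠ p := fun h => hcon (Or.inl h)
  have hrq : r ≠ q := fun h => hcon (Or.inr h)
  have : Fact r.Prime := ⟨hr⟩
  obtain ⟨R⟩ : Nonempty (Sylow r N) := inferInstance
  have hRne : (R : Subgroup N) ≠ ⊥ := R.ne_bot_of_dvd_card hrN
  obtain ⟨R0, hR0⟩ : ∃ R0 : Subgroup G, R0 = (R : Subgroup N).map N.subtype := ⟨_, rfl⟩
  have hR0N : R0 ≤ N := by rw [hR0]; exact Subgroup.map_subtype_le _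
  have hR0ne : R0 ≠ ⊥ := by
    rw [hR0]
    exact fun h => hRne ((Subgroup.map_eq_bot_iff_of_injective _ N.subtype_injective).mp h)
  have hR0p : IsPGroup r R0 := by rw [hR0]; exact R.isPGroup'.map N.subtype
  have hfr : Subgroup.normalizer (R0 : Set G) ⊔ N = ⊤ := by
    rw [hR0]; exact Sylow.normalizer_sup_eq_top R
  obtain ⟨T, hT⟩ : ∃ T : Subgroup G, T = Subgroup.normalizer (R0 : Set G) := ⟨_, rfl⟩
  rw [← hT] at hfr
  have hR0T : R0 ≤ T := hT ▸ Subgroup.le_normalizer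
  have hTn : ∀ t ∈ T, ∀ x ∈ R0, t * x * t⁻¹ ∈ R0 := by
    intro t ht x hx
    rw [hT] at ht
    exact (Subgroup.mem_normalizer_iff.mp ht x).mp hx
  -- the centre of `R0`
  have : Nontrivial R0 := (Subgroup.nontrivial_iff_ne_bot R0).mpr hR0ne
  have hZnt : Nontrivial (Subgroup.center R0) := hR0p.center_nontrivial
  obtain ⟨⟨z, hz⟩, hz1⟩ := exists_ne (1 : Subgroup.center R0)
  have hzc : ∀ x ∈ R0, x * (z : G) = (z : G) * x := by
    intro x hx
    have := Subgroup.mem_center_iff.mp hz ⟨x, hx⟩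
    exact congrArg Subtype.val this
  have hz1' : (z : G) ≠ 1 := by
    intro h
    apply hz1
    apply Subtype.ext
    apply Subtype.ext
    exact h
  obtain ⟨Z0, hZ0⟩ : ∃ Z0 : Subgroup G, Z0 = R0 ⊓ Subgroup.centralizer (R0 : Set G) := ⟨_, rfl⟩
  have hZmem : ∀ g, g ∈ Z0 ↔ g ∈ R0 ∧ ∀ x ∈ R0, x * g = g * x := by
    intro g
    simp only [hZ0, Subgroup.mem_inf, Subgroup.mem_centralizer_iff, SetLike.mem_coe]
  have hzZ : (z : G) ∈ Z0 := (hZmem _).mpr ⟨z.2, hzc⟩
  have hZT : ∀ t ∈ T, ∀ g ∈ Z0, t * g * t⁻¹ ∈ Z0 := by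
    intro t ht g hg
    rw [hZmem] at hg ⊢
    refine ⟨hTn t ht g hg.1, ?_⟩
    intro x hx
    have hx' : t⁻¹ * x * t ∈ R0 := by
      have := hTn t⁻¹ (T.inv_mem ht) x hx
      simpa using this
    have hc := hg.2 _ hx'
    calc x * (t * g * t⁻¹) = t * ((t⁻¹ * x * t) * g) * t⁻¹ := by group
      _ = t * (g * (t⁻¹ * x * t)) * t⁻¹ := by rw [hc]
      _ = t * g * t⁻¹ * x := by group
  have hVn : (Z0.subgroupOf T).Normal := by
    refine ⟨fun v hv t => ?_⟩
    rw [Subgroup.mem_subgroupOf] at hv ⊢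
    have := hZT t t.2 v hv
    simpa using this
  have hTK : T ⊔ K = ⊤ := by
    apply top_le_iff.mp
    rw [← hfr]
    exact sup_le_sup_left hNK T
  refine hLL T (N.subgroupOf T) (K.subgroupOf T) (Z0.subgroupOf T) p q r hp hq hr hpq
    (Ne.symm hrp) (Ne.symm hrq) ?_ ?_ ?_ ?_ ?_ ?_ ?_ ?_ ?_
  · intro x hx
    rw [Subgroup.mem_subgroupOf] at hx ⊢
    exact hNK hx
  · have h1 : K.relIndex T = K.index := by
      rw [← Subgroup.relIndex_sup_right (H := T) (K := K), hTK, Subgroup.relIndex_top_right]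
    rw [← hKidx, ← h1]
    rfl
  · intro m hm
    rw [Subgroup.mem_subgroupOf] at hm
    obtain ⟨j, hj⟩ := hKN _ hm
    refine ⟨j, ?_⟩
    rw [Subgroup.mem_subgroupOf]
    simpa using hj
  · obtain ⟨k, hkK, hkN⟩ := hKne
    have hk : k ∈ T ⊔ N := by rw [hfr]; exact Subgroup.mem_top k
    obtain ⟨t, ht, n, hn, htn⟩ := Subgroup.mem_sup_of_normal_right.mp hk
    have htK : t ∈ K := by
      have : t = k * n⁻¹ := by rw [← htn]; group
      rw [this]
      exact K.mul_mem hkK (K.inv_mem (hNK hn))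
    have htN : t ∉ N := by
      intro h
      apply hkN
      rw [← htn]
      exact N.mul_mem h hn
    refine ⟨⟨t, ht⟩, ?_, ?_⟩
    · rw [Subgroup.mem_subgroupOf]; exact htK
    · rw [Subgroup.mem_subgroupOf]; exact htN
  · intro x hx
    rw [Subgroup.mem_subgroupOf] at hx
    have := hpp _ hx
    rwa [Subgroup.orderOf_coe] at this
  · intro x hx
    rw [Subgroup.mem_subgroupOf] at hx ⊢
    exact hR0N ((hZmem _).mp hx).1
  · intro h
    have hmem : (⟨(z : G), hR0T z.2⟩ : T) ∈ Z0.subgroupOf T := by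
      rw [Subgroup.mem_subgroupOf]; exact hzZ
    rw [h, Subgroup.mem_bot] at hmem
    exact hz1' (congrArg Subtype.val hmem)
  · intro a ha b hb
    rw [Subgroup.mem_subgroupOf] at ha hb
    apply Subtype.ext
    have h1 := ((hZmem _).mp ha).2 _ ((hZmem _).mp hb).1
    simpa using h1.symm
  · intro v hv
    rw [Subgroup.mem_subgroupOf] at hv
    obtain ⟨k, hk⟩ := hR0p ⟨(v : G), ((hZmem _).mp hv).1⟩
    refine ⟨k, ?_⟩
    apply Subtype.ext
    have := congrArg Subtype.val hk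
    simpa using this

example : LLStmt.{0} → PropAStmt.{0} := propA
example : LLStmt.{3} → PropAStmt.{3} := propA

end Cfsg.Agent.Lib.H9.S3901PropA
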