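import Mathlib

/-!
# S4415 (helper9): a linear map of order prime to `6` on a space spanned by two vectors over `F_3`
is trivial  (`|GL_2(3)| = 48`, proved by fixed-point congruences instead of the order formula).
-/

set_option autoImplicit false

namespace Cfsg.Agent.Lib.H9.S4415GL2

/-- arithmetic: `|U| ∈ {1,3,9}`, `|F|` a proper divisor: no prime `≥ 5` divides `|U| - |F|` -/
theorem arith_gl2 (p n m : ℕ) (hp : p.Prime) (hp5 : 5 ≤ p) (hn : n ∣ 9) (hm : m ∣ n) (hne : m ≠ n)
    (hd : p ∣ n - m) : False := by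
  have hn9 : n ≤ 9 := Nat.le_of_dvd (by norm_num) hn
  have hn0 : 0 < n := Nat.pos_of_dvd_of_pos hn (by norm_num)
  have hmn : m ≤ n := Nat.le_of_dvd hn0 hm
  have hm0 : 0 < m := Nat.pos_of_dvd_of_pos hm hn0
  have hpos : 0 < n - m := by omega
  have hpn : p ≤ n - m := Nat.le_of_dvd hpos hd
  interval_cases n
  all_goals (try omega)
  all_goals interval_cases m
  all_goals (try omega)
  all_goals interval_cases p
  all_goals first
    | omega
    | (exfalso; revert hp; norm_num)

section core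

variable {U : Type*} [AddCommGroup U] [Module (ZMod 3) U] [Finite U]

/-- prime case -/
theorem end_eq_one_of_prime (hU : Nat.card U ∣ 9) (τ : Module.End (ZMod 3) U) (p : ℕ)
    (hp : p.Prime) (hp5 : 5 ≤ p) (hτ : τ ^ p = 1) : τ = 1 := by
  classical
  have : Fintype U := Fintype.ofFinite _
  have : Fact p.Prime := ⟨hp⟩
  let f : Function.End U := fun u => τ u
  have hf : f ^ p ^ 1 = 1 := by
    rw [pow_one]
    have h1 : (f ^ p : Function.End U) = (f : U → U)^[p] :=
      hom_coe_pow (fun g : Function.End U ↦ g) rfl (fun g h ↦ rfl) f p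
    have h2 : (⇑(τ ^ p) : U → U) = (⇑τ)^[p] := Module.End.coe_pow τ p
    rw [h1]
    show (⇑τ)^[p] = id
    rw [← h2, hτ]
    rfl
  have hmod := Equiv.Perm.card_fixedPoints_modEq (p := p) (n := 1) hf
  -- the fixed points form an additive subgroup
  let F : AddSubgroup U := (LinearMap.eqLocus τ (1 : Module.End (ZMod 3) U)).toAddSubgroup
  have hFset : (F : Set U) = Function.fixedPoints f := by
    ext u
    exact Iff.rfl
  have hFcard : Nat.card F = Fintype.card ↥(Function.fixedPoints f) := by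
    rw [← Nat.card_eq_fintype_card]
    exact Nat.card_congr (Equiv.setCongr hFset)
  rw [← hFcard, ← Nat.card_eq_fintype_card] at hmod
  have hFdvd : Nat.card F ∣ Nat.card U := AddSubgroup.card_addSubgroup_dvd_card F
  by_cases hFtop : F = ⊤
  · ext u
    have hu : u ∈ F := by rw [hFtop]; trivial
    exact hu
  · exfalso
    have hne : Nat.card F ≠ Nat.card U := fun h => hFtop ((AddSubgroup.card_eq_iff_eq_top F).1 h)
    have hle : Nat.card F ≤ Nat.card U := Nat.le_of_dvd Nat.card_pos hFdvd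
    have hd : p ∣ Nat.card U - Nat.card F := (Nat.modEq_iff_dvd' hle).1 hmod.symm
    exact arith_gl2 p _ _ hp hp5 hU hFdvd hne hd

/-- general case: order prime to `6` -/
theorem end_eq_one_of_coprime (hU : Nat.card U ∣ 9) :
    ∀ (k : ℕ), k.Coprime 6 → ∀ τ : Module.End (ZMod 3) U, τ ^ k = 1 → τ = 1 := by
  intro k
  induction k using Nat.strong_induction_on with
  | _ k ih =>
    intro hk τ hτ
    by_cases hk1 : k = 1
    · rw [hk1, pow_one] at hτ
      exact hτ
    · have hk0 : k ≠ 0 := by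
        rintro rfl
        simp at hk
      set p := k.minFac with hpdef
      have hp : p.Prime := Nat.minFac_prime hk1
      have hpk : p ∣ k := Nat.minFac_dvd k
      have hp2 : p ≠ 2 := by
        intro h2
        have : 2 ∣ Nat.gcd k 6 := Nat.dvd_gcd (h2 ▸ hpk) (by norm_num)
        rw [hk] at this
        omega
      have hp3 : p ≠ 3 := by
        intro h3
        have : 3 ∣ Nat.gcd k 6 := Nat.dvd_gcd (h3 ▸ hpk) (by norm_num)
        rw [hk] at this
        omega
      have hp5 : 5 ≤ p := by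
        have h2 := hp.two_le
        by_contra hlt
        have hp4 : p = 4 := by omega
        rw [hp4] at hp
        exact absurd hp (by norm_num)
      obtain ⟨k', hk'⟩ := hpk
      have hk'pos : 0 < k' := by
        rcases Nat.eq_zero_or_pos k' with h | h
        · rw [h, mul_zero] at hk'
          exact absurd hk' hk0
        · exact h
      have hlt : k' < k := by
        rw [hk']
        have := hp.two_le
        nlinarith
      have hcop : k'.Coprime 6 := Nat.Coprime.coprime_dvd_left ⟨p, by rw [hk', mul_comm]⟩ hk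
      have h1 : (τ ^ k') ^ p = 1 := by
        rw [← pow_mul, mul_comm, ← hk', hτ]
      have h2 : τ ^ k' = 1 := end_eq_one_of_prime hU (τ ^ k') p hp hp5 h1
      exact ih k' hlt hcop τ h2

end core

/-- **(GL2)** in helper17's shape. -/
theorem fix_of_two_dim {V : Type*} [AddCommGroup V] [Module (ZMod 3) V] (T : V →ₗ[ZMod 3] V)
    (k : ℕ) (hk : k.Coprime 6) (hT : ∀ v, (T ^ k) v = v) (v₁ v₂ : V)
    (h₁ : ∃ a c : ZMod 3, T v₁ = a • v₁ + c • v₂)
    (h₂ : ∃ a c : ZMod 3, T v₂ = a • v₁ + c • v₂) : T v₁ = v₁ ∧ T v₂ = v₂ := by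
  obtain ⟨a, c, h₁⟩ := h₁
  obtain ⟨a', c', h₂⟩ := h₂
  -- `U = span {v₁, v₂}` as the range of `(x, y) ↦ x v₁ + y v₂`
  let φ : (ZMod 3 × ZMod 3) →ₗ[ZMod 3] V :=
    (LinearMap.toSpanSingleton (ZMod 3) V v₁).coprod (LinearMap.toSpanSingleton (ZMod 3) V v₂)
  have hφ : ∀ x y : ZMod 3, φ (x, y) = x • v₁ + y • v₂ := by
    intro x y
    simp [φ, LinearMap.coprod_apply, LinearMap.toSpanSingleton_apply]
  let U : Submodule (ZMod 3) V := LinearMap.range φ
  have hTU : ∀ u ∈ U, T u ∈ U := by
    rintro u ⟨⟨x, y⟩, rfl⟩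
    refine ⟨(x * a + y * a', x * c + y * c'), ?_⟩
    rw [hφ, hφ, map_add, map_smul, map_smul, h₁, h₂]
    module
  have hsurj : Function.Surjective φ.rangeRestrict := LinearMap.surjective_rangeRestrict φ
  have : Finite ↥U := Finite.of_surjective _ hsurj
  have hU9 : Nat.card ↥U ∣ 9 := by
    have h := AddSubgroup.card_dvd_of_surjective φ.rangeRestrict.toAddMonoidHom hsurj
    have h9 : Nat.card (ZMod 3 × ZMod 3) = 9 := by
      rw [Nat.card_prod, Nat.card_zmod]
    rw [h9] at h
    exact h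
  let Tu : Module.End (ZMod 3) ↥U := T.restrict hTU
  have hTuk : Tu ^ k = 1 := by
    ext u
    have h := Module.End.pow_restrict (f' := T) (p := U) k hTU
    have h2 : ((Tu ^ k) u : V) = (T ^ k) u := by
      show (((T.restrict hTU) ^ k) u : V) = (T ^ k) u
      rw [h]
      rfl
    rw [h2, hT]
    rfl
  have hTu1 : Tu = 1 := end_eq_one_of_coprime hU9 k hk Tu hTuk
  have hv₁ : v₁ ∈ U := ⟨(1, 0), by rw [hφ]; module⟩
  have hv₂ : v₂ ∈ U := ⟨(0, 1), by rw [hφ]; module⟩
  constructor
  · have h := congrArg (fun t : Module.End (ZMod 3) ↥U => ((t ⟨v₁, hv₁⟩ : ↥U) : V)) hTu1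
    exact h
  · have h := congrArg (fun t : Module.End (ZMod 3) ↥U => ((t ⟨v₂, hv₂⟩ : ↥U) : V)) hTu1
    exact h

end Cfsg.Agent.Lib.H9.S4415GL2
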