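import Mathlib
import Cfsg.Agent.Lib.H10.S4415BadDefs
import Cfsg.Agent.Lib.H21.S4415B0

/-!
# S4415, BAD layer (helper9): reduction of `OddTriv` to abelian subgroups
-/

set_option autoImplicit false

namespace Cfsg.Agent.Lib.H9.S4415GL2

open Cfsg.Agent.Lib.H10.S4415

/-- (RED) `OddTriv` follows from its abelian case (helper21's derived-series lemma). -/
theorem oddTriv_of_abelian {S : Type*} [Group S] [Finite S] (R : Subgroup S) (b : S)
    (hsolv : Group.IsSolvable ↥R)
    (h : ∀ M : Subgroup S, M ≤ R → NormBy (RB R b) M → Odd (Nat.card M) →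
      (∀ a ∈ M, ∀ a' ∈ M, a * a' = a' * a) → M = ⊥) : OddTriv R b := by
  intro M hMR hMn hodd
  by_contra hne
  have : Group.IsSolvable ↥M :=
    Group.isSolvable_of_isSolvable_injective (Subgroup.inclusion_injective hMR)
  obtain ⟨A, hAM, hAn, hAc, hAne⟩ :=
    Cfsg.Agent.Lib.H21.S4415B0.exists_abelian M (RB R b) hMn hne
  have hAodd : Odd (Nat.card A) :=
    Odd.of_dvd_nat hodd (Subgroup.card_dvd_of_le hAM)
  exact hAne (h A (hAM.trans hMR) hAn hAodd hAc)

end Cfsg.Agent.Lib.H9.S4415GL2
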