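import Mathlib
import Cfsg.Agent.Lib.H11.S8V0

/-!
# S3590 farm-out, task U2 (helper9)

`pow_dvd_charpoly`: in characteristic `2`, if `A ^ (2^t m) = 1` and `1 + A + ⋯ + A^(2^t m - 1) ≠ 0`
then `(X - 1)^(2^t)` divides the characteristic polynomial of `A`.
-/

set_option autoImplicit false

namespace Cfsg.Agent.Lib.H9.S8V

open Polynomial Cfsg.Agent.Lib.H11.S8V

section poly

variable {F : Type*} [Field F] [CharP F 2]

/-- `X^(2^t m) - 1 = (X - 1)^(2^t) Φ^(2^t)`, `Φ = 1 + X + ⋯ + X^(m-1)`, in characteristic 2 -/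
theorem X_pow_sub_one_eq (t m : ℕ) :
    (X : F[X]) ^ (2 ^ t * m) - 1 =
      (X - C (1 : F)) ^ (2 ^ t) * (∑ i ∈ Finset.range m, (X : F[X]) ^ i) ^ (2 ^ t) := by
  have : Fact (Nat.Prime 2) := ⟨Nat.prime_two⟩
  have h1 : ((X : F[X]) ^ m - 1) ^ 2 ^ t = (X ^ m) ^ 2 ^ t - 1 ^ 2 ^ t := sub_pow_char_pow _ _ _
  rw [one_pow, ← pow_mul, mul_comm m] at h1
  rw [← h1, ← mul_pow, C_1, mul_geom_sum]

/-- `S = (X - 1)^(2^t - 1) Φ^(2^t)` for `S = 1 + X + ⋯ + X^(2^t m - 1)` -/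
theorem geom_sum_eq (t m : ℕ) :
    (∑ i ∈ Finset.range (2 ^ t * m), (X : F[X]) ^ i) =
      (X - C (1 : F)) ^ (2 ^ t - 1) * (∑ i ∈ Finset.range m, (X : F[X]) ^ i) ^ (2 ^ t) := by
  have h1 := X_pow_sub_one_eq (F := F) t m
  have h2 : ((X : F[X]) - C 1) * ∑ i ∈ Finset.range (2 ^ t * m), (X : F[X]) ^ i =
      X ^ (2 ^ t * m) - 1 := by rw [C_1, mul_geom_sum]
  have h3 : 2 ^ t = (2 ^ t - 1) + 1 := by
    have : 0 < 2 ^ t := by positivity
    omega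
  have h4 : ((X : F[X]) - C 1) ^ (2 ^ t) = (X - C 1) * (X - C 1) ^ (2 ^ t - 1) := by
    conv_lhs => rw [h3]
    rw [pow_succ']
  rw [h1, h4, mul_assoc] at h2
  exact mul_left_cancel₀ (X_sub_C_ne_zero (1 : F)) h2

end poly

section linalg

variable {ι : Type*} [Fintype ι] [DecidableEq ι] {F : Type*} [Field F] [CharP F 2]

theorem gsum_eq_aeval (A : Matrix ι ι F) (n : ℕ) :
    gsum A n = aeval A (∑ i ∈ Finset.range n, (X : F[X]) ^ i) := by
  rw [gsum_def, map_sum]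
  refine Finset.sum_congr rfl fun i _ => ?_
  rw [map_pow, aeval_X]

/-- **U2** -/
theorem pow_dvd_charpoly (A : Matrix ι ι F) (t m : ℕ) (hm : Odd m) (hA : A ^ (2 ^ t * m) = 1)
    (hS : gsum A (2 ^ t * m) ≠ 0) : (X - C (1 : F)) ^ (2 ^ t) ∣ A.charpoly := by
  by_contra hnd
  apply hS
  have hχ0 : A.charpoly ≠ 0 := (Matrix.charpoly_monic A).ne_zero
  obtain ⟨χ', hχ', hnd'⟩ :=
    Polynomial.exists_eq_pow_rootMultiplicity_mul_and_not_dvd A.charpoly hχ0 (1 : F)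
  set j := rootMultiplicity (1 : F) A.charpoly with hj
  have hjlt : j < 2 ^ t := by
    by_contra hle
    push Not at hle
    apply hnd
    rw [hχ']
    exact Dvd.dvd.mul_right (pow_dvd_pow _ hle) _
  have hcop : IsCoprime (X - C (1 : F)) χ' :=
    (Irreducible.coprime_iff_not_dvd (irreducible_X_sub_C (1 : F))).mpr hnd'
  obtain ⟨a, b, hab⟩ := hcop
  set Φ : F[X] := ∑ i ∈ Finset.range m, (X : F[X]) ^ i with hΦ
  set S : F[X] := ∑ i ∈ Finset.range (2 ^ t * m), (X : F[X]) ^ i with hSdef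
  have hS1 : S = (X - C (1 : F)) ^ (2 ^ t - 1) * Φ ^ (2 ^ t) := geom_sum_eq t m
  have hX : (X : F[X]) ^ (2 ^ t * m) - 1 = (X - C (1 : F)) ^ (2 ^ t) * Φ ^ (2 ^ t) :=
    X_pow_sub_one_eq t m
  have he : 2 ^ t - 1 = (2 ^ t - 1 - j) + j := by omega
  have he' : 2 ^ t = (2 ^ t - 1) + 1 := by omega
  -- `S = c χ + a (X^n - 1)`
  have hcomb : S = (b * Φ ^ (2 ^ t) * (X - C (1 : F)) ^ (2 ^ t - 1 - j)) * A.charpoly +
      a * ((X : F[X]) ^ (2 ^ t * m) - 1) := by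
    have h1 : (X - C (1 : F)) ^ (2 ^ t - 1) = (X - C (1 : F)) ^ (2 ^ t - 1 - j) * (X - C 1) ^ j := by
      conv_lhs => rw [he]
      rw [pow_add]
    have h2 : (X - C (1 : F)) ^ (2 ^ t) = (X - C (1 : F)) ^ (2 ^ t - 1) * (X - C 1) := by
      conv_lhs => rw [he']
      rw [pow_succ]
    calc S = S * (a * (X - C 1) + b * χ') := by rw [hab, mul_one]
      _ = (b * Φ ^ (2 ^ t) * (X - C (1 : F)) ^ (2 ^ t - 1 - j)) * ((X - C 1) ^ j * χ') +
          a * ((X - C (1 : F)) ^ (2 ^ t) * Φ ^ (2 ^ t)) := by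
        rw [hS1, h2, h1]; ring
      _ = _ := by rw [← hχ', ← hX]
  rw [gsum_eq_aeval, ← hSdef, hcomb]
  simp only [map_add, map_mul, map_sub, map_pow, aeval_X, map_one, Matrix.aeval_self_charpoly, hA,
    sub_self, mul_zero, zero_add]

end linalg

end Cfsg.Agent.Lib.H9.S8V
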