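import Mathlib
import Cfsg.Prelude.Def_CaseTheorems
import Cfsg.Prelude.Def_Local
import Cfsg.Agent.Lib.H9.SGKEYb
import Cfsg.Agent.Lib.H21.SGKEY1
import Cfsg.Agent.Lib.H22.PPrimeCore

/-!
# S2924, piece KEY (helper9): glue of KEY1 (helper21) and KEYb (helper9)

`E(H) = 1`, `z ∈ H` an involution, `O(C_H(z)) = 1`, `E(C_H(z)) = 1`  ⟹  `E(H ⧸ O(H)) = 1`.
-/

set_option autoImplicit false

namespace Cfsg.Agent.Lib.H9.SG

open Cfsg
open scoped commutatorElement

/-- KEY, in the exact signature of `tools/blueprints/S2924_sigs.lean`. -/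
theorem key {H : Type*} [Group H] [Finite H] (z : H) (hz : orderOf z = 2)
    (hE : Cfsg.layer H = ⊥)
    (hO : Cfsg.pPrimeCore 2 ↥(Subgroup.centralizer ({z} : Set H)) = ⊥)
    (hL : Cfsg.layer ↥(Subgroup.centralizer ({z} : Set H)) = ⊥) :
    Cfsg.layer (H ⧸ Cfsg.pPrimeCore 2 H) = ⊥ := by
  set A : Subgroup H := Cfsg.pPrimeCore 2 H with hA
  have hzz : z * z = 1 := by rw [← pow_two, ← hz, pow_orderOf_eq_one]
  have hAc : (Nat.card A).Coprime 2 := Cfsg.Agent.Lib.H22.card_pPrimeCore_coprime 2
  have hfix : ∀ a ∈ A, z * a = a * z → a = 1 := by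
    intro a ha hza
    have hn : (A.subgroupOf (Subgroup.centralizer ({z} : Set H))).Normal := inferInstance
    have hc : (Nat.card (A.subgroupOf (Subgroup.centralizer ({z} : Set H)))).Coprime 2 := by
      have hdvd : Nat.card (A.subgroupOf (Subgroup.centralizer ({z} : Set H))) ∣ Nat.card A := by
        let f : (A.subgroupOf (Subgroup.centralizer ({z} : Set H))) →* A :=
          (((Subgroup.centralizer ({z} : Set H)).subtype).comp
            (A.subgroupOf (Subgroup.centralizer ({z} : Set H))).subtype).codRestrict A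
              (fun x => x.2)
        apply Subgroup.card_dvd_of_injective f
        intro x y hxy
        have := congrArg Subtype.val hxy
        exact Subtype.ext (Subtype.ext this)
      exact Nat.Coprime.coprime_dvd_left hdvd hAc
    have hle := Cfsg.Agent.Lib.H22.le_pPrimeCore 2 _ hn hc
    rw [hO, le_bot_iff] at hle
    have haC : a ∈ Subgroup.centralizer ({z} : Set H) := by
      rw [Subgroup.mem_centralizer_singleton_iff]; exact hza.symm
    have hmem : (⟨a, haC⟩ : ↥(Subgroup.centralizer ({z} : Set H))) ∈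
        A.subgroupOf (Subgroup.centralizer ({z} : Set H)) := ha
    rw [hle, Subgroup.mem_bot] at hmem
    exact congrArg Subtype.val hmem
  have hcommA := Cfsg.Agent.Lib.H20.SF.comm_of_fpf A hzz hfix
  unfold Cfsg.layer
  rw [eq_bot_iff]
  apply sSup_le
  intro K hK
  exfalso
  have hKC := key_b A z hzz hfix hL K hK
  set L : Subgroup H := K.comap (QuotientGroup.mk' A) with hLdef
  have hAL : A ≤ L := by
    intro a ha
    show (QuotientGroup.mk' A) a ∈ K
    have h1 : (QuotientGroup.mk' A) a = 1 := (QuotientGroup.eq_one_iff a).2 ha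
    rw [h1]; exact K.one_mem
  have hcent : L ≤ Subgroup.centralizer (A : Set H) := by
    intro l hl
    obtain ⟨c, hc, hcl⟩ := hKC hl
    have h1 : c⁻¹ * l ∈ A := (QuotientGroup.eq (s := A)).1 hcl
    have h2 : c⁻¹ * l ∈ Subgroup.centralizer (A : Set H) := by
      rw [Subgroup.mem_centralizer_iff]
      intro a ha
      exact hcommA a ha _ h1
    have h3 : l = c * (c⁻¹ * l) := by group
    rw [h3]
    exact Subgroup.mul_mem _ hc h2
  have hLs : L.IsSubnormal := hK.1.comap (QuotientGroup.mk' A)
  have hmapL : L.map (QuotientGroup.mk' A) = K :=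
    Subgroup.map_comap_eq_self_of_surjective (QuotientGroup.mk'_surjective A) K
  have hq : IsQuasisimple ↥(L.map (QuotientGroup.mk' A)) := by rw [hmapL]; exact hK.2
  have hcomp := Cfsg.Agent.Lib.H21.SG.component_of_central_ext A L hAL hcent hLs hq
  have hle : ⁅L, L⁆ ≤ Cfsg.layer H := le_sSup hcomp
  rw [hE, le_bot_iff] at hle
  exact Cfsg.Agent.Lib.H7.component_ne_bot hcomp hle

end Cfsg.Agent.Lib.H9.SG
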