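import Mathlib
import Cfsg.Agent.Lib.H4.SHPIHC
import Cfsg.Agent.Lib.H25.SHPMIN
import Cfsg.Agent.Lib.H12.SHPSYL
import Cfsg.Agent.Lib.H6.SHPCASEB
import Cfsg.Agent.Lib.H28.SHINVP
import Cfsg.Agent.Lib.H1.ShIWrap
import Cfsg.Agent.Lib.H19.SHODDKEY

/-!
# S3016 (Shult, odd `p`): assembly skeleton (helper9)

`partII`  : conclusion (II) `N_G(H) O_{p'}(G) = G` from the landed pieces (helper4 RED-p / IHC-p,
helper25 MINp, helper12 SYL, helper6 CASE B `q ≥ 5`, helper28 INVp, helper9 LOC-p), with the `q = 3`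
case theorem `CaseB3Stmt` as the one explicit hypothesis.
`result'` : the full S3016 statement from `CaseB3Stmt` and helper24's `lemma_I` (`LemmaIStmt`, cut #9054),
via helper1's `concl_I_of_II` and helper19's `key_conj`.
-/

set_option autoImplicit false
open Cfsg

namespace Cfsg.Agent.Lib.H9.SH16

universe u

/-- the shape of the `q = 3` case theorem -/
def CaseB3Stmt : Prop :=
  ∀ (G : Type u) [Group G] [Finite G] (M : Ideal AlgInt), IsPModular 3 M → ∀ H : Subgroup G,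
    IsPGroup 3 H → IsMulCommutative ↥H → IsExtremelyClosed H →
    Cfsg.Agent.Lib.H11.SH.LocData 3 H (principalBlock M G) →
    Subgroup.normalClosure (H : Set G) = ⊤ → Cfsg.Agent.Lib.H12.SH.TransN H →
    Nat.card ↥H = 3 → False

/-- the shape of helper24's `lemma_I` (I-CORE), cut #9054 -/
def LemmaIStmt : Prop :=
  ∀ (G : Type u) [Group G] [Finite G] (p : ℕ) [Fact p.Prime], p ≠ 2 → ∀ H : Subgroup G,
    IsPGroup p H → (∀ a ∈ H, ∀ b ∈ H, a * b = b * a) →
    (∀ Y : Subgroup G, ¬ p ∣ Nat.card Y → (∀ h ∈ H, ∀ y ∈ Y, h * y * h⁻¹ ∈ Y) →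
      Cfsg.Agent.Lib.H24.ShI.EC H Y → Cfsg.Agent.Lib.H24.ShI.KeyStmt H Y) →
    ∀ Y : Subgroup G, ¬ p ∣ Nat.card Y → (∀ h ∈ H, ∀ y ∈ Y, h * y * h⁻¹ ∈ Y) →
      Cfsg.Agent.Lib.H24.ShI.EC H Y → ⁅Y, H⁆ ⊓ Subgroup.centralizer (H : Set G) = ⊥

theorem partII {p : ℕ} [hp : Fact p.Prime] (hp2 : p ≠ 2) (caseB3 : CaseB3Stmt.{u}) :
    ∀ (G : Type u) [Group G] [Finite G] (H : Subgroup G), IsPGroup p H → IsMulCommutative H →
      IsExtremelyClosed H → Subgroup.normalizer (H : Set G) ⊔ pPrimeCore p G = ⊤ := by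
  apply Cfsg.Agent.Lib.H4.SHP.red_p
  intro G _ _ H hHp hHab hcl IH hO hncl hZ
  by_cases hbot : H = ⊥
  · subst hbot; infer_instance
  have hIH := Cfsg.Agent.Lib.H4.SHP.ih_centralizer_p hHp hHab hcl IH hZ
  have hcomm : ∀ a ∈ H, ∀ b ∈ H, a * b = b * a :=
    fun a ha b hb => setLike_mul_comm ha hb
  apply Cfsg.Agent.Lib.H25.SHPMIN.min_normal_p H hHp hHab hcl hIH
  · intro M hM hloc hfus hnt
    exact Cfsg.Agent.Lib.H12.SHP.caseA_top M hM H hHp hcomm hcl hloc hncl hO hnt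
  · intro M hM hloc htr
    by_cases hq : 5 ≤ Nat.card ↥H
    · exact Cfsg.Agent.Lib.H6.SHP.caseB_p hp2 M hM H hHp hloc hncl htr hq
        (fun χ hχ x y hx hy d hdx hdy =>
          Cfsg.Agent.Lib.H28.SHP.char_mul_prime_order_ge χ hχ p hp.out.pos x y hx hy d hdx hdy)
    · -- `|H| = p ^ k < 5`, `p` odd, `H ≠ ⊥`: `p = 3`, `|H| = 3`
      obtain ⟨k, hk⟩ := (IsPGroup.iff_card).mp hHp
      have hk0 : k ≠ 0 := by
        rintro rfl
        rw [pow_zero] at hk
        exact hbot (Subgroup.card_eq_one.mp hk)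
      have hp3 : 3 ≤ p := by
        have := hp.out.two_le
        omega
      have hlt : p ^ k < 5 := by rw [← hk]; omega
      have hk1 : k = 1 := by
        by_contra hne
        have h2 : 2 ≤ k := by omega
        have : p ^ 2 ≤ p ^ k := Nat.pow_le_pow_right (by omega) h2
        nlinarith
      subst hk1
      rw [pow_one] at hk hlt
      have hpe : p = 3 := by
        rcases (show p = 3 ∨ p = 4 by omega) with h | h
        · exact h
        · exfalso
          rw [h] at hp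
          exact absurd hp.out (by norm_num)
      subst hpe
      exact caseB3 G M hM H hHp hHab hcl hloc hncl htr hk

theorem result' (caseB3 : CaseB3Stmt.{u}) (lemmaI : LemmaIStmt.{u})
    {G : Type u} [Group G] [Finite G] {p : ℕ} [Fact p.Prime] (hp : p ≠ 2)
    (H : Subgroup G) (hHp : IsPGroup p H) (hHab : IsMulCommutative H)
    (hcl : Cfsg.IsExtremelyClosed H) :
    Subgroup.normalClosure (H : Set G) ⊓ Subgroup.normalizer (H : Set G) = H ∧
      Subgroup.normalizer (H : Set G) ⊔ Cfsg.pPrimeCore p G = ⊤ := by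
  have hII := partII hp caseB3 G H hHp hHab hcl
  have hcomm : ∀ a ∈ H, ∀ b ∈ H, a * b = b * a :=
    fun a ha b hb => setLike_mul_comm ha hb
  refine ⟨?_, hII⟩
  refine Cfsg.Agent.Lib.H1.ShIWrap.concl_I_of_II hp H hHp hHab hcl ?_ hII
  exact lemmaI G p hp H hHp hcomm
    (fun Y hYp hnorm hEC => Cfsg.Agent.Lib.H19.ShI.key_conj hp H Y hHp hcomm hYp hnorm hEC)

end Cfsg.Agent.Lib.H9.SH16
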