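import Mathlib
import Cfsg.Agent.Lib.H9.SHLOCp

/-!
# S3016 (Shult, odd `p`), piece LOC (helper9): control of fusion, general prime `p`

`fus_of_loc`: for an abelian extremely closed `p`-subgroup `H`, `N_G(H)` controls `G`-fusion in `H`
(general-`p` copy of `H7.Shult.fus_of_loc`), plus the elementwise form of `exists_struct`.
-/

set_option autoImplicit false

namespace Cfsg.Agent.Lib.H9.SHp

open Cfsg

variable {G : Type*} [Group G] [Finite G] {H : Subgroup G} {p : ℕ} [hp : Fact p.Prime]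

/-- `N_G(H)` controls fusion in `H`. -/
theorem fus_of_loc (hHp : IsPGroup p H) (hHab : IsMulCommutative H)
    (hcl : IsExtremelyClosed H) :
    ∀ h ∈ H, ∀ c ∈ H, IsConj h c →
      ∃ n ∈ Subgroup.normalizer (H : Set G), n * c * n⁻¹ = h := by
  intro h hh c hc hconj
  obtain ⟨g, hg⟩ := isConj_iff.1 hconj
  obtain ⟨k, hk, ν, hν, hgk⟩ := exists_struct hHp hHab hcl g
  have hb' : ν * h * ν⁻¹ ∈ H := ((Subgroup.mem_normalizer_iff.1 hν) h).1 hh
  have hc' : c = k * (ν * h * ν⁻¹) * k⁻¹ := by rw [← hg, hgk]; group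
  have hmem : (ν * h * ν⁻¹)⁻¹ * c ∈ Kg p H g := by
    have h1 : (ν * h * ν⁻¹)⁻¹ * c = ((ν * h * ν⁻¹)⁻¹ * k * ((ν * h * ν⁻¹)⁻¹)⁻¹) * k⁻¹ := by
      rw [hc']; group
    rw [h1]
    refine Subgroup.mul_mem _ ?_ (Subgroup.inv_mem _ hk)
    exact Kg_conj_mem p H g (H_le_Tg H g (H.inv_mem hb')) hk
  have hmemH : (ν * h * ν⁻¹)⁻¹ * c ∈ H := H.mul_mem (H.inv_mem hb') hc
  have h1 : (ν * h * ν⁻¹)⁻¹ * c = 1 := by
    have h2 : (ν * h * ν⁻¹)⁻¹ * c ∈ H ⊓ Kg p H g := ⟨hmemH, hmem⟩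
    rw [H_inf_Kg hHp hHab hcl g, Subgroup.mem_bot] at h2
    exact h2
  have hceq : c = ν * h * ν⁻¹ := (inv_mul_eq_one.1 h1).symm
  refine ⟨ν⁻¹, Subgroup.inv_mem _ hν, ?_⟩
  rw [hceq]; group

/-- `H` is strongly closed in `N_G(H)`-terms: a `G`-conjugate of an element of `H` lying in `H`
is an `N_G(H)`-conjugate (elementwise form with an explicit conjugator). -/
theorem conj_mem_imp_normalizer_conj (hHp : IsPGroup p H) (hHab : IsMulCommutative H)
    (hcl : IsExtremelyClosed H) {h g : G} (hh : h ∈ H) (hg : g * h * g⁻¹ ∈ H) :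
    ∃ n ∈ Subgroup.normalizer (H : Set G), n * h * n⁻¹ = g * h * g⁻¹ := by
  have hconj : IsConj (g * h * g⁻¹) h := by
    rw [isConj_comm, isConj_iff]
    exact ⟨g, rfl⟩
  exact fus_of_loc hHp hHab hcl (g * h * g⁻¹) hg h hh hconj

end Cfsg.Agent.Lib.H9.SHp
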