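import Mathlib
import Cfsg.Agent.Lib.H4.SLKDefs
import Cfsg.Agent.Lib.H8.SLKP01
import Cfsg.Agent.Lib.H8.SLKP05
import Cfsg.Agent.Lib.H24.SLKP07
import Cfsg.Agent.Lib.H9.SLKP08

/-!
# S2479 piece P09 (`det_eq_Dt`, assembly; helper9)
-/

set_option autoImplicit false
open Polynomial

namespace Cfsg.Agent.Lib.H9.SLK

open Cfsg.Agent.Lib.H12.Cls Cfsg.Agent.Lib.H4.SLK

universe u v
variable {F : Type u} [Field F]

theorem sc_pow_monic (g : F[X]) (hg : g.Monic) (e : ℕ) : sc (g ^ e) = sc g ^ e := by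
  induction e with
  | zero => rw [pow_zero, pow_zero]; exact Cfsg.Agent.Lib.H24.SLK.sc_one
  | succ e ih =>
    rw [pow_succ, pow_succ, Cfsg.Agent.Lib.H24.SLK.sc_mul _ _ (hg.pow e) hg, ih]

/-- T1 -/
theorem det_eq_Dt {n : ℕ} (A : GL (Fin n) F) :
    (A : Matrix (Fin n) (Fin n) F).det = Dt (tupleOf A) := by
  have h1 : (A : Matrix (Fin n) (Fin n) F).det =
      LinearMap.det (Matrix.toLin' (A : Matrix (Fin n) (Fin n) F)) :=
    (LinearMap.det_toLin' _).symm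
  rw [h1, Cfsg.Agent.Lib.H8.SLK.det_eq_nd_X, nd_aeval_eq_prod (dataOf A) X]
  have h2 : ∀ i, nd (Cyc F ((dataOf A).c i)) X = sc ((dataOf A).c i).1 ^ ((dataOf A).c i).2 := by
    intro i
    have := Cfsg.Agent.Lib.H8.SLK.nd_quot_X (((dataOf A).c i).1 ^ ((dataOf A).c i).2)
      (((dataOf A).monic i).pow _)
    rw [sc_pow_monic _ ((dataOf A).monic i)] at this
    exact this
  rw [Finset.prod_congr rfl (fun i _ => h2 i), Cfsg.Agent.Lib.H24.SLK.prod_sc_eq (dataOf A),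
    Module.finrank_fin_fun, Finset.prod_range_succ', pow_zero, mul_one, Finset.prod_range]
  rfl

end Cfsg.Agent.Lib.H9.SLK
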