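import Mathlib
import Cfsg.Agent.Lib.H4.SLKDefs
import Cfsg.Agent.Lib.H5.SLKP12
import Cfsg.Agent.Lib.H5.SLKP13

/-!
# S2479 piece P14 (`card_fiber_SL_le`, assembly of P12/P13; helper9)
-/

set_option autoImplicit false
open Polynomial

namespace Cfsg.Agent.Lib.H9.SLK

open Cfsg.Agent.Lib.H12.Cls Cfsg.Agent.Lib.H4.SLK

universe u v
variable {F : Type u} [Field F]

theorem range_toGL_eq_ker_det {n : ℕ} :
    (Matrix.SpecialLinearGroup.toGL (n := Fin n) (R := F)).range =
      (Matrix.GeneralLinearGroup.det (n := Fin n) (R := F)).ker := by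
  ext g
  rw [MonoidHom.mem_range, MonoidHom.mem_ker]
  constructor
  · rintro ⟨s, rfl⟩
    ext
    simp [Matrix.SpecialLinearGroup.toGL]
  · intro h
    have hdet : (g : Matrix (Fin n) (Fin n) F).det = 1 := by
      have := congrArg Units.val h
      simpa using this
    refine ⟨⟨(g : Matrix (Fin n) (Fin n) F), hdet⟩, ?_⟩
    ext i j
    rfl

/-- SP3 -/
theorem card_fiber_SL_le [Fintype F] {n : ℕ} (x : Matrix.SpecialLinearGroup (Fin n) F)
    (J : Finset ℕ)
    (hJ : ∀ j ∈ J, ∀ a : Fˣ, ∃ y : GL (Fin n) F,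
      Commute y (Matrix.SpecialLinearGroup.toGL x) ∧ Matrix.GeneralLinearGroup.det y = a ^ j) :
    Nat.card {c : ConjClasses (Matrix.SpecialLinearGroup (Fin n) F) //
      ConjClasses.map (Matrix.SpecialLinearGroup.toGL (n := Fin n) (R := F)) c =
        ConjClasses.mk (Matrix.SpecialLinearGroup.toGL x)} ≤
      Nat.gcd (Fintype.card F - 1) (J.gcd id) := by
  classical
  let D : Subgroup Fˣ := (Subgroup.centralizer
    ({Matrix.SpecialLinearGroup.toGL x} : Set (GL (Fin n) F))).map
      (Matrix.GeneralLinearGroup.det (n := Fin n) (R := F))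
  have hD : ∀ a ∈ D, ∃ y : GL (Fin n) F,
      Commute y (Matrix.SpecialLinearGroup.toGL x) ∧ Matrix.GeneralLinearGroup.det y = a := by
    rintro a ⟨y, hy, rfl⟩
    refine ⟨y, ?_, rfl⟩
    have := Subgroup.mem_centralizer_iff.mp hy (Matrix.SpecialLinearGroup.toGL x) rfl
    exact this.symm
  have hinj : Function.Injective (Matrix.SpecialLinearGroup.toGL (n := Fin n) (R := F)) := by
    intro s t hst
    apply Subtype.ext
    have := congrArg (fun g : GL (Fin n) F => (g : Matrix (Fin n) (Fin n) F)) hst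
    exact this
  have h1 := Cfsg.Agent.Lib.H5.SLK.card_fiber_le_index
    (Matrix.SpecialLinearGroup.toGL (n := Fin n) (R := F)) hinj
    (Matrix.GeneralLinearGroup.det (n := Fin n) (R := F)) range_toGL_eq_ker_det x D hD
  have hDJ : ∀ j ∈ J, ∀ a : Fˣ, a ^ j ∈ D := by
    intro j hj a
    obtain ⟨y, hy, hdet⟩ := hJ j hj a
    refine ⟨y, ?_, hdet⟩
    rw [SetLike.mem_coe, Subgroup.mem_centralizer_iff]
    intro g hg
    rw [Set.mem_singleton_iff] at hg
    rw [hg]
    exact hy.symm
  have h2 := Cfsg.Agent.Lib.H5.SLK.index_dvd_gcd J D hDJ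
  have hcard : Nat.card Fˣ = Fintype.card F - 1 := by
    rw [Nat.card_eq_fintype_card, Fintype.card_units]
  rw [hcard] at h2
  have hpos : 0 < Nat.gcd (Fintype.card F - 1) (J.gcd id) := by
    apply Nat.gcd_pos_of_pos_left
    have : 1 < Fintype.card F := Fintype.one_lt_card
    omega
  exact h1.trans (Nat.le_of_dvd hpos h2)

end Cfsg.Agent.Lib.H9.SLK
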