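import Mathlib
import Cfsg.Agent.Lib.H1.QdGroup
import Cfsg.Agent.Lib.H1.QuadStable3
import Cfsg.Agent.Lib.H1.PSolvOfSolv

/-!
# `p`-stability of `p`-solvable groups for `p ≥ 5` (helper9)

From helper1's K–S 9.4.5 (`sl23_of_pSolvable`): a `p`-solvable group, `p ≠ 2, 3`, acts `p`-stably on
every normal elementary abelian `p`-subgroup; a finite solvable group acts `p`-stably on every normal
`p`-subgroup.
-/
set_option autoImplicit false

namespace Cfsg.Agent.Lib.H9.SolvStable

open Cfsg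
open Cfsg.Agent.Lib.H1.QuadPair Cfsg.Agent.Lib.H1.QdSec Cfsg.Agent.Lib.H1.QuadStable
  Cfsg.Agent.Lib.H1.QuadMul Cfsg.Agent.Lib.H1.QdRecog Cfsg.Agent.Lib.H1.QdGroup
open scoped commutatorElement

universe u

/-- elementary abelian case: `p`-solvable, `p ≠ 2, 3`. -/
theorem isPStableOn_EA_of_isPSolvable {X : Type u} [Group X] [Finite X] {p : ℕ} [hp : Fact p.Prime]
    (hp2 : p ≠ 2) (hp3 : p ≠ 3) (hX : Cfsg.IsPSolvable p X)
    (V : Subgroup X) [hVn : V.Normal] (hV : Cfsg.IsElementaryAbelian p V) :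
    Cfsg.IsPStableOn p V := by
  by_contra h
  unfold Cfsg.IsPStableOn at h
  push Not at h
  obtain ⟨a, hq, hna⟩ := h
  have : IsEA p ↥V := isEA_of hV
  have : Module.Finite (ZMod p) (EA p ↥V) := Module.Finite.of_finite
  have hQ : Quad (rhoN p V a) := quad_of_quadM (quadM_conjNormal V hq)
  have hN : NotInOp (rhoN p V) a := by
    intro N hN haN hP
    apply hna
    have hnorm : (N.map (QuotientGroup.mk' (Subgroup.centralizer (V : Set X)))).Normal :=
      hN.map _ (QuotientGroup.mk'_surjective _)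
    refine Cfsg.Agent.Lib.H1.le_pCore hnorm ?_ ⟨a, haN, rfl⟩
    rintro ⟨_, g, hg, rfl⟩
    obtain ⟨k, hk⟩ := hP ⟨g, hg⟩
    refine ⟨k, Subtype.ext ?_⟩
    simp only [MonoidHom.comp_apply, Subgroup.subtype_apply, ← map_pow] at hk
    have := mem_centralizer_of_rhoN_eq_one V hk
    simp only [Subgroup.coe_pow, Subgroup.coe_one, QuotientGroup.mk'_apply]
    rw [← QuotientGroup.mk_pow, QuotientGroup.eq_one_iff]
    exact this
  exact hp3 (sl23_of_pSolvable hp2 hX (rhoN p V) hQ hN).1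

/-- a finite solvable group acts `p`-stably (`p ≠ 2, 3`) on each of its normal `p`-subgroups. -/
theorem isPStableOn_of_isSolvable {X : Type u} [Group X] [Finite X] [Group.IsSolvable X] {p : ℕ}
    [Fact p.Prime] (hp2 : p ≠ 2) (hp3 : p ≠ 3) (P : Subgroup X) [P.Normal] (hP : IsPGroup p P) :
    Cfsg.IsPStableOn p P := by
  refine isPStableOn_of_quotient_EA ?_ P hP
  intro Φ _ V _ hV
  exact isPStableOn_EA_of_isPSolvable hp2 hp3
    (Cfsg.Agent.Lib.H1.PSolvOfSolv.isPSolvable_of_isSolvable p (X ⧸ Φ)) V hV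

end Cfsg.Agent.Lib.H9.SolvStable
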