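import Mathlib

set_option autoImplicit false

namespace Cfsg.Agent.Lib.H9.Sp43

open Module

section Field3

variable {F : Type*} [Field F] [Fintype F]

theorem three_eq_zero (hF : Fintype.card F = 3) : (3 : F) = 0 := by
  have := Nat.cast_card_eq_zero F
  rw [hF] at this
  exact_mod_cast this

theorem two_ne_zero' (hF : Fintype.card F = 3) : (2 : F) ≠ 0 := by
  intro h
  have h3 := three_eq_zero hF
  have : (1 : F) = 0 := by linear_combination h3 - h
  exact one_ne_zero this

theorem sq_ne_neg_one (hF : Fintype.card F = 3) (a : F) : a ^ 2 ≠ -1 := by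
  intro h
  have h1 : a ^ 3 = a := by
    have := FiniteField.pow_card a
    rwa [hF] at this
  have h2 : a * (a ^ 2 - 1) = 0 := by linear_combination h1
  rw [h] at h2
  rcases mul_eq_zero.mp h2 with h3 | h3
  · rw [h3] at h
    have : (1 : F) = 0 := by linear_combination h
    exact one_ne_zero this
  · apply two_ne_zero' hF
    linear_combination -h3

end Field3

/-- If `T` preserves `W` and squares to `-1` on it, and `-1` is not a square, then `W` has even
dimension. -/
theorem even_finrank_of_sq_neg_one {F E : Type*} [Field F] [AddCommGroup E] [Module F E]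
    [FiniteDimensional F E] (W : Submodule F E) (T : E →ₗ[F] E) (hT : ∀ w ∈ W, T w ∈ W)
    (hT2 : ∀ w ∈ W, T (T w) = -w) (hsq : ∀ a : F, a ^ 2 ≠ -1) : Even (finrank F W) := by
  by_contra hodd
  rw [Nat.not_even_iff_odd] at hodd
  let S : W →ₗ[F] W := T.restrict hT
  have hS : S.comp S = (-1 : F) • LinearMap.id := by
    ext w
    simp only [LinearMap.comp_apply, LinearMap.smul_apply, LinearMap.id_apply, S,
      LinearMap.coe_restrict_apply]
    rw [hT2 w w.2]
    simp
  have hdet := congrArg LinearMap.det hS
  rw [LinearMap.det_comp, LinearMap.det_smul, LinearMap.det_id, mul_one, hodd.neg_one_pow] at hdet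
  exact hsq (LinearMap.det S) (by rw [pow_two]; exact hdet)

/-- Counting fixed points of a linear map of order dividing 5. -/
theorem card_modEq_card_ker {F E : Type*} [Field F] [AddCommGroup E] [Module F E] [Finite E]
    (f : E →ₗ[F] E) (hf : f ^ 5 = 1) :
    Nat.card E ≡ Nat.card (LinearMap.ker (f - 1)) [MOD 5] := by
  classical
  have hfE : Fintype E := Fintype.ofFinite E
  have : Fact (Nat.Prime 5) := ⟨by norm_num⟩
  let g : Function.End E := (f : E → E)
  have hg : g ^ 5 ^ 1 = 1 := by
    rw [pow_one]
    funext e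
    have h1 : (g ^ 5) e = (f ^ 5) e := by
      rw [Module.End.pow_apply]
      show (g ^ 5) e = (⇑f)^[5] e
      rfl
    rw [h1, hf]
    rfl
  have h2 := Equiv.Perm.card_fixedPoints_modEq (p := 5) (n := 1) hg
  rw [Nat.card_eq_fintype_card]
  refine h2.trans ?_
  rw [← Nat.card_eq_fintype_card, Nat.ModEq]
  congr 1
  apply Nat.card_congr
  refine ⟨fun e => ⟨e.1, ?_⟩, fun e => ⟨e.1, ?_⟩, fun e => rfl, fun e => rfl⟩
  · have := e.2
    rw [LinearMap.mem_ker, LinearMap.sub_apply, Module.End.one_apply, sub_eq_zero]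
    exact this
  · have := e.2
    rw [LinearMap.mem_ker, LinearMap.sub_apply, Module.End.one_apply, sub_eq_zero] at this
    exact this

theorem pow_three_modEq_one {j : ℕ} (hj : j ≤ 4) (h : 3 ^ j ≡ 1 [MOD 5]) : j = 0 ∨ j = 4 := by
  interval_cases j
  · left; rfl
  · exact absurd h (by decide)
  · exact absurd h (by decide)
  · exact absurd h (by decide)
  · right; rfl

theorem eq_neg_one_of_commute {F E : Type*} [Field F] [Fintype F] [AddCommGroup E] [Module F E]
    [Finite E] (hF : Fintype.card F = 3) (hE : finrank F E = 4)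
    (A B : E →ₗ[F] E) (hA : A * A = 1) (hA1 : A ≠ 1) (hAB : A * B = B * A) (hB : B ^ 5 = 1)
    (hB1 : B ≠ 1) : A = -1 := by
  have hfd : Module.Finite F E := Module.Finite.of_finite
  have hcF : Nat.card F = 3 := by rw [Nat.card_eq_fintype_card, hF]
  have hcard : ∀ U : Submodule F E, Nat.card U = 3 ^ finrank F U := by
    intro U
    rw [Module.natCard_eq_pow_finrank (K := F) (V := U), hcF]
  have hle : ∀ U : Submodule F E, finrank F U ≤ 4 := fun U => hE ▸ Submodule.finrank_le U
  have hcE : Nat.card E = 3 ^ 4 := by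
    rw [Module.natCard_eq_pow_finrank (K := F) (V := E), hcF, hE]
  -- Step 1
  have h1 : LinearMap.ker (B - 1) = ⊥ := by
    have hm := card_modEq_card_ker B hB
    rw [hcE, hcard] at hm
    have hm' : 3 ^ finrank F (LinearMap.ker (B - 1)) ≡ 1 [MOD 5] := hm.symm.trans (by decide)
    rcases pow_three_modEq_one (hle _) hm' with h | h
    · exact Submodule.finrank_eq_zero.mp h
    · exfalso
      have htop : LinearMap.ker (B - 1) = ⊤ := Submodule.eq_top_of_finrank_eq (h.trans hE.symm)
      apply hB1
      have := LinearMap.ker_eq_top.mp htop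
      exact sub_eq_zero.mp this
  -- Step 2
  have hinv : ∀ u ∈ LinearMap.ker (A - 1), B u ∈ LinearMap.ker (A - 1) := by
    intro u hu
    rw [LinearMap.mem_ker, LinearMap.sub_apply, Module.End.one_apply, sub_eq_zero] at hu ⊢
    have : A (B u) = B (A u) := by
      have := LinearMap.congr_fun hAB u
      simpa [Module.End.mul_apply] using this
    rw [this, hu]
  have h2 : LinearMap.ker (A - 1) = ⊥ := by
    have hB5 : (B.restrict hinv) ^ 5 = 1 := by
      rw [Module.End.pow_restrict 5 hinv]
      ext u
      simp [hB]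
    have hm := card_modEq_card_ker (B.restrict hinv) hB5
    have hker : LinearMap.ker (B.restrict hinv - 1) = ⊥ := by
      rw [Submodule.eq_bot_iff]
      intro u hu
      rw [LinearMap.mem_ker, LinearMap.sub_apply, Module.End.one_apply, sub_eq_zero] at hu
      have hu' : B (u : E) = u := by
        have := congrArg Subtype.val hu
        simpa using this
      have : (u : E) ∈ LinearMap.ker (B - 1) := by
        rw [LinearMap.mem_ker, LinearMap.sub_apply, Module.End.one_apply, sub_eq_zero]
        exact hu'
      rw [h1] at this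
      exact Subtype.ext ((Submodule.mem_bot F).mp this)
    rw [hker, hcard] at hm
    have hm' : 3 ^ finrank F (LinearMap.ker (A - 1)) ≡ 1 [MOD 5] := by
      refine hm.trans ?_
      simp only [Nat.card_unique]
      rfl
    rcases pow_three_modEq_one (hle _) hm' with h | h
    · exact Submodule.finrank_eq_zero.mp h
    · exfalso
      have htop : LinearMap.ker (A - 1) = ⊤ := Submodule.eq_top_of_finrank_eq (h.trans hE.symm)
      apply hA1
      have := LinearMap.ker_eq_top.mp htop
      exact sub_eq_zero.mp this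
  -- Step 3
  ext v
  have hv : (A + 1) v ∈ LinearMap.ker (A - 1) := by
    rw [LinearMap.mem_ker]
    have : (A - 1) ((A + 1) v) = (A * A) v - v := by
      simp [Module.End.mul_apply, map_add]
    rw [this, hA]
    simp
  rw [h2] at hv
  have := (Submodule.mem_bot F).mp hv
  simp only [LinearMap.add_apply, Module.End.one_apply] at this
  simp only [LinearMap.neg_apply, Module.End.one_apply]
  exact eq_neg_of_add_eq_zero_left this

theorem sub_one_pow_three {F E : Type*} [Field F] [AddCommGroup E] [Module F E]
    (h3 : (3 : F) = 0) (g : E →ₗ[F] E) (hg3 : g ^ 3 = 1) : (g - 1) ^ 3 = 0 := by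
  have e : (g - 1) ^ 3 = (g ^ 3 - 1) - (3 : F) • (g ^ 2 - g) := by
    have e2 : (3 : F) • (g ^ 2 - g) = (3 : ℕ) • (g ^ 2 - g) := by
      rw [← Nat.cast_smul_eq_nsmul F]
      norm_num
    rw [e2]
    noncomm_ring
  rw [e, hg3, h3]
  simp

theorem finrank_ker_eq_two {F E : Type*} [Field F] [Fintype F] [AddCommGroup E] [Module F E]
    [FiniteDimensional F E] (hF : Fintype.card F = 3) (hE : finrank F E = 4)
    (g T : E →ₗ[F] E) (hg3 : g ^ 3 = 1) (hg1 : g ≠ 1) (hT : T * T = -1) (hgT : g * T * g = T) :
    finrank F (LinearMap.ker (g - 1)) = 2 := by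
  have hmem : ∀ w : E, w ∈ LinearMap.ker (g - 1) ↔ g w = w := by
    intro w
    rw [LinearMap.mem_ker, LinearMap.sub_apply, Module.End.one_apply, sub_eq_zero]
  have hTW : ∀ w ∈ LinearMap.ker (g - 1), T w ∈ LinearMap.ker (g - 1) := by
    intro w hw
    rw [hmem] at hw ⊢
    have := LinearMap.congr_fun hgT w
    simp only [Module.End.mul_apply] at this
    rw [hw] at this
    exact this
  have hT2 : ∀ w ∈ LinearMap.ker (g - 1), T (T w) = -w := by
    intro w _
    have := LinearMap.congr_fun hT w
    simpa [Module.End.mul_apply] using this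
  have heven := even_finrank_of_sq_neg_one (LinearMap.ker (g - 1)) T hTW hT2 (sq_ne_neg_one hF)
  have hle : finrank F (LinearMap.ker (g - 1)) ≤ 4 := hE ▸ Submodule.finrank_le _
  have hne4 : finrank F (LinearMap.ker (g - 1)) ≠ 4 := by
    intro h
    have htop : LinearMap.ker (g - 1) = ⊤ := Submodule.eq_top_of_finrank_eq (h.trans hE.symm)
    apply hg1
    exact sub_eq_zero.mp (LinearMap.ker_eq_top.mp htop)
  have hne0 : finrank F (LinearMap.ker (g - 1)) ≠ 0 := by
    intro h
    have hbot : LinearMap.ker (g - 1) = ⊥ := Submodule.finrank_eq_zero.mp h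
    have hinj : Function.Injective ⇑(g - 1) := LinearMap.ker_eq_bot.mp hbot
    have hN := sub_one_pow_three (three_eq_zero hF) g hg3
    have hsub : ∀ e : E, e = 0 := by
      intro e
      apply hinj
      apply hinj
      apply hinj
      have := LinearMap.congr_fun hN e
      simp only [pow_succ, pow_zero, one_mul, Module.End.mul_apply, LinearMap.zero_apply] at this
      rw [this]
      simp
    have : finrank F E = 0 := by
      rw [finrank_zero_iff]
      exact ⟨fun a b => (hsub a).trans (hsub b).symm⟩
    omega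
  obtain ⟨k, hk⟩ := heven
  omega

theorem isotropic_ker {F E : Type*} [Field F] [AddCommGroup E] [Module F E]
    [FiniteDimensional F E] (h3 : (3 : F) = 0)
    (ω : E →ₗ[F] E →ₗ[F] F) (halt : ∀ v, ω v v = 0)
    (g : E →ₗ[F] E) (hω : ∀ v w, ω (g v) (g w) = ω v w) (hg3 : g ^ 3 = 1) (hg1 : g ≠ 1)
    (h2 : finrank F (LinearMap.ker (g - 1)) = 2) :
    ∀ v w : E, g v = v → g w = w → ω v w = 0 := by
  have hmem : ∀ w : E, w ∈ LinearMap.ker (g - 1) ↔ g w = w := by
    intro w
    rw [LinearMap.mem_ker, LinearMap.sub_apply, Module.End.one_apply, sub_eq_zero]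
  have hanti : ∀ v w, ω v w = - ω w v := by
    intro v w
    have := halt (v + w)
    simp only [map_add, LinearMap.add_apply, halt, zero_add, add_zero] at this
    exact eq_neg_of_add_eq_zero_right this
  -- image of N is orthogonal to fixed vectors
  have hperp : ∀ b w : E, g w = w → ω ((g - 1) b) w = 0 := by
    intro b w hw
    simp only [LinearMap.sub_apply, Module.End.one_apply, map_sub]
    have := hω b w
    rw [hw] at this
    rw [this, sub_self]
  have hN := sub_one_pow_three h3 g hg3
  have hN' : ∀ e : E, (g - 1) ((g - 1) ((g - 1) e)) = 0 := by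
    intro e
    have := LinearMap.congr_fun hN e
    simpa [pow_succ, Module.End.mul_apply] using this
  -- a nonzero fixed vector in the image of N
  obtain ⟨a, ha0, hafix, b, hab⟩ : ∃ a : E, a ≠ 0 ∧ g a = a ∧ ∃ b, a = (g - 1) b := by
    have : ∃ u, (g - 1) u ≠ 0 := by
      by_contra hcon
      push Not at hcon
      apply hg1
      apply sub_eq_zero.mp
      ext u
      simpa using hcon u
    obtain ⟨u, hu⟩ := this
    by_cases h : (g - 1) ((g - 1) u) = 0
    · exact ⟨(g - 1) u, hu, (hmem _).mp (LinearMap.mem_ker.mpr h), u, rfl⟩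
    · exact ⟨(g - 1) ((g - 1) u), h, (hmem _).mp (LinearMap.mem_ker.mpr (hN' u)), (g - 1) u, rfl⟩
  intro v w hv hw
  -- functional on W
  let W := LinearMap.ker (g - 1)
  let ℓ : W →ₗ[F] F := (ω v).comp W.subtype
  by_contra hne
  have hℓ : ℓ ≠ 0 := by
    intro h
    apply hne
    have := LinearMap.congr_fun h ⟨w, (hmem w).mpr hw⟩
    simpa [ℓ] using this
  have hrange : finrank F (LinearMap.range ℓ) = 1 := by
    have hsurj : LinearMap.range ℓ = ⊤ := by
      apply LinearMap.range_eq_top.mpr
      exact (LinearMap.surjective_iff_ne_zero (f := ℓ)).mpr hℓ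
    rw [hsurj, finrank_top, finrank_self]
  have hker : finrank F (LinearMap.ker ℓ) = 1 := by
    have := LinearMap.finrank_range_add_finrank_ker ℓ
    rw [hrange] at this
    have h2' : finrank F W = 2 := h2
    omega
  -- a and v lie in ker ℓ
  have haW : a ∈ W := (hmem a).mpr hafix
  have hvW : v ∈ W := (hmem v).mpr hv
  have hak : (⟨a, haW⟩ : W) ∈ LinearMap.ker ℓ := by
    rw [LinearMap.mem_ker]
    show ω v a = 0
    rw [hanti, hab, hperp b v hv, neg_zero]
  have hvk : (⟨v, hvW⟩ : W) ∈ LinearMap.ker ℓ := by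
    rw [LinearMap.mem_ker]
    show ω v v = 0
    exact halt v
  have hnz : (⟨⟨a, haW⟩, hak⟩ : LinearMap.ker ℓ) ≠ 0 := by
    intro h
    apply ha0
    have := congrArg (fun x : LinearMap.ker ℓ => ((x : W) : E)) h
    simpa using this
  obtain ⟨c, hc⟩ := (finrank_eq_one_iff_of_nonzero' _ hnz).mp hker ⟨⟨v, hvW⟩, hvk⟩
  have hva : v = c • a := by
    have := congrArg (fun x : LinearMap.ker ℓ => ((x : W) : E)) hc
    simpa using this.symm
  apply hne
  rw [hva, map_smul, LinearMap.smul_apply, hab, hperp b w hw, smul_zero]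

end Cfsg.Agent.Lib.H9.Sp43
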