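import Mathlib

set_option autoImplicit false

namespace Cfsg.Agent.Lib.H9.Sp43

open Matrix

set_option maxRecDepth 100000 in
theorem zmod5_key : ∀ a b c d : ZMod 5, a * d - b * c = 1 → a + d = -1 →
    ∃ p q r : ZMod 5, p * p + q * r = -1 ∧ p * (a - d) + q * c + r * b = 0 := by decide

variable {K : Type*} [Field K] [Fintype K]

theorem field5_key (hK : Fintype.card K = 5) (a b c d : K) (h1 : a * d - b * c = 1)
    (h2 : a + d = -1) :
    ∃ p q r : K, p * p + q * r = -1 ∧ p * (a - d) + q * c + r * b = 0 := by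
  have hp : Nat.Prime 5 := by norm_num
  have hfp : Fact (Nat.Prime 5) := ⟨hp⟩
  let e : ZMod 5 ≃+* K := ZMod.ringEquivOfPrime K hp hK
  obtain ⟨p, q, r, hpq, hlin⟩ := zmod5_key (e.symm a) (e.symm b) (e.symm c) (e.symm d)
    (by rw [← map_mul, ← map_mul, ← map_sub, h1, map_one])
    (by rw [← map_add, h2, map_neg, map_one])
  refine ⟨e p, e q, e r, ?_, ?_⟩
  · have := congrArg e hpq
    simpa using this
  · have := congrArg e hlin
    simpa using this

theorem trace_of_order_three (x : SpecialLinearGroup (Fin 2) K) (hx3 : x ^ 3 = 1) (hx1 : x ≠ 1) :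
    x.val 0 0 + x.val 1 1 = -1 := by
  set M : Matrix (Fin 2) (Fin 2) K := x.val with hM
  have hdet : M 0 0 * M 1 1 - M 0 1 * M 1 0 = 1 := by
    have := x.2
    rwa [Matrix.det_fin_two] at this
  have hM3 : M * M * M = 1 := by
    have := congrArg Subtype.val hx3
    simpa [pow_succ] using this
  have hCH : M * M = (M 0 0 + M 1 1) • M - 1 := by
    ext i j
    fin_cases i <;> fin_cases j <;>
      simp [Matrix.mul_apply, Fin.sum_univ_two] <;>
      first | ring1 | linear_combination hdet | linear_combination (-1 : K) * hdet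
  have hfac : ((M 0 0 + M 1 1) + 1) • ((M - 1) * M) = 0 := by
    have e1 : (M - 1) * (M * M + M + 1) = 0 := by
      have : (M - 1) * (M * M + M + 1) = M * M * M - 1 := by noncomm_ring
      rw [this, hM3, sub_self]
    have e2 : M * M + M + 1 = ((M 0 0 + M 1 1) + 1) • M := by
      rw [hCH, add_smul _ (1 : K) M, one_smul]
      abel
    rw [e2, Matrix.mul_smul] at e1
    exact e1
  have hfac2 : ((M 0 0 + M 1 1) + 1) • (M - 1) = 0 := by
    have : (M - 1) = ((M - 1) * M) * (M * M) := by
      rw [Matrix.mul_assoc, ← Matrix.mul_assoc M M M, hM3, Matrix.mul_one]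
    rw [this, ← Matrix.smul_mul, hfac, Matrix.zero_mul]
  rcases smul_eq_zero.mp hfac2 with h | h
  · linear_combination h
  · exfalso
    apply hx1
    apply Subtype.ext
    show M = (1 : Matrix (Fin 2) (Fin 2) K)
    exact sub_eq_zero.mp h

theorem exists_inverting (hK : Fintype.card K = 5) (x : SpecialLinearGroup (Fin 2) K)
    (hx : orderOf x = 3) :
    ∃ t : SpecialLinearGroup (Fin 2) K,
      ((t * t : SpecialLinearGroup (Fin 2) K) : Matrix (Fin 2) (Fin 2) K) = -1 ∧ x * t * x = t := by
  have hx3 : x ^ 3 = 1 := by rw [← hx]; exact pow_orderOf_eq_one x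
  have hx1 : x ≠ 1 := by
    intro h
    rw [h, orderOf_one] at hx
    omega
  have htr := trace_of_order_three x hx3 hx1
  have hdet : x.val 0 0 * x.val 1 1 - x.val 0 1 * x.val 1 0 = 1 := by
    have := x.2
    rwa [Matrix.det_fin_two] at this
  obtain ⟨p, q, r, hpq, hlin⟩ := field5_key hK _ _ _ _ hdet htr
  have hdt : (!![p, q; r, -p] : Matrix (Fin 2) (Fin 2) K).det = 1 := by
    rw [Matrix.det_fin_two_of]
    linear_combination (-1 : K) * hpq
  let t : SpecialLinearGroup (Fin 2) K := ⟨!![p, q; r, -p], hdt⟩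
  refine ⟨t, ?_, ?_⟩
  · show (!![p, q; r, -p] : Matrix (Fin 2) (Fin 2) K) * !![p, q; r, -p] = -1
    ext i j
    fin_cases i <;> fin_cases j <;>
      simp [Matrix.mul_apply, Fin.sum_univ_two] <;>
      first | ring1 | linear_combination hpq | linear_combination (-1 : K) * hpq
  · have key : t * x = x⁻¹ * t := by
      apply Subtype.ext
      have hinv : (x⁻¹).val = !![x.val 1 1, -x.val 0 1; -x.val 1 0, x.val 0 0] :=
        (Matrix.SpecialLinearGroup.coe_inv x).trans (Matrix.adjugate_fin_two _)
      show t.val * x.val = (x⁻¹).val * t.val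
      rw [hinv]
      show (!![p, q; r, -p] : Matrix (Fin 2) (Fin 2) K) * x.val =
        !![x.val 1 1, -x.val 0 1; -x.val 1 0, x.val 0 0] * !![p, q; r, -p]
      ext i j
      fin_cases i <;> fin_cases j <;>
        simp [Matrix.mul_apply, Fin.sum_univ_two] <;>
        first | ring1 | linear_combination hlin | linear_combination (-1 : K) * hlin
    rw [mul_assoc, key, mul_inv_cancel_left]

end Cfsg.Agent.Lib.H9.Sp43
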