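import Cfsg.Agent.Lib.H15.SpSubA
import Cfsg.Agent.Lib.H4.Dickson.SL2Mat

/-!
# S5789 (helper9): subfield subgroups of `Sp_{2m}(F)` in characteristic two, small rank — definitions

`secSub H p₁ p₂ n` : the subgroup of `SL₂(F)` of the matrices `g` for which some `k ∈ H` fixes `n` and acts on
`⟨p₁, p₂, n⟩ / ⟨n⟩` (basis `p₁, p₂`) by `g`:  `k p₁ = g₀₀ p₁ + g₁₀ p₂ + a n`,  `k p₂ = g₀₁ p₁ + g₁₁ p₂ + b n`.
(No independence assumption is needed for this to be a subgroup.)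
-/

set_option autoImplicit false

namespace Cfsg.Agent.Lib.H9.Sp4Sub

open Matrix
open Cfsg.Agent.Lib.H11.SubspMax Cfsg.Agent.Lib.H4.Dickson

variable {F : Type*} [Field F] {m : ℕ}

local notation "VV" => (Fin m ⊕ Fin m → F)
local notation "GG" => GL (Fin m ⊕ Fin m) F
local notation "MM" => Matrix (Fin m ⊕ Fin m) (Fin m ⊕ Fin m) F
local notation "SL2" => Matrix.SpecialLinearGroup (Fin 2) F
local notation "M2" => Matrix (Fin 2) (Fin 2) F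

/-- `k` acts by `g` on the section `⟨p₁, p₂, n⟩ / ⟨n⟩` -/
def ActsBy (k : GG) (g : SL2) (p₁ p₂ n : VV) : Prop :=
  (k : MM) *ᵥ n = n ∧
    (∃ a : F, (k : MM) *ᵥ p₁ = (g : M2) 0 0 • p₁ + (g : M2) 1 0 • p₂ + a • n) ∧
    (∃ b : F, (k : MM) *ᵥ p₂ = (g : M2) 0 1 • p₁ + (g : M2) 1 1 • p₂ + b • n)

theorem actsBy_one (p₁ p₂ n : VV) : ActsBy (1 : GG) (1 : SL2) p₁ p₂ n := by
  refine ⟨by simp, ⟨0, ?_⟩, ⟨0, ?_⟩⟩ <;> simp

theorem actsBy_mul {k k' : GG} {g g' : SL2} {p₁ p₂ n : VV} (h : ActsBy k g p₁ p₂ n)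
    (h' : ActsBy k' g' p₁ p₂ n) : ActsBy (k * k') (g * g') p₁ p₂ n := by
  obtain ⟨hn, ⟨a, ha⟩, ⟨b, hb⟩⟩ := h
  obtain ⟨hn', ⟨a', ha'⟩, ⟨b', hb'⟩⟩ := h'
  refine ⟨by rw [gl_mul_mulVec, hn', hn], ⟨(g' : M2) 0 0 * a + (g' : M2) 1 0 * b + a', ?_⟩,
    ⟨(g' : M2) 0 1 * a + (g' : M2) 1 1 * b + b', ?_⟩⟩
  · rw [gl_mul_mulVec, ha', Matrix.mulVec_add, Matrix.mulVec_add, Matrix.mulVec_smul,
      Matrix.mulVec_smul, Matrix.mulVec_smul, ha, hb, hn, mul_apply_00, mul_apply_10]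
    module
  · rw [gl_mul_mulVec, hb', Matrix.mulVec_add, Matrix.mulVec_add, Matrix.mulVec_smul,
      Matrix.mulVec_smul, Matrix.mulVec_smul, ha, hb, hn, mul_apply_01, mul_apply_11]
    module

theorem actsBy_inv {k : GG} {g : SL2} {p₁ p₂ n : VV} (h : ActsBy k g p₁ p₂ n) :
    ActsBy k⁻¹ g⁻¹ p₁ p₂ n := by
  obtain ⟨hn, ⟨a, ha⟩, ⟨b, hb⟩⟩ := h
  have hn' : ((k⁻¹ : GG) : MM) *ᵥ n = n := by
    conv_lhs => rw [← hn]
    exact gl_inv_mulVec k n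
  have hdet := det_eq g
  refine ⟨hn', ⟨-((g : M2) 1 1 * a) + (g : M2) 1 0 * b, ?_⟩,
    ⟨(g : M2) 0 1 * a - (g : M2) 0 0 * b, ?_⟩⟩
  · rw [inv_apply_00, inv_apply_10]
    have e : (k : MM) *ᵥ ((g : M2) 1 1 • p₁ + -(g : M2) 1 0 • p₂ +
        (-((g : M2) 1 1 * a) + (g : M2) 1 0 * b) • n) = p₁ := by
      rw [Matrix.mulVec_add, Matrix.mulVec_add, Matrix.mulVec_smul, Matrix.mulVec_smul,
        Matrix.mulVec_smul, ha, hb, hn]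
      have : p₁ = ((g : M2) 0 0 * (g : M2) 1 1 - (g : M2) 0 1 * (g : M2) 1 0) • p₁ := by
        rw [hdet, one_smul]
      conv_rhs => rw [this]
      module
    conv_lhs => rw [← e]
    exact gl_inv_mulVec k _
  · rw [inv_apply_01, inv_apply_11]
    have e : (k : MM) *ᵥ (-(g : M2) 0 1 • p₁ + (g : M2) 0 0 • p₂ +
        ((g : M2) 0 1 * a - (g : M2) 0 0 * b) • n) = p₂ := by
      rw [Matrix.mulVec_add, Matrix.mulVec_add, Matrix.mulVec_smul, Matrix.mulVec_smul,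
        Matrix.mulVec_smul, ha, hb, hn]
      have : p₂ = ((g : M2) 0 0 * (g : M2) 1 1 - (g : M2) 0 1 * (g : M2) 1 0) • p₂ := by
        rw [hdet, one_smul]
      conv_rhs => rw [this]
      module
    conv_lhs => rw [← e]
    exact gl_inv_mulVec k _

/-- the subgroup of `SL₂(F)` induced by `H` on the section `⟨p₁, p₂, n⟩ / ⟨n⟩` -/
def secSub (H : Subgroup GG) (p₁ p₂ n : VV) : Subgroup SL2 where
  carrier := {g | ∃ k ∈ H, ActsBy k g p₁ p₂ n}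
  mul_mem' := by
    rintro g g' ⟨k, hk, h⟩ ⟨k', hk', h'⟩
    exact ⟨k * k', H.mul_mem hk hk', actsBy_mul h h'⟩
  one_mem' := ⟨1, H.one_mem, actsBy_one p₁ p₂ n⟩
  inv_mem' := by
    rintro g ⟨k, hk, h⟩
    exact ⟨k⁻¹, H.inv_mem hk, actsBy_inv h⟩

theorem mem_secSub {H : Subgroup GG} {p₁ p₂ n : VV} {g : SL2} :
    g ∈ secSub H p₁ p₂ n ↔ ∃ k ∈ H, ActsBy k g p₁ p₂ n := Iff.rfl

end Cfsg.Agent.Lib.H9.Sp4Sub
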