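import Cfsg.Agent.Lib.H9.Sp4SubDefs
import Cfsg.Agent.Lib.H10.SfD
import Cfsg.Agent.Lib.H10.SfB

/-!
# S5789-DICK (helper9): Dickson's theorem on a three-dimensional section

Characteristic two, `M0 m F₀ ≤ H ≤ Sp`.  If `stv y 1 ∈ H` and `u₁, u₂` are perpendicular rational vectors with
`B y u₁ ≠ 0`, `B y u₂ / B y u₁ ∉ F₀`, then for every `μ ≠ 0` some `k ∈ H` fixes
`n = B y u₂ • u₁ + B y u₁ • u₂` and maps `u₁` to `μ • u₁ + a • n`.
-/

set_option autoImplicit false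
set_option linter.unusedSectionVars false
set_option linter.unusedVariables false

namespace Cfsg.Agent.Lib.H9.Sp4Sub

open Matrix
open Cfsg.Agent.Lib.H11.SubspMax Cfsg.Agent.Lib.H15.SpSub Cfsg.Agent.Lib.H4.Dickson
open Cfsg.Agent.Lib.H4 (sympForm_self sympForm_add_left sympForm_add_right sympForm_smul_left
  sympForm_smul_right sympForm_swap)

variable {F : Type*} [Field F] {m : ℕ} {F₀ : Subfield F}
variable {H : Subgroup (GL (Fin m ⊕ Fin m) F)}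

local notation "VV" => (Fin m ⊕ Fin m → F)
local notation "GG" => GL (Fin m ⊕ Fin m) F
local notation "MM" => Matrix (Fin m ⊕ Fin m) (Fin m ⊕ Fin m) F
local notation "BB" => Cfsg.sympForm m F
local notation "SL2" => Matrix.SpecialLinearGroup (Fin 2) F
local notation "M2" => Matrix (Fin 2) (Fin 2) F

/-- in characteristic two `x = -x` -/
theorem neg_eq_self_of_two (h2 : (2 : F) = 0) (x : F) : -x = x := by
  linear_combination (-x) * h2

/-- in characteristic two squares are injective -/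
theorem eq_of_sq_eq (h2 : (2 : F) = 0) {x y : F} (h : x * x = y * y) : x = y := by
  have h1 : (x - y) * (x - y) = 0 := by linear_combination h + (y * y - x * y) * h2
  have := mul_self_eq_zero.1 h1
  exact sub_eq_zero.1 this

section sec

variable (h2 : (2 : F) = 0) {y u₁ u₂ : Fin m ⊕ Fin m → F}
  (h12 : Cfsg.sympForm m F u₁ u₂ = 0)
include h2 h12

theorem B_n_y : BB (BB y u₂ • u₁ + BB y u₁ • u₂) y = 0 := by
  rw [sympForm_add_left, sympForm_smul_left, sympForm_smul_left, sympForm_swap m u₁ y,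
    sympForm_swap m u₂ y]
  linear_combination (-(BB y u₁ * BB y u₂)) * h2

theorem B_n_u₁ : BB (BB y u₂ • u₁ + BB y u₁ • u₂) u₁ = 0 := by
  rw [sympForm_add_left, sympForm_smul_left, sympForm_smul_left, sympForm_self,
    sympForm_swap m u₂ u₁, h12]
  ring

theorem B_n_u₂ : BB (BB y u₂ • u₁ + BB y u₁ • u₂) u₂ = 0 := by
  rw [sympForm_add_left, sympForm_smul_left, sympForm_smul_left, sympForm_self, h12]
  ring

/-- `stv y 1` acts as `ll 1` -/
theorem actsBy_y : ActsBy (stv y (1 : F)) (ll (1 : F)) u₁ (BB y u₁ • y)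
    (BB y u₂ • u₁ + BB y u₁ • u₂) := by
  refine ⟨?_, ⟨0, ?_⟩, ⟨0, ?_⟩⟩
  · rw [stv_mulVec, B_n_y h2 h12, mul_zero, zero_smul, add_zero]
  · rw [stv_mulVec, sympForm_swap m u₁ y, ll_00, ll_10, one_mul,
      neg_eq_self_of_two h2]
    module
  · rw [stv_mulVec, sympForm_smul_left, sympForm_self, ll_01, ll_11]
    module

/-- `stv u₁ c` acts as `uu (c β₁²)` -/
theorem actsBy_u₁ (c : F) : ActsBy (stv u₁ c) (uu (c * (BB y u₁ * BB y u₁))) u₁ (BB y u₁ • y)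
    (BB y u₂ • u₁ + BB y u₁ • u₂) := by
  refine ⟨?_, ⟨0, ?_⟩, ⟨0, ?_⟩⟩
  · rw [stv_mulVec, B_n_u₁ h2 h12, mul_zero, zero_smul, add_zero]
  · rw [stv_mulVec, sympForm_self, uu_00, uu_10]
    module
  · rw [stv_mulVec, sympForm_smul_left, uu_01, uu_11]
    module

/-- `stv u₂ 1` acts as `uu β₂²` -/
theorem actsBy_u₂ (hβ₁ : BB y u₁ ≠ 0) :
    ActsBy (stv u₂ (1 : F)) (uu (BB y u₂ * BB y u₂)) u₁ (BB y u₁ • y)
    (BB y u₂ • u₁ + BB y u₁ • u₂) := by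
  refine ⟨?_, ⟨0, ?_⟩, ⟨BB y u₂, ?_⟩⟩
  · rw [stv_mulVec, B_n_u₂ h2 h12, mul_zero, zero_smul, add_zero]
  · rw [stv_mulVec, h12, uu_00, uu_10]
    module
  · rw [stv_mulVec, sympForm_smul_left, uu_01, uu_11]
    have e : (2 * (BB y u₂ * BB y u₂)) • u₁ = 0 := by rw [h2, zero_mul, zero_smul]
    have e' : (BB y u₂ * BB y u₂) • u₁ + (1 : F) • BB y u₁ • y +
        BB y u₂ • (BB y u₂ • u₁ + BB y u₁ • u₂) =
        BB y u₁ • y + (1 * (BB y u₁ * BB y u₂)) • u₂ + (2 * (BB y u₂ * BB y u₂)) • u₁ := by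
      module
    rw [e', e, add_zero]

end sec

/-- **S5789-DICK** -/
theorem exists_torus [Fintype F] (h2 : (2 : F) = 0) {r : ℕ} (hr : r.Prime)
    (hcard : Fintype.card F = Nat.card F₀ ^ r) (hM : M0 m F₀ ≤ H) (hH : H ≤ Cfsg.spGL m F)
    {y u₁ u₂ : VV} (hu₁ : IsRat F₀ u₁) (hu₂ : IsRat F₀ u₂) (h12 : BB u₁ u₂ = 0)
    (hy : stv y 1 ∈ H) (hβ₁ : BB y u₁ ≠ 0) (hβ : BB y u₂ / BB y u₁ ∉ F₀) :
    ∀ μ : F, μ ≠ 0 → ∃ k ∈ H, ∃ a : F,
      (k : MM) *ᵥ (BB y u₂ • u₁ + BB y u₁ • u₂) = BB y u₂ • u₁ + BB y u₁ • u₂ ∧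
      (k : MM) *ᵥ u₁ = μ • u₁ + a • (BB y u₂ • u₁ + BB y u₁ • u₂) := by
  classical
  obtain ⟨β₁, hβ₁def⟩ : ∃ b, b = BB y u₁ := ⟨_, rfl⟩
  obtain ⟨β₂, hβ₂def⟩ : ∃ b, b = BB y u₂ := ⟨_, rfl⟩
  rw [← hβ₁def] at hβ₁ hβ ⊢
  rw [← hβ₂def] at hβ ⊢
  obtain ⟨n, hn⟩ : ∃ n : VV, n = β₂ • u₁ + β₁ • u₂ := ⟨_, rfl⟩
  rw [← hn]
  set L : Subgroup SL2 := secSub H u₁ (β₁ • y) n with hL
  have hβ₂ : β₂ ≠ 0 := by
    rintro rfl
    apply hβ
    rw [zero_div]; exact F₀.zero_mem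
  have hne : β₁ ≠ β₂ := by
    rintro rfl
    apply hβ
    rw [div_self hβ₁]; exact F₀.one_mem
  -- the three root elements
  have h1 : ll (1 : F) ∈ L := by
    refine ⟨stv y 1, hy, ?_⟩
    have := actsBy_y h2 (y := y) h12
    rwa [← hβ₁def, ← hβ₂def, ← hn] at this
  have hU : ∀ c : F, c ∈ F₀ → uu (c * (β₁ * β₁)) ∈ L := by
    intro c hc
    refine ⟨stv u₁ c, hM (stv_mem_M0 hu₁ hc), ?_⟩
    have := actsBy_u₁ h2 (y := y) h12 c
    rwa [← hβ₁def, ← hβ₂def, ← hn] at this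
  have hA : uu (β₁ * β₁) ∈ L := by
    have := hU 1 F₀.one_mem
    rwa [one_mul] at this
  have hB : uu (β₂ * β₂) ∈ L := by
    refine ⟨stv u₂ 1, hM (stv_mem_M0 hu₂ F₀.one_mem), ?_⟩
    have := actsBy_u₂ h2 (y := y) h12 (by rw [← hβ₁def]; exact hβ₁)
    rwa [← hβ₁def, ← hβ₂def, ← hn] at this
  have ha0 : β₁ * β₁ ≠ 0 := mul_ne_zero hβ₁ hβ₁
  have hb0 : β₂ * β₂ ≠ 0 := mul_ne_zero hβ₂ hβ₂
  have hab : β₁ * β₁ ≠ β₂ * β₂ := fun h => hne (eq_of_sq_eq h2 h)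
  have hab' : β₁ * β₁ + β₂ * β₂ ≠ 0 := by
    intro h
    apply hab
    have := neg_eq_self_of_two h2 (β₂ * β₂)
    linear_combination h + this
  obtain ⟨S, hS, hle⟩ := Cfsg.Agent.Lib.H10.Sf.exists_subfield_of_four L h1 ha0 hb0 hab hab' hA hB
  -- `S` contains `F₀`
  have hAS : β₁ * β₁ ∈ S := (hS _).2 hA
  have hF₀S : ∀ c : F, c ∈ F₀ → c ∈ S := by
    intro c hc
    have h3 : c * (β₁ * β₁) ∈ S := (hS _).2 (hU c hc)
    have h4 : c = c * (β₁ * β₁) * (β₁ * β₁)⁻¹ := by field_simp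
    rw [h4]
    exact S.mul_mem h3 (S.inv_mem hAS)
  -- an element of `S` outside `F₀`
  obtain ⟨θ, hθ⟩ : ∃ θ : F, θ = (β₂ / β₁) * (β₂ / β₁) := ⟨_, rfl⟩
  have hθS : θ ∈ S := by
    have h3 : θ = β₂ * β₂ * (β₁ * β₁)⁻¹ := by rw [hθ]; field_simp
    rw [h3]
    exact S.mul_mem ((hS _).2 hB) (S.inv_mem hAS)
  have hθF₀ : θ ∉ F₀ := by
    intro hmem
    -- Frobenius is surjective on the finite field `F₀`
    have hch : CharP F 2 := CharTwo.of_one_ne_zero_of_two_eq_zero one_ne_zero h2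
    have hch0 : CharP F₀ 2 := by
      refine CharTwo.of_one_ne_zero_of_two_eq_zero one_ne_zero ?_
      apply Subtype.ext
      push_cast
      exact h2
    obtain ⟨s, hs⟩ := FiniteField.isSquare_of_char_two (F := F₀)
      (CharP.ringChar_of_prime_eq_zero Nat.prime_two (CharP.cast_eq_zero F₀ 2) |>.symm ▸ rfl)
      (⟨θ, hmem⟩ : F₀)
    have hs' : θ = (s : F) * (s : F) := by
      have := congrArg (Subtype.val) hs
      simpa using this
    apply hβ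
    have : β₂ / β₁ = (s : F) := eq_of_sq_eq h2 (by rw [← hθ, hs'])
    rw [this]; exact s.2
  -- `S = ⊤`
  have hStop : ∀ c : F, c ∈ S := by
    let A : Subalgebra F₀ F :=
      { carrier := S
        mul_mem' := S.mul_mem
        add_mem' := S.add_mem
        algebraMap_mem' := fun x => hF₀S _ x.2 }
    have hp : (Module.finrank F₀ F).Prime := by
      rw [Cfsg.Agent.Lib.H10.Sf.finrank_eq hcard]; exact hr
    have hsimple := Subalgebra.isSimpleOrder_of_finrank_prime F₀ F hp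
    rcases hsimple.eq_bot_or_eq_top A with h | h
    · exfalso
      have : θ ∈ A := hθS
      rw [h, Algebra.mem_bot] at this
      obtain ⟨x, hx⟩ := this
      apply hθF₀
      rw [← hx]; exact x.2
    · intro c
      have : c ∈ A := by rw [h]; exact Algebra.mem_top
      exact this
  -- the diagonal elements
  intro μ hμ
  let μ' : S := ⟨μ, hStop μ⟩
  have hμ'0 : μ' ≠ 0 := by
    intro h
    apply hμ
    have : ((μ' : S) : F) = ((0 : S) : F) := by rw [h]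
    exact this
  let A₀ : Matrix.SpecialLinearGroup (Fin 2) S :=
    ⟨!![μ', 0; 0, μ'⁻¹], by rw [Matrix.det_fin_two_of]; simp [hμ'0]⟩
  have hmem : Matrix.SpecialLinearGroup.map (n := Fin 2) (S.subtype : ↥S →+* F) A₀ ∈ L :=
    hle ⟨A₀, rfl⟩
  have e : ∀ i j, ((Matrix.SpecialLinearGroup.map (n := Fin 2) (S.subtype : ↥S →+* F) A₀ :
      Matrix.SpecialLinearGroup (Fin 2) F) : Matrix (Fin 2) (Fin 2) F) i j =
      ((A₀.1 i j : S) : F) := fun i j => rfl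
  obtain ⟨k, hkH, hkn, ⟨a, hka⟩, -⟩ := hmem
  refine ⟨k, hkH, a, hkn, ?_⟩
  rw [hka, e, e]
  simp [A₀, μ']

end Cfsg.Agent.Lib.H9.Sp4Sub
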