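import Cfsg.Agent.Lib.H9.Sp4SubDick
import Cfsg.Agent.Lib.H11.Sp4SubConf
import Cfsg.Agent.Lib.H21.Sp4SubBoot
import Cfsg.Agent.Lib.H29.Sp4SubFin
import Cfsg.Agent.Lib.H11.SpSubV2
import Cfsg.Agent.Lib.H15.SpSubV7
import Cfsg.Agent.Lib.H15.SpSubV1

/-!
# S5789 (helper9): subfield subgroups of `Sp_{2m}(F)`, characteristic two, `2 ≤ m` — assembly

Pieces: CONF (helper11), DICK (helper9), FIN (helper29), BOOT (helper21); blueprint `tools/blueprints/S5789.md`.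
-/

set_option autoImplicit false

namespace Cfsg.Agent.Lib.H9.Sp4Sub

open Matrix
open Cfsg.Agent.Lib.H11.SubspMax Cfsg.Agent.Lib.H15.SpSub

variable {F : Type*} [Field F] {m : ℕ} {F₀ : Subfield F}

local notation "VV" => (Fin m ⊕ Fin m → F)
local notation "GG" => GL (Fin m ⊕ Fin m) F
local notation "MM" => Matrix (Fin m ⊕ Fin m) (Fin m ⊕ Fin m) F
local notation "BB" => Cfsg.sympForm m F

/-- the standard subfield subgroup is maximal in the symplectic group: characteristic two, `2 ≤ m` -/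
theorem maximal_one_char2 [Fintype F] (h2 : (2 : F) = 0) (hm : 2 ≤ m) {r : ℕ} (hr : r.Prime)
    (hcard : Fintype.card F = Nat.card F₀ ^ r) :
    Cfsg.Geo.IsMaximalIn (Cfsg.spGL m F) (M0 m F₀) := by
  refine ⟨M0_lt (by omega) hr hcard, fun H hM hH => ?_⟩
  by_cases hHM : H = M0 m F₀
  · exact Or.inl hHM
  right
  obtain ⟨h, hhH, hhM⟩ : ∃ h ∈ H, h ∉ M0 m F₀ := by
    by_contra hcon
    push Not at hcon
    exact hHM (le_antisymm hcon hM)
  have hh1 : h ∉ Cfsg.Geo.subfieldSubgroup F₀ (1 : GG) := fun h1 => hhM ⟨h1, hH hhH⟩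
  obtain ⟨x, hx, hxy⟩ : ∃ x : VV, IsRat F₀ x ∧ ¬ RatPt F₀ ((h : MM) *ᵥ x) := by
    by_contra hcon
    push Not at hcon
    apply hh1
    apply Cfsg.Agent.Lib.H11.SpSub.mem_subfield_of_ratPt
    intro x hx
    obtain ⟨l, r, hr, hlr⟩ := hcon x hx
    exact ⟨l, r, hr, hlr⟩
  have hy : stv ((h : MM) *ᵥ x) (1 : F) ∈ H := by
    rw [conj_stv h (hH hhH)]
    exact H.mul_mem (H.mul_mem hhH (hM (stv_mem_M0 hx F₀.one_mem))) (H.inv_mem hhH)
  obtain ⟨u₁, u₂, v, hu₁, hu₂, hv, h12, hv1, hv2, hβ₁, hβ⟩ :=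
    Cfsg.Agent.Lib.H11.Sp4Sub.exists_config hm h2 hxy
  have hk := exists_torus h2 hr hcard hM hH hu₁ hu₂ h12 hy hβ₁ hβ
  have hS := Cfsg.Agent.Lib.H29.Sp4Sub.rat_mem_Scl_of_torus h2 hM hH hu₁ hu₂ hv h12 hv1 hv2 hβ₁ hk
  have hu0 : u₁ ≠ 0 := by
    rintro rfl
    apply hβ₁
    have := Cfsg.Agent.Lib.H4.sympForm_smul_right m (0 : F) ((h : MM) *ᵥ x) (0 : VV)
    rw [zero_smul, zero_mul] at this
    exact this
  exact Cfsg.Agent.Lib.H21.Sp4Sub.eq_spGL_of_rat_mem_Scl hM hH hm hu₁ hu0 hS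

/-- maximality of the subfield subgroups of `Sp_{2m}(F)` for an arbitrary rational structure:
characteristic two, `2 ≤ m` -/
theorem maximal_conj_char2 [Fintype F] (h2 : (2 : F) = 0) (hm : 2 ≤ m) {r : ℕ} (hr : r.Prime)
    (hcard : Fintype.card F = Nat.card F₀ ^ r) (P : GL (Fin m ⊕ Fin m) F) (ζ : F) (hζ : ζ ≠ 0)
    (hP : Cfsg.Geo.IsFormRationalStructure (Cfsg.sympForm m F) F₀ ζ P) :
    Cfsg.Geo.IsMaximalIn (Cfsg.spGL m F)
      (Cfsg.Geo.subfieldSubgroup F₀ P ⊓ Cfsg.spGL m F) :=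
  maximal_of_one P ζ hζ hP (maximal_one_char2 h2 hm hr hcard)

end Cfsg.Agent.Lib.H9.Sp4Sub
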