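import Mathlib
import Cfsg.Agent.Lib.H2.SpSimple

set_option autoImplicit false
set_option linter.unusedSectionVars false
set_option linter.unusedVariables false

/-!
# Generation of `Sp_{2n}(F)` by three conjugate regular unipotents: transvection calculus

Basis vectors `eV i`, `fV i`, the table of the form on them, and the calculus of the sets
`{v | tv v c ∈ H}` for a subgroup `H`.
-/

namespace Cfsg.Agent.Lib.H9.SpG

open Matrix Cfsg.Agent.Lib.H4 Cfsg.Agent.Lib.H2.Sp

variable {F : Type*} [Field F] {n : ℕ}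

/-- the form, with implicit size -/
abbrev BF (u v : K n → F) : F := Cfsg.sympForm n F u v

/-- basis vector of the first Lagrangian -/
def eV (i : Fin n) : K n → F := Pi.single (Sum.inl i) 1

/-- basis vector of the second Lagrangian -/
def fV (i : Fin n) : K n → F := Pi.single (Sum.inr i) 1

theorem BF_x_e (x : K n → F) (j : Fin n) : BF x (eV j) = x (Sum.inr j) :=
  sympForm_single_inl x j

theorem BF_x_f (x : K n → F) (j : Fin n) : BF x (fV j) = - x (Sum.inl j) :=
  sympForm_single_inr x j

@[simp] theorem BF_ee (i j : Fin n) : BF (eV i : K n → F) (eV j) = 0 := by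
  rw [BF_x_e]; simp [eV]

@[simp] theorem BF_ff (i j : Fin n) : BF (fV i : K n → F) (fV j) = 0 := by
  rw [BF_x_f]; simp [fV]

theorem BF_ef (i j : Fin n) : BF (eV i : K n → F) (fV j) = if i = j then -1 else 0 := by
  rw [BF_x_f]
  by_cases h : i = j
  · subst h; simp [eV]
  · have : (Sum.inl j : K n) ≠ Sum.inl i := fun h' => h (Sum.inl.inj h').symm
    simp [eV, h, Pi.single_apply, this]

theorem BF_fe (i j : Fin n) : BF (fV i : K n → F) (eV j) = if i = j then 1 else 0 := by
  rw [BF_x_e]
  by_cases h : i = j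
  · subst h; simp [fV]
  · have : (Sum.inr j : K n) ≠ Sum.inr i := fun h' => h (Sum.inr.inj h').symm
    simp [fV, h, Pi.single_apply, this]

@[simp] theorem BF_ef_same (i : Fin n) : BF (eV i : K n → F) (fV i) = -1 := by
  rw [BF_ef, if_pos rfl]

@[simp] theorem BF_fe_same (i : Fin n) : BF (fV i : K n → F) (eV i) = 1 := by
  rw [BF_fe, if_pos rfl]

theorem BF_ef_ne {i j : Fin n} (h : i ≠ j) : BF (eV i : K n → F) (fV j) = 0 := by
  rw [BF_ef, if_neg h]

theorem BF_fe_ne {i j : Fin n} (h : i ≠ j) : BF (fV i : K n → F) (eV j) = 0 := by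
  rw [BF_fe, if_neg h]

theorem BF_add_left (u u' v : K n → F) : BF (u + u') v = BF u v + BF u' v :=
  sympForm_add_left n u u' v

theorem BF_add_right (u v v' : K n → F) : BF u (v + v') = BF u v + BF u v' :=
  sympForm_add_right n u v v'

theorem BF_sub_left (u u' v : K n → F) : BF (u - u') v = BF u v - BF u' v :=
  sympForm_sub_left u u' v

theorem BF_sub_right (u v v' : K n → F) : BF u (v - v') = BF u v - BF u v' :=
  sympForm_sub_right n u v v'

theorem BF_smul_left (a : F) (u v : K n → F) : BF (a • u) v = a * BF u v :=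
  sympForm_smul_left n a u v

theorem BF_smul_right (a : F) (u v : K n → F) : BF u (a • v) = a * BF u v :=
  sympForm_smul_right n a u v

theorem BF_neg_left (u v : K n → F) : BF (-u) v = - BF u v := by
  have := BF_smul_left (-1 : F) u v
  rwa [neg_one_smul, neg_one_mul] at this

theorem BF_neg_right (u v : K n → F) : BF u (-v) = - BF u v := by
  have := BF_smul_right (-1 : F) u v
  rwa [neg_one_smul, neg_one_mul] at this

@[simp] theorem BF_self (u : K n → F) : BF u u = 0 := sympForm_self n u

@[simp] theorem BF_zero_left (v : K n → F) : BF (0 : K n → F) v = 0 := sympForm_zero_left' v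

@[simp] theorem BF_zero_right (v : K n → F) : BF v (0 : K n → F) = 0 := sympForm_zero_right' v

theorem BF_swap (u v : K n → F) : BF u v = - BF v u := sympForm_swap n u v

/-- invariance of the form under the group -/
theorem BF_mulVec (g : Matrix.symplecticGroup (Fin n) F) (u v : K n → F) :
    BF ((g : Matrix (K n) (K n) F) *ᵥ u) ((g : Matrix (K n) (K n) F) *ᵥ v) = BF u v :=
  (mem_symplecticGroup_iff_sympForm n g.1).1 g.2 u v

/-! ### transvections -/

theorem tv_inv (v : K n → F) (c : F) : (tv n v c)⁻¹ = tv n v (-c) := by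
  rw [inv_eq_iff_mul_eq_one, tv_mul, add_neg_cancel, tv_zero_right]

theorem tv_neg_vec (v : K n → F) (c : F) : tv n (-v) c = tv n v c := by
  have := tv_smul (-1 : F) v c
  rw [neg_one_smul] at this
  rw [this]; congr 1; ring

theorem tv_zero_vec (c : F) : tv n (0 : K n → F) c = 1 := by
  apply Subtype.ext
  rw [Matrix.ext_iff_mulVec]
  intro x
  rw [tv_mulVec]
  simp

theorem mulVec_inv_mulVec (g : Matrix.symplecticGroup (Fin n) F) (v : K n → F) :
    ((g⁻¹ : Matrix.symplecticGroup (Fin n) F) : Matrix (K n) (K n) F) *ᵥ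
      ((g : Matrix (K n) (K n) F) *ᵥ v) = v := by
  rw [Matrix.mulVec_mulVec, ← Submonoid.coe_mul, inv_mul_cancel]
  simp

theorem mulVec_mulVec_inv (g : Matrix.symplecticGroup (Fin n) F) (v : K n → F) :
    (g : Matrix (K n) (K n) F) *ᵥ
      (((g⁻¹ : Matrix.symplecticGroup (Fin n) F) : Matrix (K n) (K n) F) *ᵥ v) = v := by
  rw [Matrix.mulVec_mulVec, ← Submonoid.coe_mul, mul_inv_cancel]
  simp

theorem coe_mul_mulVec (g h : Matrix.symplecticGroup (Fin n) F) (v : K n → F) :
    ((g * h : Matrix.symplecticGroup (Fin n) F) : Matrix (K n) (K n) F) *ᵥ v =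
      (g : Matrix (K n) (K n) F) *ᵥ ((h : Matrix (K n) (K n) F) *ᵥ v) := by
  rw [Submonoid.coe_mul, Matrix.mulVec_mulVec]

theorem tv_mulVec' (v : K n → F) (c : F) (x : K n → F) :
    ((tv n v c : Matrix.symplecticGroup (Fin n) F) : Matrix (K n) (K n) F) *ᵥ x =
      x + (c * BF x v) • v := tv_mulVec n v c x

/-- two group elements are equal when they agree on all vectors -/
theorem sp_ext {g h : Matrix.symplecticGroup (Fin n) F}
    (hgh : ∀ x : K n → F, (g : Matrix (K n) (K n) F) *ᵥ x = (h : Matrix (K n) (K n) F) *ᵥ x) :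
    g = h := by
  apply Subtype.ext
  rw [Matrix.ext_iff_mulVec]
  exact hgh

variable {H : Subgroup (Matrix.symplecticGroup (Fin n) F)}

/-- invariance of `{v | tv v c ∈ H}` under `H` -/
theorem tv_mem_of_mulVec {g : Matrix.symplecticGroup (Fin n) F} (hg : g ∈ H) {v : K n → F} {c : F}
    (hv : tv n v c ∈ H) : tv n ((g : Matrix (K n) (K n) F) *ᵥ v) c ∈ H := by
  rw [← conj_tv]
  exact mul_mem (mul_mem hg hv) (inv_mem hg)

theorem tv_mem_of_mulVec_eq {g : Matrix.symplecticGroup (Fin n) F} (hg : g ∈ H) {v w : K n → F}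
    {c : F} (hv : tv n v c ∈ H) (hgv : (g : Matrix (K n) (K n) F) *ᵥ v = w) : tv n w c ∈ H := by
  rw [← hgv]; exact tv_mem_of_mulVec hg hv

/-- pulling back along a group element -/
theorem tv_mem_of_mulVec_eq' {g : Matrix.symplecticGroup (Fin n) F} (hg : g ∈ H) {v w : K n → F}
    {c : F} (hw : tv n w c ∈ H) (hgv : (g : Matrix (K n) (K n) F) *ᵥ v = w) : tv n v c ∈ H := by
  have h1 := tv_mem_of_mulVec (inv_mem hg) hw
  rwa [← hgv, mulVec_inv_mulVec] at h1

theorem tv_neg_mem {v : K n → F} {c : F} (hv : tv n v c ∈ H) : tv n v (-c) ∈ H := by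
  rw [← tv_inv]; exact inv_mem hv

theorem tv_negvec_mem {v : K n → F} {c : F} (hv : tv n v c ∈ H) : tv n (-v) c ∈ H := by
  rw [tv_neg_vec]; exact hv

theorem tv_add_mem {v : K n → F} {c d : F} (hc : tv n v c ∈ H) (hd : tv n v d ∈ H) :
    tv n v (c + d) ∈ H := by
  rw [← tv_mul]; exact mul_mem hc hd

/-- the general move: apply a transvection of `H` to a vector -/
theorem move_gen {v w : K n → F} {c t : F} (hv : tv n v c ∈ H) (hw : tv n w t ∈ H) :
    tv n (w + (c * BF w v) • v) t ∈ H := by
  have := tv_mem_of_mulVec hv hw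
  rwa [tv_mulVec'] at this

/-- move with form value `1` -/
theorem move_one {v w : K n → F} {t : F} (hv : tv n v 1 ∈ H) (hw : tv n w t ∈ H)
    (hB : BF w v = 1) : tv n (w + v) t ∈ H ∧ tv n (w - v) t ∈ H := by
  constructor
  · have := move_gen hv hw
    rwa [hB, mul_one, one_smul] at this
  · have := move_gen (tv_neg_mem hv) hw
    rwa [hB, mul_one, neg_one_smul, ← sub_eq_add_neg] at this

/-- move with form value `-1` -/
theorem move_neg_one {v w : K n → F} {t : F} (hv : tv n v 1 ∈ H) (hw : tv n w t ∈ H)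
    (hB : BF w v = -1) : tv n (w + v) t ∈ H ∧ tv n (w - v) t ∈ H := by
  constructor
  · have := move_gen (tv_neg_mem hv) hw
    rwa [hB, neg_mul_neg, mul_one, one_smul] at this
  · have := move_gen hv hw
    rwa [hB, one_mul, neg_one_smul, ← sub_eq_add_neg] at this

/-- move with form value `±1` -/
theorem move_pm {v w : K n → F} {t : F} (hv : tv n v 1 ∈ H) (hw : tv n w t ∈ H)
    (hB : BF w v = 1 ∨ BF w v = -1) : tv n (w + v) t ∈ H ∧ tv n (w - v) t ∈ H := by
  rcases hB with hB | hB
  · exact move_one hv hw hB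
  · exact move_neg_one hv hw hB

end Cfsg.Agent.Lib.H9.SpG
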