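import Mathlib
import Cfsg.Agent.Lib.H9.SpGA

set_option autoImplicit false
set_option linter.unusedSectionVars false
set_option linter.unusedVariables false

/-!
# Generation of `Sp_{2n}(F)`: the calculus relative to the hyperbolic pair `e₀, f₀`
-/

namespace Cfsg.Agent.Lib.H9.SpG

open Matrix Cfsg.Agent.Lib.H4 Cfsg.Agent.Lib.H2.Sp

variable {F : Type*} [Field F] {m : ℕ}

attribute [local simp] BF_add_left BF_add_right BF_sub_left BF_sub_right BF_neg_left BF_neg_right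
  BF_smul_left BF_smul_right

/-- a move, with the target vector normalised -/
theorem move_to {H : Subgroup (Matrix.symplecticGroup (Fin m) F)} {v w u : K m → F} {t : F}
    (hv : tv m v 1 ∈ H) (hw : tv m w t ∈ H) (hB : BF w v = 1 ∨ BF w v = -1)
    (hu : u = w + v ∨ u = w - v) : tv m u t ∈ H := by
  rcases hu with rfl | rfl
  · exact (move_pm hv hw hB).1
  · exact (move_pm hv hw hB).2

theorem tv_congr {H : Subgroup (Matrix.symplecticGroup (Fin m) F)} {v w : K m → F} {t : F}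
    (h : v = w) (hv : tv m v t ∈ H) : tv m w t ∈ H := h ▸ hv

variable {H : Subgroup (Matrix.symplecticGroup (Fin (m + 1)) F)}

/-- `v` is orthogonal to `e₀, f₀` and the transvection along `e₀ + v` is in `H` -/
structure LamP (H : Subgroup (Matrix.symplecticGroup (Fin (m + 1)) F)) (v : K (m + 1) → F) :
    Prop where
  mem : tv (m + 1) (eV 0 + v) 1 ∈ H
  pe : BF v (eV 0) = 0
  pf : BF v (fV 0) = 0

section lam

variable (he0 : tv (m + 1) (eV 0 : K (m + 1) → F) 1 ∈ H)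
  (hf0 : tv (m + 1) (fV 0 : K (m + 1) → F) 1 ∈ H)

include he0 hf0

theorem LamP.zero : LamP H (0 : K (m + 1) → F) :=
  ⟨by rw [add_zero]; exact he0, by simp, by simp⟩

theorem LamP.toF {v : K (m + 1) → F} (h : LamP H v) : tv (m + 1) (fV 0 + v) 1 ∈ H := by
  have h1 : tv (m + 1) (eV 0 + v + fV 0) 1 ∈ H :=
    move_to hf0 h.mem (Or.inr (by simp [h.pf])) (Or.inl rfl)
  exact move_to he0 h1 (Or.inl (by simp [h.pe])) (Or.inr (by abel))

theorem LamP.ofF {v : K (m + 1) → F} (h : tv (m + 1) (fV 0 + v) 1 ∈ H) (pe : BF v (eV 0) = 0)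
    (pf : BF v (fV 0) = 0) : LamP H v := by
  refine ⟨?_, pe, pf⟩
  have h1 : tv (m + 1) (fV 0 + v + eV 0) 1 ∈ H :=
    move_to he0 h (Or.inl (by simp [pe])) (Or.inl rfl)
  exact move_to hf0 h1 (Or.inr (by simp [pf])) (Or.inr (by abel))

theorem LamP.neg {v : K (m + 1) → F} (h : LamP H v) : LamP H (-v) := by
  have h0 : tv (m + 1) (-(eV 0 + v)) 1 ∈ H := tv_negvec_mem h.mem
  have h1 : tv (m + 1) (-(eV 0 + v) + fV 0) 1 ∈ H :=
    move_to hf0 h0 (Or.inl (by simp [h.pf])) (Or.inl rfl)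
  have h2 : tv (m + 1) (fV 0 + -v) 1 ∈ H :=
    move_to he0 h1 (Or.inl (by simp [h.pe])) (Or.inl (by abel))
  exact LamP.ofF he0 hf0 h2 (by simp [h.pe]) (by simp [h.pf])

/-- from `-e₀ + v` -/
theorem LamP.ofNeg {v : K (m + 1) → F} (h : tv (m + 1) (-eV 0 + v) 1 ∈ H) (pe : BF v (eV 0) = 0)
    (pf : BF v (fV 0) = 0) : LamP H v := by
  have h1 : LamP H (-v) := by
    refine ⟨?_, by simp [pe], by simp [pf]⟩
    have := tv_negvec_mem h
    exact tv_congr (by abel) this
  have := h1.neg he0 hf0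
  rwa [neg_neg] at this

theorem LamP.add {v v' : K (m + 1) → F} (h : LamP H v) (h' : LamP H v') (hB : BF v v' = 0) :
    LamP H (v + v') := by
  refine ⟨?_, by simp [h.pe, h'.pe], by simp [h.pf, h'.pf]⟩
  have hF := h'.toF he0 hf0
  have h1 : BF (eV 0 : K (m + 1) → F) v' = 0 := by rw [BF_swap, h'.pe, neg_zero]
  have h2 : tv (m + 1) (eV 0 + v + (fV 0 + v')) 1 ∈ H :=
    move_to hF h.mem (Or.inr (by simp [h.pf, hB, h1])) (Or.inl rfl)
  exact move_to hf0 h2 (Or.inr (by simp [h.pf, h'.pf])) (Or.inr (by abel))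

theorem LamP.sub {v v' : K (m + 1) → F} (h : LamP H v) (h' : LamP H v') (hB : BF v v' = 0) :
    LamP H (v - v') := by
  rw [sub_eq_add_neg]
  exact h.add he0 hf0 (h'.neg he0 hf0) (by simp [hB])

omit hf0 in
/-- two members that pair to `±1` have their difference in `Ω₁` -/
theorem LamP.diff {v v' : K (m + 1) → F} (h : LamP H v) (h' : LamP H v')
    (hB : BF v v' = 1 ∨ BF v v' = -1) : tv (m + 1) (v - v') 1 ∈ H := by
  have h1 : BF (eV 0 : K (m + 1) → F) v' = 0 := by rw [BF_swap, h'.pe, neg_zero]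
  refine move_to h'.mem h.mem ?_ (Or.inr (by abel))
  simpa [h1, h.pe] using hB

omit he0 hf0 in
theorem LamP.move {v w : K (m + 1) → F} (h : LamP H v) (hw : tv (m + 1) w 1 ∈ H)
    (pe : BF w (eV 0) = 0) (pf : BF w (fV 0) = 0) (hB : BF v w = 1 ∨ BF v w = -1) :
    LamP H (v + w) ∧ LamP H (v - w) := by
  have h1 : BF (eV 0 : K (m + 1) → F) w = 0 := by rw [BF_swap, pe, neg_zero]
  have hB' : BF (eV 0 + v) w = 1 ∨ BF (eV 0 + v) w = -1 := by simpa [h1] using hB
  exact ⟨⟨move_to hw h.mem hB' (Or.inl (by abel)), by simp [h.pe, pe], by simp [h.pf, pf]⟩,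
    ⟨move_to hw h.mem hB' (Or.inr (by abel)), by simp [h.pe, pe], by simp [h.pf, pf]⟩⟩

omit hf0 in
/-- propagation: a member pairing to `±1` with a member in `Ω₁` is in `Ω₁` -/
theorem LamP.prop {v w : K (m + 1) → F} (h : LamP H v) (h' : LamP H w)
    (hw : tv (m + 1) w 1 ∈ H) (hB : BF v w = 1 ∨ BF v w = -1) : tv (m + 1) v 1 ∈ H := by
  have h1 := (h.move hw h'.pe h'.pf hB).1
  have h2 := h1.diff he0 h' (by simpa using hB)
  exact tv_congr (by abel) h2

end lam

end Cfsg.Agent.Lib.H9.SpG
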