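import Mathlib
import Cfsg.Agent.Lib.H9.SpGB

set_option autoImplicit false
set_option linter.unusedSectionVars false
set_option linter.unusedVariables false

/-!
# Generation of `Sp_{2n}(F)`: splitting the three generators
-/

namespace Cfsg.Agent.Lib.H9.SpG

open Matrix Cfsg.Agent.Lib.H4 Cfsg.Agent.Lib.H2.Sp

variable {F : Type*} [Field F] {m : ℕ}

attribute [local simp] BF_add_left BF_add_right BF_sub_left BF_sub_right BF_neg_left BF_neg_right
  BF_smul_left BF_smul_right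

/-- the data of the three generators -/
structure Setup (H : Subgroup (Matrix.symplecticGroup (Fin (m + 1)) F))
    (ix : Matrix.symplecticGroup (Fin (m + 1)) F) (r : F) : Prop where
  ix_e0 : ix.1 *ᵥ (eV 0 : K (m + 1) → F) = eV 0
  ix_e : ∀ j : Fin m, ix.1 *ᵥ (eV j.succ : K (m + 1) → F) = eV j.succ + eV j.castSucc
  ixi_f : ∀ j : Fin m, (ix⁻¹).1 *ᵥ (fV j.castSucc : K (m + 1) → F) = fV j.castSucc + fV j.succ
  ixi_fl : (ix⁻¹).1 *ᵥ (fV (Fin.last m) : K (m + 1) → F) = fV (Fin.last m)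
  hu : tv (m + 1) (eV (Fin.last m)) 1 * ix ∈ H
  hy : tv (m + 1) (eV (Fin.last m)) 1 * ix * tv (m + 1) (eV 0) 1 ∈ H
  hz : tv (m + 1) (fV 0) 1 * (ix⁻¹ * tv (m + 1) (fV (Fin.last m)) r) ∈ H

variable {H : Subgroup (Matrix.symplecticGroup (Fin (m + 1)) F)}
  {ix : Matrix.symplecticGroup (Fin (m + 1)) F} {r : F}

theorem last_ne_zero' (hm : 1 ≤ m) : (Fin.last m) ≠ 0 := by
  intro h
  have := congrArg Fin.val h
  simp at this
  omega

theorem Setup.he0 (S : Setup H ix r) : tv (m + 1) (eV 0 : K (m + 1) → F) 1 ∈ H := by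
  have := mul_mem (inv_mem S.hu) S.hy
  rwa [← mul_assoc, inv_mul_cancel, one_mul] at this

theorem Setup.ixi_e0 (S : Setup H ix r) : (ix⁻¹).1 *ᵥ (eV 0 : K (m + 1) → F) = eV 0 := by
  have := mulVec_inv_mulVec ix (eV 0 : K (m + 1) → F)
  rwa [S.ix_e0] at this

theorem Setup.ix_fl (S : Setup H ix r) :
    ix.1 *ᵥ (fV (Fin.last m) : K (m + 1) → F) = fV (Fin.last m) := by
  have := mulVec_mulVec_inv ix (fV (Fin.last m) : K (m + 1) → F)
  rwa [S.ixi_fl] at this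

theorem Setup.hf0 (S : Setup H ix r) (hm : 1 ≤ m) :
    tv (m + 1) (fV 0 : K (m + 1) → F) 1 ∈ H := by
  have h0l : (0 : Fin (m + 1)) ≠ Fin.last m := (last_ne_zero' hm).symm
  have h1 : (tv (m + 1) (fV 0) 1 * (ix⁻¹ * tv (m + 1) (fV (Fin.last m)) r)).1 *ᵥ
      (eV 0 : K (m + 1) → F) = eV 0 - fV 0 := by
    rw [coe_mul_mulVec, coe_mul_mulVec, tv_mulVec' (fV (Fin.last m)), BF_ef_ne h0l, mul_zero,
      zero_smul, add_zero, S.ixi_e0, tv_mulVec', BF_ef_same, mul_neg, mul_one, neg_one_smul,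
      sub_eq_add_neg]
  have h2 : tv (m + 1) (eV 0 - fV 0 : K (m + 1) → F) 1 ∈ H :=
    tv_mem_of_mulVec_eq S.hz S.he0 h1
  have h3 : tv (m + 1) (-fV 0 : K (m + 1) → F) 1 ∈ H :=
    move_to S.he0 h2 (Or.inr (by simp)) (Or.inr (by abel))
  rwa [tv_neg_vec] at h3

/-- the element `A = ι(x)⁻¹ T_{f_m}(r)` -/
theorem Setup.hA (S : Setup H ix r) (hm : 1 ≤ m) :
    ix⁻¹ * tv (m + 1) (fV (Fin.last m)) r ∈ H := by
  have := mul_mem (inv_mem (S.hf0 hm)) S.hz
  rwa [← mul_assoc, inv_mul_cancel, one_mul] at this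

theorem Setup.A_f (S : Setup H ix r) (j : Fin m) :
    (ix⁻¹ * tv (m + 1) (fV (Fin.last m)) r).1 *ᵥ (fV j.castSucc : K (m + 1) → F) =
      fV j.castSucc + fV j.succ := by
  rw [coe_mul_mulVec, tv_mulVec', BF_ff, mul_zero, zero_smul, add_zero, S.ixi_f]

theorem Setup.A_e0 (S : Setup H ix r) (hm : 1 ≤ m) :
    (ix⁻¹ * tv (m + 1) (fV (Fin.last m)) r).1 *ᵥ (eV 0 : K (m + 1) → F) = eV 0 := by
  have h0l : (0 : Fin (m + 1)) ≠ Fin.last m := (last_ne_zero' hm).symm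
  rw [coe_mul_mulVec, tv_mulVec', BF_ef_ne h0l, mul_zero, zero_smul, add_zero, S.ixi_e0]

/-- all `f_i`, `i ≠ 0`, are in `Λ` -/
theorem Setup.lam_f (S : Setup H ix r) (hm : 1 ≤ m) (i : Fin (m + 1)) (hi : i ≠ 0) :
    LamP H (fV i : K (m + 1) → F) := by
  have he0 := S.he0
  have hf0 := S.hf0 hm
  induction i using Fin.induction with
  | zero => exact absurd rfl hi
  | succ j ih =>
    have hs0 : j.succ ≠ 0 := Fin.succ_ne_zero j
    have hpe : BF (fV j.succ : K (m + 1) → F) (eV 0) = 0 := BF_fe_ne hs0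
    have hpf : BF (fV j.succ : K (m + 1) → F) (fV 0) = 0 := BF_ff _ _
    by_cases hj : j.castSucc = 0
    · -- base case
      have h1 : tv (m + 1) (fV j.castSucc + fV j.succ : K (m + 1) → F) 1 ∈ H := by
        refine tv_mem_of_mulVec_eq (S.hA hm) ?_ (S.A_f j)
        rw [hj]; exact hf0
      rw [hj] at h1
      exact LamP.ofF he0 hf0 h1 hpe hpf
    · have h1 := ih hj
      have h2 : (ix⁻¹ * tv (m + 1) (fV (Fin.last m)) r).1 *ᵥ
          (eV 0 + fV j.castSucc : K (m + 1) → F) = eV 0 + (fV j.castSucc + fV j.succ) := by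
        rw [Matrix.mulVec_add, S.A_e0 hm, S.A_f]
      have h3 : LamP H (fV j.castSucc + fV j.succ : K (m + 1) → F) :=
        ⟨tv_mem_of_mulVec_eq (S.hA hm) h1.mem h2, by simp [h1.pe, hpe], by simp⟩
      have h4 := h3.sub he0 hf0 h1 (by simp)
      exact ⟨tv_congr (by abel) h4.mem, hpe, hpf⟩

theorem Setup.hel (S : Setup H ix r) (hm : 1 ≤ m) :
    tv (m + 1) (eV (Fin.last m) : K (m + 1) → F) 1 ∈ H := by
  have hl0 : (Fin.last m) ≠ 0 := last_ne_zero' hm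
  have h1 := (S.lam_f hm (Fin.last m) hl0).mem
  have h2 : (tv (m + 1) (eV (Fin.last m)) 1 * ix).1 *ᵥ
      (eV 0 + fV (Fin.last m) : K (m + 1) → F) = eV 0 + fV (Fin.last m) + eV (Fin.last m) := by
    rw [coe_mul_mulVec, Matrix.mulVec_add, S.ix_e0, S.ix_fl, tv_mulVec']
    simp [BF_ef_ne hl0.symm]
  have h3 := tv_mem_of_mulVec_eq S.hu h1 h2
  exact move_to h1 h3 (Or.inr (by simp [BF_ef_ne hl0.symm, BF_fe_ne hl0])) (Or.inr (by abel))

theorem Setup.hix (S : Setup H ix r) (hm : 1 ≤ m) : ix ∈ H := by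
  have := mul_mem (inv_mem (S.hel hm)) S.hu
  rwa [← mul_assoc, inv_mul_cancel, one_mul] at this

theorem Setup.hfl (S : Setup H ix r) (hm : 1 ≤ m) :
    tv (m + 1) (fV (Fin.last m) : K (m + 1) → F) r ∈ H := by
  have := mul_mem (S.hix hm) (S.hA hm)
  rwa [← mul_assoc, mul_inv_cancel, one_mul] at this

end Cfsg.Agent.Lib.H9.SpG
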