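import Mathlib
import Cfsg.Agent.Lib.H9.SpGC

set_option autoImplicit false
set_option linter.unusedSectionVars false
set_option linter.unusedVariables false

/-!
# Generation of `Sp_{2n}(F)`: the prime field stage
-/

namespace Cfsg.Agent.Lib.H9.SpG

open Matrix Cfsg.Agent.Lib.H4 Cfsg.Agent.Lib.H2.Sp

variable {F : Type*} [Field F] {m : ℕ}

attribute [local simp] BF_add_left BF_add_right BF_sub_left BF_sub_right BF_neg_left BF_neg_right
  BF_smul_left BF_smul_right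

variable {H : Subgroup (Matrix.symplecticGroup (Fin (m + 1)) F)}
  {ix : Matrix.symplecticGroup (Fin (m + 1)) F} {r : F}

/-- `e_i ∈ Λ` for `0 < i < m` -/
theorem Setup.lam_e_mid (S : Setup H ix r) (hm : 1 ≤ m) (i : Fin (m + 1)) (hi0 : i ≠ 0)
    (hil : i ≠ Fin.last m) : LamP H (eV i : K (m + 1) → F) := by
  have he0 := S.he0
  have hf0 := S.hf0 hm
  have hix := S.hix hm
  have hl0 : Fin.last m ≠ 0 := last_ne_zero' hm
  induction i using Fin.reverseInduction with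
  | last => exact absurd rfl hil
  | cast j ih =>
    have hcs : j.castSucc ≠ j.succ := Fin.castSucc_lt_succ.ne
    have hs0 : j.succ ≠ 0 := Fin.succ_ne_zero j
    by_cases hjl : j.succ = Fin.last m
    · have hel : tv (m + 1) (eV (Fin.last m) : K (m + 1) → F) 1 ∈ H := S.hel hm
      have hsum : tv (m + 1) (eV (Fin.last m) + eV j.castSucc : K (m + 1) → F) 1 ∈ H := by
        have := tv_mem_of_mulVec_eq hix (hjl ▸ hel) (S.ix_e j)
        rwa [hjl] at this
      have Lf := S.lam_f hm (Fin.last m) hl0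
      have hcl : j.castSucc ≠ Fin.last m := Fin.castSucc_ne_last j
      have L1 := (Lf.move hel (BF_ee _ _) (BF_ef_ne hl0) (Or.inl (BF_fe_same _))).1
      have L2 := (Lf.move hsum (by simp) (by simp [BF_ef_ne hl0, BF_ef_ne hi0])
        (Or.inl (by simp [BF_fe_ne hcl.symm]))).1
      have L3 := L2.sub he0 hf0 L1 (by simp [BF_ef_ne hcl])
      exact ⟨tv_congr (by abel) L3.mem, BF_ee _ _, BF_ef_ne hi0⟩
    · have L := ih hs0 hjl
      have h2 : ix.1 *ᵥ (eV 0 + eV j.succ : K (m + 1) → F) = eV 0 + (eV j.succ + eV j.castSucc) := by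
        rw [Matrix.mulVec_add, S.ix_e0, S.ix_e]
      have L2 : LamP H (eV j.succ + eV j.castSucc : K (m + 1) → F) :=
        ⟨tv_mem_of_mulVec_eq hix L.mem h2, by simp, by simp [BF_ef_ne hs0, BF_ef_ne hi0]⟩
      have L3 := L2.sub he0 hf0 L (by simp)
      exact ⟨tv_congr (by abel) L3.mem, BF_ee _ _, BF_ef_ne hi0⟩

theorem Lag_eV (i : Fin (m + 1)) : Lag (eV i : K (m + 1) → F) := Lag.single i 1

/-- preimages under `ι(x)` of the `e_j` -/
theorem Setup.pre (S : Setup H ix r) (hm : 1 ≤ m) (i : Fin (m + 1)) (hil : i ≠ Fin.last m) :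
    ∃ (w : K (m + 1) → F) (ε : F), (ε = 1 ∨ ε = -1) ∧ ix.1 *ᵥ (ε • eV 0 + w) = eV i ∧
      LamP H w ∧ Lag w := by
  have he0 := S.he0
  have hf0 := S.hf0 hm
  induction i using Fin.induction with
  | zero =>
    exact ⟨0, 1, Or.inl rfl, by rw [one_smul, add_zero, S.ix_e0], LamP.zero he0 hf0, Lag.zero⟩
  | succ j ih =>
    obtain ⟨w, ε, hε, hw, Lw, Lagw⟩ := ih (Fin.castSucc_ne_last j)
    have hs0 : j.succ ≠ 0 := Fin.succ_ne_zero j
    refine ⟨eV j.succ - w, -ε, ?_, ?_, ?_, (Lag_eV _).sub Lagw⟩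
    · rcases hε with h | h
      · right; rw [h]
      · left; rw [h, neg_neg]
    · have : (-ε) • (eV 0 : K (m + 1) → F) + (eV j.succ - w) = eV j.succ - (ε • eV 0 + w) := by
        rw [neg_smul]; abel
      rw [this, Matrix.mulVec_sub, hw, S.ix_e]
      abel
    · exact (S.lam_e_mid hm j.succ hs0 hil).sub he0 hf0 Lw (sympForm_Lag _ _ (Lag_eV _) Lagw)

/-- `e_m ∈ Λ` -/
theorem Setup.lam_e_last (S : Setup H ix r) (hm : 1 ≤ m) :
    LamP H (eV (Fin.last m) : K (m + 1) → F) := by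
  have he0 := S.he0
  have hf0 := S.hf0 hm
  have hix := S.hix hm
  have hl0 : Fin.last m ≠ 0 := last_ne_zero' hm
  obtain ⟨j, hj⟩ : ∃ j : Fin m, j.succ = Fin.last m := Fin.exists_succ_eq.2 hl0
  obtain ⟨w, ε, hε, hw, Lw, Lagw⟩ := S.pre hm j.castSucc (Fin.castSucc_ne_last j)
  have h1 : ix.1 *ᵥ ((-ε) • (eV 0 : K (m + 1) → F) + (eV (Fin.last m) - w)) = eV (Fin.last m) := by
    have : (-ε) • (eV 0 : K (m + 1) → F) + (eV (Fin.last m) - w) =
        eV j.succ - (ε • eV 0 + w) := by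
      rw [neg_smul, hj]; abel
    rw [this, Matrix.mulVec_sub, hw, S.ix_e, hj]
    abel
  have h2 : tv (m + 1) ((-ε) • (eV 0 : K (m + 1) → F) + (eV (Fin.last m) - w)) 1 ∈ H :=
    tv_mem_of_mulVec_eq' hix (S.hel hm) h1
  have pe : BF (eV (Fin.last m) - w) (eV 0) = 0 := by simp [Lw.pe]
  have pf : BF (eV (Fin.last m) - w) (fV 0) = 0 := by simp [Lw.pf, BF_ef_ne hl0]
  have L1 : LamP H (eV (Fin.last m) - w) := by
    rcases hε with h | h
    · rw [h, neg_one_smul] at h2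
      exact LamP.ofNeg he0 hf0 h2 pe pf
    · rw [h, neg_neg, one_smul] at h2
      exact ⟨h2, pe, pf⟩
  have L2 := L1.add he0 hf0 Lw (by
    have := sympForm_Lag _ _ (Lag_eV (Fin.last m)) Lagw
    simp [this])
  exact ⟨tv_congr (by abel) L2.mem, BF_ee _ _, BF_ef_ne hl0⟩

theorem Setup.lam_e (S : Setup H ix r) (hm : 1 ≤ m) (i : Fin (m + 1)) (hi0 : i ≠ 0) :
    LamP H (eV i : K (m + 1) → F) := by
  by_cases hil : i = Fin.last m
  · rw [hil]; exact S.lam_e_last hm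
  · exact S.lam_e_mid hm i hi0 hil

/-- the prime field stage: all `T_{e_i}(1)`, `T_{f_i}(1)` are in `H` -/
theorem Setup.prime (S : Setup H ix r) (hm : 1 ≤ m) (i : Fin (m + 1)) :
    tv (m + 1) (eV i : K (m + 1) → F) 1 ∈ H ∧ tv (m + 1) (fV i : K (m + 1) → F) 1 ∈ H := by
  have he0 := S.he0
  have hf0 := S.hf0 hm
  have hix := S.hix hm
  have hl0 : Fin.last m ≠ 0 := last_ne_zero' hm
  induction i using Fin.reverseInduction with
  | last =>
    exact ⟨S.hel hm, (S.lam_f hm _ hl0).prop he0 (S.lam_e hm _ hl0) (S.hel hm)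
      (Or.inl (BF_fe_same _))⟩
  | cast j ih =>
    by_cases hj0 : j.castSucc = 0
    · rw [hj0]; exact ⟨he0, hf0⟩
    · have hcs : j.castSucc ≠ j.succ := Fin.castSucc_lt_succ.ne
      have hs0 : j.succ ≠ 0 := Fin.succ_ne_zero j
      have hsum : tv (m + 1) (eV j.succ + eV j.castSucc : K (m + 1) → F) 1 ∈ H :=
        tv_mem_of_mulVec_eq hix ih.1 (S.ix_e j)
      have Lsum := (S.lam_e hm _ hs0).add he0 hf0 (S.lam_e hm _ hj0) (BF_ee _ _)
      have hf : tv (m + 1) (fV j.castSucc : K (m + 1) → F) 1 ∈ H :=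
        (S.lam_f hm _ hj0).prop he0 Lsum hsum (Or.inl (by simp [BF_fe_ne hcs]))
      have he : tv (m + 1) (eV j.castSucc : K (m + 1) → F) 1 ∈ H :=
        (S.lam_e hm _ hj0).prop he0 (S.lam_f hm _ hj0) hf (Or.inr (BF_ef_same _))
      exact ⟨he, hf⟩

theorem Setup.adj (S : Setup H ix r) (hm : 1 ≤ m) (j : Fin m) :
    tv (m + 1) (eV j.succ + eV j.castSucc : K (m + 1) → F) 1 ∈ H :=
  tv_mem_of_mulVec_eq (S.hix hm) (S.prime hm j.succ).1 (S.ix_e j)

end Cfsg.Agent.Lib.H9.SpG
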