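import Mathlib
import Cfsg.Agent.Lib.H9.SpGB

set_option autoImplicit false
set_option linter.unusedSectionVars false
set_option linter.unusedVariables false

/-!
# Generation of `Sp_{2n}(F)`: from the prime field to the whole field (rank two argument)
-/

namespace Cfsg.Agent.Lib.H9.SpG

open Matrix Cfsg.Agent.Lib.H4 Cfsg.Agent.Lib.H2.Sp

variable {F : Type*} [Field F] {n : ℕ}

attribute [local simp] BF_add_left BF_add_right BF_sub_left BF_sub_right BF_neg_left BF_neg_right
  BF_smul_left BF_smul_right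

variable {H : Subgroup (Matrix.symplecticGroup (Fin n) F)}

/-- the prime field root elements on two planes -/
structure Prime2 (H : Subgroup (Matrix.symplecticGroup (Fin n) F)) (i j : Fin n) : Prop where
  ei : tv n (eV i : K n → F) 1 ∈ H
  fi : tv n (fV i : K n → F) 1 ∈ H
  ej : tv n (eV j : K n → F) 1 ∈ H
  fj : tv n (fV j : K n → F) 1 ∈ H
  eij : tv n (eV i + eV j : K n → F) 1 ∈ H

/-- root elements with parameter `t` on two planes -/
structure Transfer (H : Subgroup (Matrix.symplecticGroup (Fin n) F)) (i j : Fin n) (t : F) :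
    Prop where
  ei : tv n (eV i : K n → F) t ∈ H
  ej : tv n (eV j : K n → F) t ∈ H
  fj : tv n (fV j : K n → F) t ∈ H
  fiej : tv n (fV i + eV j : K n → F) t ∈ H
  fifj : tv n (fV i + fV j : K n → F) t ∈ H
  eifj : tv n (eV i + fV j : K n → F) t ∈ H

theorem transfer {i j : Fin n} (P : Prime2 H i j) (hij : i ≠ j) {t : F}
    (hw : tv n (fV i : K n → F) t ∈ H) : Transfer H i j t := by
  have e1 := BF_fe_ne (F := F) hij
  have e2 := BF_fe_ne (F := F) hij.symm
  have e3 := BF_ef_ne (F := F) hij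
  have e4 := BF_ef_ne (F := F) hij.symm
  have p1 : tv n (fV i + eV i : K n → F) t ∈ H :=
    move_to P.ei hw (Or.inl (by simp)) (Or.inl rfl)
  have oei : tv n (eV i : K n → F) t ∈ H :=
    move_to P.fi p1 (Or.inr (by simp)) (Or.inr (by abel))
  have p3 : tv n (fV i + (eV i + eV j) : K n → F) t ∈ H :=
    move_to P.eij hw (Or.inl (by simp [e1])) (Or.inl rfl)
  have p4 : tv n (fV i + eV j : K n → F) t ∈ H :=
    move_to P.ei p3 (Or.inl (by simp)) (Or.inr (by abel))
  have p5 : tv n (fV i + eV j + fV j : K n → F) t ∈ H :=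
    move_to P.fj p4 (Or.inr (by simp)) (Or.inl rfl)
  have p6 : tv n (fV i + fV j : K n → F) t ∈ H :=
    move_to P.ej p5 (Or.inl (by simp [e1])) (Or.inr (by abel))
  have p7 : tv n (fV i + fV j + eV i : K n → F) t ∈ H :=
    move_to P.ei p6 (Or.inl (by simp [e2])) (Or.inl rfl)
  have p8 : tv n (eV i + fV j : K n → F) t ∈ H :=
    move_to P.fi p7 (Or.inr (by simp)) (Or.inr (by abel))
  have p9 : tv n (fV j - eV j : K n → F) t ∈ H :=
    move_to P.eij p8 (Or.inl (by simp [e2])) (Or.inr (by abel))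
  have ofj : tv n (fV j : K n → F) t ∈ H :=
    move_to P.ej p9 (Or.inl (by simp)) (Or.inl (by abel))
  have p11 : tv n (fV j + eV j : K n → F) t ∈ H :=
    move_to P.ej ofj (Or.inl (by simp)) (Or.inl rfl)
  have oej : tv n (eV j : K n → F) t ∈ H :=
    move_to P.fj p11 (Or.inr (by simp)) (Or.inr (by abel))
  exact ⟨oei, oej, ofj, p4, p6, p8⟩

/-- the root element attached to an orthogonal pair of vectors -/
def xel (v w : K n → F) (t : F) : Matrix.symplecticGroup (Fin n) F :=
  tv n (v + w) t * tv n v (-t) * tv n w (-t)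

theorem xel_mulVec {v w : K n → F} (hvw : BF v w = 0) (t : F) (x : K n → F) :
    (xel v w t).1 *ᵥ x = x + (t * BF x v) • w + (t * BF x w) • v := by
  have hwv : BF w v = 0 := by rw [BF_swap, hvw, neg_zero]
  unfold xel
  rw [coe_mul_mulVec, coe_mul_mulVec, tv_mulVec', tv_mulVec', tv_mulVec']
  simp only [BF_add_left, BF_add_right, BF_smul_left, hvw, hwv, BF_self]
  module

theorem xel_mem {v w : K n → F} {t : F} (h1 : tv n (v + w) t ∈ H) (h2 : tv n v t ∈ H)
    (h3 : tv n w t ∈ H) : xel v w t ∈ H :=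
  mul_mem (mul_mem h1 (tv_neg_mem h2)) (tv_neg_mem h3)

theorem tv_add_smul {v w : K n → F} (hvw : BF v w = 0) (a b : F) :
    tv n (v + a • w) b = tv n v b * tv n w (a ^ 2 * b) * xel v w (a * b) := by
  have hwv : BF w v = 0 := by rw [BF_swap, hvw, neg_zero]
  apply sp_ext
  intro x
  rw [coe_mul_mulVec, coe_mul_mulVec, xel_mulVec hvw, tv_mulVec', tv_mulVec', tv_mulVec']
  simp only [BF_add_left, BF_add_right, BF_smul_left, BF_smul_right, hvw, hwv, BF_self]
  module

/-- the multiplicativity step -/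
theorem mul_step {i j : Fin n} (hij : i ≠ j)
    (Tr : ∀ t : F, tv n (fV i : K n → F) t ∈ H → Transfer H i j t) {a b : F}
    (ha : tv n (fV i : K n → F) a ∈ H) (hb : tv n (fV i : K n → F) b ∈ H)
    (hab : tv n (fV i : K n → F) (a * b) ∈ H) : tv n (fV i : K n → F) (a ^ 2 * b) ∈ H := by
  have Ta := Tr a ha
  have Tb := Tr b hb
  have Tab := Tr (a * b) hab
  have e1 := BF_fe_ne (F := F) hij
  have e2 := BF_fe_ne (F := F) hij.symm
  have hX : xel (fV i : K n → F) (eV j) a ∈ H := xel_mem Ta.fiej ha Ta.ej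
  have hXf : (xel (fV i : K n → F) (eV j) a).1 *ᵥ (fV j : K n → F) = fV j + a • fV i := by
    rw [xel_mulVec e1]
    simp
  have h1 : tv n (fV j + a • fV i : K n → F) b ∈ H := tv_mem_of_mulVec_eq hX Tb.fj hXf
  rw [tv_add_smul (BF_ff j i)] at h1
  have h2 : xel (fV j : K n → F) (fV i) (a * b) ∈ H :=
    xel_mem (tv_congr (add_comm _ _) Tab.fifj) Tab.fj hab
  have h3 := mul_mem (mul_mem (inv_mem Tb.fj) h1) (inv_mem h2)
  have : (tv n (fV j : K n → F) b)⁻¹ * (tv n (fV j) b * tv n (fV i) (a ^ 2 * b) *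
      xel (fV j) (fV i) (a * b)) * (xel (fV j : K n → F) (fV i) (a * b))⁻¹ =
      tv n (fV i) (a ^ 2 * b) := by group
  rwa [this] at h3

/-- powers of `r` -/
theorem pow_mem_of_mul_step (S : Set F)
    (hmul : ∀ a b : F, a ∈ S → b ∈ S → a * b ∈ S → a ^ 2 * b ∈ S) (r : F) (hr : r ∈ S)
    (hr2 : r ^ 2 ∈ S) : ∀ k : ℕ, r ^ (k + 1) ∈ S ∧ r ^ (k + 2) ∈ S := by
  intro k
  induction k with
  | zero => exact ⟨by simpa using hr, by simpa using hr2⟩
  | succ k ih =>
    refine ⟨ih.2, ?_⟩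
    have := hmul r (r ^ (k + 1)) hr ih.1 (by rw [← pow_succ']; exact ih.2)
    have e : r ^ 2 * r ^ (k + 1) = r ^ (k + 1 + 2) := by ring
    rwa [e] at this

/-- the whole field from a generator -/
theorem all_of_generator [Fintype F] {i j : Fin n} (hij : i ≠ j)
    (Tr : ∀ t : F, tv n (fV i : K n → F) t ∈ H → Transfer H i j t) {r : F} (hr0 : r ≠ 0)
    (hgen : ∀ a : F, a ≠ 0 → ∃ k : ℕ, a = r ^ k) (hr : tv n (fV i : K n → F) r ∈ H)
    (hr2 : tv n (fV i : K n → F) (r ^ 2) ∈ H) (t : F) : tv n (fV i : K n → F) t ∈ H := by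
  have hP := pow_mem_of_mul_step {t : F | tv n (fV i : K n → F) t ∈ H}
    (fun a b ha hb hab => mul_step hij Tr ha hb hab) r hr hr2
  by_cases ht : t = 0
  · rw [ht, tv_zero_right]; exact one_mem _
  · obtain ⟨k, rfl⟩ := hgen t ht
    have hq : r ^ (Fintype.card F - 1) = 1 := FiniteField.pow_card_sub_one_eq_one r hr0
    have h2 : 2 ≤ Fintype.card F := Fintype.one_lt_card
    have : r ^ k = r ^ (k + (Fintype.card F - 2) + 1) := by
      rw [show k + (Fintype.card F - 2) + 1 = k + (Fintype.card F - 1) by omega, pow_add, hq,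
        mul_one]
    rw [this]
    exact (hP _).1

end Cfsg.Agent.Lib.H9.SpG
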