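import Mathlib
import Cfsg.Agent.Lib.H9.SpGE

set_option autoImplicit false
set_option linter.unusedSectionVars false
set_option linter.unusedVariables false

/-!
# Generation of `Sp_{2n}(F)`: a subgroup containing all standard root elements is everything
-/

namespace Cfsg.Agent.Lib.H9.SpG

open Matrix Cfsg.Agent.Lib.H4 Cfsg.Agent.Lib.H2.Sp

variable {F : Type*} [Field F] {m : ℕ}

attribute [local simp] BF_add_left BF_add_right BF_sub_left BF_sub_right BF_neg_left BF_neg_right
  BF_smul_left BF_smul_right

/-- all the standard root elements lie in `H` -/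
structure Full (H : Subgroup (Matrix.symplecticGroup (Fin (m + 1)) F)) : Prop where
  e : ∀ (i : Fin (m + 1)) (t : F), tv (m + 1) (eV i : K (m + 1) → F) t ∈ H
  f : ∀ (i : Fin (m + 1)) (t : F), tv (m + 1) (fV i : K (m + 1) → F) t ∈ H
  x1 : ∀ (j : Fin m) (t : F), tv (m + 1) (eV j.castSucc + fV j.succ : K (m + 1) → F) t ∈ H
  x2 : ∀ (j : Fin m) (t : F), tv (m + 1) (eV j.succ + fV j.castSucc : K (m + 1) → F) t ∈ H

/-- all transvections along `v` lie in `H` -/
def Om (H : Subgroup (Matrix.symplecticGroup (Fin (m + 1)) F)) (v : K (m + 1) → F) : Prop :=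
  ∀ t : F, tv (m + 1) v t ∈ H

variable {H : Subgroup (Matrix.symplecticGroup (Fin (m + 1)) F)}

theorem Om.add {v w : K (m + 1) → F} (hv : Om H v) (hw : Om H w) (hB : BF v w ≠ 0) :
    Om H (v + w) := by
  intro t
  have := move_gen (hw (BF v w)⁻¹) (hv t)
  rwa [inv_mul_cancel₀ hB, one_smul] at this

theorem Om.of_mulVec {g : Matrix.symplecticGroup (Fin (m + 1)) F} (hg : g ∈ H)
    {v w : K (m + 1) → F} (hw : Om H w) (h : g.1 *ᵥ v = w) : Om H v :=
  fun t => tv_mem_of_mulVec_eq' hg (hw t) h

theorem Om.smul {v : K (m + 1) → F} (hv : Om H v) (a : F) : Om H (a • v) := by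
  intro t
  rw [tv_smul]; exact hv _

theorem Full.X1 (hF : Full H) (j : Fin m) (t : F) :
    xel (eV j.castSucc : K (m + 1) → F) (fV j.succ) t ∈ H :=
  xel_mem (hF.x1 j t) (hF.e _ t) (hF.f _ t)

theorem Full.X2 (hF : Full H) (j : Fin m) (t : F) :
    xel (eV j.succ : K (m + 1) → F) (fV j.castSucc) t ∈ H :=
  xel_mem (hF.x2 j t) (hF.e _ t) (hF.f _ t)

theorem eV_inl (i j : Fin (m + 1)) : (eV i : K (m + 1) → F) (Sum.inl j) = if j = i then 1 else 0 := by
  unfold eV
  rw [Pi.single_apply]
  simp only [Sum.inl.injEq]

theorem eV_inr (i j : Fin (m + 1)) : (eV i : K (m + 1) → F) (Sum.inr j) = 0 := by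
  unfold eV
  rw [Pi.single_apply]
  simp

theorem fV_inr (i j : Fin (m + 1)) : (fV i : K (m + 1) → F) (Sum.inr j) = if j = i then 1 else 0 := by
  unfold fV
  rw [Pi.single_apply]
  simp only [Sum.inr.injEq]

theorem fV_inl (i j : Fin (m + 1)) : (fV i : K (m + 1) → F) (Sum.inl j) = 0 := by
  unfold fV
  rw [Pi.single_apply]
  simp

theorem lag_eV (i : Fin (m + 1)) : Lag (eV i : K (m + 1) → F) := Lag.single i 1

/-- vectors supported on the second Lagrangian -/
def Lag' (u : K (m + 1) → F) : Prop := ∀ i, u (Sum.inl i) = 0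

/-- the first Lagrangian -/
theorem Full.om_E (hF : Full H) (k : ℕ) : ∀ v : K (m + 1) → F, Lag v →
    (∀ j : Fin (m + 1), k < j.val → v (Sum.inl j) = 0) → v ≠ 0 → Om H v := by
  induction k with
  | zero =>
    intro v hL hs hv
    have : v = v (Sum.inl 0) • eV 0 := by
      ext x
      rcases x with j | j
      · rw [Pi.smul_apply, eV_inl, smul_eq_mul]
        by_cases hj : j = 0
        · rw [if_pos hj, hj, mul_one]
        · rw [if_neg hj, mul_zero]
          apply hs
          exact Nat.pos_of_ne_zero (fun h => hj (Fin.ext h))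
      · rw [Pi.smul_apply, eV_inr, smul_zero, hL j]
    rw [this]
    exact Om.smul (hF.e 0) _
  | succ k ih =>
    intro v hL hs hv
    by_cases hk : k < m
    · set j : Fin m := ⟨k, hk⟩ with hj
      have hjs : (j.succ : Fin (m + 1)).val = k + 1 := rfl
      have hjc : (j.castSucc : Fin (m + 1)).val = k := rfl
      have hcs : j.castSucc ≠ j.succ := Fin.castSucc_lt_succ.ne
      by_cases hc : v (Sum.inl j.succ) = 0
      · apply ih v hL _ hv
        intro j' hj'
        by_cases h' : j' = j.succ
        · rw [h']; exact hc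
        · apply hs
          have : j'.val ≠ k + 1 := fun h => h' (Fin.ext (by rw [h, hjs]))
          omega
      · set a := v (Sum.inl j.castSucc) with ha
        set c := v (Sum.inl j.succ) with hc'
        set v'' : K (m + 1) → F := v + (1 - a) • eV j.castSucc - c • eV j.succ with hv''
        have h1 : (xel (eV j.castSucc : K (m + 1) → F) (fV j.succ) ((a - 1) / c)).1 *ᵥ v =
            v + (1 - a) • eV j.castSucc := by
          rw [xel_mulVec (BF_ef_ne hcs), BF_x_e, BF_x_f, hL, mul_zero, zero_smul, add_zero,
            ← hc']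
          congr 1
          congr 1
          field_simp
          ring
        have h2 : (xel (eV j.succ : K (m + 1) → F) (fV j.castSucc) c).1 *ᵥ
            (v + (1 - a) • eV j.castSucc) = v'' := by
          rw [xel_mulVec (BF_ef_ne hcs.symm), BF_x_e, BF_x_f]
          simp only [Pi.add_apply, Pi.smul_apply, eV_inr, eV_inl, if_true, smul_eq_mul]
          rw [hv'', ← ha, hL j.succ]
          have : c * -(a + (1 - a) * 1) = -c := by ring
          rw [this]
          simp only [add_zero, mul_zero, zero_smul, neg_smul]
          abel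
        have hL'' : Lag v'' := (hL.add ((lag_eV _).smul _)).sub ((lag_eV _).smul _)
        have hs'' : ∀ j' : Fin (m + 1), k < j'.val → v'' (Sum.inl j') = 0 := by
          intro j' hj'
          rw [hv'']
          simp only [Pi.add_apply, Pi.sub_apply, Pi.smul_apply, eV_inl, smul_eq_mul]
          have h1' : j' ≠ j.castSucc := fun h => by rw [h, hjc] at hj'; omega
          rw [if_neg h1', mul_zero, add_zero]
          by_cases h' : j' = j.succ
          · rw [if_pos h', h', mul_one, sub_self]
          · rw [if_neg h', mul_zero, sub_zero]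
            apply hs
            have : j'.val ≠ k + 1 := fun h => h' (Fin.ext (by rw [h, hjs]))
            omega
        have hne : v'' ≠ 0 := by
          intro h
          have := congrFun h (Sum.inl j.castSucc)
          rw [hv''] at this
          simp only [Pi.add_apply, Pi.sub_apply, Pi.smul_apply, eV_inl, smul_eq_mul, if_true,
            if_neg hcs, Pi.zero_apply, mul_one, mul_zero, sub_zero, ← ha] at this
          have h3 : a + (1 - a) = (1 : F) := by ring
          rw [h3] at this
          exact one_ne_zero this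
        have h3 := ih v'' hL'' hs'' hne
        exact Om.of_mulVec (hF.X1 j _) (Om.of_mulVec (hF.X2 j _) h3 h2) h1
    · apply ih v hL _ hv
      intro j' _
      have := j'.2
      omega

end Cfsg.Agent.Lib.H9.SpG
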