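import Mathlib
import Cfsg.Agent.Lib.H9.SpGF

set_option autoImplicit false
set_option linter.unusedSectionVars false
set_option linter.unusedVariables false

/-!
# Generation of `Sp_{2n}(F)`: a subgroup containing all standard root elements is everything (end)
-/

namespace Cfsg.Agent.Lib.H9.SpG

open Matrix Cfsg.Agent.Lib.H4 Cfsg.Agent.Lib.H2.Sp

variable {F : Type*} [Field F] {m : ℕ}

attribute [local simp] BF_add_left BF_add_right BF_sub_left BF_sub_right BF_neg_left BF_neg_right
  BF_smul_left BF_smul_right

variable {H : Subgroup (Matrix.symplecticGroup (Fin (m + 1)) F)}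

theorem lag'_fV (i : Fin (m + 1)) : Lag' (fV i : K (m + 1) → F) := fun j => fV_inl i j

theorem Lag'.add {u w : K (m + 1) → F} (hu : Lag' u) (hw : Lag' w) : Lag' (u + w) := by
  intro i; rw [Pi.add_apply, hu i, hw i, add_zero]

theorem Lag'.sub {u w : K (m + 1) → F} (hu : Lag' u) (hw : Lag' w) : Lag' (u - w) := by
  intro i; rw [Pi.sub_apply, hu i, hw i, sub_zero]

theorem Lag'.smul {u : K (m + 1) → F} (a : F) (hu : Lag' u) : Lag' (a • u) := by
  intro i; rw [Pi.smul_apply, hu i, smul_zero]

/-- the second Lagrangian -/
theorem Full.om_F (hF : Full H) (k : ℕ) : ∀ v : K (m + 1) → F, Lag' v →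
    (∀ j : Fin (m + 1), k < j.val → v (Sum.inr j) = 0) → v ≠ 0 → Om H v := by
  induction k with
  | zero =>
    intro v hL hs hv
    have : v = v (Sum.inr 0) • fV 0 := by
      ext x
      rcases x with j | j
      · rw [Pi.smul_apply, fV_inl, smul_zero, hL j]
      · rw [Pi.smul_apply, fV_inr, smul_eq_mul]
        by_cases hj : j = 0
        · rw [if_pos hj, hj, mul_one]
        · rw [if_neg hj, mul_zero]
          apply hs
          exact Nat.pos_of_ne_zero (fun h => hj (Fin.ext h))
    rw [this]
    exact Om.smul (hF.f 0) _
  | succ k ih =>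
    intro v hL hs hv
    by_cases hk : k < m
    · set j : Fin m := ⟨k, hk⟩ with hj
      have hjs : (j.succ : Fin (m + 1)).val = k + 1 := rfl
      have hjc : (j.castSucc : Fin (m + 1)).val = k := rfl
      have hcs : j.castSucc ≠ j.succ := Fin.castSucc_lt_succ.ne
      by_cases hc : v (Sum.inr j.succ) = 0
      · apply ih v hL _ hv
        intro j' hj'
        by_cases h' : j' = j.succ
        · rw [h']; exact hc
        · apply hs
          have : j'.val ≠ k + 1 := fun h => h' (Fin.ext (by rw [h, hjs]))
          omega
      · set a := v (Sum.inr j.castSucc) with ha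
        set c := v (Sum.inr j.succ) with hc'
        set v'' : K (m + 1) → F := v + (1 - a) • fV j.castSucc - c • fV j.succ with hv''
        have h1 : (xel (eV j.succ : K (m + 1) → F) (fV j.castSucc) ((1 - a) / c)).1 *ᵥ v =
            v + (1 - a) • fV j.castSucc := by
          rw [xel_mulVec (BF_ef_ne hcs.symm), BF_x_e, BF_x_f, hL, neg_zero, mul_zero, zero_smul,
            add_zero, ← hc']
          congr 1
          congr 1
          field_simp
        have h2 : (xel (eV j.castSucc : K (m + 1) → F) (fV j.succ) (-c)).1 *ᵥ
            (v + (1 - a) • fV j.castSucc) = v'' := by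
          rw [xel_mulVec (BF_ef_ne hcs), BF_x_e, BF_x_f]
          simp only [Pi.add_apply, Pi.smul_apply, fV_inr, fV_inl, if_true, smul_eq_mul]
          rw [hv'', ← ha, hL j.succ]
          have : -c * (a + (1 - a) * 1) = -c := by ring
          rw [this]
          simp only [add_zero, mul_zero, zero_smul, neg_smul, neg_zero]
          abel
        have hL'' : Lag' v'' := (hL.add ((lag'_fV _).smul _)).sub ((lag'_fV _).smul _)
        have hs'' : ∀ j' : Fin (m + 1), k < j'.val → v'' (Sum.inr j') = 0 := by
          intro j' hj'
          rw [hv'']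
          simp only [Pi.add_apply, Pi.sub_apply, Pi.smul_apply, fV_inr, smul_eq_mul]
          have h1' : j' ≠ j.castSucc := fun h => by rw [h, hjc] at hj'; omega
          rw [if_neg h1', mul_zero, add_zero]
          by_cases h' : j' = j.succ
          · rw [if_pos h', h', mul_one, sub_self]
          · rw [if_neg h', mul_zero, sub_zero]
            apply hs
            have : j'.val ≠ k + 1 := fun h => h' (Fin.ext (by rw [h, hjs]))
            omega
        have hne : v'' ≠ 0 := by
          intro h
          have := congrFun h (Sum.inr j.castSucc)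
          rw [hv''] at this
          simp only [Pi.add_apply, Pi.sub_apply, Pi.smul_apply, fV_inr, smul_eq_mul, if_true,
            if_neg hcs, Pi.zero_apply, mul_one, mul_zero, sub_zero, ← ha] at this
          have h3 : a + (1 - a) = (1 : F) := by ring
          rw [h3] at this
          exact one_ne_zero this
        have h3 := ih v'' hL'' hs'' hne
        exact Om.of_mulVec (hF.X2 j _) (Om.of_mulVec (hF.X1 j _) h3 h2) h1
    · apply ih v hL _ hv
      intro j' _
      have := j'.2
      omega

/-- the part of a vector on the first Lagrangian -/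
def Epart (v : K (m + 1) → F) : K (m + 1) → F := Sum.elim (fun i => v (Sum.inl i)) 0

/-- the part of a vector on the second Lagrangian -/
def Fpart (v : K (m + 1) → F) : K (m + 1) → F := Sum.elim 0 (fun i => v (Sum.inr i))

theorem Epart_add_Fpart (v : K (m + 1) → F) : Epart v + Fpart v = v := by
  ext x
  rcases x with i | i <;> simp [Epart, Fpart]

theorem lag_Epart (v : K (m + 1) → F) : Lag (Epart v) := fun i => by simp [Epart]

theorem lag'_Fpart (v : K (m + 1) → F) : Lag' (Fpart v) := fun i => by simp [Fpart]

theorem Full.om (hF : Full H) (v : K (m + 1) → F) (hv : v ≠ 0) : Om H v := by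
  have hE : ∀ w : K (m + 1) → F, Lag w → w ≠ 0 → Om H w := fun w hw hw0 =>
    hF.om_E m w hw (fun j hj => by have := j.2; omega) hw0
  have hF' : ∀ w : K (m + 1) → F, Lag' w → w ≠ 0 → Om H w := fun w hw hw0 =>
    hF.om_F m w hw (fun j hj => by have := j.2; omega) hw0
  set a := Epart v with ha
  set b := Fpart v with hb
  have hab : a + b = v := Epart_add_Fpart v
  have hLa : Lag a := lag_Epart v
  have hLb : Lag' b := lag'_Fpart v
  by_cases hb0 : b = 0
  · rw [← hab, hb0, add_zero]
    apply hE a hLa
    intro h; apply hv; rw [← hab, h, hb0, add_zero]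
  by_cases ha0 : a = 0
  · rw [← hab, ha0, zero_add]
    exact hF' b hLb hb0
  have hOa := hE a hLa ha0
  have hOb := hF' b hLb hb0
  rw [← hab]
  by_cases hB : BF a b = 0
  · -- find a coordinate of `b`
    obtain ⟨j, hj⟩ : ∃ j, b (Sum.inr j) ≠ 0 := by
      by_contra hcon
      push Not at hcon
      apply hb0
      ext x
      rcases x with i | i
      · exact hLb i
      · exact hcon i
    have h1 : BF (eV j) b ≠ 0 := by
      rw [BF_swap, BF_x_e]; exact neg_ne_zero.2 hj
    have h2 : Om H (eV j + b) := Om.add (hF.e j) hOb h1
    have h3 : a - eV j ≠ 0 := by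
      intro h
      rw [sub_eq_zero] at h
      rw [h] at hB
      exact h1 hB
    have h4 : Om H (a - eV j) := hE _ (hLa.sub (lag_eV j)) h3
    have h5 : BF (a - eV j) (eV j + b) ≠ 0 := by
      have e1 : BF a (eV j) = 0 := by rw [BF_x_e]; exact hLa j
      simp only [BF_sub_left, BF_add_right, e1, hB, BF_ee, zero_add, sub_zero, zero_sub]
      exact neg_ne_zero.2 h1
    have := h4.add h2 h5
    have e : a - eV j + (eV j + b) = a + b := by abel
    rwa [e] at this
  · exact hOa.add hOb hB

/-- a subgroup containing all standard root elements is the whole group -/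
theorem Full.eq_top (hF : Full H) : H = ⊤ := by
  rw [eq_top_iff, ← TS_eq_top (F := F) (m + 1)]
  unfold TS
  rw [Subgroup.closure_le]
  rintro _ ⟨v, c, rfl⟩
  by_cases hv : v = 0
  · rw [hv, tv_zero_vec]; exact one_mem _
  · exact hF.om v hv c

end Cfsg.Agent.Lib.H9.SpG
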