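import Mathlib
import Cfsg.Agent.Lib.H9.SpGD
import Cfsg.Agent.Lib.H9.SpGG

set_option autoImplicit false
set_option linter.unusedSectionVars false
set_option linter.unusedVariables false

/-!
# Generation of `Sp_{2n}(F)`: the three generators generate everything (abstract form)
-/

namespace Cfsg.Agent.Lib.H9.SpG

open Matrix Cfsg.Agent.Lib.H4 Cfsg.Agent.Lib.H2.Sp

variable {F : Type*} [Field F] {m : ℕ}

variable {H : Subgroup (Matrix.symplecticGroup (Fin (m + 1)) F)}
  {ix : Matrix.symplecticGroup (Fin (m + 1)) F} {r : F}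

theorem Setup.prime2 (S : Setup H ix r) (hm : 1 ≤ m) (j : Fin m) :
    Prime2 H j.succ j.castSucc :=
  ⟨(S.prime hm _).1, (S.prime hm _).2, (S.prime hm _).1, (S.prime hm _).2, S.adj hm j⟩

theorem Setup.tr (S : Setup H ix r) (hm : 1 ≤ m) (j : Fin m) (t : F)
    (h : tv (m + 1) (fV j.succ : K (m + 1) → F) t ∈ H) : Transfer H j.succ j.castSucc t :=
  transfer (S.prime2 hm j) Fin.castSucc_lt_succ.ne' h

/-- a subgroup with all root elements of two adjacent planes and parameters, propagated -/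
theorem full_of_tr
    (Tr : ∀ (j : Fin m) (t : F), tv (m + 1) (fV j.succ : K (m + 1) → F) t ∈ H →
      Transfer H j.succ j.castSucc t) (hm : 1 ≤ m)
    (hl : ∀ t : F, tv (m + 1) (fV (Fin.last m) : K (m + 1) → F) t ∈ H) : Full H := by
  have hl0 : Fin.last m ≠ 0 := last_ne_zero' hm
  obtain ⟨jl, hjl⟩ : ∃ j : Fin m, j.succ = Fin.last m := Fin.exists_succ_eq.2 hl0
  have hf : ∀ (i : Fin (m + 1)) (t : F), tv (m + 1) (fV i : K (m + 1) → F) t ∈ H := by
    intro i
    induction i using Fin.reverseInduction with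
    | last => exact hl
    | cast j ih => exact fun t => (Tr j t (ih t)).fj
  refine ⟨?_, hf, ?_, ?_⟩
  · intro i t
    rcases Fin.eq_castSucc_or_eq_last i with ⟨j, rfl⟩ | rfl
    · exact (Tr j t (hf _ t)).ej
    · have := (Tr jl t (hf _ t)).ei
      rwa [hjl] at this
  · intro j t
    exact tv_congr (add_comm _ _) (Tr j t (hf _ t)).fiej
  · intro j t
    exact (Tr j t (hf _ t)).eifj

theorem Setup.eq_top [Fintype F] (S : Setup H ix r) (hm : 1 ≤ m) (hr0 : r ≠ 0)
    (hgen : ∀ a : F, a ≠ 0 → ∃ k : ℕ, a = r ^ k) : H = ⊤ := by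
  have hl0 : Fin.last m ≠ 0 := last_ne_zero' hm
  obtain ⟨jl, hjl⟩ : ∃ j : Fin m, j.succ = Fin.last m := Fin.exists_succ_eq.2 hl0
  have Trl : ∀ t : F, tv (m + 1) (fV (Fin.last m) : K (m + 1) → F) t ∈ H →
      Transfer H (Fin.last m) jl.castSucc t := by
    intro t ht
    have := S.tr hm jl t (hjl ▸ ht)
    rwa [hjl] at this
  have hne : Fin.last m ≠ jl.castSucc := (Fin.castSucc_ne_last jl).symm
  have h1 : tv (m + 1) (fV (Fin.last m) : K (m + 1) → F) 1 ∈ H := (S.prime hm _).2
  have hr : tv (m + 1) (fV (Fin.last m) : K (m + 1) → F) r ∈ H := S.hfl hm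
  have hr2 : tv (m + 1) (fV (Fin.last m) : K (m + 1) → F) (r ^ 2) ∈ H := by
    have := mul_step hne Trl hr h1 (by rwa [mul_one])
    rwa [mul_one] at this
  have hl := all_of_generator hne Trl hr0 hgen hr hr2
  exact (full_of_tr (fun j t h => S.tr hm j t h) hm hl).eq_top

end Cfsg.Agent.Lib.H9.SpG
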