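import Mathlib
import Cfsg.Agent.Lib.H9.SpGA

set_option autoImplicit false
set_option linter.unusedSectionVars false
set_option linter.unusedVariables false

/-!
# Generation of `Sp_{2n}(F)`: the Levi embedding and the Jordan block
-/

namespace Cfsg.Agent.Lib.H9.SpG

open Matrix Cfsg.Agent.Lib.H4 Cfsg.Agent.Lib.H2.Sp

variable {F : Type*} [Field F] {n : ℕ}

/-- block diagonal matrix `diag(a, bᵀ)` -/
def lev (a b : Matrix (Fin n) (Fin n) F) : Matrix (K n) (K n) F := fromBlocks a 0 0 bᵀ

theorem lev_mem {a b : Matrix (Fin n) (Fin n) F} (h : a * b = 1) :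
    lev a b ∈ Matrix.symplecticGroup (Fin n) F := by
  rw [SymplecticGroup.mem_iff]
  have h' : bᵀ * aᵀ = 1 := by rw [← Matrix.transpose_mul, h, Matrix.transpose_one]
  unfold lev Matrix.J
  rw [Matrix.fromBlocks_transpose, Matrix.fromBlocks_multiply, Matrix.fromBlocks_multiply]
  simp [h, h']

/-- the Levi element attached to an invertible matrix -/
def levS (a b : Matrix (Fin n) (Fin n) F) (h : a * b = 1) : Matrix.symplecticGroup (Fin n) F :=
  ⟨lev a b, lev_mem h⟩

theorem levS_mul_levS {a b : Matrix (Fin n) (Fin n) F} (h : a * b = 1) :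
    levS a b h * levS b a (mul_eq_one_comm.1 h) = 1 := by
  apply Subtype.ext
  have h' : bᵀ * aᵀ = 1 := by rw [← Matrix.transpose_mul, h, Matrix.transpose_one]
  show lev a b * lev b a = 1
  unfold lev
  rw [Matrix.fromBlocks_multiply]
  simp [h, h', Matrix.fromBlocks_one]

theorem levS_inv {a b : Matrix (Fin n) (Fin n) F} (h : a * b = 1) :
    (levS a b h)⁻¹ = levS b a (mul_eq_one_comm.1 h) :=
  inv_eq_of_mul_eq_one_right (levS_mul_levS h)

theorem lev_mulVec_eV (a b : Matrix (Fin n) (Fin n) F) (j : Fin n) :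
    lev a b *ᵥ (eV j : K n → F) = Sum.elim (fun i => a i j) (0 : Fin n → F) := by
  unfold eV
  rw [Matrix.mulVec_single_one]
  ext k
  rcases k with i | i <;> simp [lev]

theorem lev_mulVec_fV (a b : Matrix (Fin n) (Fin n) F) (j : Fin n) :
    lev a b *ᵥ (fV j : K n → F) = Sum.elim (0 : Fin n → F) (fun i => b j i) := by
  unfold fV
  rw [Matrix.mulVec_single_one]
  ext k
  rcases k with i | i <;> simp [lev]

theorem eV_eq_elim (j : Fin n) : (eV j : K n → F) = Sum.elim (Pi.single j 1) (0 : Fin n → F) := by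
  ext k
  rcases k with i | i
  · simp [eV, Pi.single_apply]
  · simp [eV]

theorem fV_eq_elim (j : Fin n) : (fV j : K n → F) = Sum.elim (0 : Fin n → F) (Pi.single j 1) := by
  ext k
  rcases k with i | i
  · simp [fV]
  · simp [fV, Pi.single_apply]

/-! ### the Jordan block -/

variable {m : ℕ}

/-- the unipotent Jordan block `1 + N` -/
def xJ (F : Type*) [Field F] (m : ℕ) : Matrix (Fin (m + 1)) (Fin (m + 1)) F :=
  Matrix.of fun i j => if i = j then 1 else if i.val + 1 = j.val then 1 else 0

theorem xJ_apply (i j : Fin (m + 1)) :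
    xJ F m i j = if i = j then 1 else if i.val + 1 = j.val then 1 else 0 := rfl

theorem det_xJ : (xJ F m).det = 1 := by
  rw [Matrix.det_of_isUpperTriangular]
  · simp [xJ_apply]
  · intro i j hij
    simp only [id] at hij
    rw [xJ_apply, if_neg (ne_of_gt hij), if_neg]
    have : j.val < i.val := hij
    omega

theorem xJ_mul_inv : xJ F m * (xJ F m)⁻¹ = 1 :=
  Matrix.mul_nonsing_inv _ (by rw [det_xJ]; exact isUnit_one)

/-- the Levi element of the Jordan block -/
noncomputable def ixS (F : Type*) [Field F] (m : ℕ) : Matrix.symplecticGroup (Fin (m + 1)) F :=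
  levS (xJ F m) (xJ F m)⁻¹ xJ_mul_inv

theorem ixS_inv : (ixS F m)⁻¹ = levS (xJ F m)⁻¹ (xJ F m) (mul_eq_one_comm.1 xJ_mul_inv) :=
  levS_inv _

theorem ixS_e0 : (ixS F m).1 *ᵥ (eV 0 : K (m + 1) → F) = eV 0 := by
  show lev _ _ *ᵥ _ = _
  rw [lev_mulVec_eV, eV_eq_elim]
  congr 1
  ext i
  rw [xJ_apply, Pi.single_apply]
  by_cases h : i = 0
  · rw [if_pos h, if_pos h]
  · rw [if_neg h, if_neg h, if_neg]
    simp

theorem ixS_e (j : Fin m) :
    (ixS F m).1 *ᵥ (eV j.succ : K (m + 1) → F) = eV j.succ + eV j.castSucc := by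
  show lev _ _ *ᵥ _ = _
  rw [lev_mulVec_eV, eV_eq_elim, eV_eq_elim]
  ext k
  rcases k with i | i
  · simp only [Sum.elim_inl, Pi.add_apply, xJ_apply, Pi.single_apply]
    by_cases h : i = j.succ
    · have h2 : i ≠ j.castSucc := by
        rw [h]; exact Fin.castSucc_lt_succ.ne'
      rw [if_pos h, if_pos h, if_neg h2, add_zero]
    · rw [if_neg h, if_neg h, zero_add]
      by_cases h2 : i = j.castSucc
      · rw [if_pos h2, if_pos]
        rw [h2]; simp
      · rw [if_neg h2, if_neg]
        intro h3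
        apply h2
        apply Fin.ext
        simp only [Fin.val_succ] at h3
        simp only [Fin.val_castSucc]
        omega
  · simp

theorem ixSi_f (j : Fin m) :
    ((ixS F m)⁻¹).1 *ᵥ (fV j.castSucc : K (m + 1) → F) = fV j.castSucc + fV j.succ := by
  rw [ixS_inv]
  show lev _ _ *ᵥ _ = _
  rw [lev_mulVec_fV, fV_eq_elim, fV_eq_elim]
  ext k
  rcases k with i | i
  · simp
  · simp only [Sum.elim_inr, Pi.add_apply, xJ_apply, Pi.single_apply]
    by_cases h : j.castSucc = i
    · have h2 : i ≠ j.succ := by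
        rw [← h]; exact Fin.castSucc_lt_succ.ne
      rw [if_pos h, if_pos h.symm, if_neg h2, add_zero]
    · rw [if_neg h, if_neg (Ne.symm h), zero_add]
      by_cases h2 : i = j.succ
      · rw [if_pos h2, if_pos]
        rw [h2]; simp
      · rw [if_neg h2, if_neg]
        intro h3
        apply h2
        apply Fin.ext
        simp only [Fin.val_castSucc] at h3
        simp only [Fin.val_succ]
        omega

theorem ixSi_fl :
    ((ixS F m)⁻¹).1 *ᵥ (fV (Fin.last m) : K (m + 1) → F) = fV (Fin.last m) := by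
  rw [ixS_inv]
  show lev _ _ *ᵥ _ = _
  rw [lev_mulVec_fV, fV_eq_elim]
  congr 1
  ext i
  rw [xJ_apply, Pi.single_apply]
  by_cases h : Fin.last m = i
  · rw [if_pos h, if_pos h.symm]
  · rw [if_neg h, if_neg (Ne.symm h), if_neg]
    have := i.2
    simp only [Fin.val_last]
    omega

end Cfsg.Agent.Lib.H9.SpG
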