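import Mathlib
import Cfsg.Agent.Lib.H9.SpGI

set_option autoImplicit false
set_option linter.unusedSectionVars false
set_option linter.unusedVariables false

/-!
# Generation of `Sp_{2n}(F)`: the element exchanging the two Lagrangians with a reversal
-/

namespace Cfsg.Agent.Lib.H9.SpG

open Matrix Cfsg.Agent.Lib.H4 Cfsg.Agent.Lib.H2.Sp

variable {F : Type*} [Field F] {m : ℕ}

/-- the reversal permutation matrix -/
def Wrev (F : Type*) [Field F] (m : ℕ) : Matrix (Fin (m + 1)) (Fin (m + 1)) F :=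
  Matrix.of fun i j => if j = Fin.rev i then 1 else 0

theorem Wrev_mul (M : Matrix (Fin (m + 1)) (Fin (m + 1)) F) (i j : Fin (m + 1)) :
    (Wrev F m * M) i j = M (Fin.rev i) j := by
  simp [Matrix.mul_apply, Wrev]

theorem mul_Wrev (M : Matrix (Fin (m + 1)) (Fin (m + 1)) F) (i j : Fin (m + 1)) :
    (M * Wrev F m) i j = M i (Fin.rev j) := by
  simp only [Matrix.mul_apply, Wrev, Matrix.of_apply, mul_ite, mul_one, mul_zero]
  rw [Finset.sum_eq_single (Fin.rev j)]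
  · rw [if_pos (Fin.rev_rev j).symm]
  · intro b _ hb
    rw [if_neg]
    intro h
    apply hb
    rw [h, Fin.rev_rev]
  · intro h; exact absurd (Finset.mem_univ _) h

theorem Wrev_transpose : (Wrev F m)ᵀ = Wrev F m := by
  ext i j
  simp only [Matrix.transpose_apply, Wrev, Matrix.of_apply]
  by_cases h : j = Fin.rev i
  · rw [if_pos h, if_pos]; rw [h, Fin.rev_rev]
  · rw [if_neg h, if_neg]; intro h'; apply h; rw [h', Fin.rev_rev]

theorem Wrev_mul_self : Wrev F m * Wrev F m = 1 := by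
  ext i j
  rw [Wrev_mul]
  simp only [Wrev, Matrix.of_apply, Fin.rev_rev, Matrix.one_apply]
  by_cases h : i = j
  · rw [if_pos h, if_pos h.symm]
  · rw [if_neg h, if_neg (Ne.symm h)]

theorem xJ_rev (i j : Fin (m + 1)) : xJ F m (Fin.rev i) j = xJ F m (Fin.rev j) i := by
  rw [xJ_apply, xJ_apply]
  have hi := i.2
  have hj := j.2
  have e1 : (Fin.rev i = j) ↔ (Fin.rev j = i) := by
    constructor
    · intro h; rw [← h, Fin.rev_rev]
    · intro h; rw [← h, Fin.rev_rev]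
  have e2 : ((Fin.rev i).val + 1 = j.val) ↔ ((Fin.rev j).val + 1 = i.val) := by
    rw [Fin.val_rev, Fin.val_rev]; omega
  by_cases h1 : Fin.rev i = j
  · rw [if_pos h1, if_pos (e1.1 h1)]
  · rw [if_neg h1, if_neg (fun h => h1 (e1.2 h))]
    by_cases h2 : (Fin.rev i).val + 1 = j.val
    · rw [if_pos h2, if_pos (e2.1 h2)]
    · rw [if_neg h2, if_neg (fun h => h2 (e2.2 h))]

theorem Wrev_mul_xJ : Wrev F m * xJ F m = (xJ F m)ᵀ * Wrev F m := by
  ext i j
  rw [Wrev_mul, mul_Wrev, Matrix.transpose_apply, xJ_rev]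

theorem xJ_mul_Wrev : xJ F m * Wrev F m = Wrev F m * (xJ F m)ᵀ := by
  ext i j
  rw [Wrev_mul, mul_Wrev, Matrix.transpose_apply]
  have := xJ_rev (F := F) (Fin.rev j) (Fin.rev i)
  rw [Fin.rev_rev, Fin.rev_rev] at this
  rw [this]

/-- the matrix of `h₀` -/
def h0M (F : Type*) [Field F] (m : ℕ) : Matrix (K (m + 1)) (K (m + 1)) F :=
  fromBlocks 0 (-Wrev F m) (Wrev F m) 0

theorem h0M_mem : h0M F m ∈ Matrix.symplecticGroup (Fin (m + 1)) F := by
  rw [SymplecticGroup.mem_iff]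
  unfold h0M Matrix.J
  rw [Matrix.fromBlocks_transpose, Matrix.fromBlocks_multiply, Matrix.fromBlocks_multiply]
  simp [Wrev_transpose, Wrev_mul_self]

/-- the element `h₀` -/
def h0S (F : Type*) [Field F] (m : ℕ) : Matrix.symplecticGroup (Fin (m + 1)) F :=
  ⟨h0M F m, h0M_mem⟩

theorem h0S_e (j : Fin (m + 1)) : (h0S F m).1 *ᵥ (eV j : K (m + 1) → F) = fV (Fin.rev j) := by
  show h0M F m *ᵥ _ = _
  unfold eV
  rw [Matrix.mulVec_single_one]
  ext k
  rcases k with i | i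
  · simp [h0M, fV]
  · simp only [h0M, Matrix.col_apply, Matrix.fromBlocks_apply₂₁, Wrev, Matrix.of_apply, fV,
      Pi.single_apply, Sum.inr.injEq]
    by_cases h : j = Fin.rev i
    · rw [if_pos h, if_pos]; rw [h, Fin.rev_rev]
    · rw [if_neg h, if_neg]; intro h'; apply h; rw [h', Fin.rev_rev]

theorem h0S_f (j : Fin (m + 1)) : (h0S F m).1 *ᵥ (fV j : K (m + 1) → F) = -eV (Fin.rev j) := by
  show h0M F m *ᵥ _ = _
  unfold fV
  rw [Matrix.mulVec_single_one]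
  ext k
  rcases k with i | i
  · simp only [h0M, Matrix.col_apply, Matrix.fromBlocks_apply₁₂, Wrev, Matrix.neg_apply,
      Matrix.of_apply, eV, Pi.neg_apply, Pi.single_apply, Sum.inl.injEq]
    by_cases h : j = Fin.rev i
    · rw [if_pos h, if_pos]; rw [h, Fin.rev_rev]
    · rw [if_neg h, if_neg]; intro h'; apply h; rw [h', Fin.rev_rev]
  · simp [h0M, eV]

/-- `ι(x) h₀ ι(x) = h₀` -/
theorem ixS_h0S_ixS : ixS F m * h0S F m * ixS F m = h0S F m := by
  apply Subtype.ext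
  show lev (xJ F m) (xJ F m)⁻¹ * h0M F m * lev (xJ F m) (xJ F m)⁻¹ = h0M F m
  have h1 : xJ F m * (xJ F m)⁻¹ = 1 := xJ_mul_inv
  have h2 : (xJ F m)⁻¹ * xJ F m = 1 := mul_eq_one_comm.1 h1
  have h3 : ((xJ F m)⁻¹)ᵀ * (xJ F m)ᵀ = 1 := by
    rw [← Matrix.transpose_mul, h1, Matrix.transpose_one]
  have h4 : (xJ F m)ᵀ * ((xJ F m)⁻¹)ᵀ = 1 := by
    rw [← Matrix.transpose_mul, h2, Matrix.transpose_one]
  have e1 : ((xJ F m)⁻¹)ᵀ * Wrev F m * xJ F m = Wrev F m := by
    rw [Matrix.mul_assoc, Wrev_mul_xJ, ← Matrix.mul_assoc, h3, Matrix.one_mul]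
  have e2 : xJ F m * Wrev F m * ((xJ F m)⁻¹)ᵀ = Wrev F m := by
    rw [xJ_mul_Wrev, Matrix.mul_assoc, h4, Matrix.mul_one]
  unfold lev h0M
  rw [Matrix.fromBlocks_multiply, Matrix.fromBlocks_multiply]
  simp only [Matrix.mul_zero, Matrix.zero_mul, add_zero, zero_add, Matrix.mul_neg,
    Matrix.neg_mul, e1, e2, neg_zero]

/-- `h₀ ι(x) h₀⁻¹ = ι(x)⁻¹` -/
theorem h0S_conj_ixS : h0S F m * ixS F m * (h0S F m)⁻¹ = (ixS F m)⁻¹ := by
  have h := ixS_h0S_ixS (F := F) (m := m)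
  have : h0S F m * ixS F m = (ixS F m)⁻¹ * h0S F m := by
    rw [eq_inv_mul_iff_mul_eq, ← mul_assoc]; exact h
  rw [this, mul_assoc, mul_inv_cancel, mul_one]

end Cfsg.Agent.Lib.H9.SpG
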