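import Mathlib
import Cfsg.Agent.Lib.H9.SpGI
import Cfsg.Agent.Lib.H12.Unipotent

set_option autoImplicit false
set_option linter.unusedSectionVars false
set_option linter.unusedVariables false

/-!
# Generation of `Sp_{2n}(F)`: the regular unipotent element
-/

namespace Cfsg.Agent.Lib.H9.SpG

open Matrix Cfsg.Agent.Lib.H4 Cfsg.Agent.Lib.H2.Sp

variable {F : Type*} [Field F] {n m : ℕ}

theorem tv_eV_blocks (j : Fin n) (c : F) :
    (tv n (eV j : K n → F) c).1 = fromBlocks 1 (c • Matrix.single j j 1) 0 1 := by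
  rw [Matrix.ext_iff_mulVec]
  intro x
  rw [tv_mulVec', BF_x_e, Matrix.fromBlocks_mulVec]
  ext k
  rcases k with i | i
  · simp only [Pi.add_apply, Pi.smul_apply, smul_eq_mul, Sum.elim_inl, Matrix.one_mulVec,
      Function.comp_apply, eV, Pi.single_apply, Sum.inl.injEq, Matrix.smul_mulVec]
    congr 1
    rw [Matrix.single_mulVec]
    simp [Function.update_apply, mul_comm]
  · simp [eV]

theorem xJ_eq (m : ℕ) : xJ F m = 1 + Cfsg.Agent.Lib.H12.shiftMatrix (m + 1) := by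
  ext i j
  rw [xJ_apply, Matrix.add_apply, Matrix.one_apply]
  simp only [Cfsg.Agent.Lib.H12.shiftMatrix, Matrix.of_apply]
  by_cases h : i = j
  · rw [if_pos h, if_pos h, if_neg, add_zero]
    rw [h]; omega
  · rw [if_neg h, if_neg h, zero_add]
    by_cases h2 : i.val + 1 = j.val
    · rw [if_pos h2, if_pos h2.symm]
    · rw [if_neg h2, if_neg (fun h' => h2 h'.symm)]

theorem xJ_sub_one_pow : (xJ F m - 1) ^ (m + 1) = 0 := by
  rw [xJ_eq, add_sub_cancel_left]
  exact Cfsg.Agent.Lib.H12.shiftMatrix_pow_eq_zero _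

theorem xJ_inv_sub_one_pow : ((xJ F m)⁻¹ - 1) ^ (m + 1) = 0 := by
  have h1 : xJ F m * (xJ F m)⁻¹ = 1 := xJ_mul_inv
  have h2 : (xJ F m)⁻¹ * xJ F m = 1 := mul_eq_one_comm.1 h1
  have e : (xJ F m)⁻¹ - 1 = (xJ F m)⁻¹ * (1 - xJ F m) := by
    rw [mul_sub, mul_one, h2]
  have hc : Commute (xJ F m)⁻¹ (1 - xJ F m) := by
    apply Commute.sub_right (Commute.one_right _)
    show (xJ F m)⁻¹ * xJ F m = xJ F m * (xJ F m)⁻¹
    rw [h1, h2]
  rw [e, hc.mul_pow]
  have : (1 - xJ F m) ^ (m + 1) = 0 := by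
    have := xJ_sub_one_pow (F := F) (m := m)
    rw [← neg_sub, neg_pow, this, mul_zero]
  rw [this, mul_zero]

/-- block upper triangular matrices with nilpotent diagonal blocks are nilpotent -/
theorem fromBlocks_pow_upper (A B D : Matrix (Fin n) (Fin n) F) (k : ℕ) :
    ∃ B' : Matrix (Fin n) (Fin n) F, (fromBlocks A B 0 D) ^ k = fromBlocks (A ^ k) B' 0 (D ^ k) := by
  induction k with
  | zero => exact ⟨0, by rw [pow_zero, pow_zero, pow_zero, Matrix.fromBlocks_one]⟩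
  | succ k ih =>
    obtain ⟨B', hB'⟩ := ih
    refine ⟨A ^ k * B + B' * D, ?_⟩
    rw [pow_succ, hB', Matrix.fromBlocks_multiply, pow_succ, pow_succ]
    simp

theorem isNilpotent_fromBlocks_upper (A B D : Matrix (Fin n) (Fin n) F) {a d : ℕ}
    (hA : A ^ a = 0) (hD : D ^ d = 0) : IsNilpotent (fromBlocks A B 0 D) := by
  refine ⟨a + d, ?_⟩
  obtain ⟨B1, h1⟩ := fromBlocks_pow_upper A B D a
  obtain ⟨B2, h2⟩ := fromBlocks_pow_upper A B D d
  rw [pow_add, h1, h2, hA, hD, Matrix.fromBlocks_multiply]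
  simp

/-- the regular unipotent element `u = T_{e_m}(1) ι(x)` -/
noncomputable def uS (F : Type*) [Field F] (m : ℕ) : Matrix.symplecticGroup (Fin (m + 1)) F :=
  tv (m + 1) (eV (Fin.last m)) 1 * ixS F m

theorem uS_val : (uS F m).1 = fromBlocks (xJ F m)
    (((1 : F) • Matrix.single (Fin.last m) (Fin.last m) (1 : F)) * ((xJ F m)⁻¹)ᵀ) 0
      ((xJ F m)⁻¹)ᵀ := by
  show (tv (m + 1) (eV (Fin.last m)) 1).1 * lev (xJ F m) (xJ F m)⁻¹ = _
  rw [tv_eV_blocks]
  unfold lev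
  rw [Matrix.fromBlocks_multiply]
  simp

theorem uS_nilpotent : IsNilpotent ((uS F m).1 - 1) := by
  rw [uS_val, ← Matrix.fromBlocks_one, sub_eq_add_neg, Matrix.fromBlocks_neg,
    Matrix.fromBlocks_add, neg_zero, add_zero, add_zero, ← sub_eq_add_neg, ← sub_eq_add_neg]
  refine isNilpotent_fromBlocks_upper _ _ _ (a := m + 1) (d := m + 1) xJ_sub_one_pow ?_
  have : ((xJ F m)⁻¹)ᵀ - 1 = ((xJ F m)⁻¹ - 1)ᵀ := by
    rw [Matrix.transpose_sub, Matrix.transpose_one]
  rw [this, ← Matrix.transpose_pow, xJ_inv_sub_one_pow, Matrix.transpose_zero]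

end Cfsg.Agent.Lib.H9.SpG
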