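import Mathlib
import Cfsg.Agent.Lib.H9.SpGK

set_option autoImplicit false
set_option linter.unusedSectionVars false
set_option linter.unusedVariables false

/-!
# Generation of `Sp_{2n}(F)`: the element `u` is regular
-/

namespace Cfsg.Agent.Lib.H9.SpG

open Matrix Cfsg.Agent.Lib.H4 Cfsg.Agent.Lib.H2.Sp

variable {F : Type*} [Field F] {m : ℕ}

theorem uS_e0 : (uS F m).1 *ᵥ (eV 0 : K (m + 1) → F) = eV 0 := by
  unfold uS
  rw [coe_mul_mulVec, ixS_e0, tv_mulVec', BF_ee, mul_zero, zero_smul, add_zero]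

theorem uS_e (j : Fin m) :
    (uS F m).1 *ᵥ (eV j.succ : K (m + 1) → F) = eV j.succ + eV j.castSucc := by
  unfold uS
  rw [coe_mul_mulVec, ixS_e, tv_mulVec', BF_add_left, BF_ee, BF_ee, add_zero, mul_zero, zero_smul,
    add_zero]

theorem ixS_fl : (ixS F m).1 *ᵥ (fV (Fin.last m) : K (m + 1) → F) = fV (Fin.last m) := by
  have := mulVec_mulVec_inv (ixS F m) (fV (Fin.last m) : K (m + 1) → F)
  rwa [ixSi_fl] at this

theorem uS_fl :
    (uS F m).1 *ᵥ (fV (Fin.last m) : K (m + 1) → F) = fV (Fin.last m) + eV (Fin.last m) := by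
  unfold uS
  rw [coe_mul_mulVec, ixS_fl, tv_mulVec', BF_fe_same, mul_one, one_smul]

theorem uSi_f (j : Fin m) :
    ((uS F m)⁻¹).1 *ᵥ (fV j.castSucc : K (m + 1) → F) = fV j.castSucc + fV j.succ := by
  unfold uS
  rw [_root_.mul_inv_rev, coe_mul_mulVec, tv_inv, tv_mulVec', BF_fe_ne (Fin.castSucc_ne_last j), mul_zero,
    zero_smul, add_zero, ixSi_f]

theorem uS_pow_e0 (k : ℕ) : ((uS F m).1 ^ k) *ᵥ (eV 0 : K (m + 1) → F) = eV 0 := by
  induction k with
  | zero => simp
  | succ k ih => rw [pow_succ, ← Matrix.mulVec_mulVec, uS_e0, ih]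

theorem uS_regular : ((uS F m).1 - 1) ^ (2 * m + 1) ≠ 0 := by
  set U := (uS F m).1 with hU
  set Ui := ((uS F m)⁻¹).1 with hUi
  have hUUi : U * Ui = 1 := by
    rw [hU, hUi, ← Submonoid.coe_mul, mul_inv_cancel]; rfl
  have hUiU : Ui * U = 1 := mul_eq_one_comm.1 hUUi
  set D := U - 1 with hD
  set D' := 1 - Ui with hD'
  have hDU : D = U * D' := by rw [hD', mul_sub, mul_one, hUUi]
  have hcUD' : Commute U D' := by
    apply Commute.sub_right (Commute.one_right _)
    show U * Ui = Ui * U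
    rw [hUUi, hUiU]
  have hcDU : Commute D U := Commute.sub_left (Commute.refl _) (Commute.one_left _)
  -- actions
  have aD0 : D *ᵥ (eV 0 : K (m + 1) → F) = 0 := by
    rw [hD, Matrix.sub_mulVec, Matrix.one_mulVec, uS_e0, sub_self]
  have aDe : ∀ j : Fin m, D *ᵥ (eV j.succ : K (m + 1) → F) = eV j.castSucc := by
    intro j
    rw [hD, Matrix.sub_mulVec, Matrix.one_mulVec, uS_e, add_sub_cancel_left]
  have aD'f : ∀ j : Fin m, D' *ᵥ (fV j.castSucc : K (m + 1) → F) = -fV j.succ := by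
    intro j
    rw [hD', Matrix.sub_mulVec, Matrix.one_mulVec, uSi_f]
    abel
  have aDfl : D *ᵥ (fV (Fin.last m) : K (m + 1) → F) = eV (Fin.last m) := by
    rw [hD, Matrix.sub_mulVec, Matrix.one_mulVec, uS_fl, add_sub_cancel_left]
  -- chains
  have cA : ∀ i : Fin (m + 1), (D' ^ i.val) *ᵥ (fV 0 : K (m + 1) → F) = (-1 : F) ^ i.val • fV i := by
    intro i
    induction i using Fin.induction with
    | zero => simp
    | succ j ih =>
      have : (j.succ : Fin (m + 1)).val = (j.castSucc : Fin (m + 1)).val + 1 := by simp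
      rw [this, pow_succ', ← Matrix.mulVec_mulVec, ih, Matrix.mulVec_smul, aD'f, pow_succ]
      simp
  have cB : ∀ i : Fin (m + 1), (D ^ (m - i.val)) *ᵥ (eV (Fin.last m) : K (m + 1) → F) = eV i := by
    intro i
    induction i using Fin.reverseInduction with
    | last => simp
    | cast j ih =>
      have : m - (j.castSucc : Fin (m + 1)).val = (m - (j.succ : Fin (m + 1)).val) + 1 := by
        have := j.2
        simp only [Fin.val_castSucc, Fin.val_succ]
        omega
      rw [this, pow_succ', ← Matrix.mulVec_mulVec, ih, aDe]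
  have cA' := cA (Fin.last m)
  have cB' := cB 0
  simp only [Fin.val_last, Fin.val_zero, Nat.sub_zero] at cA' cB'
  -- assemble
  intro h0
  have e1 : D ^ (2 * m + 1) = U ^ m * (D ^ m * D) * D' ^ m := by
    have hDm : D ^ m = U ^ m * D' ^ m := by rw [hDU, hcUD'.mul_pow]
    have hc2 : Commute (D ^ m * D) (U ^ m) :=
      Commute.mul_left ((hcDU.pow_left m).pow_right m) (hcDU.pow_right m)
    calc D ^ (2 * m + 1) = (D ^ m * D) * D ^ m := by rw [← pow_succ, ← pow_add]; congr 1; omega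
      _ = (D ^ m * D) * (U ^ m * D' ^ m) := by rw [← hDm]
      _ = U ^ m * (D ^ m * D) * D' ^ m := by rw [← mul_assoc, hc2.eq]
  have e2 : D ^ (2 * m + 1) *ᵥ (fV 0 : K (m + 1) → F) = (-1 : F) ^ m • eV 0 := by
    rw [e1, ← Matrix.mulVec_mulVec, cA', Matrix.mulVec_smul, ← Matrix.mulVec_mulVec,
      ← Matrix.mulVec_mulVec, aDfl, cB', uS_pow_e0]
  rw [h0, Matrix.zero_mulVec] at e2
  have := congrFun e2 (Sum.inl 0)
  simp [eV] at this
  exact pow_ne_zero m (neg_ne_zero.2 one_ne_zero) this.symm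

end Cfsg.Agent.Lib.H9.SpG
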