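import Mathlib
import Cfsg.Agent.Lib.H9.SpGH
import Cfsg.Agent.Lib.H9.SpGJ
import Cfsg.Agent.Lib.H9.SpGL

set_option autoImplicit false
set_option linter.unusedSectionVars false
set_option linter.unusedVariables false

/-!
# Generation of `Sp_{2n}(F)`: the three conjugates, assembled
-/

namespace Cfsg.Agent.Lib.H9.SpG

open Matrix Cfsg.Agent.Lib.H4 Cfsg.Agent.Lib.H2.Sp

variable {F : Type*} [Field F] {n m : ℕ}

theorem tv_commute {v w : K n → F} (h : BF v w = 0) (a b : F) :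
    Commute (tv n v a) (tv n w b) := by
  have hwv : BF w v = 0 := by rw [BF_swap, h, neg_zero]
  have := conj_tv (tv n v a) w b
  rw [tv_mulVec', hwv, mul_zero, zero_smul, add_zero, mul_inv_eq_iff_eq_mul] at this
  exact this

/-- a generator of the multiplicative group -/
theorem exists_gen [Finite F] : ∃ r : F, r ≠ 0 ∧ ∀ a : F, a ≠ 0 → ∃ k : ℕ, a = r ^ k := by
  have : Fintype F := Fintype.ofFinite F
  obtain ⟨g, hg⟩ := IsCyclic.exists_generator (α := Fˣ)
  refine ⟨(g : F), g.ne_zero, fun a ha => ?_⟩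
  have hmem := hg (Units.mk0 a ha)
  obtain ⟨k, hk⟩ := (mem_powers_iff_mem_zpowers.mpr hmem)
  refine ⟨k, ?_⟩
  have := congrArg (fun u : Fˣ => (u : F)) hk
  simp only [Units.val_pow_eq_pow_val, Units.val_mk0] at this
  exact this.symm

/-- the criterion for conjugating `u` to `u T_{e₀}(s)` -/
theorem conj_uS {g : Matrix.symplecticGroup (Fin (m + 1)) F} {s : F}
    (h1 : Commute g (tv (m + 1) (eV (Fin.last m)) 1))
    (h2 : g = tv (m + 1) (eV 0) s * (ixS F m * g * (ixS F m)⁻¹)) :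
    g * uS F m * g⁻¹ = uS F m * tv (m + 1) (eV 0) s := by
  rw [mul_inv_eq_iff_eq_mul]
  unfold uS
  have e1 : ixS F m * tv (m + 1) (eV 0 : K (m + 1) → F) s =
      tv (m + 1) (eV 0) s * ixS F m := by
    have := conj_tv (ixS F m) (eV 0 : K (m + 1) → F) s
    rw [ixS_e0, mul_inv_eq_iff_eq_mul] at this
    exact this
  calc g * (tv (m + 1) (eV (Fin.last m)) 1 * ixS F m)
      = tv (m + 1) (eV (Fin.last m)) 1 * g * ixS F m := by
        rw [← mul_assoc, h1.eq]
    _ = tv (m + 1) (eV (Fin.last m)) 1 *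
          (tv (m + 1) (eV 0) s * (ixS F m * g * (ixS F m)⁻¹)) * ixS F m := by rw [← h2]
    _ = tv (m + 1) (eV (Fin.last m)) 1 * (tv (m + 1) (eV 0) s * ixS F m) * g := by group
    _ = tv (m + 1) (eV (Fin.last m)) 1 * ixS F m * tv (m + 1) (eV 0) s * g := by
        rw [← e1]; group

/-- conjugating a transvection by `ι(x)` -/
theorem ixS_conj_tv (v : K (m + 1) → F) (c : F) :
    ixS F m * tv (m + 1) v c * (ixS F m)⁻¹ = tv (m + 1) ((ixS F m).1 *ᵥ v) c := conj_tv _ _ _

attribute [local simp] BF_add_left BF_add_right BF_sub_left BF_sub_right BF_neg_left BF_neg_right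
  BF_smul_left BF_smul_right

/-- the identity among Lagrangian transvections behind the conjugator, rank at least three -/
theorem lag_identity3 (p0 p1 p2 : K n → F) (h01 : BF p0 p1 = 0) (h02 : BF p0 p2 = 0)
    (h12 : BF p1 p2 = 0) (s : F) :
    tv n p1 (-s) * tv n (p0 + p2) s * tv n p0 (-s) * tv n p2 (-s) =
      tv n p0 s * (tv n (p1 + p0) (-s) * tv n (p0 + (p2 + p1)) s * tv n p0 (-s) *
        tv n (p2 + p1) (-s)) := by
  have h10 : BF p1 p0 = 0 := by rw [BF_swap, h01, neg_zero]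
  have h20 : BF p2 p0 = 0 := by rw [BF_swap, h02, neg_zero]
  have h21 : BF p2 p1 = 0 := by rw [BF_swap, h12, neg_zero]
  apply sp_ext
  intro x
  simp only [coe_mul_mulVec, tv_mulVec', BF_add_left, BF_add_right, BF_smul_left, h01, h02, h12,
    h10, h20, h21, BF_self]
  module

/-- the identity among Lagrangian transvections behind the conjugator, rank two, odd
characteristic -/
theorem lag_identity2 (p0 p1 : K n → F) (h01 : BF p0 p1 = 0) (b : F) :
    tv n (p0 + p1) b * tv n p0 (-b) * tv n p1 (-b) =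
      tv n p0 (-(2 * b)) * (tv n (p0 + (p1 + p0)) b * tv n p0 (-b) * tv n (p1 + p0) (-b)) := by
  have h10 : BF p1 p0 = 0 := by rw [BF_swap, h01, neg_zero]
  apply sp_ext
  intro x
  simp only [coe_mul_mulVec, tv_mulVec', BF_add_left, BF_add_right, BF_smul_left, h01, h10,
    BF_self]
  module

theorem conj_mul4 (g a b c d : Matrix.symplecticGroup (Fin n) F) :
    g * (a * b * c * d) * g⁻¹ = (g * a * g⁻¹) * (g * b * g⁻¹) * (g * c * g⁻¹) * (g * d * g⁻¹) := by
  group

theorem conj_mul3 (g a b c : Matrix.symplecticGroup (Fin n) F) :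
    g * (a * b * c) * g⁻¹ = (g * a * g⁻¹) * (g * b * g⁻¹) * (g * c * g⁻¹) := by
  group

/-- the conjugator, rank at least three -/
theorem exists_conj3 (hm : 2 ≤ m) (s : F) :
    ∃ g : Matrix.symplecticGroup (Fin (m + 1)) F,
      g * uS F m * g⁻¹ = uS F m * tv (m + 1) (eV 0) s := by
  set j0 : Fin m := ⟨0, by omega⟩ with hj0
  set j1 : Fin m := ⟨1, by omega⟩ with hj1
  have e00 : j0.castSucc = (0 : Fin (m + 1)) := rfl
  have e01 : j1.castSucc = j0.succ := by
    apply Fin.ext; simp [hj0, hj1]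
  have i1 : (ixS F m).1 *ᵥ (eV j0.succ : K (m + 1) → F) = eV j0.succ + eV 0 := by
    rw [ixS_e, e00]
  have i2 : (ixS F m).1 *ᵥ (eV j1.succ : K (m + 1) → F) = eV j1.succ + eV j0.succ := by
    rw [ixS_e, e01]
  refine ⟨tv (m + 1) (eV j0.succ) (-s) * tv (m + 1) (eV 0 + eV j1.succ) s *
    tv (m + 1) (eV 0) (-s) * tv (m + 1) (eV j1.succ) (-s), ?_⟩
  apply conj_uS
  · have c := fun (v : K (m + 1) → F) (hv : BF v (eV (Fin.last m)) = 0) (a : F) =>
      tv_commute hv a (1 : F)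
    exact (((c _ (BF_ee _ _) _).mul_left (c _ (by simp) _)).mul_left (c _ (BF_ee _ _) _)).mul_left
      (c _ (BF_ee _ _) _)
  · rw [conj_mul4, ixS_conj_tv, ixS_conj_tv, ixS_conj_tv, ixS_conj_tv, Matrix.mulVec_add, i1, i2,
      ixS_e0]
    exact lag_identity3 _ _ _ (BF_ee _ _) (BF_ee _ _) (BF_ee _ _) s

/-- the conjugator, rank two: parameter `-2b` -/
theorem exists_conj2' (hm : m = 1) (b : F) :
    ∃ g : Matrix.symplecticGroup (Fin (m + 1)) F,
      g * uS F m * g⁻¹ = uS F m * tv (m + 1) (eV 0) (-(2 * b)) := by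
  have hj0 : 0 < m := by omega
  have e00 : (⟨0, hj0⟩ : Fin m).castSucc = (0 : Fin (m + 1)) := rfl
  have i1 : (ixS F m).1 *ᵥ (eV (⟨0, hj0⟩ : Fin m).succ : K (m + 1) → F) =
      eV (⟨0, hj0⟩ : Fin m).succ + eV 0 := by
    rw [ixS_e, e00]
  refine ⟨tv (m + 1) (eV 0 + eV (⟨0, hj0⟩ : Fin m).succ) b * tv (m + 1) (eV 0) (-b) *
    tv (m + 1) (eV (⟨0, hj0⟩ : Fin m).succ) (-b), ?_⟩
  apply conj_uS
  · have c := fun (v : K (m + 1) → F) (hv : BF v (eV (Fin.last m)) = 0) (a : F) =>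
      tv_commute hv a (1 : F)
    exact ((c _ (by simp) _).mul_left (c _ (BF_ee _ _) _)).mul_left (c _ (BF_ee _ _) _)
  · rw [conj_mul3, ixS_conj_tv, ixS_conj_tv, ixS_conj_tv, Matrix.mulVec_add, i1, ixS_e0]
    exact lag_identity2 _ _ (BF_ee _ _) b

/-- the conjugator, rank two, odd characteristic -/
theorem exists_conj2 (hm : m = 1) (h2 : (2 : F) ≠ 0) (s : F) :
    ∃ g : Matrix.symplecticGroup (Fin (m + 1)) F,
      g * uS F m * g⁻¹ = uS F m * tv (m + 1) (eV 0) s := by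
  obtain ⟨g, hg⟩ := exists_conj2' (F := F) hm (-s / 2)
  refine ⟨g, ?_⟩
  rw [hg]
  congr 2
  field_simp

end Cfsg.Agent.Lib.H9.SpG
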