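import Mathlib
import Cfsg.Agent.Lib.H9.SpGM

set_option autoImplicit false
set_option linter.unusedSectionVars false
set_option linter.unusedVariables false

/-!
# Generation of `Sp_{2n}(F)` by three conjugate regular unipotents: rank at least three, or odd
characteristic
-/

namespace Cfsg.Agent.Lib.H9.SpG

open Matrix Cfsg.Agent.Lib.H4 Cfsg.Agent.Lib.H2.Sp

variable {F : Type*} [Field F] {m : ℕ}

/-- the third generator in explicit form -/
theorem zform {gr : Matrix.symplecticGroup (Fin (m + 1)) F} {r : F}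
    (hgr : gr * uS F m * gr⁻¹ = uS F m * tv (m + 1) (eV 0) r) :
    (h0S F m * gr) * uS F m * (h0S F m * gr)⁻¹ =
      tv (m + 1) (fV 0) 1 * ((ixS F m)⁻¹ * tv (m + 1) (fV (Fin.last m)) r) := by
  calc (h0S F m * gr) * uS F m * (h0S F m * gr)⁻¹
      = h0S F m * (gr * uS F m * gr⁻¹) * (h0S F m)⁻¹ := by group
    _ = h0S F m * (tv (m + 1) (eV (Fin.last m)) 1 * ixS F m * tv (m + 1) (eV 0) r) *
          (h0S F m)⁻¹ := by rw [hgr]; rfl
    _ = (h0S F m * tv (m + 1) (eV (Fin.last m)) 1 * (h0S F m)⁻¹) *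
          (h0S F m * ixS F m * (h0S F m)⁻¹) *
          (h0S F m * tv (m + 1) (eV 0) r * (h0S F m)⁻¹) := by group
    _ = tv (m + 1) (fV 0) 1 * ((ixS F m)⁻¹ * tv (m + 1) (fV (Fin.last m)) r) := by
        rw [conj_tv, conj_tv, h0S_conj_ixS, h0S_e, h0S_e, Fin.rev_last, Fin.rev_zero, mul_assoc]

/-- the main theorem, given the conjugators -/
theorem designA [Fintype F] (hm : 1 ≤ m)
    (hconj : ∀ s : F, ∃ g : Matrix.symplecticGroup (Fin (m + 1)) F,
      g * uS F m * g⁻¹ = uS F m * tv (m + 1) (eV 0) s) :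
    ∃ u g h : Matrix.symplecticGroup (Fin (m + 1)) F,
      IsNilpotent ((u : Matrix (Fin (m + 1) ⊕ Fin (m + 1)) (Fin (m + 1) ⊕ Fin (m + 1)) F) - 1) ∧
      ((u : Matrix (Fin (m + 1) ⊕ Fin (m + 1)) (Fin (m + 1) ⊕ Fin (m + 1)) F) - 1) ^
        (2 * (m + 1) - 1) ≠ 0 ∧
      Subgroup.closure ({u, g * u * g⁻¹, h * u * h⁻¹} :
        Set (Matrix.symplecticGroup (Fin (m + 1)) F)) = ⊤ := by
  obtain ⟨r, hr0, hgen⟩ := exists_gen (F := F)
  obtain ⟨g1, hg1⟩ := hconj 1
  obtain ⟨gr, hgr⟩ := hconj r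
  refine ⟨uS F m, g1, h0S F m * gr, uS_nilpotent, ?_, ?_⟩
  · have : 2 * (m + 1) - 1 = 2 * m + 1 := by omega
    rw [this]; exact uS_regular
  · set H := Subgroup.closure ({uS F m, g1 * uS F m * g1⁻¹,
      (h0S F m * gr) * uS F m * (h0S F m * gr)⁻¹} :
        Set (Matrix.symplecticGroup (Fin (m + 1)) F)) with hH
    have S : Setup H (ixS F m) r :=
      { ix_e0 := ixS_e0
        ix_e := ixS_e
        ixi_f := ixSi_f
        ixi_fl := ixSi_fl
        hu := by
          show uS F m ∈ H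
          exact Subgroup.subset_closure (by simp)
        hy := by
          show uS F m * tv (m + 1) (eV 0) 1 ∈ H
          rw [← hg1]
          exact Subgroup.subset_closure (by simp)
        hz := by
          rw [← zform hgr]
          exact Subgroup.subset_closure (by simp) }
    exact S.eq_top hm hr0 hgen

/-- rank at least three -/
theorem main3 [Fintype F] (hm : 2 ≤ m) :
    ∃ u g h : Matrix.symplecticGroup (Fin (m + 1)) F,
      IsNilpotent ((u : Matrix (Fin (m + 1) ⊕ Fin (m + 1)) (Fin (m + 1) ⊕ Fin (m + 1)) F) - 1) ∧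
      ((u : Matrix (Fin (m + 1) ⊕ Fin (m + 1)) (Fin (m + 1) ⊕ Fin (m + 1)) F) - 1) ^
        (2 * (m + 1) - 1) ≠ 0 ∧
      Subgroup.closure ({u, g * u * g⁻¹, h * u * h⁻¹} :
        Set (Matrix.symplecticGroup (Fin (m + 1)) F)) = ⊤ :=
  designA (by omega) (exists_conj3 hm)

/-- rank two, odd characteristic -/
theorem main2odd [Fintype F] (hm : m = 1) (h2 : (2 : F) ≠ 0) :
    ∃ u g h : Matrix.symplecticGroup (Fin (m + 1)) F,
      IsNilpotent ((u : Matrix (Fin (m + 1) ⊕ Fin (m + 1)) (Fin (m + 1) ⊕ Fin (m + 1)) F) - 1) ∧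
      ((u : Matrix (Fin (m + 1) ⊕ Fin (m + 1)) (Fin (m + 1) ⊕ Fin (m + 1)) F) - 1) ^
        (2 * (m + 1) - 1) ≠ 0 ∧
      Subgroup.closure ({u, g * u * g⁻¹, h * u * h⁻¹} :
        Set (Matrix.symplecticGroup (Fin (m + 1)) F)) = ⊤ :=
  designA (by omega) (exists_conj2 hm h2)

end Cfsg.Agent.Lib.H9.SpG
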