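import Mathlib
import Cfsg.Agent.Lib.H9.SpGN

set_option autoImplicit false
set_option linter.unusedSectionVars false
set_option linter.unusedVariables false

/-!
# Generation of `Sp_4(F)` in characteristic two: the elements
-/

namespace Cfsg.Agent.Lib.H9.SpG

open Matrix Cfsg.Agent.Lib.H4 Cfsg.Agent.Lib.H2.Sp

variable {F : Type*} [Field F] {n : ℕ}

attribute [local simp] BF_add_left BF_add_right BF_sub_left BF_sub_right BF_neg_left BF_neg_right
  BF_smul_left BF_smul_right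

/-- product of two root elements with the same second vector -/
theorem xel_mul {w w' v : K n → F} (hwv : BF w v = 0) (hw'v : BF w' v = 0) (s : F) :
    xel w v s * xel w' v s = xel (w + w') v s * tv n v (s ^ 2 * BF w' w) := by
  have hvw : BF v w = 0 := by rw [BF_swap, hwv, neg_zero]
  have hvw' : BF v w' = 0 := by rw [BF_swap, hw'v, neg_zero]
  have h3 : BF (w + w') v = 0 := by rw [BF_add_left, hwv, hw'v, add_zero]
  have h4 : BF w w' = - BF w' w := BF_swap _ _
  apply sp_ext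
  intro x
  rw [coe_mul_mulVec, coe_mul_mulVec, xel_mulVec hwv, xel_mulVec hw'v, xel_mulVec h3, tv_mulVec']
  simp only [BF_add_left, BF_add_right, BF_smul_left, hw'v, hvw, hvw', BF_self]
  module

/-- the symplectic `J` as a group element -/
def jS (F : Type*) [Field F] (n : ℕ) : Matrix.symplecticGroup (Fin n) F :=
  ⟨Matrix.J (Fin n) F, _root_.SymplecticGroup.J_mem (Fin n) F⟩

theorem jS_e (j : Fin n) : (jS F n).1 *ᵥ (eV j : K n → F) = fV j := by
  show Matrix.J (Fin n) F *ᵥ _ = _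
  unfold eV fV
  rw [Matrix.mulVec_single_one]
  ext k
  rcases k with i | i
  · simp [Matrix.J]
  · simp [Matrix.J, Matrix.one_apply, Pi.single_apply]

theorem jS_f (j : Fin n) : (jS F n).1 *ᵥ (fV j : K n → F) = -eV j := by
  show Matrix.J (Fin n) F *ᵥ _ = _
  unfold eV fV
  rw [Matrix.mulVec_single_one]
  ext k
  rcases k with i | i
  · simp [Matrix.J, Matrix.one_apply, Pi.single_apply]
  · simp [Matrix.J]

theorem jSi_f (j : Fin n) : ((jS F n)⁻¹).1 *ᵥ (fV j : K n → F) = eV j := by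
  have := mulVec_inv_mulVec (jS F n) (eV j : K n → F)
  rwa [jS_e] at this

theorem jSi_e (j : Fin n) : ((jS F n)⁻¹).1 *ᵥ (eV j : K n → F) = -fV j := by
  have := mulVec_inv_mulVec (jS F n) (-fV j : K n → F)
  rwa [Matrix.mulVec_neg, jS_f, neg_neg] at this

/-- scalar Levi element -/
noncomputable def scS (μ : F) (hμ : μ ≠ 0) : Matrix.symplecticGroup (Fin n) F :=
  levS (μ • (1 : Matrix (Fin n) (Fin n) F)) (μ⁻¹ • (1 : Matrix (Fin n) (Fin n) F)) (by
    rw [Matrix.smul_mul, Matrix.mul_smul, Matrix.mul_one, smul_smul, mul_inv_cancel₀ hμ, one_smul])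

theorem scS_e (μ : F) (hμ : μ ≠ 0) (j : Fin n) :
    (scS (n := n) μ hμ).1 *ᵥ (eV j : K n → F) = μ • eV j := by
  show lev _ _ *ᵥ _ = _
  rw [lev_mulVec_eV, eV_eq_elim]
  ext k
  rcases k with i | i
  · simp [Matrix.one_apply, Pi.single_apply]
  · simp

theorem lev_mul_lev (a b c d : Matrix (Fin n) (Fin n) F) :
    lev a b * lev c d = lev (a * c) (d * b) := by
  unfold lev
  rw [Matrix.fromBlocks_multiply]
  simp [Matrix.transpose_mul]

theorem scS_comm (μ : F) (hμ : μ ≠ 0) {a b : Matrix (Fin n) (Fin n) F} (h : a * b = 1) :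
    scS μ hμ * levS a b h = levS a b h * scS μ hμ := by
  apply Subtype.ext
  show lev _ _ * lev a b = lev a b * lev _ _
  rw [lev_mul_lev, lev_mul_lev]
  simp

variable {m : ℕ}

/-- the second generator: `ι(μ) u ι(μ)⁻¹ = T_{e_m}(μ²) ι(x)` -/
theorem scS_conj_uS (μ : F) (hμ : μ ≠ 0) :
    scS μ hμ * uS F m * (scS μ hμ)⁻¹ = tv (m + 1) (eV (Fin.last m)) (μ ^ 2) * ixS F m := by
  unfold uS
  have h1 : scS μ hμ * ixS F m = ixS F m * scS μ hμ := scS_comm μ hμ _
  calc scS μ hμ * (tv (m + 1) (eV (Fin.last m)) 1 * ixS F m) * (scS μ hμ)⁻¹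
      = (scS μ hμ * tv (m + 1) (eV (Fin.last m)) 1 * (scS μ hμ)⁻¹) *
          (scS μ hμ * ixS F m) * (scS μ hμ)⁻¹ := by group
    _ = tv (m + 1) (eV (Fin.last m)) (μ ^ 2) * ixS F m := by
        rw [h1, conj_tv, scS_e, tv_smul, one_mul]; group

theorem scS_conj_mul_inv (μ : F) (hμ : μ ≠ 0) :
    (scS μ hμ * uS F m * (scS μ hμ)⁻¹) * (uS F m)⁻¹ =
      tv (m + 1) (eV (Fin.last m)) (μ ^ 2 - 1) := by
  rw [scS_conj_uS]
  unfold uS
  rw [_root_.mul_inv_rev, tv_inv, sub_eq_add_neg, ← tv_mul]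
  group

end Cfsg.Agent.Lib.H9.SpG
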