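import Mathlib
import Cfsg.Agent.Lib.H9.SpGO

set_option autoImplicit false
set_option linter.unusedSectionVars false
set_option linter.unusedVariables false

/-!
# Generation of `Sp_4(F)` in characteristic two
-/

namespace Cfsg.Agent.Lib.H9.SpG

open Matrix Cfsg.Agent.Lib.H4 Cfsg.Agent.Lib.H2.Sp

variable {F : Type*} [Field F]

attribute [local simp] BF_add_left BF_add_right BF_sub_left BF_sub_right BF_neg_left BF_neg_right
  BF_smul_left BF_smul_right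

local notation "e0" => (eV (0 : Fin (1 + 1)) : K (1 + 1) → F)
local notation "e1" => (eV (1 : Fin (1 + 1)) : K (1 + 1) → F)
local notation "f0" => (fV (0 : Fin (1 + 1)) : K (1 + 1) → F)
local notation "f1" => (fV (1 : Fin (1 + 1)) : K (1 + 1) → F)

theorem vneg [CharP F 2] {n : ℕ} (v : K n → F) : -v = v := by
  funext k
  rw [Pi.neg_apply, CharTwo.neg_eq]

theorem vadd_self [CharP F 2] {n : ℕ} (v : K n → F) : v + v = 0 := by
  funext k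
  rw [Pi.add_apply, CharTwo.add_self_eq_zero]; rfl

/-- the third generator in rank two, characteristic two -/
noncomputable def zS (F : Type*) [Field F] : Matrix.symplecticGroup (Fin (1 + 1)) F :=
  jS F (1 + 1) * uS F 1 * (jS F (1 + 1))⁻¹

theorem u_e1 : (uS F 1).1 *ᵥ e1 = e1 + e0 := uS_e (0 : Fin 1)
theorem u_e0 : (uS F 1).1 *ᵥ e0 = e0 := uS_e0
theorem u_f1 : (uS F 1).1 *ᵥ f1 = f1 + e1 := uS_fl
theorem ui_f0 : ((uS F 1)⁻¹).1 *ᵥ f0 = f0 + f1 := uSi_f (0 : Fin 1)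

theorem z_e1 : (zS F).1 *ᵥ e1 = e1 - f1 := by
  unfold zS
  rw [coe_mul_mulVec, coe_mul_mulVec, jSi_e, Matrix.mulVec_neg, u_f1, Matrix.mulVec_neg,
    Matrix.mulVec_add, jS_f, jS_e]
  abel

theorem z_f1 : (zS F).1 *ᵥ f1 = f1 + f0 := by
  unfold zS
  rw [coe_mul_mulVec, coe_mul_mulVec, jSi_f, u_e1, Matrix.mulVec_add, jS_e, jS_e]

theorem zi_e0 : ((zS F)⁻¹).1 *ᵥ e0 = e0 + e1 := by
  have : (zS F)⁻¹ = jS F (1 + 1) * (uS F 1)⁻¹ * (jS F (1 + 1))⁻¹ := by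
    unfold zS; group
  rw [this, coe_mul_mulVec, coe_mul_mulVec, jSi_e, Matrix.mulVec_neg, ui_f0, Matrix.mulVec_neg,
    Matrix.mulVec_add, jS_f, jS_f]
  abel

variable {H : Subgroup (Matrix.symplecticGroup (Fin (1 + 1)) F)}

/-- the orbit of `e₁`, with a fixed parameter -/
structure Orb (H : Subgroup (Matrix.symplecticGroup (Fin (1 + 1)) F)) (t : F) : Prop where
  me1 : tv (1 + 1) e1 t ∈ H
  me0 : tv (1 + 1) e0 t ∈ H
  mf1 : tv (1 + 1) f1 t ∈ H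
  mf0 : tv (1 + 1) f0 t ∈ H
  me1e0 : tv (1 + 1) (e1 + e0) t ∈ H
  me1f1 : tv (1 + 1) (e1 + f1) t ∈ H
  mf1f0 : tv (1 + 1) (f1 + f0) t ∈ H
  me0f1 : tv (1 + 1) (e0 + f1) t ∈ H
  me1f0 : tv (1 + 1) (e1 + f0) t ∈ H
  me0f1e1 : tv (1 + 1) (e0 + (f1 + e1)) t ∈ H

section orbit

variable [CharP F 2] (hu : uS F 1 ∈ H) (hz : zS F ∈ H)

include hu hz

theorem orb_of_e1 {t : F} (h : tv (1 + 1) e1 t ∈ H) : Orb H t := by
  have a1 : tv (1 + 1) (e1 + e0) t ∈ H := tv_mem_of_mulVec_eq hu h u_e1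
  have a2 : tv (1 + 1) (e1 + f1) t ∈ H := by
    have := tv_mem_of_mulVec_eq hz h z_e1
    rwa [sub_eq_add_neg, vneg] at this
  have a3 : tv (1 + 1) f1 t ∈ H :=
    tv_mem_of_mulVec_eq' hu (tv_congr (add_comm _ _) a2) u_f1
  have a4 : tv (1 + 1) (f1 + f0) t ∈ H := tv_mem_of_mulVec_eq hz a3 z_f1
  have a5 : tv (1 + 1) f0 t ∈ H :=
    tv_mem_of_mulVec_eq' (inv_mem hu) (tv_congr (add_comm _ _) a4) ui_f0
  have a6 : tv (1 + 1) e0 t ∈ H :=
    tv_mem_of_mulVec_eq' (inv_mem hz) (tv_congr (add_comm _ _) a1) zi_e0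
  have a7 : tv (1 + 1) (e0 + f1) t ∈ H := by
    refine tv_mem_of_mulVec_eq hu a2 ?_
    rw [Matrix.mulVec_add, u_e1, u_f1]
    have : e1 + e0 + (f1 + e1) = (e0 + f1) + (e1 + e1) := by abel
    rw [this, vadd_self, add_zero]
  have a8 : tv (1 + 1) (e1 + f0) t ∈ H := by
    refine tv_mem_of_mulVec_eq hz a2 ?_
    rw [Matrix.mulVec_add, z_e1, z_f1]
    abel
  have a9 : tv (1 + 1) (e0 + (f1 + e1)) t ∈ H := by
    refine tv_mem_of_mulVec_eq hu a7 ?_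
    rw [Matrix.mulVec_add, u_e0, u_f1]
  exact ⟨h, a6, a3, a5, a1, a2, a4, a7, a8, a9⟩

theorem e1_of_f1 {t : F} (h : tv (1 + 1) f1 t ∈ H) : tv (1 + 1) e1 t ∈ H := by
  have a1 : tv (1 + 1) (f1 + e1) t ∈ H := tv_mem_of_mulVec_eq hu h u_f1
  refine tv_mem_of_mulVec_eq' hz a1 ?_
  rw [z_e1, sub_eq_add_neg, vneg]
  exact add_comm _ _

theorem e1_of_e0 {t : F} (h : tv (1 + 1) e0 t ∈ H) : tv (1 + 1) e1 t ∈ H := by
  have a1 : tv (1 + 1) (e0 + e1) t ∈ H := tv_mem_of_mulVec_eq (inv_mem hz) h zi_e0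
  exact tv_mem_of_mulVec_eq' hu (tv_congr (add_comm _ _) a1) u_e1

theorem tr_char2 (t : F) (h : tv (1 + 1) f1 t ∈ H) :
    Transfer H (1 : Fin (1 + 1)) (0 : Fin (1 + 1)) t := by
  have O := orb_of_e1 hu hz (e1_of_f1 hu hz h)
  exact ⟨O.me1, O.me0, O.mf0, tv_congr (add_comm _ _) O.me0f1, O.mf1f0, O.me1f0⟩

/-- squaring -/
theorem sq_char2 {s : F} (O : Orb H s) : tv (1 + 1) e0 (s ^ 2) ∈ H := by
  have h10 : (1 : Fin (1 + 1)) ≠ 0 := by decide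
  have b1 : BF f1 e0 = 0 := BF_fe_ne h10
  have b2 : BF e1 e0 = 0 := BF_ee _ _
  have X1 : xel f1 e0 s ∈ H := xel_mem (tv_congr (add_comm _ _) O.me0f1) O.mf1 O.me0
  have X2 : xel e1 e0 s ∈ H := xel_mem O.me1e0 O.me1 O.me0
  have X3 : xel (f1 + e1) e0 s ∈ H :=
    xel_mem (tv_congr (by abel) O.me0f1e1) (tv_congr (add_comm _ _) O.me1f1) O.me0
  have key := xel_mul b1 b2 s
  have h1 : tv (1 + 1) e0 (s ^ 2 * BF e1 f1) ∈ H := by
    have := mul_mem (inv_mem X3) (mul_mem X1 X2)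
    rwa [key, ← mul_assoc, inv_mul_cancel, one_mul] at this
  rw [BF_ef_same, mul_neg, mul_one] at h1
  have := tv_neg_mem h1
  rwa [neg_neg] at this

end orbit

end Cfsg.Agent.Lib.H9.SpG
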