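import Mathlib
import Cfsg.Agent.Lib.H9.SpGP

set_option autoImplicit false
set_option linter.unusedSectionVars false
set_option linter.unusedVariables false

/-!
# Generation of `Sp_4(F)` in characteristic two by three conjugate regular unipotents
-/

namespace Cfsg.Agent.Lib.H9.SpG

open Matrix Cfsg.Agent.Lib.H4 Cfsg.Agent.Lib.H2.Sp

variable {F : Type*} [Field F]

/-- rank two, characteristic two, more than two elements -/
theorem main2even [Fintype F] [CharP F 2] (h4 : Fintype.card F ≠ 2) :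
    ∃ u g h : Matrix.symplecticGroup (Fin (1 + 1)) F,
      IsNilpotent ((u : Matrix (Fin (1 + 1) ⊕ Fin (1 + 1)) (Fin (1 + 1) ⊕ Fin (1 + 1)) F) - 1) ∧
      ((u : Matrix (Fin (1 + 1) ⊕ Fin (1 + 1)) (Fin (1 + 1) ⊕ Fin (1 + 1)) F) - 1) ^
        (2 * (1 + 1) - 1) ≠ 0 ∧
      Subgroup.closure ({u, g * u * g⁻¹, h * u * h⁻¹} :
        Set (Matrix.symplecticGroup (Fin (1 + 1)) F)) = ⊤ := by
  obtain ⟨r, hr0, hgen⟩ := exists_gen (F := F)
  have hr1 : r ≠ 1 := by
    classical
    rintro rfl
    apply h4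
    have h1 : (Finset.univ : Finset F) ⊆ {(0 : F), (1 : F)} := by
      intro a _
      simp only [Finset.mem_insert, Finset.mem_singleton]
      by_cases ha : a = 0
      · left; exact ha
      · right
        obtain ⟨k, hk⟩ := hgen a ha
        rw [hk, one_pow]
    have h2 := Finset.card_le_card h1
    rw [Finset.card_univ] at h2
    have h3 : ({(0 : F), (1 : F)} : Finset F).card ≤ 2 := Finset.card_le_two
    have h5 : 1 < Fintype.card F := Fintype.one_lt_card
    omega
  obtain ⟨μ, hμ2⟩ := FiniteField.isSquare_of_char_two (ringChar.eq F 2) (r + 1)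
  have hμ : μ ≠ 0 := by
    rintro rfl
    rw [mul_zero] at hμ2
    apply hr1
    have : r = -1 := eq_neg_of_add_eq_zero_left hμ2
    rw [this, CharTwo.neg_eq]
  refine ⟨uS F 1, scS μ hμ, jS F (1 + 1), uS_nilpotent, uS_regular, ?_⟩
  set H := Subgroup.closure ({uS F 1, scS μ hμ * uS F 1 * (scS μ hμ)⁻¹,
    jS F (1 + 1) * uS F 1 * (jS F (1 + 1))⁻¹} :
      Set (Matrix.symplecticGroup (Fin (1 + 1)) F)) with hH
  have hu : uS F 1 ∈ H := Subgroup.subset_closure (by simp)
  have hy : scS μ hμ * uS F 1 * (scS μ hμ)⁻¹ ∈ H := Subgroup.subset_closure (by simp)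
  have hz : zS F ∈ H := by
    unfold zS
    exact Subgroup.subset_closure (by simp)
  have hc : tv (1 + 1) (eV (1 : Fin (1 + 1)) : K (1 + 1) → F) r ∈ H := by
    have := mul_mem hy (inv_mem hu)
    rw [scS_conj_mul_inv] at this
    have e : μ ^ 2 - 1 = r := by rw [pow_two, ← hμ2]; ring
    rw [e] at this
    exact this
  have O := orb_of_e1 hu hz hc
  have O2 := orb_of_e1 hu hz (e1_of_e0 hu hz (sq_char2 hu hz O))
  have hl := all_of_generator (i := (1 : Fin (1 + 1))) (j := (0 : Fin (1 + 1))) (by decide)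
    (tr_char2 hu hz) hr0 hgen O.mf1 O2.mf1
  have hF : Full H := by
    apply full_of_tr (m := 1) _ le_rfl hl
    intro j t h
    have : j = 0 := Subsingleton.elim _ _
    subst this
    exact tr_char2 hu hz t h
  exact hF.eq_top

end Cfsg.Agent.Lib.H9.SpG
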