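/-
S2316 (Steinberg count for `Sp_2m(q)`; helper9): block-triangular symplectic matrices.
For a block function `β` on the coordinates: `Pblk β` = symplectic matrices which are block upper triangular,
`Ublk β` = those with identity diagonal blocks (a normal subgroup of `Pblk β`).
`β = rk m` gives `Bsp` and the unipotent radical `Usp`.
-/
import Cfsg.Agent.Lib.H8.SpBNA

set_option autoImplicit false
set_option linter.unusedSectionVars false

namespace Cfsg.Agent.Lib.H9.SpSt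

open Matrix Cfsg.Agent.Lib.H11.SpU Cfsg.Agent.Lib.H8.SpBN

section generic

variable {n R : Type*} [Fintype n] [DecidableEq n] [CommRing R]

/-- block unitriangular: block triangular with identity diagonal blocks -/
def IsBU (β : n → ℕ) (A : Matrix n n R) : Prop :=
  A.BlockTriangular β ∧ ∀ k l, β k = β l → A k l = (1 : Matrix n n R) k l

theorem isBU_one (β : n → ℕ) : IsBU β (1 : Matrix n n R) :=
  ⟨Matrix.blockTriangular_one, fun _ _ _ => rfl⟩

theorem bt_mul_apply_of_eq {β : n → ℕ} {A B : Matrix n n R} (hA : A.BlockTriangular β)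
    (hB : B.BlockTriangular β) {k l : n} (hkl : β k = β l) :
    (A * B) k l = ∑ j ∈ Finset.univ.filter (fun j => β j = β k), A k j * B j l := by
  rw [Matrix.mul_apply, Finset.sum_filter]
  apply Finset.sum_congr rfl
  intro j _
  split_ifs with h
  · rfl
  · rcases lt_or_gt_of_ne h with h1 | h1
    · rw [hA h1, zero_mul]
    · rw [hB (by rw [← hkl]; exact h1), mul_zero]

theorem bu_mul_apply {β : n → ℕ} {A B : Matrix n n R} (hA : IsBU β A) (hB : B.BlockTriangular β)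
    {k l : n} (hkl : β k = β l) : (A * B) k l = B k l := by
  rw [bt_mul_apply_of_eq hA.1 hB hkl, Finset.sum_eq_single k]
  · rw [hA.2 k k rfl, Matrix.one_apply_eq, one_mul]
  · intro j hj hjk
    rw [Finset.mem_filter] at hj
    rw [hA.2 k j hj.2.symm, Matrix.one_apply_ne (Ne.symm hjk), zero_mul]
  · intro h
    exact absurd (by simp) h

theorem mul_bu_apply {β : n → ℕ} {A B : Matrix n n R} (hA : A.BlockTriangular β) (hB : IsBU β B)
    {k l : n} (hkl : β k = β l) : (A * B) k l = A k l := by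
  rw [bt_mul_apply_of_eq hA hB.1 hkl, Finset.sum_eq_single l]
  · rw [hB.2 l l rfl, Matrix.one_apply_eq, mul_one]
  · intro j hj hjl
    rw [Finset.mem_filter] at hj
    rw [hB.2 j l (hj.2.trans hkl), Matrix.one_apply_ne hjl, mul_zero]
  · intro h
    exact absurd (by simp [hkl]) h

theorem IsBU.mul {β : n → ℕ} {A B : Matrix n n R} (hA : IsBU β A) (hB : IsBU β B) : IsBU β (A * B) :=
  ⟨hA.1.mul hB.1, fun k l hkl => by rw [bu_mul_apply hA hB.1 hkl, hB.2 k l hkl]⟩

end generic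

variable {F : Type*} [Field F] {m : ℕ}

/-- block upper triangular symplectic matrices -/
def Pblk (β : Fin (m + 1) ⊕ Fin (m + 1) → ℕ) : Subgroup (Sp (m + 1) F) where
  carrier := {g | g.1.BlockTriangular β ∧ (g⁻¹).1.BlockTriangular β}
  one_mem' := ⟨Matrix.blockTriangular_one, by rw [inv_one]; exact Matrix.blockTriangular_one⟩
  mul_mem' := by
    intro a b ha hb
    exact ⟨ha.1.mul hb.1, by rw [_root_.mul_inv_rev]; exact hb.2.mul ha.2⟩
  inv_mem' := by
    intro a ha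
    exact ⟨ha.2, by rw [inv_inv]; exact ha.1⟩

/-- block unitriangular symplectic matrices -/
def Ublk (β : Fin (m + 1) ⊕ Fin (m + 1) → ℕ) : Subgroup (Sp (m + 1) F) where
  carrier := {g | IsBU β g.1 ∧ (g⁻¹).1.BlockTriangular β}
  one_mem' := ⟨isBU_one β, by rw [inv_one]; exact Matrix.blockTriangular_one⟩
  mul_mem' := by
    intro a b ha hb
    exact ⟨ha.1.mul hb.1, by rw [_root_.mul_inv_rev]; exact hb.2.mul ha.2⟩
  inv_mem' := by
    intro a ha
    refine ⟨⟨ha.2, fun k l hkl => ?_⟩, by rw [inv_inv]; exact ha.1.1⟩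
    have h1 : (a * a⁻¹ : Sp (m + 1) F).1 k l = (1 : Matrix _ _ F) k l := by
      rw [mul_inv_cancel]; rfl
    rw [Submonoid.coe_mul, bu_mul_apply ha.1 ha.2 hkl] at h1
    exact h1

theorem mem_Pblk {β : Fin (m + 1) ⊕ Fin (m + 1) → ℕ} {g : Sp (m + 1) F} :
    g ∈ Pblk (F := F) β ↔ g.1.BlockTriangular β ∧ (g⁻¹).1.BlockTriangular β := Iff.rfl

theorem mem_Ublk {β : Fin (m + 1) ⊕ Fin (m + 1) → ℕ} {g : Sp (m + 1) F} :
    g ∈ Ublk (F := F) β ↔ IsBU β g.1 ∧ (g⁻¹).1.BlockTriangular β := Iff.rfl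

theorem Ublk_le_Pblk (β : Fin (m + 1) ⊕ Fin (m + 1) → ℕ) : Ublk (F := F) β ≤ Pblk β :=
  fun _ hg => ⟨hg.1.1, hg.2⟩

/-- `Ublk β` is normalized by `Pblk β` -/
theorem conj_mem_Ublk {β : Fin (m + 1) ⊕ Fin (m + 1) → ℕ} {g u : Sp (m + 1) F}
    (hg : g ∈ Pblk (F := F) β) (hu : u ∈ Ublk (F := F) β) : g * u * g⁻¹ ∈ Ublk (F := F) β := by
  have hP : g * u * g⁻¹ ∈ Pblk (F := F) β :=
    (Pblk β).mul_mem ((Pblk β).mul_mem hg (Ublk_le_Pblk β hu)) ((Pblk β).inv_mem hg)
  refine ⟨⟨hP.1, fun k l hkl => ?_⟩, hP.2⟩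
  have h1 : (g * g⁻¹ : Sp (m + 1) F).1 k l = (1 : Matrix _ _ F) k l := by
    rw [mul_inv_cancel]; rfl
  rw [← h1]
  change ((g.1 * u.1) * (g⁻¹).1) k l = (g.1 * (g⁻¹).1) k l
  rw [bt_mul_apply_of_eq (hg.1.mul hu.1.1) hg.2 hkl, bt_mul_apply_of_eq hg.1 hg.2 hkl]
  apply Finset.sum_congr rfl
  intro j hj
  rw [Finset.mem_filter] at hj
  rw [mul_bu_apply hg.1 hu.1 hj.2.symm]

theorem Pblk_rk : Pblk (F := F) (rk m) = Bsp m F := rfl

/-- the unipotent radical of `Bsp`: upper unitriangular symplectic matrices -/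
def Usp (m : ℕ) (F : Type*) [Field F] : Subgroup (Sp (m + 1) F) := Ublk (rk m)

theorem Usp_le_Bsp : Usp m F ≤ Bsp m F := Ublk_le_Pblk (rk m)

theorem mem_Usp_iff {g : Sp (m + 1) F} : g ∈ Usp m F ↔ g ∈ Bsp m F ∧ ∀ k, g.1 k k = 1 := by
  constructor
  · intro h
    refine ⟨Usp_le_Bsp h, fun k => ?_⟩
    rw [h.1.2 k k rfl, Matrix.one_apply_eq]
  · intro h
    refine ⟨⟨h.1.1, fun k l hkl => ?_⟩, h.1.2⟩
    have := rk_injective hkl
    subst this
    rw [h.2 k, Matrix.one_apply_eq]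

theorem conj_mem_Usp {b u : Sp (m + 1) F} (hb : b ∈ Bsp m F) (hu : u ∈ Usp m F) :
    b * u * b⁻¹ ∈ Usp m F := conj_mem_Ublk (β := rk m) hb hu

end Cfsg.Agent.Lib.H9.SpSt
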