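/-
S2316 (Steinberg count for `Sp_2m(q)`; helper9): the unipotent radical `Usp` of `Bsp`:
`Bsp = Tsp ⋉ Usp`, `|Usp| = q^((m+1)^2)`, `Usp` is a `p`-group, `p ∤ |Tsp|`, `Bsp ⊓ Nsp = Tsp`.
-/
import Cfsg.Agent.Lib.H9.SpStBlk
import Cfsg.Agent.Lib.H27.SpBNK
import Cfsg.Agent.Lib.H8.SpBNMain

set_option autoImplicit false
set_option linter.unusedSectionVars false

namespace Cfsg.Agent.Lib.H9.SpSt

open Matrix Cfsg.Agent.Lib.H12.LS2 Cfsg.Agent.Lib.H5.LS2 Cfsg.Agent.Lib.H11.SpU Cfsg.Agent.Lib.H8.SpBN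
open Cfsg.Agent.Lib.H27.SpBN

variable {F : Type*} [Field F] {m : ℕ}

/-- the diagonal of a product of upper triangular matrices -/
theorem isUp_mul_diag {A B : Matrix (Fin (m + 1) ⊕ Fin (m + 1)) (Fin (m + 1) ⊕ Fin (m + 1)) F}
    (hA : IsUp A) (hB : IsUp B) (k : Fin (m + 1) ⊕ Fin (m + 1)) : (A * B) k k = A k k * B k k := by
  rw [bt_mul_apply_of_eq hA hB rfl, Finset.sum_eq_single k]
  · intro j hj hjk
    rw [Finset.mem_filter] at hj
    exact absurd (rk_injective hj.2) hjk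
  · intro h
    exact absurd (by simp) h

theorem Bsp_diag_mul {b : Sp (m + 1) F} (hb : b ∈ Bsp m F) (k : Fin (m + 1) ⊕ Fin (m + 1)) :
    b.1 k k * b.1 k.swap k.swap = 1 := by
  have h1 : (b * b⁻¹ : Sp (m + 1) F).1 k k = 1 := by
    rw [mul_inv_cancel]
    exact Matrix.one_apply_eq k
  rw [Submonoid.coe_mul, isUp_mul_diag hb.1 hb.2, inv_val_apply, sg_mul_self, one_mul] at h1
  exact h1

theorem Tsp_inf_Usp : Tsp m F ⊓ Usp m F = ⊥ := by
  rw [eq_bot_iff]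
  rintro g ⟨hT, hU⟩
  rw [Subgroup.mem_bot]
  apply Subtype.ext
  ext k l
  have hT : g ∈ Tsp m F := hT
  have hU : g ∈ Usp m F := hU
  rw [mem_Usp_iff] at hU
  by_cases hkl : k = l
  · subst hkl
    rw [hU.2 k]
    exact (Matrix.one_apply_eq k).symm
  · rw [hT.1 k l hkl]
    exact (Matrix.one_apply_ne hkl).symm

/-- `Bsp = Tsp * Usp` -/
theorem exists_Tsp_mul_Usp {b : Sp (m + 1) F} (hb : b ∈ Bsp m F) :
    ∃ t ∈ Tsp m F, ∃ u ∈ Usp m F, b = t * u := by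
  have hne : ∀ i : Fin (m + 1), b.1 (Sum.inl i) (Sum.inl i) ≠ 0 := by
    intro i h
    have := Bsp_diag_mul hb (Sum.inl i)
    rw [h, zero_mul] at this
    exact zero_ne_one this
  set d : Fin (m + 1) → Fˣ := fun i => Units.mk0 _ (hne i) with hd
  have ht : (lEl (dGL d) : Sp (m + 1) F) ∈ Tsp m F := lEl_dGL_mem_Tsp d
  refine ⟨lEl (dGL d), ht, (lEl (dGL d))⁻¹ * b, ?_, by rw [mul_inv_cancel_left]⟩
  rw [mem_Usp_iff]
  have hB : (lEl (dGL d) : Sp (m + 1) F)⁻¹ * b ∈ Bsp m F :=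
    (Bsp m F).mul_mem ((Bsp m F).inv_mem (Tsp_le_Bsp ht)) hb
  refine ⟨hB, fun k => ?_⟩
  rw [Submonoid.coe_mul, isUp_mul_diag ((Bsp m F).inv_mem (Tsp_le_Bsp ht)).1 hb.1, inv_val_apply,
    sg_mul_self, one_mul]
  rcases k with i | i
  · rw [Sum.swap_inl, lEl_val, Matrix.fromBlocks_apply₂₂, Matrix.transpose_apply]
    change (Matrix.diagonal (fun i => (((d i)⁻¹ : Fˣ) : F))) i i * _ = 1
    rw [Matrix.diagonal_apply_eq]
    have : b.1 (Sum.inl i) (Sum.inl i) = ((d i : Fˣ) : F) := rfl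
    rw [this, ← Units.val_mul, inv_mul_cancel, Units.val_one]
  · rw [Sum.swap_inr, lEl_val, Matrix.fromBlocks_apply₁₁]
    change (Matrix.diagonal (fun i => ((d i : Fˣ) : F))) i i * _ = 1
    rw [Matrix.diagonal_apply_eq]
    have h1 := Bsp_diag_mul hb (Sum.inl i)
    rw [Sum.swap_inl] at h1
    exact h1

theorem card_Bsp_eq_mul [Finite F] : Nat.card (Bsp m F) = Nat.card (Tsp m F) * Nat.card (Usp m F) := by
  rw [← Nat.card_prod]
  symm
  apply Nat.card_congr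
  refine Equiv.ofBijective
    (fun p : Tsp m F × Usp m F =>
      (⟨p.1.1 * p.2.1, (Bsp m F).mul_mem (Tsp_le_Bsp p.1.2) (Usp_le_Bsp p.2.2)⟩ : Bsp m F)) ⟨?_, ?_⟩
  · rintro ⟨⟨t, ht⟩, ⟨u, hu⟩⟩ ⟨⟨t', ht'⟩, ⟨u', hu'⟩⟩ h
    have h1 : t * u = t' * u' := congrArg Subtype.val h
    have h2 : t'⁻¹ * t = u' * u⁻¹ := by
      rw [eq_mul_inv_iff_mul_eq, mul_assoc, h1, inv_mul_cancel_left]
    have h3 : t'⁻¹ * t ∈ Tsp m F ⊓ Usp m F :=
      ⟨(Tsp m F).mul_mem ((Tsp m F).inv_mem ht') ht,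
        by rw [h2]; exact (Usp m F).mul_mem hu' ((Usp m F).inv_mem hu)⟩
    rw [Tsp_inf_Usp, Subgroup.mem_bot] at h3
    have h4 : t = t' := by
      rw [inv_mul_eq_one] at h3
      exact h3.symm
    subst h4
    have h5 : u = u' := mul_left_cancel h1
    subst h5
    rfl
  · rintro ⟨b, hb⟩
    obtain ⟨t, ht, u, hu, rfl⟩ := exists_Tsp_mul_Usp hb
    exact ⟨(⟨t, ht⟩, ⟨u, hu⟩), rfl⟩

theorem card_Usp [Fintype F] : Nat.card (Usp m F) = Fintype.card F ^ ((m + 1) ^ 2) := by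
  have h1 : (⊥ : Subgroup (Sp (m + 1) F)).relIndex (Tsp m F) * (Tsp m F).relIndex (Bsp m F) =
      (⊥ : Subgroup (Sp (m + 1) F)).relIndex (Bsp m F) :=
    Subgroup.relIndex_mul_relIndex _ _ _ bot_le Tsp_le_Bsp
  rw [Subgroup.relIndex_bot_left, Subgroup.relIndex_bot_left, card_Bsp_eq_mul, relIndex_Tsp_Bsp] at h1
  have hpos : 0 < Nat.card (Tsp m F) := Nat.card_pos
  exact (Nat.eq_of_mul_eq_mul_left hpos h1).symm

theorem isPGroup_Usp [Fintype F] (p : ℕ) [Fact p.Prime] [CharP F p] : IsPGroup p (Usp m F) := by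
  obtain ⟨n, -, hn⟩ := FiniteField.card F p
  apply IsPGroup.of_card (n := (n : ℕ) * (m + 1) ^ 2)
  rw [card_Usp, hn, pow_mul]

theorem not_dvd_card_Tsp [Fintype F] (p : ℕ) [Fact p.Prime] [CharP F p] : ¬ p ∣ Nat.card (Tsp m F) := by
  rw [card_Tsp]
  intro h
  have hp : p.Prime := Fact.out
  have h1 : p ∣ Nat.card Fˣ := hp.dvd_of_dvd_pow h
  classical
  rw [Nat.card_eq_fintype_card, Fintype.card_units] at h1
  obtain ⟨n, -, hn⟩ := FiniteField.card F p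
  have h2 : p ∣ Fintype.card F := by
    rw [hn]
    exact dvd_pow_self p n.ne_zero
  have h3 : 1 ≤ Fintype.card F := Fintype.card_pos
  have h4 : p ∣ 1 := by
    have := Nat.dvd_sub h2 h1
    rwa [Nat.sub_sub_self h3] at this
  exact hp.one_lt.ne' (Nat.dvd_one.1 h4)

theorem Bsp_inf_Nsp : Bsp m F ⊓ Nsp m F = Tsp m F := by
  apply le_antisymm
  · exact le_trans (inf_le_inf_left _ Nsp_le_Msp) Bsp_inf_Msp_le
  · exact le_inf Tsp_le_Bsp Tsp_le_Nsp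

end Cfsg.Agent.Lib.H9.SpSt
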