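/-
S2316 (Steinberg count for `Sp_2m(q)`; helper9): the block structure attached to a set `I` of simple roots.
`jr m r` = index of the simple root joining the ranks `r, r+1`; `bl m I r` = number of cuts below rank `r`;
`βI m I = bl m I ∘ rk m`.  The parabolic `P_K` lies in `Pblk (βI m I)`, and `VI m F I = Ublk (βI m I)` is a subgroup of `Usp`
normalized by `P_K`.
-/
import Cfsg.Agent.Lib.H9.SpStU

set_option autoImplicit false
set_option linter.unusedSectionVars false

namespace Cfsg.Agent.Lib.H9.SpSt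

open Matrix Cfsg.Agent.Lib.H12.LS2 Cfsg.Agent.Lib.H5.LS2 Cfsg.Agent.Lib.H11.SpU Cfsg.Agent.Lib.H8.SpBN

variable {F : Type*} [Field F] {m : ℕ}

/-- one-sided membership in `Pblk` -/
theorem bt_inv {β : Fin (m + 1) ⊕ Fin (m + 1) → ℕ} {g : Sp (m + 1) F} (h : g.1.BlockTriangular β) :
    (g⁻¹).1.BlockTriangular β := by
  rw [SymplecticGroup.coe_inv']
  have h1 : g.1 * (g⁻¹).1 = 1 := by
    rw [← Submonoid.coe_mul, mul_inv_cancel]; rfl
  have h2 : (g⁻¹).1 * g.1 = 1 := by
    rw [← Submonoid.coe_mul, inv_mul_cancel]; rfl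
  letI : Invertible g.1 := ⟨(g⁻¹).1, h2, h1⟩
  exact Matrix.blockTriangular_inv_of_blockTriangular h

theorem mem_Pblk_iff {β : Fin (m + 1) ⊕ Fin (m + 1) → ℕ} {g : Sp (m + 1) F} :
    g ∈ Pblk (F := F) β ↔ g.1.BlockTriangular β :=
  ⟨fun h => h.1, fun h => ⟨h, bt_inv h⟩⟩

theorem mem_Ublk_iff {β : Fin (m + 1) ⊕ Fin (m + 1) → ℕ} {g : Sp (m + 1) F} :
    g ∈ Ublk (F := F) β ↔ IsBU β g.1 :=
  ⟨fun h => h.1, fun h => ⟨h, bt_inv h.1⟩⟩

/-- the index of the simple root joining the ranks `r` and `r + 1` -/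
def jr (m r : ℕ) : ℕ := if r ≤ m then r else 2 * m - r

open Classical in
/-- the number of cuts (simple roots not in `I`) below rank `r` -/
noncomputable def bl (m : ℕ) (I : Set ℕ) (r : ℕ) : ℕ :=
  ((Finset.range r).filter (fun t => jr m t ∉ I)).card

open Classical in
theorem bl_succ (I : Set ℕ) (r : ℕ) : bl m I (r + 1) = bl m I r + if jr m r ∈ I then 0 else 1 := by
  unfold bl
  rw [Finset.range_add_one, Finset.filter_insert]
  by_cases h1 : jr m r ∈ I
  · rw [if_neg (not_not.2 h1), if_pos h1, add_zero]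
  · rw [if_pos h1, if_neg h1, Finset.card_insert_of_notMem]
    intro h
    rw [Finset.mem_filter, Finset.mem_range] at h
    exact lt_irrefl _ h.1

theorem bl_mono (I : Set ℕ) : Monotone (bl m I) := by
  apply monotone_nat_of_le_succ
  intro r
  rw [bl_succ]
  omega

theorem jr_mem_of_bl_eq {I : Set ℕ} {r r' t : ℕ} (h : bl m I r = bl m I r') (h1 : r ≤ t) (h2 : t < r') :
    jr m t ∈ I := by
  by_contra hn
  have h3 := bl_succ (m := m) I t
  rw [if_neg hn] at h3
  have h4 := bl_mono (m := m) I h1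
  have h5 : bl m I (t + 1) ≤ bl m I r' := bl_mono (m := m) I (Nat.succ_le_of_lt h2)
  omega

theorem bl_eq_succ {I : Set ℕ} {r : ℕ} (h : jr m r ∈ I) : bl m I (r + 1) = bl m I r := by
  rw [bl_succ, if_pos h, add_zero]

/-- the block function of `I` on the coordinates -/
noncomputable def βI (m : ℕ) (I : Set ℕ) (k : Fin (m + 1) ⊕ Fin (m + 1)) : ℕ := bl m I (rk m k)

theorem rk_lt_of_βI_lt {I : Set ℕ} {k l : Fin (m + 1) ⊕ Fin (m + 1)} (h : βI m I l < βI m I k) :
    rk m l < rk m k := by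
  by_contra hn
  push Not at hn
  have := bl_mono (m := m) I hn
  unfold βI at h
  omega

theorem isUp_blockTriangular {I : Set ℕ} {A : Matrix (Fin (m + 1) ⊕ Fin (m + 1)) (Fin (m + 1) ⊕ Fin (m + 1)) F}
    (hA : IsUp A) : A.BlockTriangular (βI m I) := fun _ _ h => hA (rk_lt_of_βI_lt h)

theorem Bsp_le_Pblk (I : Set ℕ) : Bsp m F ≤ Pblk (βI m I) := fun g hg => by
  rw [mem_Pblk_iff]
  exact isUp_blockTriangular hg.1

/-- the unipotent radical attached to `I` -/
noncomputable def VI (m : ℕ) (F : Type*) [Field F] (I : Set ℕ) : Subgroup (Sp (m + 1) F) := Ublk (βI m I)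

theorem VI_le_Usp (I : Set ℕ) : VI m F I ≤ Usp m F := by
  intro g hg
  have hg' : IsBU (βI m I) g.1 := hg.1
  change g ∈ Ublk (rk m)
  rw [mem_Ublk_iff]
  have hup : g.1.BlockTriangular (rk m) := by
    intro k l hkl
    by_cases h : βI m I l < βI m I k
    · exact hg'.1 h
    · have h1 : βI m I l ≤ βI m I k := bl_mono (m := m) I hkl.le
      have h2 : βI m I k = βI m I l := le_antisymm (not_lt.1 h) h1
      rw [hg'.2 k l h2]
      apply Matrix.one_apply_ne
      intro hkl'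
      rw [hkl'] at hkl
      exact lt_irrefl _ hkl
  refine ⟨hup, fun k l hkl => ?_⟩
  have := rk_injective hkl
  subst this
  exact hg'.2 k k rfl

theorem conj_mem_VI {I : Set ℕ} {g v : Sp (m + 1) F} (hg : g ∈ Pblk (F := F) (βI m I)) (hv : v ∈ VI m F I) :
    g * v * g⁻¹ ∈ VI m F I := conj_mem_Ublk hg hv

/-! ### the simple reflections of `I` lie in `Pblk (βI m I)` -/

theorem βI_inl_swap {I : Set ℕ} (j : Fin m) (hj : (j : ℕ) ∈ I) (a : Fin (m + 1)) :
    βI m I (Sum.inl (Equiv.swap j.castSucc j.succ a)) = βI m I (Sum.inl a) := by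
  have hjr : jr m (j : ℕ) = j := by
    unfold jr
    rw [if_pos (by have := j.2; omega)]
  have key : bl m I ((j : ℕ) + 1) = bl m I j := bl_eq_succ (by rw [hjr]; exact hj)
  unfold βI
  by_cases h1 : a = j.castSucc
  · subst h1
    rw [Equiv.swap_apply_left, rk_inl, rk_inl, Fin.val_succ, Fin.val_castSucc, key]
  · by_cases h2 : a = j.succ
    · subst h2
      rw [Equiv.swap_apply_right, rk_inl, rk_inl, Fin.val_succ, Fin.val_castSucc, key]
    · rw [Equiv.swap_apply_of_ne_of_ne h1 h2]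

theorem βI_inr_swap {I : Set ℕ} (j : Fin m) (hj : (j : ℕ) ∈ I) (a : Fin (m + 1)) :
    βI m I (Sum.inr (Equiv.swap j.castSucc j.succ a)) = βI m I (Sum.inr a) := by
  have hjm := j.2
  have hjr : jr m (2 * m - (j : ℕ)) = j := by
    unfold jr
    rw [if_neg (by omega)]
    omega
  have key : bl m I (2 * m - (j : ℕ) + 1) = bl m I (2 * m - (j : ℕ)) := bl_eq_succ (by rw [hjr]; exact hj)
  unfold βI
  by_cases h1 : a = j.castSucc
  · subst h1
    rw [Equiv.swap_apply_left, rk_inr, rk_inr, Fin.val_succ, Fin.val_castSucc]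
    have e1 : 2 * m + 1 - ((j : ℕ) + 1) = 2 * m - (j : ℕ) := by omega
    have e2 : 2 * m + 1 - (j : ℕ) = 2 * m - (j : ℕ) + 1 := by omega
    rw [e1, e2, key]
  · by_cases h2 : a = j.succ
    · subst h2
      rw [Equiv.swap_apply_right, rk_inr, rk_inr, Fin.val_succ, Fin.val_castSucc]
      have e1 : 2 * m + 1 - ((j : ℕ) + 1) = 2 * m - (j : ℕ) := by omega
      have e2 : 2 * m + 1 - (j : ℕ) = 2 * m - (j : ℕ) + 1 := by omega
      rw [e1, e2, key]
    · rw [Equiv.swap_apply_of_ne_of_ne h1 h2]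

theorem sShort_mem_Pblk {I : Set ℕ} (j : Fin m) (hj : (j : ℕ) ∈ I) :
    (sShort j : Sp (m + 1) F) ∈ Pblk (F := F) (βI m I) := by
  rw [mem_Pblk_iff]
  intro k l hkl
  unfold sShort
  rw [lEl_val]
  rcases k with a | a <;> rcases l with b | b
  · rw [Matrix.fromBlocks_apply₁₁, glSwap_apply, if_neg]
    intro h
    rw [← h, βI_inl_swap j hj] at hkl
    exact lt_irrefl _ hkl
  · rfl
  · rfl
  · rw [Matrix.fromBlocks_apply₂₂, Matrix.transpose_apply, glSwap_inv_apply, if_neg]
    intro h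
    rw [← h, βI_inr_swap j hj] at hkl
    exact lt_irrefl _ hkl

theorem βI_last {I : Set ℕ} (hm : m ∈ I) :
    βI m I (Sum.inr (Fin.last m)) = βI m I (Sum.inl (Fin.last m)) := by
  have hjr : jr m m = m := by
    unfold jr
    rw [if_pos le_rfl]
  have key : bl m I (m + 1) = bl m I m := bl_eq_succ (by rw [hjr]; exact hm)
  unfold βI
  rw [rk_inr, rk_inl, Fin.val_last]
  have e1 : 2 * m + 1 - m = m + 1 := by omega
  rw [e1, key]

theorem sLong_mem_Pblk {I : Set ℕ} (hm : m ∈ I) :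
    (sLong m F : Sp (m + 1) F) ∈ Pblk (F := F) (βI m I) := by
  rw [mem_Pblk_iff]
  intro k l hkl
  unfold sLong
  rw [w1_val]
  rcases k with a | a <;> rcases l with b | b
  · rw [Matrix.fromBlocks_apply₁₁, Matrix.sub_apply, Matrix.one_apply, Matrix.single_apply]
    have hab : a ≠ b := by
      intro h
      rw [h] at hkl
      exact lt_irrefl _ hkl
    rw [if_neg hab, if_neg, sub_zero]
    rintro ⟨h1, h2⟩
    exact hab (h1.symm.trans h2)
  · rw [Matrix.fromBlocks_apply₁₂, Matrix.single_apply, if_neg]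
    rintro ⟨h1, h2⟩
    rw [← h1, ← h2, βI_last hm] at hkl
    exact lt_irrefl _ hkl
  · rw [Matrix.fromBlocks_apply₂₁, Matrix.neg_apply, Matrix.single_apply, if_neg, neg_zero]
    rintro ⟨h1, h2⟩
    rw [← h1, ← h2, βI_last hm] at hkl
    exact lt_irrefl _ hkl
  · rw [Matrix.fromBlocks_apply₂₂, Matrix.sub_apply, Matrix.one_apply, Matrix.single_apply]
    have hab : a ≠ b := by
      intro h
      rw [h] at hkl
      exact lt_irrefl _ hkl
    rw [if_neg hab, if_neg, sub_zero]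
    rintro ⟨h1, h2⟩
    exact hab (h1.symm.trans h2)

theorem sRef_mem_Pblk {I : Set ℕ} (j : Fin (m + 1)) (hj : (j : ℕ) ∈ I) :
    (sRef j : Sp (m + 1) F) ∈ Pblk (F := F) (βI m I) := by
  revert hj
  refine Fin.lastCases ?_ (fun j' => ?_) j
  · intro hj
    rw [sRef_last]
    exact sLong_mem_Pblk (by simpa using hj)
  · intro hj
    rw [sRef_castSucc]
    exact sShort_mem_Pblk j' (by simpa using hj)

/-- the set of (indices of) simple roots of a set `K` of simple reflections -/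
def IK (m : ℕ) (F : Type*) [Field F] (K : Set (Sp (m + 1) F)) : Set ℕ :=
  {j | ∃ h : j < m + 1, (sRef ⟨j, h⟩ : Sp (m + 1) F) ∈ K}

theorem parabolic_le_Pblk (K : Set (Sp (m + 1) F)) (hK : K ⊆ (spBN m F).S) :
    (spBN m F).parabolic K ≤ Pblk (βI m (IK m F K)) := by
  unfold Cfsg.BNPair.parabolic
  apply sup_le
  · exact Bsp_le_Pblk _
  · rw [Subgroup.closure_le]
    intro s hs
    obtain ⟨j, rfl⟩ := hK hs
    exact sRef_mem_Pblk j ⟨j.2, hs⟩

end Cfsg.Agent.Lib.H9.SpSt
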