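/-
S2316 (Steinberg count for `Sp_2m(q)`; helper9): the longest element of `W_K`.
If `n ∈ N ∩ P_K` has all `s ∈ K` as left descents, then its permutation reverses every block of `K`, hence
`U ∩ n U n⁻¹ ≤ V_K`.
-/
import Cfsg.Agent.Lib.H9.SpStPar

set_option autoImplicit false
set_option linter.unusedSectionVars false

namespace Cfsg.Agent.Lib.H9.SpSt

open Matrix Cfsg.Agent.Lib.H12.LS2 Cfsg.Agent.Lib.H5.LS2 Cfsg.Agent.Lib.H11.SpU Cfsg.Agent.Lib.H8.SpBN
open Cfsg.Agent.Lib.H2 Cfsg.Agent.Lib.H2.BN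

variable {F : Type*} [Field F] {m : ℕ}

/-! ### monomial matrices -/

/-- `(n y) (π k) l = n (π k) k * y k l` for a monomial `n` -/
theorem mono_mul_apply {n : Sp (m + 1) F} {π : Equiv.Perm (Fin (m + 1) ⊕ Fin (m + 1))}
    (hπ : ∀ k l, k ≠ π l → n.1 k l = 0)
    (y : Matrix (Fin (m + 1) ⊕ Fin (m + 1)) (Fin (m + 1) ⊕ Fin (m + 1)) F) (k l : Fin (m + 1) ⊕ Fin (m + 1)) :
    (n.1 * y) (π k) l = n.1 (π k) k * y k l := by
  rw [Matrix.mul_apply, Finset.sum_eq_single k]
  · intro a _ hak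
    rw [hπ (π k) a (fun h => hak (π.injective h).symm), zero_mul]
  · intro h
    exact absurd (Finset.mem_univ _) h

/-- `(x n) k l = x k (π l) * n (π l) l` for a monomial `n` -/
theorem mul_mono_apply {n : Sp (m + 1) F} {π : Equiv.Perm (Fin (m + 1) ⊕ Fin (m + 1))}
    (hπ : ∀ k l, k ≠ π l → n.1 k l = 0)
    (x : Matrix (Fin (m + 1) ⊕ Fin (m + 1)) (Fin (m + 1) ⊕ Fin (m + 1)) F) (k l : Fin (m + 1) ⊕ Fin (m + 1)) :
    (x * n.1) k l = x k (π l) * n.1 (π l) l := by
  rw [Matrix.mul_apply, Finset.sum_eq_single (π l)]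
  · intro a _ hal
    rw [hπ a l hal, mul_zero]
  · intro h
    exact absurd (Finset.mem_univ _) h

/-- conjugation by a monomial matrix: `y = n⁻¹ x n` has `y k l ≠ 0 ↔ x (π k) (π l) ≠ 0` -/
theorem mono_conj_apply {n : Sp (m + 1) F} {π : Equiv.Perm (Fin (m + 1) ⊕ Fin (m + 1))}
    (hπ : ∀ k l, k ≠ π l → n.1 k l = 0) (x : Sp (m + 1) F) (k l : Fin (m + 1) ⊕ Fin (m + 1)) :
    n.1 (π k) k * (n⁻¹ * x * n : Sp (m + 1) F).1 k l = x.1 (π k) (π l) * n.1 (π l) l := by
  rw [← mono_mul_apply hπ, ← mul_mono_apply hπ]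
  have : n * (n⁻¹ * x * n) = x * n := by group
  rw [← Submonoid.coe_mul, ← Submonoid.coe_mul, this]

theorem mono_conj_ne_zero_iff {n : Sp (m + 1) F} {π : Equiv.Perm (Fin (m + 1) ⊕ Fin (m + 1))}
    (hπ : ∀ k l, k ≠ π l → n.1 k l = 0) (x : Sp (m + 1) F) (k l : Fin (m + 1) ⊕ Fin (m + 1)) :
    (n⁻¹ * x * n : Sp (m + 1) F).1 k l ≠ 0 ↔ x.1 (π k) (π l) ≠ 0 := by
  have h1 := mono_conj_apply hπ x k l
  have h2 := mono_entry_ne_zero n π hπ k
  have h3 := mono_entry_ne_zero n π hπ l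
  constructor
  · intro h h0
    rw [h0, zero_mul] at h1
    exact (mul_ne_zero h2 h) h1
  · intro h h0
    rw [h0, mul_zero] at h1
    exact (mul_ne_zero h h3) h1.symm

/-- the permutation of a symplectic monomial matrix commutes with the duality -/
theorem mono_perm_swap {n : Sp (m + 1) F} {π : Equiv.Perm (Fin (m + 1) ⊕ Fin (m + 1))}
    (hπ : ∀ k l, k ≠ π l → n.1 k l = 0) (k : Fin (m + 1) ⊕ Fin (m + 1)) : π k.swap = (π k).swap := by
  -- `(n⁻¹ n) k k = 1`: some `a` with `n⁻¹ k a ≠ 0` and `n a k ≠ 0`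
  have h1 : (n⁻¹ * n : Sp (m + 1) F).1 k k = 1 := by
    rw [inv_mul_cancel]
    exact Matrix.one_apply_eq k
  rw [Submonoid.coe_mul, mul_mono_apply hπ, inv_val_apply] at h1
  have h2 : n.1 (π k).swap k.swap ≠ 0 := by
    intro h0
    rw [h0, mul_zero, zero_mul] at h1
    exact zero_ne_one h1
  by_contra hne
  exact h2 (hπ _ _ (fun h => hne h.symm))

/-- a monomial matrix in `Pblk β` preserves the blocks -/
theorem mono_perm_block {β : Fin (m + 1) ⊕ Fin (m + 1) → ℕ} {n : Sp (m + 1) F}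
    {π : Equiv.Perm (Fin (m + 1) ⊕ Fin (m + 1))}
    (hπ : ∀ k l, k ≠ π l → n.1 k l = 0) (hn : n ∈ Pblk (F := F) β) (l : Fin (m + 1) ⊕ Fin (m + 1)) :
    β (π l) = β l := by
  have hle : ∀ l, β (π l) ≤ β l := by
    intro l
    by_contra h
    push Not at h
    exact mono_entry_ne_zero n π hπ l (hn.1 h)
  have hsum : ∑ l, β (π l) = ∑ l, β l := Equiv.sum_comp π β
  have := (Finset.sum_eq_sum_iff_of_le (fun l _ => hle l)).1 hsum
  exact this l (Finset.mem_univ l)

/-! ### the support of the simple root elements -/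

theorem xShort_apply_ne_zero (j : Fin m) (c : F) {k l : Fin (m + 1) ⊕ Fin (m + 1)}
    (h : (xShort j c : Sp (m + 1) F).1 k l ≠ 0) :
    k = l ∨ (k = Sum.inl j.castSucc ∧ l = Sum.inl j.succ) ∨ (k = Sum.inr j.succ ∧ l = Sum.inr j.castSucc) := by
  unfold xShort at h
  rw [lEl_val] at h
  rcases k with a | a <;> rcases l with b | b
  · rw [Matrix.fromBlocks_apply₁₁, glE_val, Matrix.add_apply, Matrix.one_apply, Matrix.single_apply] at h
    by_cases hab : a = b
    · left; rw [hab]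
    · right; left
      rw [if_neg hab, zero_add] at h
      by_cases h2 : j.castSucc = a ∧ j.succ = b
      · rw [← h2.1, ← h2.2]; exact ⟨rfl, rfl⟩
      · rw [if_neg h2] at h
        exact absurd rfl h
  · exact absurd rfl h
  · exact absurd rfl h
  · rw [Matrix.fromBlocks_apply₂₂, Matrix.transpose_apply, glE_inv_val, Matrix.sub_apply, Matrix.one_apply,
      Matrix.single_apply] at h
    by_cases hab : b = a
    · left; rw [hab]
    · right; right
      rw [if_neg hab, zero_sub, neg_ne_zero] at h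
      by_cases h2 : j.castSucc = b ∧ j.succ = a
      · rw [← h2.1, ← h2.2]; exact ⟨rfl, rfl⟩
      · rw [if_neg h2] at h
        exact absurd rfl h

theorem xLong_apply_ne_zero (c : F) {k l : Fin (m + 1) ⊕ Fin (m + 1)}
    (h : (xLong m c : Sp (m + 1) F).1 k l ≠ 0) :
    k = l ∨ (k = Sum.inl (Fin.last m) ∧ l = Sum.inr (Fin.last m)) := by
  unfold xLong at h
  rw [tEl_val] at h
  rcases k with a | a <;> rcases l with b | b
  · rw [Matrix.fromBlocks_apply₁₁, Matrix.one_apply] at h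
    left
    by_cases hab : a = b
    · rw [hab]
    · rw [if_neg hab] at h
      exact absurd rfl h
  · rw [Matrix.fromBlocks_apply₁₂, symE_val, Matrix.single_apply] at h
    right
    by_cases h2 : Fin.last m = a ∧ Fin.last m = b
    · rw [← h2.1, ← h2.2]; exact ⟨rfl, rfl⟩
    · rw [if_neg h2] at h
      exact absurd rfl h
  · exact absurd rfl h
  · rw [Matrix.fromBlocks_apply₂₂, Matrix.one_apply] at h
    left
    by_cases hab : a = b
    · rw [hab]
    · rw [if_neg hab] at h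
      exact absurd rfl h

/-! ### reversed pairs -/

/-- the pair `(a, b)` is reversed by `π⁻¹` -/
def RevPair (π : Equiv.Perm (Fin (m + 1) ⊕ Fin (m + 1))) (a b : Fin (m + 1) ⊕ Fin (m + 1)) : Prop :=
  rk m (π.symm b) < rk m (π.symm a)

theorem symm_swap {π : Equiv.Perm (Fin (m + 1) ⊕ Fin (m + 1))} (hs : ∀ k, π k.swap = (π k).swap)
    (k : Fin (m + 1) ⊕ Fin (m + 1)) : π.symm k.swap = (π.symm k).swap := by
  rw [Equiv.symm_apply_eq, hs, Equiv.apply_symm_apply]

theorem revPair_swap {π : Equiv.Perm (Fin (m + 1) ⊕ Fin (m + 1))} (hs : ∀ k, π k.swap = (π k).swap)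
    {a b : Fin (m + 1) ⊕ Fin (m + 1)} (h : RevPair π a b) : RevPair π b.swap a.swap := by
  unfold RevPair at h ⊢
  rw [symm_swap hs, symm_swap hs, rk_swap, rk_swap]
  have := rk_lt (m := m) (π.symm a)
  have := rk_lt (m := m) (π.symm b)
  omega

/-- some off-diagonal entry of a non-upper-triangular conjugate -/
theorem exists_rev_of_not_mem {n : Sp (m + 1) F} {π : Equiv.Perm (Fin (m + 1) ⊕ Fin (m + 1))}
    (hπ : ∀ k l, k ≠ π l → n.1 k l = 0) {x : Sp (m + 1) F} (hx : n⁻¹ * x * n ∉ Bsp m F) :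
    ∃ a b, a ≠ b ∧ x.1 a b ≠ 0 ∧ RevPair π a b := by
  rw [mem_Bsp_iff, isUp_iff] at hx
  push Not at hx
  obtain ⟨k, l, hkl, hne⟩ := hx
  refine ⟨π k, π l, ?_, (mono_conj_ne_zero_iff hπ x k l).1 hne, ?_⟩
  · intro h
    rw [π.injective h] at hkl
    exact lt_irrefl _ hkl
  · unfold RevPair
    rw [Equiv.symm_apply_apply, Equiv.symm_apply_apply]
    exact hkl

theorem revPair_short {n : Sp (m + 1) F} {π : Equiv.Perm (Fin (m + 1) ⊕ Fin (m + 1))}
    (hπ : ∀ k l, k ≠ π l → n.1 k l = 0) (j : Fin m) (c : F) (hx : n⁻¹ * xShort j c * n ∉ Bsp m F) :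
    RevPair π (Sum.inl j.castSucc) (Sum.inl j.succ) ∧ RevPair π (Sum.inr j.succ) (Sum.inr j.castSucc) := by
  have hs := mono_perm_swap hπ
  obtain ⟨a, b, hab, hne, hrev⟩ := exists_rev_of_not_mem hπ hx
  rcases xShort_apply_ne_zero j c hne with h | ⟨rfl, rfl⟩ | ⟨rfl, rfl⟩
  · exact absurd h hab
  · exact ⟨hrev, revPair_swap hs hrev⟩
  · exact ⟨revPair_swap hs hrev, hrev⟩

theorem revPair_long {n : Sp (m + 1) F} {π : Equiv.Perm (Fin (m + 1) ⊕ Fin (m + 1))}
    (hπ : ∀ k l, k ≠ π l → n.1 k l = 0) (c : F) (hx : n⁻¹ * xLong m c * n ∉ Bsp m F) :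
    RevPair π (Sum.inl (Fin.last m)) (Sum.inr (Fin.last m)) := by
  obtain ⟨a, b, hab, hne, hrev⟩ := exists_rev_of_not_mem hπ hx
  rcases xLong_apply_ne_zero c hne with h | ⟨rfl, rfl⟩
  · exact absurd h hab
  · exact hrev

/-- adjacent pairs joined by a descent are reversed -/
theorem revPair_adjacent {I : Set ℕ} {n : Sp (m + 1) F} {π : Equiv.Perm (Fin (m + 1) ⊕ Fin (m + 1))}
    (hπ : ∀ k l, k ≠ π l → n.1 k l = 0)
    (hdesc : ∀ j : Fin (m + 1), (j : ℕ) ∈ I → ∃ c : F, n⁻¹ * xRoot j c * n ∉ Bsp m F)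
    (a a' : Fin (m + 1) ⊕ Fin (m + 1)) (h1 : rk m a' = rk m a + 1) (h2 : jr m (rk m a) ∈ I) :
    RevPair π a a' := by
  rcases a with i | i <;> rcases a' with i' | i'
  · -- short root, first pair
    simp only [rk_inl] at h1 h2
    have hi' := i'.2
    have him : (i : ℕ) < m := by omega
    have hjr : jr m i = i := by unfold jr; rw [if_pos (by omega)]
    rw [hjr] at h2
    obtain ⟨c, hc⟩ := hdesc (⟨i, him⟩ : Fin m).castSucc h2
    rw [xRoot_castSucc] at hc
    have := (revPair_short hπ _ c hc).1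
    have e1 : (⟨i, him⟩ : Fin m).castSucc = i := Fin.ext rfl
    have e2 : (⟨i, him⟩ : Fin m).succ = i' := Fin.ext (by simp; omega)
    rwa [e1, e2] at this
  · -- long root
    simp only [rk_inl, rk_inr] at h1 h2
    have hi := i.2
    have hi' := i'.2
    have hi1 : (i : ℕ) = m := by omega
    have hi2 : (i' : ℕ) = m := by omega
    have hjr : jr m i = m := by unfold jr; rw [if_pos (by omega)]; exact hi1
    rw [hjr] at h2
    obtain ⟨c, hc⟩ := hdesc (Fin.last m) (by simpa using h2)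
    rw [xRoot_last] at hc
    have := revPair_long hπ c hc
    have e1 : i = Fin.last m := Fin.ext (by simp; omega)
    have e2 : i' = Fin.last m := Fin.ext (by simp; omega)
    rw [e1, e2]
    exact this
  · exfalso
    simp only [rk_inl, rk_inr] at h1
    have hi := i.2
    have hi' := i'.2
    omega
  · -- short root, second pair
    simp only [rk_inr] at h1 h2
    have hi := i.2
    have hi' := i'.2
    have hi1 : (i' : ℕ) + 1 = i := by omega
    have him : (i' : ℕ) < m := by omega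
    have hjr : jr m (2 * m + 1 - (i : ℕ)) = i' := by
      unfold jr
      rw [if_neg (by omega)]
      omega
    rw [hjr] at h2
    obtain ⟨c, hc⟩ := hdesc (⟨i', him⟩ : Fin m).castSucc h2
    rw [xRoot_castSucc] at hc
    have := (revPair_short hπ _ c hc).2
    have e1 : (⟨i', him⟩ : Fin m).castSucc = i' := Fin.ext rfl
    have e2 : (⟨i', him⟩ : Fin m).succ = i := Fin.ext (by simp; omega)
    rwa [e1, e2] at this

/-- the coordinate of rank `r` -/
def atRk (m r : ℕ) : Fin (m + 1) ⊕ Fin (m + 1) :=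
  if h : r ≤ m then Sum.inl ⟨r, by omega⟩ else Sum.inr ⟨2 * m + 1 - r, by omega⟩

theorem rk_atRk {r : ℕ} (hr : r < 2 * m + 2) : rk m (atRk m r) = r := by
  unfold atRk
  split_ifs with h
  · rfl
  · rw [rk_inr]
    simp only
    omega

/-- blocks are reversed -/
theorem revPair_block {I : Set ℕ} {π : Equiv.Perm (Fin (m + 1) ⊕ Fin (m + 1))}
    (hadj : ∀ a a' : Fin (m + 1) ⊕ Fin (m + 1), rk m a' = rk m a + 1 → jr m (rk m a) ∈ I → RevPair π a a') :
    ∀ (d : ℕ) (a b : Fin (m + 1) ⊕ Fin (m + 1)), rk m b = rk m a + d + 1 → βI m I a = βI m I b →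
      RevPair π a b := by
  intro d
  induction d with
  | zero =>
    intro a b h1 h2
    apply hadj a b (by omega)
    exact jr_mem_of_bl_eq (r := rk m a) (r' := rk m b) h2 le_rfl (by omega)
  | succ d ih =>
    intro a b h1 h2
    have hb := rk_lt (m := m) b
    have hr : rk m (atRk m (rk m a + 1)) = rk m a + 1 := rk_atRk (by omega)
    have h3 : jr m (rk m a) ∈ I := jr_mem_of_bl_eq (r := rk m a) (r' := rk m b) h2 le_rfl (by omega)
    have h4 : RevPair π a (atRk m (rk m a + 1)) := hadj a _ hr h3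
    have h5 : βI m I (atRk m (rk m a + 1)) = βI m I b := by
      unfold βI at h2 ⊢
      rw [hr]
      apply le_antisymm
      · exact bl_mono (m := m) I (by omega)
      · rw [← h2]
        exact bl_mono (m := m) I (by omega)
    have h6 : RevPair π (atRk m (rk m a + 1)) b := ih _ b (by rw [hr]; omega) h5
    unfold RevPair at h4 h6 ⊢
    omega

theorem revPair_of_block {I : Set ℕ} {n : Sp (m + 1) F} {π : Equiv.Perm (Fin (m + 1) ⊕ Fin (m + 1))}
    (hπ : ∀ k l, k ≠ π l → n.1 k l = 0)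
    (hdesc : ∀ j : Fin (m + 1), (j : ℕ) ∈ I → ∃ c : F, n⁻¹ * xRoot j c * n ∉ Bsp m F)
    {a b : Fin (m + 1) ⊕ Fin (m + 1)} (h1 : rk m a < rk m b) (h2 : βI m I a = βI m I b) : RevPair π a b := by
  obtain ⟨d, hd⟩ := Nat.exists_eq_add_of_lt h1
  exact revPair_block (revPair_adjacent hπ hdesc) d a b hd h2

/-- **variant A**: `U ∩ n U n⁻¹ ≤ V_I` when all roots of `I` are left descents of `n` -/
theorem mem_VI_of_conj_A {I : Set ℕ} {n : Sp (m + 1) F} (hn : n ∈ Msp m F)
    (hdesc : ∀ j : Fin (m + 1), (j : ℕ) ∈ I → ∃ c : F, n⁻¹ * xRoot j c * n ∉ Bsp m F)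
    {u : Sp (m + 1) F} (hu : u ∈ Usp m F) (hu' : n⁻¹ * u * n ∈ Bsp m F) : u ∈ VI m F I := by
  obtain ⟨π, hπ⟩ := hn.1
  change u ∈ Ublk (βI m I)
  rw [mem_Ublk_iff]
  have huB := Usp_le_Bsp hu
  refine ⟨isUp_blockTriangular huB.1, fun a b hab => ?_⟩
  by_cases h : a = b
  · subst h
    rw [(mem_Usp_iff.1 hu).2 a, Matrix.one_apply_eq]
  · rw [Matrix.one_apply_ne h]
    rcases lt_trichotomy (rk m a) (rk m b) with h1 | h1 | h1
    · have hrev : RevPair π a b := revPair_of_block hπ hdesc h1 hab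
      by_contra hne
      have h3 : (n⁻¹ * u * n : Sp (m + 1) F).1 (π.symm a) (π.symm b) ≠ 0 := by
        rw [mono_conj_ne_zero_iff hπ, Equiv.apply_symm_apply, Equiv.apply_symm_apply]
        exact hne
      exact h3 (hu'.1 hrev)
    · exact absurd (rk_injective h1) h
    · exact huB.1 h1

/-- the inverse of a block preserving, block reversing permutation is block reversing -/
theorem revPair_symm {I : Set ℕ} {π : Equiv.Perm (Fin (m + 1) ⊕ Fin (m + 1))}
    (hβ : ∀ l, βI m I (π l) = βI m I l)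
    (hrev : ∀ a b, rk m a < rk m b → βI m I a = βI m I b → RevPair π a b)
    {a b : Fin (m + 1) ⊕ Fin (m + 1)} (h1 : rk m a < rk m b) (h2 : βI m I a = βI m I b) :
    rk m (π b) < rk m (π a) := by
  by_contra hn
  push Not at hn
  have hne : π a ≠ π b := fun h => by
    rw [π.injective h] at h1
    exact lt_irrefl _ h1
  have hlt : rk m (π a) < rk m (π b) := lt_of_le_of_ne hn (fun h => hne (rk_injective h))
  have := hrev (π a) (π b) hlt (by rw [hβ, hβ, h2])
  unfold RevPair at this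
  rw [Equiv.symm_apply_apply, Equiv.symm_apply_apply] at this
  omega

/-- **variant B**: `U ∩ n⁻¹ U n ≤ V_I` when `n ∈ Pblk` and all roots of `I` are left descents of `n` -/
theorem mem_VI_of_conj_B {I : Set ℕ} {n : Sp (m + 1) F} (hn : n ∈ Msp m F) (hnP : n ∈ Pblk (F := F) (βI m I))
    (hdesc : ∀ j : Fin (m + 1), (j : ℕ) ∈ I → ∃ c : F, n⁻¹ * xRoot j c * n ∉ Bsp m F)
    {u : Sp (m + 1) F} (hu : u ∈ Usp m F) (hu' : n * u * n⁻¹ ∈ Usp m F) : u ∈ VI m F I := by
  obtain ⟨π, hπ⟩ := hn.1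
  change u ∈ Ublk (βI m I)
  rw [mem_Ublk_iff]
  have huB := Usp_le_Bsp hu
  refine ⟨isUp_blockTriangular huB.1, fun a b hab => ?_⟩
  by_cases h : a = b
  · subst h
    rw [(mem_Usp_iff.1 hu).2 a, Matrix.one_apply_eq]
  · rw [Matrix.one_apply_ne h]
    rcases lt_trichotomy (rk m a) (rk m b) with h1 | h1 | h1
    · have hrev : rk m (π b) < rk m (π a) :=
        revPair_symm (mono_perm_block hπ hnP) (fun a b h1 h2 => revPair_of_block hπ hdesc h1 h2) h1 hab
      by_contra hne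
      -- `u = n⁻¹ (n u n⁻¹) n`
      have h3 : (n⁻¹ * (n * u * n⁻¹) * n : Sp (m + 1) F).1 a b ≠ 0 := by
        have : n⁻¹ * (n * u * n⁻¹) * n = u := by group
        rw [this]
        exact hne
      rw [mono_conj_ne_zero_iff hπ] at h3
      exact h3 ((Usp_le_Bsp hu').1 hrev)
    · exact absurd (rk_injective h1) h
    · exact huB.1 h1

/-! ### descents -/

theorem exists_not_mem_of_len_lt {n : Sp (m + 1) F} (hn : n ∈ Nsp m F) (j : Fin (m + 1))
    (h : len (spBN m F) (sRef j * n) < len (spBN m F) n) : ∃ c : F, n⁻¹ * xRoot j c * n ∉ Bsp m F := by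
  by_contra hc
  push Not at hc
  have := len_smul_of_root (P := spBN m F) (s := sRef j) (n := n) (sRef_mem_Ssp j) hn
    (Set.range (xRoot (F := F) j)) (root_factor j) (by
      rintro _ ⟨c, rfl⟩
      exact hc c)
  omega

/-- **the inclusion `U ∩ n U n⁻¹ ≤ V_K`** for `n ∈ N` having all `s ∈ K` as left descents -/
theorem mem_VI_of_len_A (K : Set (Sp (m + 1) F)) {n : Sp (m + 1) F} (hn : n ∈ (spBN m F).N)
    (hlen : ∀ s ∈ K, len (spBN m F) (s * n) < len (spBN m F) n)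
    {u : Sp (m + 1) F} (hu : u ∈ Usp m F) (hu' : n⁻¹ * u * n ∈ Bsp m F) : u ∈ VI m F (IK m F K) := by
  apply mem_VI_of_conj_A (Nsp_le_Msp hn) _ hu hu'
  rintro j ⟨hj, hjK⟩
  exact exists_not_mem_of_len_lt hn j (hlen _ hjK)

/-- **the inclusion `U ∩ n⁻¹ U n ≤ V_K`** for `n ∈ N ∩ P_K` having all `s ∈ K` as left descents -/
theorem mem_VI_of_len_B (K : Set (Sp (m + 1) F)) (hK : K ⊆ (spBN m F).S) {n : Sp (m + 1) F}
    (hn : n ∈ (spBN m F).N) (hnP : n ∈ (spBN m F).parabolic K)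
    (hlen : ∀ s ∈ K, len (spBN m F) (s * n) < len (spBN m F) n)
    {u : Sp (m + 1) F} (hu : u ∈ Usp m F) (hu' : n * u * n⁻¹ ∈ Usp m F) : u ∈ VI m F (IK m F K) := by
  apply mem_VI_of_conj_B (Nsp_le_Msp hn) (parabolic_le_Pblk K hK hnP) _ hu hu'
  rintro j ⟨hj, hjK⟩
  exact exists_not_mem_of_len_lt hn j (hlen _ hjK)

end Cfsg.Agent.Lib.H9.SpSt
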