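/-
S2316 (Steinberg count for `Sp_2m(q)`; helper9): the number of elements of `p`-power order of `Sp_2(m+1)(q)` is
`q^(2(m+1)^2)`, from helper29's (B,N)-pair level theorem `H29.StCount.pcount_top_sq`.
-/
import Cfsg.Agent.Lib.H9.SpStLong
import Cfsg.Agent.Lib.H8.SpBNL
import Cfsg.Agent.Lib.H29.StCountC

set_option autoImplicit false
set_option linter.unusedSectionVars false

namespace Cfsg.Agent.Lib.H9.SpSt

open Matrix Cfsg.Agent.Lib.H12.LS2 Cfsg.Agent.Lib.H5.LS2 Cfsg.Agent.Lib.H11.SpU Cfsg.Agent.Lib.H8.SpBN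
open Cfsg.Agent.Lib.H2 Cfsg.Agent.Lib.H2.BN Cfsg.Agent.Lib.H29.StCount

variable {F : Type*} [Field F] {m : ℕ}

theorem exists_Usp_mul_Tsp {b : Sp (m + 1) F} (hb : b ∈ (spBN m F).B) :
    ∃ u ∈ Usp m F, ∃ t ∈ (spBN m F).B ⊓ (spBN m F).N, b = u * t := by
  obtain ⟨t, ht, u, hu, rfl⟩ := exists_Tsp_mul_Usp (show b ∈ Bsp m F from hb)
  refine ⟨t * u * t⁻¹, conj_mem_Usp (Tsp_le_Bsp ht) hu, t, ?_, by group⟩
  change t ∈ Bsp m F ⊓ Nsp m F
  rw [Bsp_inf_Nsp]
  exact ht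

theorem not_dvd_index_Usp [Fintype F] (p : ℕ) [Fact p.Prime] [CharP F p] : ¬ p ∣ (Usp m F).index := by
  intro h
  have hp : p.Prime := Fact.out
  have h1 := (Usp m F).index_mul_card
  rw [card_Usp, ← factorization_card_Sp p] at h1
  have h2 : p ^ ((Nat.card (Sp (m + 1) F)).factorization p + 1) ∣ Nat.card (Sp (m + 1) F) := by
    generalize (Nat.card (Sp (m + 1) F)).factorization p = v at h1 ⊢
    rw [← h1, pow_succ, mul_comm]
    exact Nat.mul_dvd_mul_right h _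
  exact Nat.pow_succ_factorization_not_dvd Nat.card_pos.ne' hp h2

/-- all simple roots: one block -/
theorem βI_univ (k : Fin (m + 1) ⊕ Fin (m + 1)) :
    βI m (IK m F (sRef '' ((Finset.univ : Finset (Fin (m + 1))) : Set (Fin (m + 1))))) k = 0 := by
  classical
  unfold βI bl
  rw [Finset.card_eq_zero, Finset.filter_eq_empty_iff]
  intro t _
  rw [not_not]
  have hlt : jr m t < m + 1 := by
    unfold jr
    split_ifs <;> omega
  exact ⟨hlt, ⟨⟨jr m t, hlt⟩, by simp, rfl⟩⟩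

theorem VI_univ :
    VI m F (IK m F (sRef '' ((Finset.univ : Finset (Fin (m + 1))) : Set (Fin (m + 1))))) = ⊥ := by
  rw [eq_bot_iff]
  intro g hg
  rw [Subgroup.mem_bot]
  apply Subtype.ext
  ext k l
  exact hg.1.2 k l (by rw [βI_univ, βI_univ])

/-- **Steinberg's count for `Sp_2(m+1)(q)`** -/
theorem card_pElements_Sp [Fintype F] (p : ℕ) [Fact p.Prime] [CharP F p] :
    Nat.card {x : Sp (m + 1) F // ∃ k : ℕ, orderOf x = p ^ k} = Fintype.card F ^ (2 * (m + 1) ^ 2) := by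
  have himg : ∀ K : Finset (Fin (m + 1)),
      (sRef (m := m) (F := F)) '' (K : Set (Fin (m + 1))) ⊆ (spBN m F).S := by
    rintro K _ ⟨j, -, rfl⟩
    exact sRef_mem_Ssp j
  have key := pcount_top_sq (spBN m F) (s := (Finset.univ : Finset (Fin (m + 1))))
    (e := sRef (m := m) (F := F)) spBN_hS p (Usp m F) Usp_le_Bsp
    (fun b hb u hu => conj_mem_Usp hb hu) (fun b hb => exists_Usp_mul_Tsp hb) (isPGroup_Usp p)
    (not_dvd_index_Usp p)
    (fun K => VI m F (IK m F (sRef '' (K : Set (Fin (m + 1))))))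
    (fun K _ => VI_le_Usp _)
    (fun K _ g hg v hv => conj_mem_VI (parabolic_le_Pblk _ (himg K) hg) hv)
    (fun K _ n hn hlen u hu hu' => by
      apply mem_VI_of_len_A _ (NK_le_N (spBN m F) (himg K) hn) _ hu hu'
      rintro _ ⟨i, hi, rfl⟩
      exact hlen i hi)
    VI_univ
  rw [key, card_Usp, ← pow_mul]
  congr 1
  ring

end Cfsg.Agent.Lib.H9.SpSt
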