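import Cfsg.Agent.Lib.H15.SpSubA
import Cfsg.Agent.Lib.H10.SfH
import Cfsg.Agent.Lib.H13.SympBasis

/-!
# S5650 farm-out, task V1 (helper9): reduction of the subfield maximality statement for
`Sp_{2m}(F)` to the standard rational structure `P = 1`, `ζ = 1`.
-/

set_option autoImplicit false
set_option linter.unusedSectionVars false
set_option linter.unusedVariables false

namespace Cfsg.Agent.Lib.H9.SpSub

open Matrix
open Cfsg.Agent.Lib.H11.SubspMax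
open Cfsg.Agent.Lib.H15.SpSub
open Cfsg.Agent.Lib.H4 (sympForm_self sympForm_add_left sympForm_add_right sympForm_smul_left
  sympForm_smul_right sympForm_swap)

variable {F : Type*} [Field F] {m : ℕ} {F₀ : Subfield F}

/-- coordinatewise coercion of a vector over the subfield -/
def cv (u : Fin m ⊕ Fin m → F₀) : Fin m ⊕ Fin m → F := fun i => (u i : F)

theorem cv_add (u v : Fin m ⊕ Fin m → F₀) : cv (u + v) = cv u + cv v := by
  funext i; simp [cv]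

theorem cv_smul (c : F₀) (u : Fin m ⊕ Fin m → F₀) : cv (c • u) = (c : F) • cv u := by
  funext i; simp [cv]

theorem cv_rat (u : Fin m ⊕ Fin m → F₀) : ∀ i, cv u i ∈ F₀ := fun i => (u i).2

theorem cv_single (a : Fin m ⊕ Fin m) :
    cv (Pi.single a (1 : F₀)) = (Pi.single a (1 : F) : Fin m ⊕ Fin m → F) := by
  funext i
  by_cases h : i = a
  · subst h; simp [cv]
  · simp [cv, h]

theorem cv_eq_zero {u : Fin m ⊕ Fin m → F₀} (h : cv u = 0) : u = 0 := by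
  funext i
  have := congrFun h i
  simp only [cv, Pi.zero_apply] at this
  exact Subtype.ext (by simpa using this)

theorem sympForm_cv (u v : Fin m ⊕ Fin m → F₀) :
    Cfsg.sympForm m F (cv u) (cv v) = ((Cfsg.sympForm m F₀ u v : F₀) : F) := by
  rw [sympForm_eq_sum, sympForm_eq_sum]
  simp [cv]

theorem map_mulVec_cv (C₀ : Matrix (Fin m ⊕ Fin m) (Fin m ⊕ Fin m) F₀)
    (x : Fin m ⊕ Fin m → F₀) :
    (C₀.map (F₀.subtype : F₀ →+* F)) *ᵥ cv x = cv (C₀ *ᵥ x) := by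
  funext i
  exact (RingHom.map_mulVec (F₀.subtype : F₀ →+* F) C₀ x i).symm

/-- the transported form over the subfield -/
noncomputable def bet (P : GL (Fin m ⊕ Fin m) F) (ζ : F)
    (hP : Cfsg.Geo.IsFormRationalStructure (Cfsg.sympForm m F) F₀ ζ P) :
    LinearMap.BilinForm F₀ (Fin m ⊕ Fin m → F₀) :=
  LinearMap.mk₂ F₀
    (fun u v => (⟨ζ * Cfsg.sympForm m F ((P : Matrix (Fin m ⊕ Fin m) (Fin m ⊕ Fin m) F) *ᵥ cv u)
        ((P : Matrix (Fin m ⊕ Fin m) (Fin m ⊕ Fin m) F) *ᵥ cv v),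
      hP _ _ (cv_rat u) (cv_rat v)⟩ : F₀))
    (by
      intro u u' v
      apply Subtype.ext
      simp only [cv_add, Matrix.mulVec_add, sympForm_add_left, Subfield.coe_add]
      ring)
    (by
      intro c u v
      apply Subtype.ext
      simp only [cv_smul, Matrix.mulVec_smul, sympForm_smul_left, smul_eq_mul, Subfield.coe_mul]
      ring)
    (by
      intro u v v'
      apply Subtype.ext
      simp only [cv_add, Matrix.mulVec_add, sympForm_add_right, Subfield.coe_add]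
      ring)
    (by
      intro c u v
      apply Subtype.ext
      simp only [cv_smul, Matrix.mulVec_smul, sympForm_smul_right, smul_eq_mul, Subfield.coe_mul]
      ring)

theorem bet_apply (P : GL (Fin m ⊕ Fin m) F) (ζ : F)
    (hP : Cfsg.Geo.IsFormRationalStructure (Cfsg.sympForm m F) F₀ ζ P)
    (u v : Fin m ⊕ Fin m → F₀) :
    ((bet P ζ hP u v : F₀) : F) =
      ζ * Cfsg.sympForm m F ((P : Matrix (Fin m ⊕ Fin m) (Fin m ⊕ Fin m) F) *ᵥ cv u)
        ((P : Matrix (Fin m ⊕ Fin m) (Fin m ⊕ Fin m) F) *ᵥ cv v) := rfl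

theorem bet_alt (P : GL (Fin m ⊕ Fin m) F) (ζ : F)
    (hP : Cfsg.Geo.IsFormRationalStructure (Cfsg.sympForm m F) F₀ ζ P)
    (u : Fin m ⊕ Fin m → F₀) : bet P ζ hP u u = 0 := by
  apply Subtype.ext
  rw [bet_apply, sympForm_self, mul_zero]
  rfl

theorem sympForm_sum_right' {κ : Type*} (s : Finset κ) (g : κ → (Fin m ⊕ Fin m → F))
    (v : Fin m ⊕ Fin m → F) :
    Cfsg.sympForm m F v (∑ i ∈ s, g i) = ∑ i ∈ s, Cfsg.sympForm m F v (g i) := by
  simp only [← Cfsg.Agent.S0768.B₀_apply]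
  rw [map_sum]

theorem eq_zero_of_orth_cols (P : GL (Fin m ⊕ Fin m) F) (w : Fin m ⊕ Fin m → F)
    (h : ∀ a, Cfsg.sympForm m F w
      ((P : Matrix (Fin m ⊕ Fin m) (Fin m ⊕ Fin m) F) *ᵥ Pi.single a 1) = 0) : w = 0 := by
  by_contra hw
  obtain ⟨y, hy⟩ := exists_sympForm_ne w hw
  apply hy
  have hy' : y = (P : Matrix (Fin m ⊕ Fin m) (Fin m ⊕ Fin m) F) *ᵥ
      (((P⁻¹ : GL (Fin m ⊕ Fin m) F) : Matrix (Fin m ⊕ Fin m) (Fin m ⊕ Fin m) F) *ᵥ y) :=
    (gl_mulVec_inv P y).symm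
  rw [hy', vec_eq_sum (((P⁻¹ : GL (Fin m ⊕ Fin m) F) :
    Matrix (Fin m ⊕ Fin m) (Fin m ⊕ Fin m) F) *ᵥ y), Matrix.mulVec_sum, sympForm_sum_right']
  apply Finset.sum_eq_zero
  intro a _
  rw [Matrix.mulVec_smul, sympForm_smul_right, eb, h a, mul_zero]

theorem bet_nondeg (P : GL (Fin m ⊕ Fin m) F) (ζ : F) (hζ : ζ ≠ 0)
    (hP : Cfsg.Geo.IsFormRationalStructure (Cfsg.sympForm m F) F₀ ζ P)
    (u : Fin m ⊕ Fin m → F₀) (hu : ∀ w, bet P ζ hP u w = 0) : u = 0 := by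
  apply cv_eq_zero
  have h1 : (P : Matrix (Fin m ⊕ Fin m) (Fin m ⊕ Fin m) F) *ᵥ cv u = 0 := by
    apply eq_zero_of_orth_cols P
    intro a
    have h2 := congrArg (Subtype.val) (hu (Pi.single a 1))
    rw [bet_apply, cv_single] at h2
    rcases mul_eq_zero.1 h2 with h3 | h3
    · exact absurd h3 hζ
    · exact h3
  have h2 := gl_inv_mulVec P (cv u)
  rw [h1, Matrix.mulVec_zero] at h2
  exact h2.symm

/-- there is a rational change of basis making `P` a similitude with multiplier `ζ⁻¹` -/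
theorem exists_adapted (P : GL (Fin m ⊕ Fin m) F) (ζ : F) (hζ : ζ ≠ 0)
    (hP : Cfsg.Geo.IsFormRationalStructure (Cfsg.sympForm m F) F₀ ζ P) :
    ∃ C₀ : GL (Fin m ⊕ Fin m) F₀, ∀ x y : Fin m ⊕ Fin m → F,
      ζ * Cfsg.sympForm m F
        (((P * Matrix.GeneralLinearGroup.map (F₀.subtype : F₀ →+* F) C₀ : GL (Fin m ⊕ Fin m) F) :
          Matrix (Fin m ⊕ Fin m) (Fin m ⊕ Fin m) F) *ᵥ x)
        (((P * Matrix.GeneralLinearGroup.map (F₀.subtype : F₀ →+* F) C₀ : GL (Fin m ⊕ Fin m) F) :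
          Matrix (Fin m ⊕ Fin m) (Fin m ⊕ Fin m) F) *ᵥ y) = Cfsg.sympForm m F x y := by
  classical
  have hV : Module.finrank F₀ (Fin m ⊕ Fin m → F₀) = 2 * m := by
    rw [Module.finrank_fintype_fun_eq_card, Fintype.card_sum, Fintype.card_fin, two_mul]
  obtain ⟨b, hb⟩ := Cfsg.Agent.Lib.H13.exists_symp_basis (bet P ζ hP) (bet_alt P ζ hP)
    (bet_nondeg P ζ hζ hP) hV
  set b' := b.reindex (Equiv.sumComm (Fin m) (Fin m)) with hb'
  set e : (Fin m ⊕ Fin m → F₀) ≃ₗ[F₀] (Fin m ⊕ Fin m → F₀) := b'.equivFun.symm with he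
  refine ⟨Cfsg.Agent.S0768.glOfEquiv e, ?_⟩
  set C₀ := Cfsg.Agent.S0768.glOfEquiv e with hC₀
  set P' : GL (Fin m ⊕ Fin m) F :=
    P * Matrix.GeneralLinearGroup.map (F₀.subtype : F₀ →+* F) C₀ with hP'
  have hC : ∀ x : Fin m ⊕ Fin m → F₀,
      (C₀ : Matrix (Fin m ⊕ Fin m) (Fin m ⊕ Fin m) F₀) *ᵥ x = e x := by
    intro x
    show (LinearMap.toMatrix' (e : (Fin m ⊕ Fin m → F₀) →ₗ[F₀] (Fin m ⊕ Fin m → F₀))) *ᵥ x = e x
    rw [LinearMap.toMatrix'_mulVec]; rfl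
  have hP'x : ∀ x : Fin m ⊕ Fin m → F₀,
      (P' : Matrix (Fin m ⊕ Fin m) (Fin m ⊕ Fin m) F) *ᵥ cv x =
        (P : Matrix (Fin m ⊕ Fin m) (Fin m ⊕ Fin m) F) *ᵥ cv (e x) := by
    intro x
    rw [hP', gl_mul_mulVec, ← hC x, ← map_mulVec_cv]
    rfl
  have hrat : ∀ x y : Fin m ⊕ Fin m → F₀,
      ζ * Cfsg.sympForm m F ((P' : Matrix (Fin m ⊕ Fin m) (Fin m ⊕ Fin m) F) *ᵥ cv x)
        ((P' : Matrix (Fin m ⊕ Fin m) (Fin m ⊕ Fin m) F) *ᵥ cv y) =
      Cfsg.sympForm m F (cv x) (cv y) := by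
    intro x y
    rw [hP'x, hP'x, ← bet_apply P ζ hP,
      Cfsg.Agent.Lib.H13.sympForm_of_isSymp (bet P ζ hP) (bet_alt P ζ hP) b hb, sympForm_cv]
    congr 2
    · exact b'.equivFun.apply_symm_apply x
    · exact b'.equivFun.apply_symm_apply y
  have key : ζ • (Cfsg.Agent.S0768.B₀ F m).comp
      (Matrix.toLin' (P' : Matrix (Fin m ⊕ Fin m) (Fin m ⊕ Fin m) F))
      (Matrix.toLin' (P' : Matrix (Fin m ⊕ Fin m) (Fin m ⊕ Fin m) F)) =
      Cfsg.Agent.S0768.B₀ F m := by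
    apply LinearMap.BilinForm.ext_basis (Pi.basisFun F (Fin m ⊕ Fin m))
    intro a c
    simp only [Pi.basisFun_apply, LinearMap.smul_apply, LinearMap.BilinForm.comp_apply,
      Matrix.toLin'_apply, Cfsg.Agent.S0768.B₀_apply, smul_eq_mul]
    rw [← cv_single a, ← cv_single c]
    exact hrat _ _
  intro x y
  have h := LinearMap.congr_fun₂ key x y
  simpa only [LinearMap.smul_apply, LinearMap.BilinForm.comp_apply,
      Matrix.toLin'_apply, Cfsg.Agent.S0768.B₀_apply, smul_eq_mul] using h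

/-- conjugation by a similitude preserves the symplectic group -/
theorem conj_mem_spGL_of_sim (A : GL (Fin m ⊕ Fin m) F) (μ : F) (hμ : μ ≠ 0)
    (hA : ∀ x y : Fin m ⊕ Fin m → F,
      μ * Cfsg.sympForm m F ((A : Matrix (Fin m ⊕ Fin m) (Fin m ⊕ Fin m) F) *ᵥ x)
        ((A : Matrix (Fin m ⊕ Fin m) (Fin m ⊕ Fin m) F) *ᵥ y) = Cfsg.sympForm m F x y)
    {g : GL (Fin m ⊕ Fin m) F} :
    A * g * A⁻¹ ∈ Cfsg.spGL m F ↔ g ∈ Cfsg.spGL m F := by
  have hA' : ∀ x y : Fin m ⊕ Fin m → F,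
      Cfsg.sympForm m F ((A : Matrix (Fin m ⊕ Fin m) (Fin m ⊕ Fin m) F) *ᵥ x)
        ((A : Matrix (Fin m ⊕ Fin m) (Fin m ⊕ Fin m) F) *ᵥ y) = μ⁻¹ * Cfsg.sympForm m F x y := by
    intro x y
    rw [← hA x y, ← mul_assoc, inv_mul_cancel₀ hμ, one_mul]
  constructor
  · intro h
    rw [mem_spGL_iff] at h ⊢
    intro u v
    have h1 := h ((A : Matrix (Fin m ⊕ Fin m) (Fin m ⊕ Fin m) F) *ᵥ u)
      ((A : Matrix (Fin m ⊕ Fin m) (Fin m ⊕ Fin m) F) *ᵥ v)
    rw [gl_mul_mulVec, gl_mul_mulVec, gl_mul_mulVec, gl_mul_mulVec, gl_inv_mulVec, gl_inv_mulVec,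
      hA', hA'] at h1
    exact mul_left_cancel₀ (inv_ne_zero hμ) h1
  · intro h
    rw [mem_spGL_iff] at h ⊢
    intro u v
    rw [gl_mul_mulVec, gl_mul_mulVec, gl_mul_mulVec, gl_mul_mulVec, hA', h, ← hA', gl_mulVec_inv,
      gl_mulVec_inv]

theorem map_conj_spGL_of_sim (A : GL (Fin m ⊕ Fin m) F) (μ : F) (hμ : μ ≠ 0)
    (hA : ∀ x y : Fin m ⊕ Fin m → F,
      μ * Cfsg.sympForm m F ((A : Matrix (Fin m ⊕ Fin m) (Fin m ⊕ Fin m) F) *ᵥ x)
        ((A : Matrix (Fin m ⊕ Fin m) (Fin m ⊕ Fin m) F) *ᵥ y) = Cfsg.sympForm m F x y) :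
    (Cfsg.spGL m F).map (MulAut.conj A).toMonoidHom = Cfsg.spGL m F := by
  ext x
  constructor
  · rintro ⟨g, hg, rfl⟩
    exact (conj_mem_spGL_of_sim A μ hμ hA).2 hg
  · intro hx
    refine ⟨A⁻¹ * x * A, ?_, ?_⟩
    · apply (conj_mem_spGL_of_sim A μ hμ hA).1
      have : A * (A⁻¹ * x * A) * A⁻¹ = x := by group
      rw [this]; exact hx
    · show A * (A⁻¹ * x * A) * A⁻¹ = x
      group

/-- conjugating a subgroup by one of its elements -/
theorem map_conj_eq_self {G : Type*} [Group G] (S : Subgroup G) {c : G} (hc : c ∈ S) :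
    S.map (MulAut.conj c).toMonoidHom = S := by
  ext x
  constructor
  · rintro ⟨g, hg, rfl⟩
    exact S.mul_mem (S.mul_mem hc hg) (S.inv_mem hc)
  · intro hx
    refine ⟨c⁻¹ * x * c, S.mul_mem (S.mul_mem (S.inv_mem hc) hx) hc, ?_⟩
    show c * (c⁻¹ * x * c) * c⁻¹ = x
    group

theorem subfieldSubgroup_mul_map (P : GL (Fin m ⊕ Fin m) F) (C₀ : GL (Fin m ⊕ Fin m) F₀) :
    Cfsg.Geo.subfieldSubgroup F₀
      (P * Matrix.GeneralLinearGroup.map (F₀.subtype : F₀ →+* F) C₀) =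
    Cfsg.Geo.subfieldSubgroup F₀ P := by
  unfold Cfsg.Geo.subfieldSubgroup
  have hc : Matrix.GeneralLinearGroup.map (F₀.subtype : F₀ →+* F) C₀ ∈
      (Matrix.GeneralLinearGroup.map (F₀.subtype : F₀ →+* F)).range ⊔
        Cfsg.Geo.scalars (Fin m ⊕ Fin m) F :=
    Subgroup.mem_sup_left ⟨C₀, rfl⟩
  have h1 : (MulAut.conj (P * Matrix.GeneralLinearGroup.map (F₀.subtype : F₀ →+* F) C₀)).toMonoidHom
      = (MulAut.conj P).toMonoidHom.comp
        (MulAut.conj (Matrix.GeneralLinearGroup.map (F₀.subtype : F₀ →+* F) C₀)).toMonoidHom := by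
    ext x
    simp [MulAut.conj_apply, mul_assoc]
  rw [h1, ← Subgroup.map_map, map_conj_eq_self _ hc]

theorem subfieldSubgroup_eq_map_one (P : GL (Fin m ⊕ Fin m) F) :
    Cfsg.Geo.subfieldSubgroup F₀ P =
      (Cfsg.Geo.subfieldSubgroup F₀ (1 : GL (Fin m ⊕ Fin m) F)).map
        (MulAut.conj P).toMonoidHom := by
  unfold Cfsg.Geo.subfieldSubgroup
  rw [map_one]
  congr 1
  exact (Subgroup.map_id _).symm

/-- **V1** reduction to the standard rational structure -/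
theorem maximal_of_one (P : GL (Fin m ⊕ Fin m) F) (ζ : F) (hζ : ζ ≠ 0)
    (hP : Cfsg.Geo.IsFormRationalStructure (Cfsg.sympForm m F) F₀ ζ P)
    (h1 : Cfsg.Geo.IsMaximalIn (Cfsg.spGL m F) (M0 m F₀)) :
    Cfsg.Geo.IsMaximalIn (Cfsg.spGL m F)
      (Cfsg.Geo.subfieldSubgroup F₀ P ⊓ Cfsg.spGL m F) := by
  obtain ⟨C₀, hC₀⟩ := exists_adapted P ζ hζ hP
  set P' : GL (Fin m ⊕ Fin m) F :=
    P * Matrix.GeneralLinearGroup.map (F₀.subtype : F₀ →+* F) C₀ with hP'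
  have h2 := Cfsg.Agent.Lib.H10.Sf.isMaximalIn_map (MulAut.conj P') h1
  unfold M0 at h2
  rw [Subgroup.map_inf _ _ _ (MulAut.conj P').injective, map_conj_spGL_of_sim P' ζ hζ hC₀,
    ← subfieldSubgroup_eq_map_one, hP', subfieldSubgroup_mul_map] at h2
  exact h2

end Cfsg.Agent.Lib.H9.SpSub
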