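import Mathlib

set_option autoImplicit false

/-!
# Element orders of `GL(n, 2)`

* `exists_dim_of_orderOf_prime_pow`: a matrix of odd prime power order `r ^ (k+1)` over the field
  with two elements forces `r ^ (k+1) ∣ 2 ^ e - 1` for some `1 ≤ e ≤ n`
* `exists_matrix_orderOf`: Singer-type elements of order `c ∣ 2 ^ d - 1` in dimension `d`
* `exists_block_orderOf`: block diagonal matrices
* `exists_matrix_of_psl`, `exists_psl_of_matrix`: `PSL(n, F)` versus matrices when `|F| = 2`
-/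

namespace Cfsg.Agent.Lib.H9.SpecGL2
open Polynomial

theorem exists_dim_of_orderOf_prime_pow {F : Type*} [Field F] [Fintype F] (hF : Fintype.card F = 2)
    {n : ℕ} (M : Matrix (Fin n) (Fin n) F) {r k : ℕ} (hr : r.Prime) (hr2 : r ≠ 2)
    (hM : orderOf M = r ^ (k + 1)) : ∃ e, 1 ≤ e ∧ e ≤ n ∧ r ^ (k + 1) ∣ 2 ^ e - 1 := by
  have : Fact r.Prime := ⟨hr⟩
  have h2F : (2 : F) = 0 := by
    have := Nat.cast_card_eq_zero F
    rw [hF] at this
    exact_mod_cast this
  have hrodd : Odd (r ^ (k + 1)) := (hr.odd_of_ne_two hr2).pow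
  -- the minimal polynomial
  have hint : IsIntegral F M := Matrix.isIntegral M
  set μ := minpoly F M with hμ
  have hμ0 : μ ≠ 0 := minpoly.ne_zero hint
  have hdeg : μ.natDegree ≤ n := by
    have h1 := natDegree_le_of_dvd (Matrix.minpoly_dvd_charpoly M) (Matrix.charpoly_monic M).ne_zero
    rwa [Matrix.charpoly_natDegree_eq_dim, Fintype.card_fin] at h1
  have hdvd : μ ∣ cyclotomic (r ^ (k + 1)) F * (X ^ r ^ k - 1) := by
    rw [cyclotomic_prime_pow_mul_X_pow_sub_one]
    apply minpoly.dvd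
    rw [map_sub, map_pow, aeval_X, map_one, ← hM, pow_orderOf_eq_one, sub_self]
  have hndvd : ¬ μ ∣ (X ^ r ^ k - 1 : F[X]) := by
    intro h
    obtain ⟨c, hc⟩ := h
    have h1 : aeval M (X ^ r ^ k - 1 : F[X]) = 0 := by
      rw [hc, map_mul, hμ, minpoly.aeval, zero_mul]
    rw [map_sub, map_pow, aeval_X, map_one, sub_eq_zero] at h1
    have h2 := orderOf_dvd_of_pow_eq_one h1
    rw [hM] at h2
    have h3 := Nat.le_of_dvd (pow_pos hr.pos k) h2
    have h4 : r ^ k < r ^ (k + 1) := Nat.pow_lt_pow_right hr.one_lt (Nat.lt_succ_self k)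
    omega
  have hnc : ¬ IsCoprime μ (cyclotomic (r ^ (k + 1)) F) := by
    intro h
    exact hndvd (h.dvd_of_dvd_mul_left hdvd)
  obtain ⟨f, hfirr, hfμ, hfΦ⟩ : ∃ f : F[X], Irreducible f ∧ f ∣ μ ∧ f ∣ cyclotomic (r ^ (k + 1)) F := by
    by_contra hcon
    push Not at hcon
    apply hnc
    apply isCoprime_of_irreducible_dvd
    · rintro ⟨h1, -⟩; exact hμ0 h1
    · intro z hz hzμ
      exact hcon z hz hzμ
  have : Fact (Irreducible f) := ⟨hfirr⟩
  have hf0 : f ≠ 0 := hfirr.ne_zero
  -- the field `K = F[X]/(f)`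
  let K := AdjoinRoot f
  have hfinmod : Module.Finite F K := (AdjoinRoot.powerBasis hf0).finite
  have hfinK : Finite K := Module.finite_of_finite F
  have hcardK : Nat.card K = 2 ^ f.natDegree := by
    rw [Module.natCard_eq_pow_finrank (K := F) (V := K), (AdjoinRoot.powerBasis hf0).finrank,
      AdjoinRoot.powerBasis_dim, Nat.card_eq_fintype_card, hF]
  have h2K : (2 : K) = 0 := by
    have := congrArg (algebraMap F K) h2F
    rwa [map_ofNat, map_zero] at this
  have hne : NeZero ((r ^ (k + 1) : ℕ) : K) := by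
    constructor
    obtain ⟨m, hm⟩ := hrodd
    rw [hm, Nat.cast_add, Nat.cast_mul, Nat.cast_ofNat, Nat.cast_one, h2K, zero_mul, zero_add]
    exact one_ne_zero
  have hroot : IsRoot (cyclotomic (r ^ (k + 1)) K) (AdjoinRoot.root f) := by
    rw [← map_cyclotomic (r ^ (k + 1)) (AdjoinRoot.of f), IsRoot.def, eval_map]
    exact eval₂_eq_zero_of_dvd_of_eval₂_eq_zero _ _ hfΦ (AdjoinRoot.eval₂_root f)
  have hprim : IsPrimitiveRoot (AdjoinRoot.root f) (r ^ (k + 1)) := isRoot_cyclotomic_iff.1 hroot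
  have hord : orderOf (AdjoinRoot.root f) = r ^ (k + 1) := hprim.eq_orderOf.symm
  have hρ0 : AdjoinRoot.root f ≠ 0 := hprim.ne_zero (pow_pos hr.pos _).ne'
  have hord' : orderOf (Units.mk0 (AdjoinRoot.root f) hρ0) = r ^ (k + 1) := by
    rw [← hord, ← orderOf_units, Units.val_mk0]
  refine ⟨f.natDegree, hfirr.natDegree_pos, le_trans (natDegree_le_of_dvd hfμ hμ0) hdeg, ?_⟩
  rw [← hord', ← hcardK, ← Nat.card_units]
  exact orderOf_dvd_natCard _

theorem exists_matrix_orderOf_zmod (d c : ℕ) (hd : d ≠ 0) (hc : c ∣ 2 ^ d - 1) :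
    ∃ M : Matrix (Fin d) (Fin d) (ZMod 2), orderOf M = c := by
  have hp : Fact (Nat.Prime 2) := ⟨Nat.prime_two⟩
  let K := GaloisField 2 d
  have hfin : Finite K := inferInstance
  have hcard : Nat.card Kˣ = 2 ^ d - 1 := by
    rw [Nat.card_units, GaloisField.card 2 d hd]
  have hpos : 0 < 2 ^ d - 1 := by
    have : 2 ^ 1 ≤ 2 ^ d := Nat.pow_le_pow_right (by norm_num) (Nat.one_le_iff_ne_zero.2 hd)
    omega
  obtain ⟨g, hg⟩ := IsCyclic.exists_generator (α := Kˣ)
  have hog : orderOf g = 2 ^ d - 1 := by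
    rw [orderOf_eq_card_of_forall_mem_zpowers hg, hcard]
  have hc0 : c ≠ 0 := by
    rintro rfl
    rw [zero_dvd_iff] at hc
    omega
  have hq0 : (2 ^ d - 1) / c ≠ 0 := by
    intro h
    rw [Nat.div_eq_zero_iff] at h
    rcases h with h | h
    · exact hc0 h
    · exact absurd (Nat.le_of_dvd hpos hc) (by omega)
  obtain ⟨x, hox⟩ : ∃ x : Kˣ, orderOf x = c := by
    refine ⟨g ^ ((2 ^ d - 1) / c), ?_⟩
    rw [orderOf_pow_of_dvd hq0 (by rw [hog]; exact Nat.div_dvd_of_dvd hc), hog,
      Nat.div_div_self hc hpos.ne']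
  have hfr : Module.finrank (ZMod 2) K = d := GaloisField.finrank 2 hd
  have : Module.Finite (ZMod 2) K := Module.finite_of_finrank_pos (by rw [hfr]; omega)
  let b : Module.Basis (Fin d) (ZMod 2) K := Module.finBasisOfFinrankEq (ZMod 2) K hfr
  refine ⟨Algebra.leftMulMatrix b (x : K), ?_⟩
  rw [← hox, ← orderOf_units (y := x)]
  exact orderOf_injective (Algebra.leftMulMatrix b).toRingHom.toMonoidHom
    (Algebra.leftMulMatrix_injective b) _

theorem exists_matrix_orderOf {F : Type*} [Field F] [Fintype F] (hF : Fintype.card F = 2)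
    (d c : ℕ) (hd : d ≠ 0) (hc : c ∣ 2 ^ d - 1) :
    ∃ M : Matrix (Fin d) (Fin d) F, orderOf M = c := by
  obtain ⟨M, hM⟩ := exists_matrix_orderOf_zmod d c hd hc
  have e : ZMod 2 ≃+* F := FiniteField.ringEquivOfCardEq (by rw [hF, ZMod.card])
  refine ⟨e.mapMatrix M, ?_⟩
  rw [← hM]
  exact orderOf_injective (e.mapMatrix (m := Fin d)).toRingHom.toMonoidHom
    (e.mapMatrix (m := Fin d)).injective M

/-- block diagonal matrices -/
theorem exists_block_orderOf {F : Type*} [Field F] {a b n : ℕ} (hn : a + b = n)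
    (A : Matrix (Fin a) (Fin a) F) (B : Matrix (Fin b) (Fin b) F) :
    ∃ M : Matrix (Fin n) (Fin n) F, orderOf M = Nat.lcm (orderOf A) (orderOf B) := by
  subst hn
  let φ : Matrix (Fin a) (Fin a) F × Matrix (Fin b) (Fin b) F →*
      Matrix (Fin a ⊕ Fin b) (Fin a ⊕ Fin b) F :=
    { toFun := fun p => Matrix.fromBlocks p.1 0 0 p.2
      map_one' := by simp [Matrix.fromBlocks_one]
      map_mul' := by
        intro p q
        simp [Matrix.fromBlocks_multiply] }
  have hφ : Function.Injective φ := by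
    intro p q h
    have h' : Matrix.fromBlocks p.1 0 0 p.2 = Matrix.fromBlocks q.1 0 0 q.2 := h
    rw [Matrix.fromBlocks_inj] at h'
    exact Prod.ext h'.1 h'.2.2.2
  let ψ : Matrix (Fin a ⊕ Fin b) (Fin a ⊕ Fin b) F ≃ₐ[F] Matrix (Fin (a + b)) (Fin (a + b)) F :=
    Matrix.reindexAlgEquiv F F finSumFinEquiv
  refine ⟨ψ (φ (A, B)), ?_⟩
  rw [← Prod.orderOf_mk]
  rw [← orderOf_injective φ hφ (A, B)]
  exact orderOf_injective ψ.toAlgHom.toRingHom.toMonoidHom ψ.injective _

variable {F : Type*} [Field F] [Fintype F]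

theorem eq_zero_or_one_of_card_two (hF : Fintype.card F = 2) (r : F) : r = 0 ∨ r = 1 := by
  by_cases h : r = 0
  · left; exact h
  · right
    have hc : Nat.card Fˣ = 1 := by rw [Nat.card_units, Nat.card_eq_fintype_card, hF]
    have hs : Subsingleton Fˣ := (Nat.card_eq_one_iff_unique.1 hc).1
    have := congrArg Units.val (Subsingleton.elim (Units.mk0 r h) 1)
    simpa using this

theorem sl_orderOf_coe {n : ℕ} (g : Matrix.SpecialLinearGroup (Fin n) F) :
    orderOf (g : Matrix (Fin n) (Fin n) F) = orderOf g := by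
  rw [orderOf_eq_orderOf_iff]
  intro m
  constructor
  · intro h
    apply Subtype.ext
    rw [Matrix.SpecialLinearGroup.coe_pow, h, Matrix.SpecialLinearGroup.coe_one]
  · intro h
    have := congrArg (fun z : Matrix.SpecialLinearGroup (Fin n) F => (z : Matrix (Fin n) (Fin n) F)) h
    simpa using this

theorem sl_center_eq_bot (hF : Fintype.card F = 2) (n : ℕ) :
    Subgroup.center (Matrix.SpecialLinearGroup (Fin n) F) = ⊥ := by
  rw [Subgroup.eq_bot_iff_forall]
  intro A hA
  rw [Matrix.SpecialLinearGroup.mem_center_iff] at hA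
  obtain ⟨r, hr, hA⟩ := hA
  apply Subtype.ext
  rw [Matrix.SpecialLinearGroup.coe_one, ← hA]
  rcases eq_zero_or_one_of_card_two hF r with h | h
  · rw [h] at hr
    rw [Fintype.card_fin] at hr
    have hn : n = 0 := by
      by_contra hn
      rw [zero_pow hn] at hr
      exact zero_ne_one hr
    subst hn
    exact Subsingleton.elim _ _
  · rw [h, map_one]

theorem psl_mk_injective (hF : Fintype.card F = 2) (n : ℕ) :
    Function.Injective (QuotientGroup.mk' (Subgroup.center (Matrix.SpecialLinearGroup (Fin n) F))) := by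
  rw [← MonoidHom.ker_eq_bot_iff, QuotientGroup.ker_mk', sl_center_eq_bot hF]

theorem exists_matrix_of_psl (hF : Fintype.card F = 2) {n : ℕ}
    (x : Matrix.ProjectiveSpecialLinearGroup (Fin n) F) :
    ∃ M : Matrix (Fin n) (Fin n) F, orderOf M = orderOf x := by
  obtain ⟨g, rfl⟩ := QuotientGroup.mk_surjective x
  refine ⟨(g : Matrix (Fin n) (Fin n) F), ?_⟩
  rw [sl_orderOf_coe]
  exact (orderOf_injective _ (psl_mk_injective hF n) g).symm

theorem exists_psl_of_matrix (hF : Fintype.card F = 2) {n : ℕ}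
    (M : Matrix (Fin n) (Fin n) F) (hM : 0 < orderOf M) :
    ∃ x : Matrix.ProjectiveSpecialLinearGroup (Fin n) F, orderOf x = orderOf M := by
  have h1 : M ^ orderOf M = 1 := pow_orderOf_eq_one M
  have hdet : M.det = 1 := by
    have h2 := congrArg Matrix.det h1
    rw [Matrix.det_pow, Matrix.det_one] at h2
    rcases eq_zero_or_one_of_card_two hF M.det with h | h
    · rw [h, zero_pow hM.ne'] at h2
      exact absurd h2 zero_ne_one
    · exact h
  let g : Matrix.SpecialLinearGroup (Fin n) F := ⟨M, hdet⟩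
  refine ⟨QuotientGroup.mk' _ g, ?_⟩
  rw [orderOf_injective _ (psl_mk_injective hF n) g, ← sl_orderOf_coe]

end Cfsg.Agent.Lib.H9.SpecGL2
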