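import Mathlib

set_option autoImplicit false

/-!
# Prime powers dividing orders of tuples
-/

namespace Cfsg.Agent.Lib.H9.SpecGL2

theorem prime_pow_dvd_lcm {p b x y : ℕ} (hp : p.Prime) (h : p ^ b ∣ Nat.lcm x y) :
    p ^ b ∣ x ∨ p ^ b ∣ y := by
  by_cases hx : x = 0
  · left; rw [hx]; exact dvd_zero _
  by_cases hy : y = 0
  · right; rw [hy]; exact dvd_zero _
  rw [hp.pow_dvd_iff_le_factorization (Nat.lcm_ne_zero hx hy), Nat.factorization_lcm hx hy] at h
  rw [hp.pow_dvd_iff_le_factorization hx, hp.pow_dvd_iff_le_factorization hy]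
  rw [Finsupp.sup_apply] at h
  exact le_sup_iff.1 h

theorem prime_pow_dvd_finset_lcm {ι : Type*} {p b : ℕ} (hp : p.Prime) (hb : 1 ≤ b)
    (s : Finset ι) (g : ι → ℕ) (h : p ^ b ∣ s.lcm g) : ∃ i ∈ s, p ^ b ∣ g i := by
  classical
  induction s using Finset.induction_on with
  | empty =>
    rw [Finset.lcm_empty] at h
    have h1 := Nat.le_of_dvd one_pos h
    have h2 : p ^ 1 ≤ p ^ b := Nat.pow_le_pow_right hp.pos hb
    have h3 := hp.two_le
    rw [pow_one] at h2
    omega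
  | insert a s ha ih =>
    rw [Finset.lcm_insert] at h
    rcases prime_pow_dvd_lcm hp h with h1 | h1
    · exact ⟨a, Finset.mem_insert_self a s, h1⟩
    · obtain ⟨i, hi, hi2⟩ := ih h1
      exact ⟨i, Finset.mem_insert_of_mem hi, hi2⟩

theorem exists_orderOf_of_dvd {G : Type*} [Group G] [Finite G] (x : G) {m : ℕ}
    (hm : m ∣ orderOf x) : ∃ y : G, orderOf y = m := by
  have hpos : 0 < orderOf x := orderOf_pos x
  have hm0 : m ≠ 0 := by
    rintro rfl
    rw [zero_dvd_iff] at hm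
    omega
  have hq0 : orderOf x / m ≠ 0 := by
    intro h
    rw [Nat.div_eq_zero_iff] at h
    rcases h with h | h
    · exact hm0 h
    · exact absurd (Nat.le_of_dvd hpos hm) (by omega)
  refine ⟨x ^ (orderOf x / m), ?_⟩
  rw [orderOf_pow_of_dvd hq0 (Nat.div_dvd_of_dvd hm), Nat.div_div_self hm hpos.ne']

theorem exists_prime_pow_order {G : Type*} [Group G] [Finite G] {k : ℕ} (f : Fin k → G)
    {p b : ℕ} (hp : p.Prime) (hb : 1 ≤ b) (h : p ^ b ∣ orderOf f) : ∃ y : G, orderOf y = p ^ b := by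
  rw [Pi.orderOf] at h
  obtain ⟨i, -, hi⟩ := prime_pow_dvd_finset_lcm hp hb _ _ h
  exact exists_orderOf_of_dvd (f i) hi

end Cfsg.Agent.Lib.H9.SpecGL2
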