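import Mathlib
import Cfsg.Agent.Lib.H9.SpecGL2A
import Cfsg.Agent.Lib.H9.SpecGL2B

set_option autoImplicit false

/-!
# The spectrum of a direct power of `PSL(n, 2)`

`exists_short_tuple`: every element order of `PSL(n, 2) ^ k` is an element order of
`PSL(n, 2) ^ ((n + 3) / 2)`.
-/

namespace Cfsg.Agent.Lib.H9.SpecGL2

variable {F : Type*} [Field F] [Fintype F]

theorem two_pow_sub_one_pos {d : ℕ} (hd : d ≠ 0) : 0 < 2 ^ d - 1 := by
  have : 2 ^ 1 ≤ 2 ^ d := Nat.pow_le_pow_right (by norm_num) (Nat.one_le_iff_ne_zero.2 hd)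
  omega

theorem psl_prime_pow (hF : Fintype.card F = 2) {n : ℕ}
    (y : Matrix.ProjectiveSpecialLinearGroup (Fin n) F) {r k : ℕ} (hr : r.Prime) (hr2 : r ≠ 2)
    (hy : orderOf y = r ^ (k + 1)) : ∃ e, 1 ≤ e ∧ e ≤ n ∧ r ^ (k + 1) ∣ 2 ^ e - 1 := by
  obtain ⟨M, hM⟩ := exists_matrix_of_psl hF y
  exact exists_dim_of_orderOf_prime_pow hF M hr hr2 (hM.trans hy)

theorem psl_singer (hF : Fintype.card F = 2) {n : ℕ} (hn : n ≠ 0) {c : ℕ} (hc : c ∣ 2 ^ n - 1) :
    ∃ y : Matrix.ProjectiveSpecialLinearGroup (Fin n) F, orderOf y = c := by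
  obtain ⟨M, hM⟩ := exists_matrix_orderOf hF n c hn hc
  have hc0 : 0 < c := Nat.pos_of_dvd_of_pos hc (two_pow_sub_one_pos hn)
  obtain ⟨x, hx⟩ := exists_psl_of_matrix hF M (by rw [hM]; exact hc0)
  exact ⟨x, hx.trans hM⟩

theorem psl_pair (hF : Fintype.card F = 2) {n j : ℕ} (hj : 1 ≤ j) (hjn : j < n) {c c' : ℕ}
    (hc : c ∣ 2 ^ j - 1) (hc' : c' ∣ 2 ^ (n - j) - 1) :
    ∃ y : Matrix.ProjectiveSpecialLinearGroup (Fin n) F, orderOf y = Nat.lcm c c' := by
  obtain ⟨A, hA⟩ := exists_matrix_orderOf hF j c (by omega) hc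
  obtain ⟨B, hB⟩ := exists_matrix_orderOf hF (n - j) c' (by omega) hc'
  obtain ⟨M, hM⟩ := exists_block_orderOf (show j + (n - j) = n by omega) A B
  rw [hA, hB] at hM
  have hc0 : 0 < c := Nat.pos_of_dvd_of_pos hc (two_pow_sub_one_pos (by omega))
  have hc0' : 0 < c' := Nat.pos_of_dvd_of_pos hc' (two_pow_sub_one_pos (by omega))
  obtain ⟨x, hx⟩ := exists_psl_of_matrix hF M (by rw [hM]; exact Nat.lcm_pos hc0 hc0')
  exact ⟨x, hx.trans hM⟩

/-- the target orders -/
def tgt (n N : ℕ) (i : ℕ) : ℕ :=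
  if i = 0 then 2 ^ N.factorization 2
  else if i = (n + 1) / 2 then Nat.gcd N (2 ^ n - 1)
  else Nat.lcm (Nat.gcd N (2 ^ i - 1)) (Nat.gcd N (2 ^ (n - i) - 1))

theorem tgt_dvd (n N i : ℕ) : tgt n N i ∣ N := by
  unfold tgt
  split_ifs
  · exact Nat.ordProj_dvd N 2
  · exact Nat.gcd_dvd_left _ _
  · exact Nat.lcm_dvd (Nat.gcd_dvd_left _ _) (Nat.gcd_dvd_left _ _)

theorem exists_tgt (hF : Fintype.card F = 2) {n k : ℕ} (hn : 2 ≤ n)
    (f : Fin k → Matrix.ProjectiveSpecialLinearGroup (Fin n) F) (i : ℕ) (hi : i ≤ (n + 1) / 2) :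
    ∃ y : Matrix.ProjectiveSpecialLinearGroup (Fin n) F, orderOf y = tgt n (orderOf f) i := by
  unfold tgt
  split_ifs with h0 hJ
  · by_cases ht : (orderOf f).factorization 2 = 0
    · rw [ht, pow_zero]
      exact ⟨1, orderOf_one⟩
    · exact exists_prime_pow_order f Nat.prime_two (Nat.one_le_iff_ne_zero.2 ht)
        (Nat.ordProj_dvd _ 2)
  · exact psl_singer hF (by omega) (Nat.gcd_dvd_right _ _)
  · exact psl_pair hF (by omega) (by omega) (Nat.gcd_dvd_right _ _) (Nat.gcd_dvd_right _ _)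

theorem exists_short_tuple (hF : Fintype.card F = 2) {n k : ℕ} (hn : 2 ≤ n)
    (f : Fin k → Matrix.ProjectiveSpecialLinearGroup (Fin n) F) :
    ∃ f0 : Fin ((n + 3) / 2) → Matrix.ProjectiveSpecialLinearGroup (Fin n) F,
      orderOf f0 = orderOf f := by
  have hJ : (n + 3) / 2 = (n + 1) / 2 + 1 := by omega
  set N := orderOf f with hN
  have hNpos : 0 < N := orderOf_pos f
  choose! y hy using fun i (hi : i ≤ (n + 1) / 2) => exists_tgt hF hn f i hi
  let f0 : Fin ((n + 3) / 2) → Matrix.ProjectiveSpecialLinearGroup (Fin n) F := fun i => y i.val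
  have hf0 : ∀ i : Fin ((n + 3) / 2), orderOf (f0 i) = tgt n N i.val := fun i =>
    hy i.val (by have := i.isLt; omega)
  refine ⟨f0, ?_⟩
  have hN0pos : 0 < orderOf f0 := orderOf_pos f0
  apply Nat.dvd_antisymm
  · rw [Pi.orderOf]
    apply Finset.lcm_dvd
    intro i _
    rw [hf0]
    exact tgt_dvd n N _
  · rw [← Nat.factorization_prime_le_iff_dvd hNpos.ne' hN0pos.ne']
    intro p hp
    by_cases hb : N.factorization p = 0
    · rw [hb]; exact Nat.zero_le _
    rw [← hp.pow_dvd_iff_le_factorization hN0pos.ne']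
    have hpb : p ^ N.factorization p ∣ N := Nat.ordProj_dvd N p
    -- a component whose order is divisible by the prime power
    suffices h : ∃ i : Fin ((n + 3) / 2), p ^ N.factorization p ∣ tgt n N i.val by
      obtain ⟨i, hi⟩ := h
      rw [← hf0 i] at hi
      exact dvd_trans hi (orderOf_apply_dvd_orderOf i)
    by_cases hp2 : p = 2
    · subst hp2
      refine ⟨⟨0, by omega⟩, ?_⟩
      simp [tgt]
    · obtain ⟨z, hz⟩ := exists_prime_pow_order f hp (Nat.one_le_iff_ne_zero.2 hb) hpb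
      obtain ⟨b, hb'⟩ := Nat.exists_eq_succ_of_ne_zero hb
      rw [hb'] at hz hpb ⊢
      obtain ⟨e, he1, hen, hdvd⟩ := psl_prime_pow hF z hp hp2 hz
      have hg : ∀ e', p ^ (b + 1) ∣ 2 ^ e' - 1 → p ^ (b + 1) ∣ Nat.gcd N (2 ^ e' - 1) :=
        fun e' h => Nat.dvd_gcd hpb h
      by_cases hen' : e = n
      · refine ⟨⟨(n + 1) / 2, by omega⟩, ?_⟩
        have h1 : (n + 1) / 2 ≠ 0 := by omega
        simp only [tgt, h1, if_false, if_true]
        rw [← hen']
        exact hg e hdvd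
      · have helt : e < n := lt_of_le_of_ne hen hen'
        by_cases hmin : min e (n - e) < (n + 1) / 2
        · refine ⟨⟨min e (n - e), by omega⟩, ?_⟩
          have h1 : min e (n - e) ≠ 0 := by omega
          have h2 : min e (n - e) ≠ (n + 1) / 2 := by omega
          simp only [tgt, h1, h2, if_false]
          rcases le_total e (n - e) with hle | hle
          · rw [min_eq_left hle]
            exact dvd_trans (hg e hdvd) (Nat.dvd_lcm_left _ _)
          · rw [min_eq_right hle]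
            have h3 : n - (n - e) = e := by omega
            rw [h3]
            exact dvd_trans (hg e hdvd) (Nat.dvd_lcm_right _ _)
        · -- `n` is even and `e = n / 2`
          have hne : n = 2 * e := by omega
          refine ⟨⟨(n + 1) / 2, by omega⟩, ?_⟩
          have h1 : (n + 1) / 2 ≠ 0 := by omega
          simp only [tgt, h1, if_false, if_true]
          apply hg
          refine dvd_trans hdvd ?_
          rw [hne, pow_mul']
          have := Nat.sub_dvd_pow_sub_pow (2 ^ e) 1 2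
          rwa [one_pow] at this

end Cfsg.Agent.Lib.H9.SpecGL2
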