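import Mathlib
import Cfsg.Agent.Lib.H9.SqCommA
import Cfsg.Agent.Lib.H9.SqCommC
import Cfsg.Agent.Lib.H9.SqCommE
import Cfsg.Agent.Lib.H9.SqCommF
import Cfsg.Agent.Lib.H9.SqCommH
import Cfsg.Agent.Lib.H9.SqCommI1

/-!
# The determinant-one part of `GL2 ≀ Sym(m)`: generators
-/

set_option autoImplicit false

namespace Cfsg.Agent.Lib.H9.SqC

open Matrix Equiv
open scoped commutatorElement

variable {F : Type*} [Field F] {m : ℕ}

/-- the product homomorphism -/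
def prodHom (F : Type*) [Field F] (m : ℕ) : (Fin m → Fˣ) →* Fˣ where
  toFun z := ∏ i, z i
  map_one' := by simp
  map_mul' z w := Finset.prod_mul_distrib

/-- diagonal elements `diag(z_1,1,z_2,1,…)` -/
def dDelta (F : Type*) [Field F] (m : ℕ) : (Fin m → Fˣ) →* GL (Fin m ⊕ Fin m) F :=
  (gPhi (F := F) (m := m)).comp ((dEl (F := F)).compLeft (Fin m))

theorem dDelta_apply (z : Fin m → Fˣ) : dDelta F m z = gPhi (fun i => dEl (z i)) := rfl

theorem det_dDelta (z : Fin m → Fˣ) :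
    Matrix.GeneralLinearGroup.det (dDelta F m z) = ∏ i, z i := by
  rw [dDelta_apply, det_gPhi]
  congr 1
  funext i
  exact det_dEl (z i)

theorem gPsi_conj_dDelta (ρ : Perm (Fin m)) (z : Fin m → Fˣ) :
    gPsi ρ * dDelta F m z * (gPsi ρ)⁻¹ = dDelta F m (fun i => z (ρ⁻¹ i)) := by
  rw [dDelta_apply, dDelta_apply]
  exact (glWr F m).conj ρ _

section main

variable (Z : Subgroup Fˣ) (Q : Subgroup (GL (Fin 2) F)) (S : Subgroup (Perm (Fin m)))

/-- diagonal parameters of determinant one -/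
def zSub : Subgroup (Fin m → Fˣ) := (Subgroup.pi Set.univ fun _ : Fin m => Z) ⊓ (prodHom F m).ker

theorem mem_zSub {z : Fin m → Fˣ} : z ∈ zSub (m := m) Z ↔ (∀ i, z i ∈ Z) ∧ ∏ i, z i = 1 := by
  unfold zSub
  rw [Subgroup.mem_inf, Subgroup.mem_pi, MonoidHom.mem_ker]
  constructor
  · rintro ⟨h1, h2⟩
    exact ⟨fun i => h1 i (Set.mem_univ i), h2⟩
  · rintro ⟨h1, h2⟩
    exact ⟨fun i _ => h1 i, h2⟩

/-- `Q ∩ SL2` -/
def q0 : Subgroup (GL (Fin 2) F) := Q ⊓ (Matrix.GeneralLinearGroup.det (n := Fin 2) (R := F)).ker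

/-- the candidate Sylow subgroup, by generators -/
def xSub : Subgroup (GL (Fin m ⊕ Fin m) F) :=
  (glWr F m).top S ⊔ (glWr F m).base (q0 Q) ⊔ (zSub (m := m) Z).map (dDelta F m)

/-- the candidate Sylow subgroup, as a kernel -/
def pSub : Subgroup (GL (Fin m ⊕ Fin m) F) :=
  (glWr F m).sub Q S ⊓ (Matrix.GeneralLinearGroup.det (n := Fin m ⊕ Fin m) (R := F)).ker

variable {Z Q S}

theorem mem_pSub {w : GL (Fin m ⊕ Fin m) F} :
    w ∈ pSub Q S ↔ w ∈ (glWr F m).sub Q S ∧ Matrix.GeneralLinearGroup.det w = 1 := by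
  unfold pSub
  rw [Subgroup.mem_inf, MonoidHom.mem_ker]

theorem mem_q0 {g : GL (Fin 2) F} :
    g ∈ q0 Q ↔ g ∈ Q ∧ Matrix.GeneralLinearGroup.det g = 1 := by
  unfold q0
  rw [Subgroup.mem_inf, MonoidHom.mem_ker]

theorem top_le_pSub : (glWr F m).top S ≤ pSub Q S := by
  rintro _ ⟨σ, hσ, rfl⟩
  rw [mem_pSub]
  exact ⟨Subgroup.mem_sup_left ⟨σ, hσ, rfl⟩, det_gPsi σ⟩

theorem base_q0_le_pSub : (glWr F m).base (q0 Q) ≤ pSub Q S := by
  rintro _ ⟨h, hh, rfl⟩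
  rw [mem_pSub]
  refine ⟨Subgroup.mem_sup_right ⟨h, fun i _ => (mem_q0.1 (hh i (Set.mem_univ i))).1, rfl⟩, ?_⟩
  show Matrix.GeneralLinearGroup.det (gPhi h) = 1
  rw [det_gPhi]
  apply Finset.prod_eq_one
  intro i _
  exact (mem_q0.1 (hh i (Set.mem_univ i))).2

theorem zmap_le_pSub (hZQ : ∀ z ∈ Z, dEl z ∈ Q) :
    (zSub (m := m) Z).map (dDelta F m) ≤ pSub Q S := by
  rintro _ ⟨z, hz, rfl⟩
  rw [SetLike.mem_coe, mem_zSub] at hz
  rw [mem_pSub]
  refine ⟨Subgroup.mem_sup_right ⟨fun i => dEl (z i), fun i _ => hZQ _ (hz.1 i), rfl⟩, ?_⟩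
  rw [det_dDelta]
  exact hz.2

theorem xSub_le_pSub (hZQ : ∀ z ∈ Z, dEl z ∈ Q) : xSub (m := m) Z Q S ≤ pSub Q S :=
  sup_le (sup_le top_le_pSub base_q0_le_pSub) (zmap_le_pSub hZQ)

theorem pSub_le_xSub (hZQ : ∀ z ∈ Z, dEl z ∈ Q)
    (hdet : ∀ g ∈ Q, Matrix.GeneralLinearGroup.det g ∈ Z) : pSub Q S ≤ xSub (m := m) Z Q S := by
  intro w hw
  obtain ⟨hwT, hwdet⟩ := mem_pSub.1 hw
  obtain ⟨g, hg, σ, hσ, rfl⟩ := (glWr F m).mem_sub_decomp Q S hwT
  rw [map_mul] at hwdet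
  have h1 : Matrix.GeneralLinearGroup.det ((glWr F m).Ψ σ) = 1 := det_gPsi σ
  have h2 : Matrix.GeneralLinearGroup.det ((glWr F m).Φ g) =
      ∏ i, Matrix.GeneralLinearGroup.det (g i) := det_gPhi g
  rw [h1, mul_one, h2] at hwdet
  set z : Fin m → Fˣ := fun i => Matrix.GeneralLinearGroup.det (g i) with hz
  have hzZ : z ∈ zSub (m := m) Z := by
    rw [mem_zSub]
    exact ⟨fun i => hdet _ (hg i), hwdet⟩
  set h : Fin m → GL (Fin 2) F := fun i => g i * (dEl (z i))⁻¹ with hh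
  have hhQ : ∀ i, h i ∈ q0 Q := by
    intro i
    rw [mem_q0]
    refine ⟨mul_mem (hg i) (inv_mem (hZQ _ (hdet _ (hg i)))), ?_⟩
    rw [map_mul, map_inv, det_dEl]
    exact mul_inv_cancel _
  have hgh : g = h * fun i => dEl (z i) := by
    funext i
    simp [hh]
  have hΦ : (glWr F m).Φ g = (glWr F m).Φ h * dDelta F m z := by
    rw [hgh, map_mul]
    rfl
  rw [hΦ]
  unfold xSub
  refine mul_mem (mul_mem ?_ ?_) ?_
  · exact Subgroup.mem_sup_left (Subgroup.mem_sup_right ⟨h, fun i _ => hhQ i, rfl⟩)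
  · exact Subgroup.mem_sup_right ⟨z, hzZ, rfl⟩
  · exact Subgroup.mem_sup_left (Subgroup.mem_sup_left ⟨σ, hσ, rfl⟩)

theorem pSub_eq_xSub (hZQ : ∀ z ∈ Z, dEl z ∈ Q)
    (hdet : ∀ g ∈ Q, Matrix.GeneralLinearGroup.det g ∈ Z) : pSub Q S = xSub (m := m) Z Q S :=
  le_antisymm (pSub_le_xSub hZQ hdet) (xSub_le_pSub hZQ)

/-- the key criterion -/
theorem xSub_sqComm (hQ0 : SqComm (q0 Q)) (hS : SqComm S)
    (hsq : ∀ z ∈ zSub (m := m) Z, dDelta F m (z ^ 2) ∈ ⁅xSub (m := m) Z Q S, xSub (m := m) Z Q S⁆) :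
    SqComm (xSub (m := m) Z Q S) := by
  apply sqComm_of_closure ((((glWr F m).top S : Set (GL (Fin m ⊕ Fin m) F)) ∪
    ((glWr F m).base (q0 Q) : Set (GL (Fin m ⊕ Fin m) F))) ∪
      ((zSub (m := m) Z).map (dDelta F m) : Set (GL (Fin m ⊕ Fin m) F)))
  · rw [Subgroup.closure_union, Subgroup.closure_union, Subgroup.closure_eq, Subgroup.closure_eq,
      Subgroup.closure_eq]
    rfl
  · rintro s ((hs | hs) | hs)
    · have h1 : SqComm ((glWr F m).top S) := hS.map _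
      exact Subgroup.commutator_mono (le_sup_left.trans le_sup_left)
        (le_sup_left.trans le_sup_left) (h1 s hs)
    · have h1 : SqComm ((glWr F m).base (q0 Q)) := (WrData.pi_sqComm _ hQ0).map _
      exact Subgroup.commutator_mono (le_sup_right.trans le_sup_left)
        (le_sup_right.trans le_sup_left) (h1 s hs)
    · obtain ⟨z, hz, rfl⟩ := hs
      rw [← map_pow]
      exact hsq z hz

end main

end Cfsg.Agent.Lib.H9.SqC
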