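import Mathlib
import Cfsg.Agent.Lib.H9.SqCommA
import Cfsg.Agent.Lib.H9.SqCommE
import Cfsg.Agent.Lib.H9.SqCommF
import Cfsg.Agent.Lib.H9.SqCommH
import Cfsg.Agent.Lib.H9.SqCommI1
import Cfsg.Agent.Lib.H9.SqCommI2
import Cfsg.Agent.Lib.H9.SylSymA

/-!
# Squares of determinant-one diagonal elements are commutators
-/

set_option autoImplicit false

namespace Cfsg.Agent.Lib.H9.SqC

open Matrix Equiv
open scoped commutatorElement

variable {F : Type*} [Field F] {m : ℕ}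

variable {Z : Subgroup Fˣ} {Q : Subgroup (GL (Fin 2) F)} {S : Subgroup (Perm (Fin m))}

/-- Case A: the diagonal part has exponent two. -/
theorem hsq_of_card_two [Finite Fˣ] (hZ : Nat.card ↥Z = 2) (z : Fin m → Fˣ)
    (hz : z ∈ zSub (m := m) Z) :
    dDelta F m (z ^ 2) ∈ ⁅xSub (m := m) Z Q S, xSub (m := m) Z Q S⁆ := by
  have h1 : z ^ 2 = 1 := by
    funext i
    have hzi : z i ∈ Z := (mem_zSub Z).1 hz |>.1 i
    have h2 : (⟨z i, hzi⟩ : ↥Z) ^ Nat.card ↥Z = 1 := pow_card_eq_one'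
    rw [hZ] at h2
    have := congrArg Subtype.val h2
    simpa using this
  rw [h1, map_one]
  exact one_mem _

/-- the pair elements -/
def xPair (i j : Fin m) (c : Fˣ) : Fin m → Fˣ := Pi.mulSingle i c * Pi.mulSingle j c⁻¹

theorem xPair_self (i : Fin m) (c : Fˣ) : xPair i i c = 1 := by
  unfold xPair
  rw [← Pi.mulSingle_mul, mul_inv_cancel, Pi.mulSingle_one]

theorem xPair_inv (i j : Fin m) (c : Fˣ) : (xPair i j c)⁻¹ = xPair j i c := by
  unfold xPair
  rw [mul_inv, ← Pi.mulSingle_inv, ← Pi.mulSingle_inv, inv_inv, mul_comm]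

theorem xPair_mul (i j k : Fin m) (c : Fˣ) : xPair i j c * xPair j k c = xPair i k c := by
  unfold xPair
  have h1 : (Pi.mulSingle j c⁻¹ : Fin m → Fˣ) * Pi.mulSingle j c = 1 := by
    rw [← Pi.mulSingle_mul, inv_mul_cancel, Pi.mulSingle_one]
  rw [mul_assoc, ← mul_assoc (Pi.mulSingle j c⁻¹ : Fin m → Fˣ), h1, one_mul]

theorem xPair_mem (i j : Fin m) {c : Fˣ} (hc : c ∈ Z) : xPair i j c ∈ zSub (m := m) Z := by
  rw [mem_zSub]
  constructor
  · intro k
    unfold xPair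
    rw [Pi.mul_apply]
    apply mul_mem
    · rw [Pi.mulSingle_apply]; split_ifs
      · exact hc
      · exact one_mem _
    · rw [Pi.mulSingle_apply]; split_ifs
      · exact inv_mem hc
      · exact one_mem _
  · unfold xPair
    simp only [Pi.mul_apply]
    rw [Finset.prod_mul_distrib, Finset.prod_pi_mulSingle', Finset.prod_pi_mulSingle']
    simp

theorem xPair_perm (i j : Fin m) (c : Fˣ) (ρ : Perm (Fin m)) :
    (fun k => xPair i j c (ρ⁻¹ k)) = xPair (ρ i) (ρ j) c := by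
  funext k
  unfold xPair
  simp only [Pi.mul_apply, Pi.mulSingle_apply]
  have h1 : (ρ⁻¹ k = i) = (k = ρ i) := by
    rw [eq_iff_iff, Perm.inv_eq_iff_eq]
  have h2 : (ρ⁻¹ k = j) = (k = ρ j) := by
    rw [eq_iff_iff, Perm.inv_eq_iff_eq]
  simp only [h1, h2]


section caseB

variable (Z Q S)

/-- parameters whose diagonal element is a commutator -/
def cSub : Subgroup (Fin m → Fˣ) :=
  (⁅xSub (m := m) Z Q S, xSub (m := m) Z Q S⁆).comap (dDelta F m)

variable {Z Q S}

theorem gPsi_mem_xSub {ρ : Perm (Fin m)} (hρ : ρ ∈ S) : gPsi ρ ∈ xSub (m := m) Z Q S :=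
  Subgroup.mem_sup_left (Subgroup.mem_sup_left ⟨ρ, hρ, rfl⟩)

theorem dDelta_mem_xSub {z : Fin m → Fˣ} (hz : z ∈ zSub (m := m) Z) :
    dDelta F m z ∈ xSub (m := m) Z Q S :=
  Subgroup.mem_sup_right ⟨z, hz, rfl⟩

theorem comm_mem_cSub {ρ : Perm (Fin m)} (hρ : ρ ∈ S) {z : Fin m → Fˣ}
    (hz : z ∈ zSub (m := m) Z) : (fun i => z (ρ⁻¹ i)) * z⁻¹ ∈ cSub (m := m) Z Q S := by
  unfold cSub
  rw [Subgroup.mem_comap, map_mul, map_inv, ← gPsi_conj_dDelta]
  have := Subgroup.commutator_mem_commutator (gPsi_mem_xSub (Z := Z) (Q := Q) hρ)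
    (dDelta_mem_xSub (Q := Q) (S := S) hz)
  rwa [commutatorElement_def] at this

theorem swap_sq_mem {ρ : Perm (Fin m)} (hρ : ρ ∈ S) {i j : Fin m} (hij : ρ i = j) (hji : ρ j = i)
    {c : Fˣ} (hc : c ∈ Z) : (xPair j i c) ^ 2 ∈ cSub (m := m) Z Q S := by
  have h1 := comm_mem_cSub (Q := Q) hρ (xPair_mem i j hc)
  rwa [xPair_perm, hij, hji, xPair_inv, ← pow_two] at h1

/-- the relation "squares of pair elements are commutators" -/
def pairRel (Z : Subgroup Fˣ) (Q : Subgroup (GL (Fin 2) F)) (S : Subgroup (Perm (Fin m)))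
    (i j : Fin m) : Prop := ∀ c ∈ Z, (xPair i j c) ^ 2 ∈ cSub (m := m) Z Q S

theorem pairRel_refl (i : Fin m) : pairRel Z Q S i i := by
  intro c _
  rw [xPair_self, one_pow]
  exact one_mem _

theorem pairRel_symm {i j : Fin m} (h : pairRel Z Q S i j) : pairRel Z Q S j i := by
  intro c hc
  rw [← xPair_inv, inv_pow]
  exact inv_mem (h c hc)

theorem pairRel_trans {i j k : Fin m} (h1 : pairRel Z Q S i j) (h2 : pairRel Z Q S j k) :
    pairRel Z Q S i k := by
  intro c hc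
  rw [← xPair_mul i j k, mul_pow]
  exact mul_mem (h1 c hc) (h2 c hc)

theorem pairRel_invol {ρ : Perm (Fin m)} (hρ : ρ ∈ S) (hρ2 : ρ ^ 2 = 1) (j : Fin m) :
    pairRel Z Q S j (ρ j) := by
  intro c hc
  have h1 : ρ (ρ j) = j := by
    have := congrArg (fun τ : Perm (Fin m) => τ j) hρ2
    simpa [pow_two] using this
  exact swap_sq_mem (Q := Q) hρ h1 rfl hc

theorem pairRel_all (hgen : Cfsg.Agent.Lib.H9.SylSym.GenIn 2 S)
    (htrans : ∀ i j : Fin m, ∃ ρ ∈ S, ρ i = j) (i j : Fin m) : pairRel Z Q S i j := by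
  have key : ∀ ρ ∈ S, ∀ k : Fin m, pairRel Z Q S i k ↔ pairRel Z Q S i (ρ k) := by
    intro ρ hρ
    rw [← hgen] at hρ
    induction hρ using Subgroup.closure_induction with
    | mem x hx =>
      intro k
      have h1 := pairRel_invol (Z := Z) (Q := Q) hx.1 hx.2 k
      exact ⟨fun h => pairRel_trans h h1, fun h => pairRel_trans h (pairRel_symm h1)⟩
    | one => intro k; rfl
    | mul x y _ _ hx hy =>
      intro k
      rw [hy k, hx (y k)]
      rfl
    | inv x _ hx =>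
      intro k
      rw [hx (x⁻¹ k)]
      simp
  obtain ⟨ρ, hρ, hρi⟩ := htrans i j
  rw [← hρi, ← key ρ hρ i]
  exact pairRel_refl i

theorem hsq_of_transitive (hgen : Cfsg.Agent.Lib.H9.SylSym.GenIn 2 S)
    (htrans : ∀ i j : Fin m, ∃ ρ ∈ S, ρ i = j) (z : Fin m → Fˣ)
    (hz : z ∈ zSub (m := m) Z) :
    dDelta F m (z ^ 2) ∈ ⁅xSub (m := m) Z Q S, xSub (m := m) Z Q S⁆ := by
  rcases Nat.eq_zero_or_pos m with hm | hm
  · subst hm
    have : z ^ 2 = 1 := by
      funext i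
      exact i.elim0
    rw [this, map_one]
    exact one_mem _
  · let i0 : Fin m := ⟨0, hm⟩
    obtain ⟨hzZ, hzprod⟩ := (mem_zSub Z).1 hz
    have hdecomp : z = ∏ i, xPair i i0 (z i) := by
      unfold xPair
      rw [Finset.prod_mul_distrib, Finset.univ_prod_mulSingle]
      have h1 : ∏ i, (Pi.mulSingle i0 (z i)⁻¹ : Fin m → Fˣ) = 1 := by
        have h2 := map_prod (MonoidHom.mulSingle (fun _ : Fin m => Fˣ) i0) (fun i => (z i)⁻¹)
          Finset.univ
        simp only [MonoidHom.mulSingle_apply] at h2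
        rw [← h2, Finset.prod_inv_distrib, hzprod, inv_one, Pi.mulSingle_one]
      rw [h1, mul_one]
    have hmem : z ^ 2 ∈ cSub (m := m) Z Q S := by
      rw [hdecomp, ← Finset.prod_pow]
      apply Subgroup.prod_mem
      intro i _
      exact pairRel_all hgen htrans i i0 (z i) (hzZ i)
    exact hmem

end caseB

end Cfsg.Agent.Lib.H9.SqC
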