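import Mathlib
import Cfsg.Agent.Lib.H9.SqCommA
import Cfsg.Agent.Lib.H9.SqCommE
import Cfsg.Agent.Lib.H9.SqCommF
import Cfsg.Agent.Lib.H9.SqCommH
import Cfsg.Agent.Lib.H9.SqCommI1
import Cfsg.Agent.Lib.H9.SqCommI2
import Cfsg.Agent.Lib.H9.SqCommI3
import Cfsg.Agent.Lib.H9.SylSymC

/-!
# Sylow 2-subgroups of `SL(2m, q)`, `q` odd: squares are commutators
-/

set_option autoImplicit false

namespace Cfsg.Agent.Lib.H9.SqC

open Matrix Equiv
open scoped commutatorElement

variable {F : Type*} [Field F]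

theorem ker_det_le_range_toGL (N : Type*) [Fintype N] [DecidableEq N] :
    (Matrix.GeneralLinearGroup.det (n := N) (R := F)).ker ≤
      (Matrix.SpecialLinearGroup.toGL (n := N) (R := F)).range := by
  intro g hg
  rw [MonoidHom.mem_ker] at hg
  have h1 : det (g : Matrix N N F) = 1 := by
    have := congrArg Units.val hg
    rwa [Matrix.GeneralLinearGroup.val_det_apply] at this
  refine ⟨⟨(g : Matrix N N F), h1⟩, ?_⟩
  apply Units.ext
  rfl

theorem slReindex_symm {N N' : Type*} [Fintype N] [DecidableEq N] [Fintype N'] [DecidableEq N']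
    (e : N ≃ N') (s : SpecialLinearGroup N' F) : slReindex e (slReindex e.symm s) = s := by
  apply Subtype.ext
  show Matrix.reindex e e (Matrix.reindex e.symm e.symm s.1) = s.1
  ext i j
  simp

variable [Fintype F]

/-- `Q ∩ SL2` has elementary abelian abelianisation, for `Q` a Sylow 2-subgroup of `GL2`. -/
theorem q0_sqComm (hq : Odd (Fintype.card F)) (Zs : Sylow 2 Fˣ) (Q : Sylow 2 (GL (Fin 2) F)) :
    SqComm (q0 (Q : Subgroup (GL (Fin 2) F))) := by
  have hp : IsPGroup 2 ↥(q0 (Q : Subgroup (GL (Fin 2) F))) := Q.isPGroup'.to_le inf_le_left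
  have hle : q0 (Q : Subgroup (GL (Fin 2) F)) ≤
      (Matrix.SpecialLinearGroup.toGL (n := Fin 2) (R := F)).range :=
    inf_le_right.trans (ker_det_le_range_toGL (Fin 2))
  have h1 := card_eq_card_inf_ker_mul (Matrix.GeneralLinearGroup.det (n := Fin 2) (R := F))
    (Q : Subgroup (GL (Fin 2) F))
  have h2 : Nat.card ↥((Q : Subgroup (GL (Fin 2) F)).map
      (Matrix.GeneralLinearGroup.det (n := Fin 2) (R := F))) ≤
      2 ^ padicValNat 2 (Fintype.card F - 1) := by
    rw [← card_units_sylow Zs]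
    exact Subgroup.card_le_of_le (units_two_subgroup_le Zs (Q.isPGroup'.map _))
  have h3 : Nat.card ↥(Q : Subgroup (GL (Fin 2) F)) =
      2 ^ (2 * padicValNat 2 (Fintype.card F - 1) + padicValNat 2 (Fintype.card F + 1)) := by
    rw [Sylow.card_eq_multiplicity, Nat.factorization_def _ Nat.prime_two, v2_card_GL2 hq]
  have hcard : 2 ^ padicValNat 2 (Nat.card (SpecialLinearGroup (Fin 2) F)) ≤
      Nat.card ↥(q0 (Q : Subgroup (GL (Fin 2) F))) := by
    have h4 : padicValNat 2 (Nat.card (SpecialLinearGroup (Fin 2) F)) =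
        padicValNat 2 (Fintype.card F + 1) + padicValNat 2 (Fintype.card F - 1) :=
      v2_card_SL2 hq
    rw [h4]
    rw [h3] at h1
    have h5 : 2 ^ (padicValNat 2 (Fintype.card F + 1) + padicValNat 2 (Fintype.card F - 1)) *
        2 ^ padicValNat 2 (Fintype.card F - 1) ≤
        Nat.card ↥(q0 (Q : Subgroup (GL (Fin 2) F))) * 2 ^ padicValNat 2 (Fintype.card F - 1) := by
      calc _ = 2 ^ (2 * padicValNat 2 (Fintype.card F - 1) +
            padicValNat 2 (Fintype.card F + 1)) := by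
              rw [← pow_add]; congr 1; ring
        _ = _ := h1
        _ ≤ _ := Nat.mul_le_mul_left _ h2
    exact Nat.le_of_mul_le_mul_right h5 (by positivity)
  let P' : Sylow 2 (SpecialLinearGroup (Fin 2) F) := default
  obtain ⟨e⟩ := sylow_equiv_of_card_le Matrix.SpecialLinearGroup.toGL
    Matrix.SpecialLinearGroup.toGL_injective _ hp hle hcard P'
  exact sqComm_of_mulEquiv e (sylow_sl2_sqComm hq P')


/-- Sylow 2-subgroups of `SL(2m, q)`: `q ≡ 3 mod 4`, or `q ≡ 1 mod 4` and `m` a power of two. -/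
theorem sylow_sl_even_sqComm (hq : Odd (Fintype.card F)) (m : ℕ) (hm : 1 ≤ m)
    (hcase : Fintype.card F % 4 = 3 ∨ (Fintype.card F % 4 = 1 ∧ ∃ j : ℕ, m = 2 ^ j))
    (P' : Sylow 2 (SpecialLinearGroup (Fin (2 * m)) F)) :
    SqComm (P' : Subgroup (SpecialLinearGroup (Fin (2 * m)) F)) := by
  have hq1 : 1 < Fintype.card F := Fintype.one_lt_card
  let Zs : Sylow 2 Fˣ := default
  -- a Sylow 2-subgroup of GL2 containing diag(Zs, 1)
  obtain ⟨Q, hQ⟩ := (Zs.isPGroup'.map (dEl (F := F))).exists_le_sylow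
  have hZQ : ∀ z ∈ (Zs : Subgroup Fˣ), dEl z ∈ (Q : Subgroup (GL (Fin 2) F)) :=
    fun z hz => hQ ⟨z, hz, rfl⟩
  have hdet : ∀ g ∈ (Q : Subgroup (GL (Fin 2) F)),
      Matrix.GeneralLinearGroup.det g ∈ (Zs : Subgroup Fˣ) := fun g hg =>
    units_two_subgroup_le Zs (Q.isPGroup'.map (Matrix.GeneralLinearGroup.det (n := Fin 2) (R := F)))
      ⟨g, hg, rfl⟩
  obtain ⟨S, hS, -⟩ := Cfsg.Agent.Lib.H9.SylSym.exists_sylow_genIn (p := 2) m
  have hQ0 := q0_sqComm hq Zs Q
  -- the subgroup
  have hPX := pSub_eq_xSub (m := m) (S := (S : Subgroup (Perm (Fin m)))) hZQ hdet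
  have hsq : SqComm (pSub (m := m) (Q : Subgroup (GL (Fin 2) F)) (S : Subgroup (Perm (Fin m)))) := by
    rw [hPX]
    apply xSub_sqComm hQ0 (genIn_two_sqComm hS)
    rcases hcase with h3 | ⟨h1, j, hj⟩
    · have hZ2 : Nat.card ↥(Zs : Subgroup Fˣ) = 2 := by
        rw [card_units_sylow, padicValNat_two_of_mod_four (by omega), pow_one]
      exact fun z hz => hsq_of_card_two hZ2 z hz
    · have htrans := sylow_perm_two_pow_transitive hj S
      exact fun z hz => hsq_of_transitive hS htrans z hz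
  have hT := (glWr F m).sub_isPGroup (Q : Subgroup (GL (Fin 2) F)) (S : Subgroup (Perm (Fin m)))
    Q.isPGroup' S.isPGroup'
  have hPp : IsPGroup 2 ↥(pSub (m := m) (Q : Subgroup (GL (Fin 2) F))
      (S : Subgroup (Perm (Fin m)))) := hT.to_le inf_le_left
  -- cardinalities
  have hTcard := (glWr F m).sub_card_le (Q : Subgroup (GL (Fin 2) F)) (S : Subgroup (Perm (Fin m)))
  have hQcard : Nat.card ↥(Q : Subgroup (GL (Fin 2) F)) =
      2 ^ (2 * padicValNat 2 (Fintype.card F - 1) + padicValNat 2 (Fintype.card F + 1)) := by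
    rw [Sylow.card_eq_multiplicity, Nat.factorization_def _ Nat.prime_two, v2_card_GL2 hq]
  have hScard : Nat.card ↥(S : Subgroup (Perm (Fin m))) = 2 ^ padicValNat 2 m.factorial := by
    rw [Cfsg.Agent.Lib.H9.SylSym.card_sylow_perm, Nat.factorization_def _ Nat.prime_two]
  have h1 := card_eq_card_inf_ker_mul
    (Matrix.GeneralLinearGroup.det (n := Fin m ⊕ Fin m) (R := F))
    ((glWr F m).sub (Q : Subgroup (GL (Fin 2) F)) (S : Subgroup (Perm (Fin m))))
  have h2 : Nat.card ↥(((glWr F m).sub (Q : Subgroup (GL (Fin 2) F))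
      (S : Subgroup (Perm (Fin m)))).map
      (Matrix.GeneralLinearGroup.det (n := Fin m ⊕ Fin m) (R := F))) ≤
      2 ^ padicValNat 2 (Fintype.card F - 1) := by
    rw [← card_units_sylow Zs]
    exact Subgroup.card_le_of_le (units_two_subgroup_le Zs (hT.map _))
  -- valuation of |SL|
  have hnon : Nonempty (Fin (2 * m)) := ⟨⟨0, by omega⟩⟩
  have hGS := Cfsg.Agent.Lib.H12.card_GL_eq_card_SL_mul (n := Fin (2 * m)) (F := F)
  have hvalSL : padicValNat 2 (Nat.card (SpecialLinearGroup (Fin (2 * m)) F)) +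
      padicValNat 2 (Fintype.card F - 1) =
      m * (2 * padicValNat 2 (Fintype.card F - 1) + padicValNat 2 (Fintype.card F + 1)) +
        padicValNat 2 m.factorial := by
    rw [← v2_card_GL_even hq, hGS, padicValNat.mul Nat.card_pos.ne' (by omega)]
  have hcard : 2 ^ padicValNat 2 (Nat.card (SpecialLinearGroup (Fin (2 * m)) F)) ≤
      Nat.card ↥(pSub (m := m) (Q : Subgroup (GL (Fin 2) F)) (S : Subgroup (Perm (Fin m)))) := by
    have h5 : 2 ^ padicValNat 2 (Nat.card (SpecialLinearGroup (Fin (2 * m)) F)) *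
        2 ^ padicValNat 2 (Fintype.card F - 1) ≤
        Nat.card ↥(pSub (m := m) (Q : Subgroup (GL (Fin 2) F)) (S : Subgroup (Perm (Fin m)))) *
          2 ^ padicValNat 2 (Fintype.card F - 1) := by
      calc _ = 2 ^ (m * (2 * padicValNat 2 (Fintype.card F - 1) +
              padicValNat 2 (Fintype.card F + 1)) + padicValNat 2 m.factorial) := by
              rw [← pow_add, hvalSL]
        _ = Nat.card ↥(Q : Subgroup (GL (Fin 2) F)) ^ m *
              Nat.card ↥(S : Subgroup (Perm (Fin m))) := by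
              rw [hQcard, hScard, ← pow_mul, ← pow_add]
              congr 1
              ring
        _ ≤ _ := hTcard
        _ = _ := h1
        _ ≤ _ := Nat.mul_le_mul_left _ h2
    exact Nat.le_of_mul_le_mul_right h5 (by positivity)
  -- transfer to SL(Fin (2m))
  have hcardN : Fintype.card (Fin m ⊕ Fin m) = 2 * m := by
    simp; ring
  let e' : Fin (2 * m) ≃ Fin m ⊕ Fin m := (Fintype.equivFinOfCardEq hcardN).symm
  let ι : SpecialLinearGroup (Fin (2 * m)) F →* GL (Fin m ⊕ Fin m) F :=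
    (Matrix.SpecialLinearGroup.toGL).comp (slReindex e')
  have hι : Function.Injective ι :=
    Matrix.SpecialLinearGroup.toGL_injective.comp (slReindex_injective e')
  have hle : pSub (m := m) (Q : Subgroup (GL (Fin 2) F)) (S : Subgroup (Perm (Fin m))) ≤
      ι.range := by
    intro g hg
    obtain ⟨s, hs⟩ := ker_det_le_range_toGL (Fin m ⊕ Fin m)
      (MonoidHom.mem_ker.2 (mem_pSub.1 hg).2)
    exact ⟨slReindex e'.symm s, by
      show Matrix.SpecialLinearGroup.toGL (slReindex e' (slReindex e'.symm s)) = g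
      rw [slReindex_symm, hs]⟩
  obtain ⟨e⟩ := sylow_equiv_of_card_le ι hι _ hPp hle hcard P'
  exact sqComm_of_mulEquiv e.symm hsq

end Cfsg.Agent.Lib.H9.SqC
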