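import Cfsg.Agent.Lib.H14.SuzM.Cov3
import Cfsg.Agent.Lib.H14.SuzM.Tab3
import Cfsg.Agent.Lib.H9.SuzMP3

set_option autoImplicit false
set_option maxRecDepth 100000

/-!
# S2048 piece M3 (helper9): the central element `ζ = (bfg)^5` of the presented triple cover `PC3`
of `Suz` is not trivial, by the monomial model on `5346 = 3 * 1782` points
-/

namespace Cfsg.Agent.Lib.H9.SuzM

open Cfsg.Agent.Lib.H14.SuzM
open Cfsg.Agent.Lib.H17.SuzGlue (gen idx rels relW)
open Cfsg.Agent.Lib.H17.CosetCert

/-! ### The seven tables are involutory permutations -/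

theorem m3_tab0_good : Good 13 8192 5346 M3.tab0 :=
  good_of_checks 13 8192 5346 M3.tab0 (by decide +kernel) (by decide +kernel)

theorem m3_tab1_good : Good 13 8192 5346 M3.tab1 :=
  good_of_checks 13 8192 5346 M3.tab1 (by decide +kernel) (by decide +kernel)

theorem m3_tab2_good : Good 13 8192 5346 M3.tab2 :=
  good_of_checks 13 8192 5346 M3.tab2 (by decide +kernel) (by decide +kernel)

theorem m3_tab3_good : Good 13 8192 5346 M3.tab3 :=
  good_of_checks 13 8192 5346 M3.tab3 (by decide +kernel) (by decide +kernel)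

theorem m3_tab4_good : Good 13 8192 5346 M3.tab4 :=
  good_of_checks 13 8192 5346 M3.tab4 (by decide +kernel) (by decide +kernel)

theorem m3_tab5_good : Good 13 8192 5346 M3.tab5 :=
  good_of_checks 13 8192 5346 M3.tab5 (by decide +kernel) (by decide +kernel)

theorem m3_tab6_good : Good 13 8192 5346 M3.tab6 :=
  good_of_checks 13 8192 5346 M3.tab6 (by decide +kernel) (by decide +kernel)

theorem m3_good (x : ℕ) : Good 13 8192 5346 (M3.tabOf x) := by
  match x with
  | 0 => exact m3_tab0_good
  | 1 => exact m3_tab1_good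
  | 2 => exact m3_tab2_good
  | 3 => exact m3_tab3_good
  | 4 => exact m3_tab4_good
  | 5 => exact m3_tab5_good
  | (_ + 6) => exact m3_tab6_good

/-! ### The relator words of the cover act trivially -/

/-- the `k`-th word of `covW3` -/
def cw3 (k : ℕ) : List ℕ := covW3.getD k []

theorem covW3_length : covW3.length = 41 := by decide

theorem m3_cw0_ok : checkWord 13 8192 ((cw3 0).map M3.tabOf) 5346 = true := by
  decide +kernel

theorem m3_cw1_ok : checkWord 13 8192 ((cw3 1).map M3.tabOf) 5346 = true := by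
  decide +kernel

theorem m3_cw2_ok : checkWord 13 8192 ((cw3 2).map M3.tabOf) 5346 = true := by
  decide +kernel

theorem m3_cw3_ok : checkWord 13 8192 ((cw3 3).map M3.tabOf) 5346 = true := by
  decide +kernel

theorem m3_cw4_ok : checkWord 13 8192 ((cw3 4).map M3.tabOf) 5346 = true := by
  decide +kernel

theorem m3_cw5_ok : checkWord 13 8192 ((cw3 5).map M3.tabOf) 5346 = true := by
  decide +kernel

theorem m3_cw6_ok : checkWord 13 8192 ((cw3 6).map M3.tabOf) 5346 = true := by
  decide +kernel

theorem m3_cw7_ok : checkWord 13 8192 ((cw3 7).map M3.tabOf) 5346 = true := by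
  decide +kernel

theorem m3_cw8_ok : checkWord 13 8192 ((cw3 8).map M3.tabOf) 5346 = true := by
  decide +kernel

theorem m3_cw9_ok : checkWord 13 8192 ((cw3 9).map M3.tabOf) 5346 = true := by
  decide +kernel

theorem m3_cw10_ok : checkWord 13 8192 ((cw3 10).map M3.tabOf) 5346 = true := by
  decide +kernel

theorem m3_cw11_ok : checkWord 13 8192 ((cw3 11).map M3.tabOf) 5346 = true := by
  decide +kernel

theorem m3_cw12_ok : checkWord 13 8192 ((cw3 12).map M3.tabOf) 5346 = true := by
  decide +kernel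

theorem m3_cw13_ok : checkWord 13 8192 ((cw3 13).map M3.tabOf) 5346 = true := by
  decide +kernel

theorem m3_cw14_ok : checkWord 13 8192 ((cw3 14).map M3.tabOf) 5346 = true := by
  decide +kernel

theorem m3_cw15_ok : checkWord 13 8192 ((cw3 15).map M3.tabOf) 5346 = true := by
  decide +kernel

theorem m3_cw16_ok : checkWord 13 8192 ((cw3 16).map M3.tabOf) 5346 = true := by
  decide +kernel

theorem m3_cw17_ok : checkWord 13 8192 ((cw3 17).map M3.tabOf) 5346 = true := by
  decide +kernel

theorem m3_cw18_ok : checkWord 13 8192 ((cw3 18).map M3.tabOf) 5346 = true := by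
  decide +kernel

theorem m3_cw19_ok : checkWord 13 8192 ((cw3 19).map M3.tabOf) 5346 = true := by
  decide +kernel

theorem m3_cw20_ok : checkWord 13 8192 ((cw3 20).map M3.tabOf) 5346 = true := by
  decide +kernel

theorem m3_cw21_ok : checkWord 13 8192 ((cw3 21).map M3.tabOf) 5346 = true := by
  decide +kernel

theorem m3_cw22_ok : checkWord 13 8192 ((cw3 22).map M3.tabOf) 5346 = true := by
  decide +kernel

theorem m3_cw23_ok : checkWord 13 8192 ((cw3 23).map M3.tabOf) 5346 = true := by
  decide +kernel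

theorem m3_cw24_ok : checkWord 13 8192 ((cw3 24).map M3.tabOf) 5346 = true := by
  decide +kernel

theorem m3_cw25_ok : checkWord 13 8192 ((cw3 25).map M3.tabOf) 5346 = true := by
  decide +kernel

theorem m3_cw26_ok : checkWord 13 8192 ((cw3 26).map M3.tabOf) 5346 = true := by
  decide +kernel

theorem m3_cw27_ok : checkWord 13 8192 ((cw3 27).map M3.tabOf) 5346 = true := by
  decide +kernel

theorem m3_cw28_ok : checkWord 13 8192 ((cw3 28).map M3.tabOf) 5346 = true := by
  decide +kernel

theorem m3_cw29_ok : checkWord 13 8192 ((cw3 29).map M3.tabOf) 5346 = true := by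
  decide +kernel

theorem m3_cw30_ok : checkWord 13 8192 ((cw3 30).map M3.tabOf) 5346 = true := by
  decide +kernel

theorem m3_cw31_ok : checkWord 13 8192 ((cw3 31).map M3.tabOf) 5346 = true := by
  decide +kernel

theorem m3_cw32_ok : checkWord 13 8192 ((cw3 32).map M3.tabOf) 5346 = true := by
  decide +kernel

theorem m3_cw33_ok : checkWord 13 8192 ((cw3 33).map M3.tabOf) 5346 = true := by
  decide +kernel

theorem m3_cw34_ok : checkWord 13 8192 ((cw3 34).map M3.tabOf) 5346 = true := by
  decide +kernel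

theorem m3_cw35_ok : checkWord 13 8192 ((cw3 35).map M3.tabOf) 5346 = true := by
  decide +kernel

theorem m3_cw36_ok : checkWord 13 8192 ((cw3 36).map M3.tabOf) 5346 = true := by
  decide +kernel

theorem m3_cw37_ok : checkWord 13 8192 ((cw3 37).map M3.tabOf) 5346 = true := by
  decide +kernel

theorem m3_cw38_ok : checkWord 13 8192 ((cw3 38).map M3.tabOf) 5346 = true := by
  decide +kernel

theorem m3_cw39_ok : checkWord 13 8192 ((cw3 39).map M3.tabOf) 5346 = true := by
  decide +kernel

theorem m3_cw40_ok : checkWord 13 8192 ((cw3 40).map M3.tabOf) 5346 = true := by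
  decide +kernel

theorem m3_cw_ok : ∀ w ∈ covW3, checkWord 13 8192 (w.map M3.tabOf) 5346 = true := by
  intro w hw
  obtain ⟨k, hk, hk2⟩ := List.getElem_of_mem hw
  have hk' : k < 41 := by rw [← covW3_length]; exact hk
  have h : w = cw3 k := by
    unfold cw3
    rw [List.getD_eq_getElem _ _ hk]
    exact hk2.symm
  rw [h]
  clear h hk2 hk hw
  interval_cases k
  · exact m3_cw0_ok
  · exact m3_cw1_ok
  · exact m3_cw2_ok
  · exact m3_cw3_ok
  · exact m3_cw4_ok
  · exact m3_cw5_ok
  · exact m3_cw6_ok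
  · exact m3_cw7_ok
  · exact m3_cw8_ok
  · exact m3_cw9_ok
  · exact m3_cw10_ok
  · exact m3_cw11_ok
  · exact m3_cw12_ok
  · exact m3_cw13_ok
  · exact m3_cw14_ok
  · exact m3_cw15_ok
  · exact m3_cw16_ok
  · exact m3_cw17_ok
  · exact m3_cw18_ok
  · exact m3_cw19_ok
  · exact m3_cw20_ok
  · exact m3_cw21_ok
  · exact m3_cw22_ok
  · exact m3_cw23_ok
  · exact m3_cw24_ok
  · exact m3_cw25_ok
  · exact m3_cw26_ok
  · exact m3_cw27_ok
  · exact m3_cw28_ok
  · exact m3_cw29_ok
  · exact m3_cw30_ok
  · exact m3_cw31_ok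
  · exact m3_cw32_ok
  · exact m3_cw33_ok
  · exact m3_cw34_ok
  · exact m3_cw35_ok
  · exact m3_cw36_ok
  · exact m3_cw37_ok
  · exact m3_cw38_ok
  · exact m3_cw39_ok
  · exact m3_cw40_ok

/-! ### The monomial representation -/

/-- the permutation of a letter -/
noncomputable def σ3 (x : ℕ) : Equiv.Perm (Fin 5346) := σ 13 8192 5346 (M3.tabOf x)

theorem σ3_mul_self (x : ℕ) : σ3 x * σ3 x = 1 := σ_mul_self _ _ _ _

theorem m3_good_word (w : List ℕ) : ∀ t ∈ w.map M3.tabOf, Good 13 8192 5346 t := by
  intro t ht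
  obtain ⟨x, -, rfl⟩ := List.mem_map.mp ht
  exact m3_good x

theorem σ3_words : ∀ w ∈ covW3, wv σ3 w = 1 := by
  intro w hw
  have := prod_eq_one_of_check 13 8192 5346 _ (m3_good_word w) (m3_cw_ok w hw)
  rw [List.map_map] at this
  exact this

theorem tabOf_idx_gen (x : ℕ) : M3.tabOf (idx (gen x)) = M3.tabOf x := by
  match x with
  | 0 => rfl
  | 1 => rfl
  | 2 => rfl
  | 3 => rfl
  | 4 => rfl
  | 5 => rfl
  | (_ + 6) => rfl

theorem σ3_idx_gen (x : ℕ) : σ3 (idx (gen x)) = σ3 x := by
  unfold σ3
  rw [tabOf_idx_gen]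

/-- the monomial representation of `PC3` -/
noncomputable def φ3 : PC3 →* Equiv.Perm (Fin 5346) :=
  PresentedGroup.toGroup (f := fun u => σ3 (idx u)) (by
    rintro r ⟨w, hw, rfl⟩
    rw [mk_word, map_list_prod, List.map_map]
    have h := σ3_words w hw
    unfold wv at h
    rw [← h]
    congr 1
    apply List.map_congr_left
    intro x _
    simp only [Function.comp_apply, FreeGroup.lift_apply_of]
    exact σ3_idx_gen x)

theorem φ3_pc3 (x : ℕ) : φ3 (pc3 x) = σ3 x :=
  (PresentedGroup.toGroup.of _).trans (σ3_idx_gen x)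

theorem φ3_wv (w : List ℕ) : φ3 (wv pc3 w) = wv σ3 w := by
  rw [map_wv]
  congr 1
  funext x
  exact φ3_pc3 x

theorem m3_zw_moves : applyT 13 8192 ((zw.map M3.tabOf).reverse) 0 ≠ 0 := by
  decide +kernel

/-- **Piece M3.** The central element of the presented triple cover is not trivial. -/
theorem z3_ne_one : z3 ≠ 1 := by
  intro h
  have h1 : φ3 z3 = 1 := by rw [h, map_one]
  have h2 : wv σ3 zw = 1 := by
    rw [← φ3_wv]
    exact h1
  have h3 := prod_apply 13 8192 5346 (zw.map M3.tabOf) (m3_good_word zw) ⟨0, by decide⟩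
  rw [List.map_map] at h3
  have h4 : ((zw.map (σ 13 8192 5346 ∘ M3.tabOf)).prod) = 1 := h2
  rw [h4] at h3
  exact m3_zw_moves h3.symm

end Cfsg.Agent.Lib.H9.SuzM
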