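import Mathlib
import Cfsg.Prelude.Def_Local
import Cfsg.Agent.Lib.H7.FStar

/-!
# S1874 piece FS (helper9): if `F*(C_G(A))` is a `p`-group then its image `P` in `G` contains its
centralizer in `C_G(A)`, contains `A`, and is normal in `C_G(A)`.
-/

set_option autoImplicit false

namespace Cfsg.Agent.Lib.H9.SympBFS

universe u
variable {G : Type u} [Group G]

/-- FS: if `F*(C_G(A))` is a `p`-group (`A` an abelian `p`-subgroup) then `P = O_p(C_G(A))` (as a subgroup of
`G`) contains its centralizer in `C_G(A)`, contains `A`, and is normal in `C_G(A)`. -/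
theorem fs_setup [Finite G] (p : ℕ) [Fact p.Prime] (A : Subgroup G)
    (hAc : ∀ a ∈ A, ∀ b ∈ A, a * b = b * a) (hAp : IsPGroup p ↥A)
    (hF : IsPGroup p ↥(Cfsg.generalizedFittingSubgroup ↥(Subgroup.centralizer (A : Set G)))) :
    ∃ P : Subgroup G, IsPGroup p ↥P ∧ P ≤ Subgroup.centralizer (A : Set G) ∧
      Subgroup.centralizer (A : Set G) ≤ Subgroup.normalizer (P : Set G) ∧
      Subgroup.centralizer (A : Set G) ⊓ Subgroup.centralizer (P : Set G) ≤ P ∧ A ≤ P := by
  set C : Subgroup G := Subgroup.centralizer (A : Set G) with hC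
  set Fs : Subgroup ↥C := Cfsg.generalizedFittingSubgroup ↥C with hFs
  have hn : Fs.Normal := Cfsg.Agent.Lib.H7.generalizedFittingSubgroup_normal
  have hbender : Subgroup.centralizer (Fs : Set ↥C) ≤ Fs :=
    Cfsg.Agent.Lib.H7.centralizer_generalizedFittingSubgroup_le
  -- the key containment: an element of `C` centralizing `P` lies in `P`
  have key : ∀ x : G, ∀ hx : x ∈ C, (∀ y : ↥C, y ∈ Fs → (y : G) * x = x * (y : G)) →
      x ∈ Fs.map C.subtype := by
    intro x hx hcomm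
    have h1 : (⟨x, hx⟩ : ↥C) ∈ Subgroup.centralizer (Fs : Set ↥C) := by
      rw [Subgroup.mem_centralizer_iff]
      intro y hy
      apply Subtype.ext
      exact hcomm y hy
    exact ⟨⟨x, hx⟩, hbender h1, rfl⟩
  refine ⟨Fs.map C.subtype, hF.map C.subtype, Subgroup.map_subtype_le Fs, ?_, ?_, ?_⟩
  · -- normality
    intro c hc
    rw [Subgroup.mem_normalizer_iff]
    intro h
    constructor
    · rintro ⟨y, hy, rfl⟩
      exact ⟨⟨c, hc⟩ * y * (⟨c, hc⟩ : ↥C)⁻¹, hn.conj_mem y hy ⟨c, hc⟩, rfl⟩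
    · rintro ⟨y, hy, hyc⟩
      refine ⟨(⟨c, hc⟩ : ↥C)⁻¹ * y * (⟨c, hc⟩ : ↥C)⁻¹⁻¹, hn.conj_mem y hy _, ?_⟩
      have : (C.subtype ((⟨c, hc⟩ : ↥C)⁻¹ * y * (⟨c, hc⟩ : ↥C)⁻¹⁻¹) : G) = c⁻¹ * (y : G) * c := by
        simp
      rw [this]
      have hyc' : (y : G) = c * h * c⁻¹ := hyc
      rw [hyc']; group
  · -- self-centralizing
    intro x hx
    obtain ⟨hxC, hxP⟩ := hx
    apply key x hxC
    intro y hy
    have hxP' : x ∈ Subgroup.centralizer ((Fs.map C.subtype : Subgroup G) : Set G) := hxP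
    rw [Subgroup.mem_centralizer_iff] at hxP'
    exact hxP' (y : G) ⟨y, hy, rfl⟩
  · -- `A ≤ P`
    intro a ha
    have haC : a ∈ C := by
      rw [hC, Subgroup.mem_centralizer_iff]
      intro b hb
      exact hAc b hb a ha
    apply key a haC
    intro y _
    have hy : (y : G) ∈ Subgroup.centralizer (A : Set G) := y.2
    rw [Subgroup.mem_centralizer_iff] at hy
    exact (hy a ha).symm

end Cfsg.Agent.Lib.H9.SympBFS
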