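import Mathlib
import Cfsg.Prelude.Def_LieTypeChar
import Cfsg.Agent.Lib.H29.TwAutE6
import Cfsg.Agent.Lib.H29.ChevTwF
import Cfsg.Agent.Lib.H29.ChevTwE6a

/-!
# The twisted group of type `E₆` in characteristic two: glue for the count of the classes of involutions
-/

set_option autoImplicit false
set_option linter.unusedSectionVars false
set_option linter.unusedSimpArgs false
set_option linter.unusedVariables false

namespace Cfsg.Agent.Lib.H9.TE6

open Cfsg Cfsg.Lie Matrix Cfsg.Agent.Lib.H29.Chev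

/-- three pairwise non-conjugate involutions to which every involution is conjugate: exactly three
classes of involutions -/
theorem ncard_inv_classes_eq_three {G : Type*} [Group G] (y1 y2 y3 : G) (h1 : orderOf y1 = 2)
    (h2 : orderOf y2 = 2) (h3 : orderOf y3 = 2) (n12 : ¬ IsConj y1 y2) (n13 : ¬ IsConj y1 y3)
    (n23 : ¬ IsConj y2 y3)
    (hall : ∀ g : G, orderOf g = 2 → IsConj g y1 ∨ IsConj g y2 ∨ IsConj g y3) :
    (ConjClasses.mk '' {g : G | orderOf g = 2}).ncard = 3 := by
  rw [Set.ncard_eq_three]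
  refine ⟨ConjClasses.mk y1, ConjClasses.mk y2, ConjClasses.mk y3, ?_, ?_, ?_, ?_⟩
  · intro h; exact n12 (ConjClasses.mk_eq_mk_iff_isConj.mp h)
  · intro h; exact n13 (ConjClasses.mk_eq_mk_iff_isConj.mp h)
  · intro h; exact n23 (ConjClasses.mk_eq_mk_iff_isConj.mp h)
  · ext c
    simp only [Set.mem_image, Set.mem_ofPred_eq, Set.mem_insert_iff, Set.mem_singleton_iff]
    constructor
    · rintro ⟨g, hg, rfl⟩
      rcases hall g hg with h | h | h
      · exact Or.inl (ConjClasses.mk_eq_mk_iff_isConj.mpr h)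
      · exact Or.inr (Or.inl (ConjClasses.mk_eq_mk_iff_isConj.mpr h))
      · exact Or.inr (Or.inr (ConjClasses.mk_eq_mk_iff_isConj.mpr h))
    · rintro (rfl | rfl | rfl)
      · exact ⟨y1, h1, rfl⟩
      · exact ⟨y2, h2, rfl⟩
      · exact ⟨y3, h3, rfl⟩

/-- an element `g ≠ 1` with `g * g = 1` has order two, and conversely -/
theorem orderOf_eq_two_iff' {G : Type*} [Group G] (g : G) : orderOf g = 2 ↔ g * g = 1 ∧ g ≠ 1 := by
  constructor
  · intro h
    refine ⟨?_, ?_⟩
    · have := pow_orderOf_eq_one g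
      rwa [h, sq] at this
    · intro h1
      rw [h1, orderOf_one] at h
      omega
  · rintro ⟨h, h1⟩
    have hdvd : orderOf g ∣ 2 := orderOf_dvd_of_pow_eq_one (by rw [sq]; exact h)
    rcases (Nat.dvd_prime Nat.prime_two).mp hdvd with h' | h'
    · exact absurd (orderOf_eq_one_iff.mp h') h1
    · exact h'

/-- `q` is a power of two when a field of characteristic two has `q ^ 2` elements -/
theorem isPrimePow_of_card_sq {K : Type*} [Field K] [Fintype K] [CharP K 2] (q : ℕ)
    (hK : Fintype.card K = q ^ 2) : IsPrimePow q := by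
  obtain ⟨n, _, hn⟩ := FiniteField.card K 2
  have hdvd : q ∣ 2 ^ (n : ℕ) := by
    rw [← hn, hK]
    exact dvd_pow_self q (by norm_num)
  obtain ⟨a, _, rfl⟩ := (Nat.dvd_prime_pow Nat.prime_two).mp hdvd
  have ha : 0 < a := by
    rcases Nat.eq_zero_or_pos a with rfl | h
    · exfalso
      rw [pow_zero, one_pow] at hK
      have := Fintype.one_lt_card (α := K)
      omega
    · exact h
  exact ⟨2, a, Nat.prime_two.prime, ha, rfl⟩

/-- the group of the statement is the twisted group of the tower, for a suitable field automorphism -/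
theorem te6_setup {K : Type*} [Field K] [Fintype K] [CharP K 2] (q : ℕ) (hK : Fintype.card K = q ^ 2) :
    ∃ φ : K →+* K, twistedE6 K q = cert12_E6.G1 gaE6a 2 φ srE6a ∧
      TwPack cert12_E6 gaE6a 2 φ rlE6a srE6a fqE6a q := by
  have hq := isPrimePow_of_card_sq q hK
  obtain ⟨φ, hφ, _, hφk⟩ := exists_frob hq hK
  have hq1 : 1 ≤ q := hq.one_lt.le
  have hKc : Nat.card K = q ^ 2 := by rw [Nat.card_eq_fintype_card, hK]
  refine ⟨φ, ?_, twPack_E6 q hq1 hKc φ hφ hφk⟩
  unfold twistedE6 ChevalleyDatum.genSubgroup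
  rw [twGen_E6 q φ hφ]

end Cfsg.Agent.Lib.H9.TE6
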