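import Mathlib
import Cfsg.Agent.Lib.H29.TwAut20
import Cfsg.Agent.Lib.H9.InvCellC

/-!
# The maximal-cell theorem for involutions in a twisted group (helper29's `TwPack` tower)

We instantiate the abstract `SplitData` of `InvCellB` for the `(B, N)`-pair `C.tBN W` of a twisted
group and translate the conclusion into a statement on the permutation of the roots.
-/

set_option autoImplicit false
set_option linter.unusedSectionVars false
set_option linter.unusedSimpArgs false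
set_option linter.unusedVariables false

namespace Cfsg.Agent.Lib.H9.TwInv

open Cfsg Cfsg.Lie Matrix Cfsg.Agent.Lib.H29.Chev Cfsg.Agent.Lib.H2.BN Cfsg.Agent.Lib.H9.InvCell

variable {D : ChevalleyDatum} {fd : FD} {fx : FX} {fc : FC} {fz : FZ} {F : Type*} [Field F]
variable (C : Cert12 D fd fx fc fz) {ga : GA} {k : ℕ} {φ : F →+* F} {RL sreps : List ℕ} {fq : FQ} {q : ℕ}

/-- the elements of `U¹` which `n` conjugates into `A` -/
def conjSub (C : Cert12 D fd fx fc fz) (ga : GA) (k : ℕ) (φ : F →+* F) (sreps : List ℕ)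
    (n : GL D.Idx F) (A : Subgroup (GL D.Idx F)) : Subgroup ↥(C.G1 ga k φ sreps) :=
  ((A.comap (MulAut.conj n).toMonoidHom) ⊓ D.posUnipotent F).subgroupOf (C.G1 ga k φ sreps)

theorem mem_conjSub (n : GL D.Idx F) (A : Subgroup (GL D.Idx F)) (v : ↥(C.G1 ga k φ sreps)) :
    v ∈ conjSub C ga k φ sreps n A ↔
      n * (v : GL D.Idx F) * n⁻¹ ∈ A ∧ (v : GL D.Idx F) ∈ D.posUnipotent F := by
  unfold conjSub
  rw [Subgroup.mem_subgroupOf, Subgroup.mem_inf, Subgroup.mem_comap]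
  simp [MulAut.conj_apply]

variable (W : TwPack C ga k φ RL sreps fq q)
include W

theorem mem_B_iff [Finite F] (b : ↥(C.G1 ga k φ sreps)) :
    b ∈ (C.tBN W).B ↔ (b : GL D.Idx F) ∈ D.borelSubgroup F := by
  rw [C.tBN_B W]; exact Subgroup.mem_subgroupOf

theorem mem_N_iff [Finite F] (n : ↥(C.G1 ga k φ sreps)) :
    n ∈ (C.tBN W).N ↔ (n : GL D.Idx F) ∈ D.monomialSubgroup F := by
  show n ∈ (D.monomialSubgroup F ⊓ C.G1 ga k φ sreps).subgroupOf (C.G1 ga k φ sreps) ↔ _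
  rw [Subgroup.inf_subgroupOf_right]; exact Subgroup.mem_subgroupOf

/-- the generators of the Weyl group, as elements of the twisted group -/
noncomputable def eS (i : {i // i ∈ sreps}) : ↥(C.G1 ga k φ sreps) := ⟨C.nS F ga k i.1, C.nS_mem_G1 W i.1 i.2⟩

theorem eS_mem [Finite F] (i : {i // i ∈ sreps}) : eS C W i ∈ (C.tBN W).S :=
  (C.tBN_S W _).mpr ⟨i.1, i.2, rfl⟩

/-- the element `x_S(1)` of the twisted group -/
noncomputable def xOne (i : {i // i ∈ sreps}) : ↥(C.G1 ga k φ sreps) :=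
  ⟨C.xS ga k φ (fd.simples.getD i.1 0) (1 : F), C.xS_mem_G1 W i.1 i.2 1 (fun _ => map_one φ)⟩

theorem xOne_ne (i : {i // i ∈ sreps}) : xOne C W i ≠ 1 := by
  intro h
  have h' : C.xS ga k φ (fd.simples.getD i.1 0) (1 : F) = 1 := congrArg Subtype.val h
  exact C.xS_one_ne W.T W.T2 φ (C.pk_k1 W) i.1 (W.S.sreps_lt i.1 i.2) h'

theorem xOne_pos (i : {i // i ∈ sreps}) : (xOne C W i : GL D.Idx F) ∈ D.posUnipotent F := by
  have hil := W.S.sreps_lt i.1 i.2
  exact C.xS_pos_mem W _ (C.c6.c2.simple_lt i.1 hil) (C.c6.simple_pos i.1 hil) 1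

theorem xOne_conj_neg (i : {i // i ∈ sreps}) :
    C.nS F ga k i.1 * (xOne C W i : GL D.Idx F) * (C.nS F ga k i.1)⁻¹ ∈ D.negUnipotent F :=
  C.nS_conj_xS_mem_neg W.T W.T2 φ i.1 (W.S.sreps_lt i.1 i.2) ((FD.chkInjS_spec W.hI).2.1 i.1 i.2) 1

theorem eq_one_of_conj_mem (n x : GL D.Idx F) (h1 : n * x * n⁻¹ ∈ D.borelSubgroup F)
    (h2 : n * x * n⁻¹ ∈ D.negUnipotent F) : x = 1 := by
  have h0 : n * x * n⁻¹ ∈ D.borelSubgroup F ⊓ D.negUnipotent F := Subgroup.mem_inf.mpr ⟨h1, h2⟩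
  rw [C.c6.c2.borel_inf_neg, Subgroup.mem_bot] at h0
  have : x = n⁻¹ * (n * x * n⁻¹) * n := by group
  rw [this, h0]; group

theorem xOne_conj_not_mem [Finite F] (i : {i // i ∈ sreps}) :
    eS C W i * xOne C W i * (eS C W i)⁻¹ ∉ (C.tBN W).B := by
  intro hB
  rw [mem_B_iff] at hB
  have h1 : C.nS F ga k i.1 * (xOne C W i : GL D.Idx F) * (C.nS F ga k i.1)⁻¹ ∈ D.borelSubgroup F := hB
  have := eq_one_of_conj_mem C W _ _ h1 (xOne_conj_neg C W i)
  exact xOne_ne C W i (Subtype.ext this)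

/-- the image of a fundamental root under an element of `N¹` with a descent at its orbit -/
theorem neg_of_descent [Finite F] (n : ↥(C.G1 ga k φ sreps)) (hn : n ∈ (C.tBN W).N) (π : ℕ → ℕ)
    (hπ : C.c6.c2.Perm (n : GL D.Idx F) π) (i : {i // i ∈ sreps})
    (hd : len (C.tBN W) (n * eS C W i) < len (C.tBN W) n) :
    π (fd.simples.getD i.1 0) < fd.n / 2 := by
  by_contra hcon
  have hil := W.S.sreps_lt i.1 i.2
  have hp := C.c6.c2.simple_lt i.1 hil
  have hnN := (mem_N_iff C W n).mp hn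
  have hfix := C.sigma_of_mem W n.2
  obtain ⟨c, _, _, hc⟩ := C.conj_xS_perm W.T W.T2 φ (k := k) (n : GL D.Idx F) hnN hfix π hπ _ hp
  have hxB : xOne C W i ∈ (C.tBN W).B := by
    rw [mem_B_iff]
    exact (le_sup_left : D.posUnipotent F ≤ D.borelSubgroup F) (xOne_pos C W i)
  have hB : n * xOne C W i * n⁻¹ ∈ (C.tBN W).B := by
    rw [mem_B_iff]
    show (n : GL D.Idx F) * C.xS ga k φ (fd.simples.getD i.1 0) (1 : F) * (n : GL D.Idx F)⁻¹ ∈ _
    rw [hc]
    exact (le_sup_left : D.posUnipotent F ≤ D.borelSubgroup F)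
      (C.xS_pos_mem W _ (hπ _ hp).1 (by omega) _)
  have := len_lt_of_conj_mem' (eS_mem C W i) hn hxB (xOne_conj_not_mem C W i) hB
  omega

/-- the fundamental roots, through the representatives of the orbits -/
theorem simple_via_rep (π : ℕ → ℕ) (n : GL D.Idx F) (hfix : C.c6.c2.sigma W.T.ginv φ n = n)
    (hπ : C.c6.c2.Perm n π) (P : ℕ → Prop)
    (hP : ∀ a s, s < fd.n → (P (fd.gIt ga a s) ↔ P s))
    (h : ∀ i ∈ sreps, P (π (fd.simples.getD i 0))) (j : ℕ) (hj : j < fd.l) :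
    P (π (fd.simples.getD j 0)) := by
  obtain ⟨ii, hii, a, ha, e⟩ := W.hcov j hj
  have hi : sreps.getD ii 0 ∈ sreps := by
    rw [List.getD_eq_getElem _ _ hii]; exact List.getElem_mem hii
  have hil := W.S.sreps_lt _ hi
  have hp := C.c6.c2.simple_lt _ hil
  rw [e, ← (C.gIt_simple W.T W.T2 a _ hil).1, C.perm_comm_gIt W.T W.T2 φ n hfix π hπ a _ hp,
    hP a _ (hπ _ hp).1]
  exact h _ hi

end Cfsg.Agent.Lib.H9.TwInv
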