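import Mathlib
import Cfsg.Agent.Lib.H9.TwInvA

/-!
# The `SplitData` of a twisted group and the maximal-cell theorem
-/

set_option autoImplicit false
set_option linter.unusedSectionVars false
set_option linter.unusedSimpArgs false
set_option linter.unusedVariables false

namespace Cfsg.Agent.Lib.H9.TwInv

open Cfsg Cfsg.Lie Matrix Cfsg.Agent.Lib.H29.Chev Cfsg.Agent.Lib.H2.BN Cfsg.Agent.Lib.H9.InvCell

variable {D : ChevalleyDatum} {fd : FD} {fx : FX} {fc : FC} {fz : FZ} {F : Type*} [Field F]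
variable (C : Cert12 D fd fx fc fz) {ga : GA} {k : ℕ} {φ : F →+* F} {RL sreps : List ℕ} {fq : FQ} {q : ℕ}
variable (W : TwPack C ga k φ RL sreps fq q)
include W

/-- an element of `N¹` with only descents maps all positive roots to negative roots -/
theorem all_neg_of_descents [Finite F] (n : ↥(C.G1 ga k φ sreps)) (hn : n ∈ (C.tBN W).N)
    (hd : ∀ s ∈ (C.tBN W).S, len (C.tBN W) (n * s) < len (C.tBN W) n) (π : ℕ → ℕ)
    (hπ : C.c6.c2.Perm (n : GL D.Idx F) π) : ∀ s < fd.n, fd.n / 2 ≤ s → π s < fd.n / 2 := by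
  have hev := C.c6.c2.heven
  have hnN := (mem_N_iff C W n).mp hn
  have hfix := C.sigma_of_mem W n.2
  have hsimple : ∀ j < fd.l, π (fd.simples.getD j 0) < fd.n / 2 := by
    intro j hj
    apply simple_via_rep C W π (n : GL D.Idx F) hfix hπ (fun s => s < fd.n / 2)
      (fun a s hs => C.gIt_neg_iff W.T W.T2 a s hs) _ j hj
    intro i hi
    exact neg_of_descent C W n hn π hπ ⟨i, hi⟩ (hd _ (eS_mem C W ⟨i, hi⟩))
  obtain ⟨n0, hn0, hn0G, π0, hπ0, hpn, hnp⟩ := C.exists_n0 W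
  have hP : C.c6.c2.Perm (n0 * (n : GL D.Idx F)) (π0 ∘ π) := C.c6.perm_mul hπ0 hπ
  have hdiag : n0 * (n : GL D.Idx F) ∈ D.diagonalSubgroup F := by
    apply C.mem_diag_of_pos _ (mul_mem hn0 hnN) _ hP
    intro i hi
    simp only [Function.comp]
    exact hnp _ (hπ _ (C.c6.c2.simple_lt i hi)).1 (hsimple i hi)
  have hid := C.perm_unique _ _ _ hP (C.c6.perm_diag _ hdiag)
  intro s hs hpos
  by_contra hcon
  have h1 := hid s hs
  simp only [Function.comp, id] at h1
  have h2 := hpn (π s) (hπ s hs).1 (not_lt.mp hcon)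
  omega

/-- the `SplitData` of the twisted group -/
noncomputable def splitData [Finite F] (hPos : fd.chkPiSPos fx ga k sreps = true) :
    SplitData (C.tBN W) {i // i ∈ sreps} where
  U := C.tU ga k φ sreps
  e := eS C W
  Us i := conjSub C ga k φ sreps (C.nS F ga k i.1) (D.posUnipotent F)
  Xs i := conjSub C ga k φ sreps (C.nS F ga k i.1) (D.negUnipotent F)
  U_le := by
    intro u hu
    rw [mem_B_iff]
    exact (le_sup_left : D.posUnipotent F ≤ D.borelSubgroup F) (Subgroup.mem_subgroupOf.mp hu)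
  B_eq := by
    intro b hb
    rw [mem_B_iff] at hb
    obtain ⟨u, hu, hufix, h, hh, hhfix, e⟩ :=
      C.borel_fix_decomp W (b : GL D.Idx F) hb (C.sigma_of_mem W b.2)
    have huG : u ∈ C.G1 ga k φ sreps :=
      C.fixU_le_G1 W (Subgroup.mem_inf.mpr ⟨(mem_fixS _ _).mpr hufix, hu⟩)
    have hhG : h ∈ C.G1 ga k φ sreps := by
      have : h = u⁻¹ * (b : GL D.Idx F) := by rw [e]; group
      rw [this]; exact mul_mem (inv_mem huG) b.2
    refine ⟨⟨h, hhG⟩, ?_, ⟨h⁻¹ * u * h, mul_mem (mul_mem (inv_mem hhG) huG) hhG⟩, ?_, ?_⟩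
    · exact Subgroup.mem_inf.mpr ⟨(mem_B_iff C W _).mpr
        ((le_sup_right : D.diagonalSubgroup F ≤ D.borelSubgroup F) hh),
        (mem_N_iff C W _).mpr ((le_sup_left : D.diagonalSubgroup F ≤ D.monomialSubgroup F) hh)⟩
    · rw [Subgroup.mem_subgroupOf]
      show h⁻¹ * u * h ∈ D.posUnipotent F
      have := Subgroup.mem_normalizer_iff.mp (C.c6.c2.diag_le_normalizer_pos (inv_mem hh)) u
      rw [inv_inv] at this
      exact this.mp hu
    · apply Subtype.ext
      show (b : GL D.Idx F) = h * (h⁻¹ * u * h)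
      rw [e]; group
  e_mem := eS_mem C W
  e_surj := by
    intro s hs
    obtain ⟨i, hi, e⟩ := (C.tBN_S W s).mp hs
    exact ⟨⟨i, hi⟩, Subtype.ext e.symm⟩
  dec := by
    intro i v hv
    have hvU : (v : GL D.Idx F) ∈ D.posUnipotent F := Subgroup.mem_subgroupOf.mp hv
    have hil := W.S.sreps_lt i.1 i.2
    obtain ⟨t, ht, u', hu', e, hconj⟩ :=
      C.pos_decomp_S W hPos i.1 i.2 (v : GL D.Idx F) hvU (C.sigma_of_mem W v.2)
    have hxG := C.xS_mem_G1 W i.1 i.2 t ht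
    have hu'G : u' ∈ C.G1 ga k φ sreps := by
      have : u' = (v : GL D.Idx F) * (C.xS ga k φ (fd.simples.getD i.1 0) t)⁻¹ := by rw [e]; group
      rw [this]; exact mul_mem v.2 (inv_mem hxG)
    refine ⟨⟨u', hu'G⟩, (mem_conjSub C _ _ _).mpr ⟨hconj, hu'⟩,
      ⟨C.xS ga k φ (fd.simples.getD i.1 0) t, hxG⟩, (mem_conjSub C _ _ _).mpr ⟨?_, ?_⟩, Subtype.ext e⟩
    · exact C.nS_conj_xS_mem_neg W.T W.T2 φ i.1 hil ((FD.chkInjS_spec W.hI).2.1 i.1 i.2) t
    · exact C.xS_pos_mem W _ (C.c6.c2.simple_lt i.1 hil) (C.c6.simple_pos i.1 hil) t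
  Us_conj := by
    intro i v hv
    rw [mem_conjSub] at hv
    rw [Subgroup.mem_subgroupOf]
    exact hv.1
  Xs_le := by
    intro i x hx
    rw [mem_conjSub] at hx
    rw [mem_B_iff]
    exact (le_sup_left : D.posUnipotent F ≤ D.borelSubgroup F) hx.2
  Xs_conj := by
    intro i x hx hB
    rw [mem_conjSub] at hx
    rw [mem_B_iff] at hB
    have h1 : C.nS F ga k i.1 * (x : GL D.Idx F) * (C.nS F ga k i.1)⁻¹ ∈ D.borelSubgroup F := hB
    exact Subtype.ext (eq_one_of_conj_mem C W _ _ h1 hx.1)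
  bdd := bdd_of_finite
  top := by
    intro n hn hd v hv hB
    obtain ⟨⟨π, hπ⟩, _⟩ := C.c6.perm_of_mem _ ((mem_N_iff C W n).mp hn)
    have hw0 := all_neg_of_descents C W n hn hd π hπ
    have hvU : (v : GL D.Idx F) ∈ D.posUnipotent F := Subgroup.mem_subgroupOf.mp hv
    have h1 := C.conj_pos_mem_neg (n : GL D.Idx F) π hπ hw0 _ hvU
    rw [mem_B_iff] at hB
    have h2 : (n : GL D.Idx F) * (v : GL D.Idx F) * (n : GL D.Idx F)⁻¹ ∈ D.borelSubgroup F := hB
    exact Subtype.ext (eq_one_of_conj_mem C W _ _ h2 h1)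

end Cfsg.Agent.Lib.H9.TwInv
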