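import Mathlib
import Cfsg.Agent.Lib.H9.TwInvB

/-!
# Involutions of a twisted group: conjugacy into `N¹`, in terms of the permutation of the roots
-/

set_option autoImplicit false
set_option linter.unusedSectionVars false
set_option linter.unusedSimpArgs false
set_option linter.unusedVariables false

namespace Cfsg.Agent.Lib.H9.TwInv

open Cfsg Cfsg.Lie Matrix Cfsg.Agent.Lib.H29.Chev Cfsg.Agent.Lib.H2.BN Cfsg.Agent.Lib.H9.InvCell

variable {D : ChevalleyDatum} {fd : FD} {fx : FX} {fc : FC} {fz : FZ} {F : Type*} [Field F]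
variable (C : Cert12 D fd fx fc fz) {ga : GA} {k : ℕ} {φ : F →+* F} {RL sreps : List ℕ} {fq : FQ} {q : ℕ}
variable (W : TwPack C ga k φ RL sreps fq q)
include W

/-- **Every involution of a twisted group is conjugate to an element `m` of `N¹` such that, for
every orbit of fundamental roots, either the orbit is made negative, or it is kept positive and the
permutation of `m` commutes with the reflection of the orbit.** -/
theorem tw_exists_conj [Finite F] (hPos : fd.chkPiSPos fx ga k sreps = true)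
    (hself : ∀ i ∈ sreps, fd.piS fx ga k i (fd.simples.getD i 0) = fd.n - 1 - fd.simples.getD i 0)
    (g : ↥(C.G1 ga k φ sreps)) (hg : g * g = 1) :
    ∃ c m : ↥(C.G1 ga k φ sreps), (m : GL D.Idx F) ∈ D.monomialSubgroup F ∧ c * g * c⁻¹ = m ∧
      ∃ π : ℕ → ℕ, C.c6.c2.Perm (m : GL D.Idx F) π ∧
        ∀ i ∈ sreps, π (fd.simples.getD i 0) < fd.n / 2 ∨
          (fd.n / 2 ≤ π (fd.simples.getD i 0) ∧
            ∀ s < fd.n, π (fd.piS fx ga k i s) = fd.piS fx ga k i (π s)) := by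
  have hev := C.c6.c2.heven
  obtain ⟨c, m, hm, hc, hS⟩ := exists_conj_mem_N (splitData C W hPos) g hg
  have hmN := (mem_N_iff C W m).mp hm
  obtain ⟨⟨π, hπ⟩, _⟩ := C.c6.perm_of_mem _ hmN
  refine ⟨c, m, hmN, hc, π, hπ, ?_⟩
  intro i hi
  have hil := W.S.sreps_lt i hi
  have hp := C.c6.c2.simple_lt i hil
  have hsS := eS_mem C W ⟨i, hi⟩
  have hsN := S_mem_N hsS
  have hπS := C.perm_nS W.T W.T2 (F := F) i hil
  rcases hS _ hsS with hd | ⟨hasc, hcomm⟩
  · left
    exact neg_of_descent C W m hm π hπ ⟨i, hi⟩ hd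
  · right
    constructor
    · by_contra hneg
      rw [not_le] at hneg
      -- `n' = m * n_S` has a descent at `S`, contradiction
      have hn'N : m * eS C W ⟨i, hi⟩ ∈ (C.tBN W).N := (C.tBN W).N.mul_mem hm hsN
      have hP : C.c6.c2.Perm ((m * eS C W ⟨i, hi⟩ : ↥(C.G1 ga k φ sreps)) : GL D.Idx F)
          (π ∘ fd.piS fx ga k i) := C.c6.perm_mul hπ hπS
      have hlen : len (C.tBN W) (m * eS C W ⟨i, hi⟩ * eS C W ⟨i, hi⟩) = len (C.tBN W) m :=
        len_congr (eqv_mul_S_sq hsS)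
      have hnot : ¬ len (C.tBN W) (m * eS C W ⟨i, hi⟩ * eS C W ⟨i, hi⟩) <
          len (C.tBN W) (m * eS C W ⟨i, hi⟩) := by
        intro hlt
        have := neg_of_descent C W _ hn'N _ hP ⟨i, hi⟩ hlt
        simp only [Function.comp] at this
        rw [hself i hi, (hπ _ hp).2.1] at this
        have := (hπ _ hp).1
        omega
      rw [hlen] at hnot
      omega
    · -- the permutations of `n_S m` and `m n_S` agree
      have h1 : C.c6.c2.Perm ((eS C W ⟨i, hi⟩ * m : ↥(C.G1 ga k φ sreps)) : GL D.Idx F)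
          (fd.piS fx ga k i ∘ π) := C.c6.perm_mul hπS hπ
      have h2 : C.c6.c2.Perm ((m * eS C W ⟨i, hi⟩ : ↥(C.G1 ga k φ sreps)) : GL D.Idx F)
          (π ∘ fd.piS fx ga k i) := C.c6.perm_mul hπ hπS
      have hsNg : (eS C W ⟨i, hi⟩ : GL D.Idx F) ∈ D.monomialSubgroup F := (mem_N_iff C W _).mp hsN
      have hB : ((eS C W ⟨i, hi⟩ * m)⁻¹ * (m * eS C W ⟨i, hi⟩) : ↥(C.G1 ga k φ sreps)) ∈ (C.tBN W).B := hcomm
      rw [mem_B_iff] at hB
      have hdiag : ((eS C W ⟨i, hi⟩ * m : ↥(C.G1 ga k φ sreps)) : GL D.Idx F)⁻¹ *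
          ((m * eS C W ⟨i, hi⟩ : ↥(C.G1 ga k φ sreps)) : GL D.Idx F) ∈ D.diagonalSubgroup F := by
        rw [← C.c6.c2.borel_inf_monomial]
        refine Subgroup.mem_inf.mpr ⟨hB, ?_⟩
        exact mul_mem (inv_mem (mul_mem hsNg hmN)) (mul_mem hmN hsNg)
      have := C.perm_eq_of_diag W.T W.T2 _ _ (mul_mem hsNg hmN) _ _ h1 h2 hdiag
      intro s hs
      exact (this s hs).symm

end Cfsg.Agent.Lib.H9.TwInv
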