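import Mathlib
import Cfsg.Agent.Lib.H29.TwAutE6
import Cfsg.Agent.Lib.H9.TwInvC

/-!
# Involutions of the twisted group of type `E₆`: conjugacy into `N¹`
-/

set_option autoImplicit false
set_option linter.unusedSectionVars false
set_option linter.unusedSimpArgs false
set_option linter.unusedVariables false

namespace Cfsg.Agent.Lib.H9.TE6

open Cfsg Cfsg.Lie Matrix Cfsg.Agent.Lib.H29.Chev Cfsg.Agent.Lib.H9.TwInv

set_option maxRecDepth 1000000 in
theorem e6_self : ∀ i ∈ srE6a, fdE6.piS fxE6 gaE6a 2 i (fdE6.simples.getD i 0) =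
    fdE6.n - 1 - fdE6.simples.getD i 0 := by decide +kernel

set_option maxRecDepth 1000000 in
set_option maxHeartbeats 0 in
/-- the positive roots made negative by the reflection of an orbit are the roots of the orbit -/
theorem e6_orb : ∀ i ∈ srE6a, ∀ r < 72, 36 ≤ r → fdE6.piS fxE6 gaE6a 2 i r < 36 →
    ∃ j ∈ orbW gaE6a 2 i, r = fdE6.simples.getD j 0 := by decide +kernel

variable {K : Type*} [Field K] [Finite K]

/-- every involution of the twisted group of type `E₆` is conjugate to an element of `N¹` whose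
permutation maps every orbit of fundamental roots to negative roots or to itself -/
theorem te6_exists_conj (q : ℕ) (hq : 1 ≤ q) (hK : Nat.card K = q ^ 2) (φ : K →+* K)
    (hφ : ∀ x, φ x = x ^ q) (hφk : ∀ x : K, φ^[2] x = x)
    (g : ↥(cert12_E6.G1 gaE6a 2 φ srE6a)) (hg : g * g = 1) :
    ∃ c m : ↥(cert12_E6.G1 gaE6a 2 φ srE6a), (m : GL chevE6.Idx K) ∈ chevE6.monomialSubgroup K ∧
      c * g * c⁻¹ = m ∧ ∃ π : ℕ → ℕ, cert12_E6.c6.c2.Perm (m : GL chevE6.Idx K) π ∧
        ∀ i ∈ srE6a, π (fdE6.simples.getD i 0) < 36 ∨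
          ∃ j ∈ orbW gaE6a 2 i, π (fdE6.simples.getD i 0) = fdE6.simples.getD j 0 := by
  have W := twPack_E6 q hq hK φ hφ hφk
  obtain ⟨c, m, hm, hc, π, hπ, h⟩ := tw_exists_conj cert12_E6 W twE6a_piSPos e6_self g hg
  refine ⟨c, m, hm, hc, π, hπ, ?_⟩
  intro i hi
  rcases h i hi with h1 | ⟨h1, h2⟩
  · left; exact h1
  · right
    have hil : i < fdE6.l := W.S.sreps_lt i hi
    have hp := cert12_E6.c6.c2.simple_lt i hil
    have hlt := (hπ _ hp).1
    apply e6_orb i hi _ hlt h1
    rw [← h2 _ hp, e6_self i hi, (hπ _ hp).2.1]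
    have : fdE6.n = 72 := rfl
    have h3 : fdE6.n / 2 = 36 := rfl
    rw [h3] at h1
    omega

end Cfsg.Agent.Lib.H9.TE6
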