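import Mathlib
import Cfsg.Agent.Lib.H9.TE6Inv1

/-!
# Involutions of the twisted group of type `E₆`: conjugacy into `N¹`, explicit form

The conclusion of `te6_exists_conj` restated on the six fundamental roots `56, 46, 42, 39, 37, 36`
(the graph automorphism interchanges `56, 36` and `42, 37`), together with the involutivity of the
permutation.
-/

set_option autoImplicit false
set_option linter.unusedSectionVars false
set_option linter.unusedSimpArgs false
set_option linter.unusedVariables false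

namespace Cfsg.Agent.Lib.H9.TE6

open Cfsg Cfsg.Lie Matrix Cfsg.Agent.Lib.H29.Chev Cfsg.Agent.Lib.H9.TwInv

set_option maxRecDepth 1000000 in
theorem e6_gRoot_neg : ∀ r < 72, r < 36 → fdE6.gRoot gaE6a r < 36 := by decide +kernel

theorem e6_gRoot_56 : fdE6.gRoot gaE6a 56 = 36 := by decide +kernel
theorem e6_gRoot_36 : fdE6.gRoot gaE6a 36 = 56 := by decide +kernel
theorem e6_gRoot_42 : fdE6.gRoot gaE6a 42 = 37 := by decide +kernel
theorem e6_gRoot_37 : fdE6.gRoot gaE6a 37 = 42 := by decide +kernel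

variable {K : Type*} [Field K] [Finite K] {φ : K →+* K} {q : ℕ}

/-- every involution of the twisted group of type `E₆` is conjugate to an involution of `N¹` whose
permutation maps every orbit of fundamental roots to negative roots or to itself -/
theorem te6_exists_conj' (W : TwPack cert12_E6 gaE6a 2 φ rlE6a srE6a fqE6a q)
    (g : ↥(cert12_E6.G1 gaE6a 2 φ srE6a)) (hg : g * g = 1) :
    ∃ c m : ↥(cert12_E6.G1 gaE6a 2 φ srE6a), (m : GL chevE6.Idx K) ∈ chevE6.monomialSubgroup K ∧
      c * g * c⁻¹ = m ∧ m * m = 1 ∧ ∃ π : ℕ → ℕ, cert12_E6.c6.c2.Perm (m : GL chevE6.Idx K) π ∧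
        (∀ s < 72, π (π s) = s) ∧
        ((π 56 < 36 ∧ π 36 < 36) ∨ ((π 56 = 56 ∨ π 56 = 36) ∧ (π 36 = 56 ∨ π 36 = 36))) ∧
        (π 46 < 36 ∨ π 46 = 46) ∧
        ((π 42 < 36 ∧ π 37 < 36) ∨ ((π 42 = 42 ∨ π 42 = 37) ∧ (π 37 = 42 ∨ π 37 = 37))) ∧
        (π 39 < 36 ∨ π 39 = 39) := by
  obtain ⟨c, m, hmN, hc, π, hπ, h⟩ := te6_exists_conj q W.hq W.hF φ W.hφ W.hφk g hg
  have hmm : m * m = 1 := by
    rw [← hc]
    calc c * g * c⁻¹ * (c * g * c⁻¹) = c * (g * g) * c⁻¹ := by group
      _ = 1 := by rw [hg]; group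
  refine ⟨c, m, hmN, hc, hmm, π, hπ, ?_, ?_, ?_, ?_, ?_⟩
  · -- involutivity
    have h1 : cert12_E6.c6.c2.Perm ((m : GL chevE6.Idx K) * (m : GL chevE6.Idx K)) (π ∘ π) :=
      cert12_E6.c6.perm_mul hπ hπ
    have e : (m : GL chevE6.Idx K) * (m : GL chevE6.Idx K) = 1 := by
      have := congrArg (fun x : ↥(cert12_E6.G1 gaE6a 2 φ srE6a) => (x : GL chevE6.Idx K)) hmm
      simpa using this
    rw [e] at h1
    have h2 : cert12_E6.c6.c2.Perm (1 : GL chevE6.Idx K) id := cert12_E6.c6.perm_diag 1 (one_mem _)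
    intro s hs
    exact cert12_E6.perm_unique 1 _ _ h1 h2 s hs
  · -- the orbit `56, 36`
    have hfix := cert12_E6.sigma_of_mem W m.2
    have hcomm := cert12_E6.perm_comm_rho W.T W.T2 φ (m : GL chevE6.Idx K) hfix π hπ 56 (by decide)
    rw [e6_gRoot_56] at hcomm
    have hlt := (hπ 56 (by decide)).1
    rcases h 0 (by decide) with h1 | ⟨j, hj, h1⟩
    · left
      have h1' : π 56 < 36 := h1
      exact ⟨h1', by rw [hcomm]; exact e6_gRoot_neg _ hlt h1'⟩
    · right
      have hj' : j = 0 ∨ j = 5 := by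
        have : orbW gaE6a 2 0 = [0, 5] := by decide
        rw [this] at hj
        simpa using hj
      rcases hj' with rfl | rfl
      · have h1' : π 56 = 56 := h1
        exact ⟨Or.inl h1', by rw [hcomm, h1', e6_gRoot_56]; right; rfl⟩
      · have h1' : π 56 = 36 := h1
        exact ⟨Or.inr h1', by rw [hcomm, h1', e6_gRoot_36]; left; rfl⟩
  · rcases h 1 (by decide) with h1 | ⟨j, hj, h1⟩
    · left; exact h1
    · right
      have hj' : j = 1 := by
        have : orbW gaE6a 2 1 = [1] := by decide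
        rw [this] at hj
        simpa using hj
      subst hj'
      exact h1
  · have hfix := cert12_E6.sigma_of_mem W m.2
    have hcomm := cert12_E6.perm_comm_rho W.T W.T2 φ (m : GL chevE6.Idx K) hfix π hπ 42 (by decide)
    rw [e6_gRoot_42] at hcomm
    have hlt := (hπ 42 (by decide)).1
    rcases h 2 (by decide) with h1 | ⟨j, hj, h1⟩
    · left
      have h1' : π 42 < 36 := h1
      exact ⟨h1', by rw [hcomm]; exact e6_gRoot_neg _ hlt h1'⟩
    · right
      have hj' : j = 2 ∨ j = 4 := by
        have : orbW gaE6a 2 2 = [2, 4] := by decide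
        rw [this] at hj
        simpa using hj
      rcases hj' with rfl | rfl
      · have h1' : π 42 = 42 := h1
        exact ⟨Or.inl h1', by rw [hcomm, h1', e6_gRoot_42]; right; rfl⟩
      · have h1' : π 42 = 37 := h1
        exact ⟨Or.inr h1', by rw [hcomm, h1', e6_gRoot_37]; left; rfl⟩
  · rcases h 3 (by decide) with h1 | ⟨j, hj, h1⟩
    · left; exact h1
    · right
      have hj' : j = 3 := by
        have : orbW gaE6a 2 3 = [3] := by decide
        rw [this] at hj
        simpa using hj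
      subst hj'
      exact h1

end Cfsg.Agent.Lib.H9.TE6
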