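import Mathlib
import Cfsg.Agent.Lib.H9.TE6Inv2
import Cfsg.Agent.Lib.H9.TE6Asm
import Cfsg.Agent.Lib.H17.TwE6J
import Cfsg.Agent.Lib.H17.TwE6G
import Cfsg.Agent.Lib.H17.TwE6F
import Cfsg.Agent.Lib.H28.PMTE6
import Cfsg.Agent.Lib.H5.ICHCONJ

/-!
# The twisted group of type `E₆` in characteristic two: every involution is conjugate to one of
the three representatives
-/

set_option autoImplicit false
set_option linter.unusedSectionVars false
set_option linter.unusedSimpArgs false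
set_option linter.unusedVariables false

namespace Cfsg.Agent.Lib.H9.TE6

open Cfsg Cfsg.Lie Matrix Cfsg.Agent.Lib.H29.Chev Cfsg.Agent.Lib.H17.TwE6 Cfsg.Agent.Lib.H12.InvCell

variable {K : Type*} [Field K] [CharP K 2] [Finite K] {φ : K →+* K} {q : ℕ}

/-- the torus of the twisted group has odd order -/
theorem te6_odd_tH (W : TwPack cert12_E6 gaE6a 2 φ rlE6a srE6a fqE6a q) :
    Odd (Nat.card (cert12_E6.tH gaE6a 2 φ srE6a)) := by
  have hdvd := Cfsg.Agent.Lib.H28.PM.te6_card_tH_dvd q W.hq W.hF φ W.hφ W.hφk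
  have : Fintype K := Fintype.ofFinite K
  have heven : Even q := by
    obtain ⟨n, _, hn⟩ := FiniteField.card K 2
    have h2 : 2 ∣ q ^ 2 := by
      rw [← W.hF, Nat.card_eq_fintype_card, hn]
      exact dvd_pow_self 2 (PNat.ne_zero n)
    exact even_iff_two_dvd.mpr (Nat.Prime.dvd_of_dvd_pow Nat.prime_two h2)
  have hq := W.hq
  have h1 : Odd (q - 1) := Nat.Even.sub_odd hq heven odd_one
  have h2 : Odd (q ^ 2 - 1) := by
    apply Nat.Even.sub_odd (Nat.one_le_pow _ _ hq) _ odd_one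
    exact (Nat.even_pow' (by norm_num)).mpr heven
  have hodd : Odd (((q - 1) * (q - 1)) * ((q ^ 2 - 1) * (q ^ 2 - 1))) := (h1.mul h1).mul (h2.mul h2)
  exact Odd.of_dvd_nat hodd hdvd

theorem sq_of_conjS {G : Type*} [Group G] {H : Subgroup G} {a b : G} (h : ConjS H a b) (hb : b * b = 1) :
    a * a = 1 := by
  obtain ⟨x, _, rfl⟩ := h
  have e : a * a = x⁻¹ * (x * a * x⁻¹ * (x * a * x⁻¹)) * x := by group
  rw [e, hb]
  group

/-- an involution of `N¹` which is a torus element times `n`, `n ∈ G¹` an involution, is conjugate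
to `n` in the twisted group -/
theorem te6_hconj (W : TwPack cert12_E6 gaE6a 2 φ rlE6a srE6a fqE6a q)
    (m : ↥(cert12_E6.G1 gaE6a 2 φ srE6a)) (hmm : m * m = 1) (n : GL chevE6.Idx K)
    (hn : n ∈ cert12_E6.G1 gaE6a 2 φ srE6a) (hnn : n * n = 1)
    (hd : (m : GL chevE6.Idx K) * n⁻¹ ∈ chevE6.diagonalSubgroup K) :
    ConjS (cert12_E6.G1 gaE6a 2 φ srE6a) (m : GL chevE6.Idx K) n := by
  have hmem : m * (⟨n, hn⟩ : ↥(cert12_E6.G1 gaE6a 2 φ srE6a))⁻¹ ∈ cert12_E6.tH gaE6a 2 φ srE6a := by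
    apply Subgroup.mem_subgroupOf.mpr
    simpa using hd
  have hnn' : (⟨n, hn⟩ : ↥(cert12_E6.G1 gaE6a 2 φ srE6a)) * ⟨n, hn⟩ = 1 := Subtype.ext hnn
  obtain ⟨k, _, hk⟩ := Cfsg.Agent.Lib.H5.IC.conj_of_mul_inv_mem (cert12_E6.tH gaE6a 2 φ srE6a) (te6_odd_tH W) m
    ⟨n, hn⟩ hmem hmm hnn'
  refine ⟨(k : GL chevE6.Idx K), k.2, ?_⟩
  have := congrArg (fun x : ↥(cert12_E6.G1 gaE6a 2 φ srE6a) => (x : GL chevE6.Idx K)) hk
  simpa using this

/-- **every involution of the twisted group of type `E₆` in characteristic two is conjugate to one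
of the three representatives** -/
theorem te6_inv_conj (W : TwPack cert12_E6 gaE6a 2 φ rlE6a srE6a fqE6a q)
    (g : ↥(cert12_E6.G1 gaE6a 2 φ srE6a)) (hg2 : g * g = 1) (hg1 : g ≠ 1) :
    ConjS (cert12_E6.G1 gaE6a 2 φ srE6a) (g : GL chevE6.Idx K) (ye K [71]) ∨
      ConjS (cert12_E6.G1 gaE6a 2 φ srE6a) (g : GL chevE6.Idx K) (ye K [68, 66]) ∨
      ConjS (cert12_E6.G1 gaE6a 2 φ srE6a) (g : GL chevE6.Idx K) (ye K [55, 65, 67]) := by
  obtain ⟨c, m, hmN, hc, hmm, π, hπ, hinv, h0, h1, h2, h3⟩ := te6_exists_conj' W g hg2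
  obtain ⟨Ws, hWs, hd⟩ := tw_ident (m : GL chevE6.Idx K) hmN π hπ hinv h0 h1 h2 h3
  have hgm : ConjS (cert12_E6.G1 gaE6a 2 φ srE6a) (g : GL chevE6.Idx K) (m : GL chevE6.Idx K) := by
    refine ⟨(c : GL chevE6.Idx K), c.2, ?_⟩
    have := congrArg (fun x : ↥(cert12_E6.G1 gaE6a 2 φ srE6a) => (x : GL chevE6.Idx K)) hc
    simpa using this
  -- the generic step
  have step : ∀ z : List ℕ, ye K z * ye K z = 1 →
      (cert12_E6.wordN K (reflW Ws) ∈ cert12_E6.G1 gaE6a 2 φ srE6a ∧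
        ConjS (cert12_E6.G1 gaE6a 2 φ srE6a) (cert12_E6.wordN K (reflW Ws)) (ye K z)) →
      ConjS (cert12_E6.G1 gaE6a 2 φ srE6a) (g : GL chevE6.Idx K) (ye K z) := by
    intro z hz ⟨hn, hnz⟩
    exact (hgm.trans (te6_hconj W m hmm _ hn (sq_of_conjS hnz hz) hd)).trans hnz
  simp only [List.mem_cons, List.not_mem_nil, or_false] at hWs
  rcases hWs with rfl | rfl | rfl | rfl | rfl | rfl | rfl | rfl | rfl | rfl | rfl | rfl
  · exact Or.inr (Or.inr (step _ z3_sq (nJe W)))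
  · exact Or.inr (Or.inr (step _ z3_sq (nJ0 W)))
  · exact Or.inr (Or.inr (step _ z3_sq (nJ1 W)))
  · exact Or.inr (Or.inr (step _ z3_sq (nJ2 W)))
  · exact Or.inr (Or.inr (step _ z3_sq (nJ3 W)))
  · exact Or.inr (Or.inr (step _ z3_sq (nJ01 W)))
  · exact Or.inr (Or.inr (step _ z3_sq (nJ03 W)))
  · exact Or.inr (Or.inr (step _ z3_sq (nJ12 W)))
  · exact Or.inr (Or.inl (step _ z2_sq (nJ23 W)))
  · exact Or.inl (step _ z1_sq (nJ023 W))
  · exact Or.inr (Or.inl (step _ z2_sq (nJ123 W)))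
  · -- `m` lies in the torus: impossible
    exfalso
    have hw1 : cert12_E6.wordN K (reflW []) = 1 := by simp [reflW, Cert12.wordN]
    rw [hw1] at hd
    obtain ⟨x, hx, e⟩ := te6_hconj W m hmm 1 (one_mem _) (by simp) hd
    have hm1 : (m : GL chevE6.Idx K) = 1 := by
      have : (m : GL chevE6.Idx K) = x⁻¹ * (x * (m : GL chevE6.Idx K) * x⁻¹) * x := by group
      rw [this, e]
      group
    have hm1' : m = 1 := Subtype.ext hm1
    apply hg1
    have : g = c⁻¹ * (c * g * c⁻¹) * c := by group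
    rw [this, hc, hm1']
    group

end Cfsg.Agent.Lib.H9.TE6
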