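import Mathlib
import Cfsg.Agent.Lib.H29.TwAutE6
import Cfsg.Agent.Lib.H6.InvWord3

/-!
# The twisted group of type `E₆` in characteristic two: symmetric words

A word in the root elements `x_r(1)` which is a concatenation of orbits of the graph automorphism
lies in the twisted group; conjugacy in the twisted group by such words, checked by the word
checker of `Lib/H6/InvWord3`.
-/

set_option autoImplicit false
set_option linter.unusedSectionVars false
set_option linter.unusedSimpArgs false
set_option linter.unusedVariables false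

namespace Cfsg.Agent.Lib.H9.TE6

open Cfsg Cfsg.Lie Matrix Cfsg.Agent.Lib.H29.Chev Cfsg.Agent.Lib.H6.Inv

variable {K : Type*} [Field K]

/-- the twisted group of type `E₆` -/
abbrev GE (φ : K →+* K) : Subgroup (GL chevE6.Idx K) := cert12_E6.G1 gaE6a 2 φ srE6a

/-- conjugacy in the twisted group, for elements of the ambient linear group -/
def ConjT (φ : K →+* K) (x y : GL chevE6.Idx K) : Prop := ∃ h ∈ GE φ, h * x * h⁻¹ = y

theorem ConjT.refl (φ : K →+* K) (x : GL chevE6.Idx K) : ConjT φ x x := ⟨1, one_mem _, by simp⟩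

theorem ConjT.trans {φ : K →+* K} {x y z : GL chevE6.Idx K} (h1 : ConjT φ x y) (h2 : ConjT φ y z) :
    ConjT φ x z := by
  obtain ⟨a, ha, rfl⟩ := h1
  obtain ⟨b, hb, rfl⟩ := h2
  exact ⟨b * a, mul_mem hb ha, by group⟩

theorem ConjT.symm {φ : K →+* K} {x y : GL chevE6.Idx K} (h : ConjT φ x y) : ConjT φ y x := by
  obtain ⟨a, ha, rfl⟩ := h
  exact ⟨a⁻¹, inv_mem ha, by group⟩

theorem ConjT.of_eq {φ : K →+* K} {x y : GL chevE6.Idx K} (h : x = y) : ConjT φ x y := h ▸ ConjT.refl φ x

/-- the orbit of a root under the graph automorphism, as a word -/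
def orbX (r : ℕ) : List ℕ := if fdE6.gRoot gaE6a r = r then [r] else [r, fdE6.gRoot gaE6a r]

/-- the symmetrisation of a word: every letter is replaced by its orbit -/
def symX (L : List ℕ) : List ℕ := L.flatMap orbX

/-- the product of the root elements `x_r(1)` of a list of roots -/
noncomputable abbrev wE (K : Type*) [Field K] (L : List ℕ) : GL chevE6.Idx K := wordG cert12_E6.c6.c2 K L

theorem wE_nil : wE K [] = 1 := rfl

theorem wE_cons (r : ℕ) (L : List ℕ) : wE K (r :: L) = cert12_E6.c6.c2.xA r 1 * wE K L := by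
  unfold wE wordG
  rw [List.map_cons, List.prod_cons]

theorem wE_append (L L' : List ℕ) : wE K (L ++ L') = wE K L * wE K L' := wordG_append _ L L'

section Char2

variable [CharP K 2]

theorem xA_one_sq (r : ℕ) : cert12_E6.c6.c2.xA r (1 : K) * cert12_E6.c6.c2.xA r 1 = 1 := by
  rw [cert12_E6.c6.c2.xA_mul, CharTwo.add_self_eq_zero, cert12_E6.c6.c2.xA_zero]

/-- the inverse of a word is the reversed word -/
theorem wE_reverse (L : List ℕ) : wE K L.reverse = (wE K L)⁻¹ := by
  induction L with
  | nil => simp [wE_nil]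
  | cons r L ih =>
    rw [List.reverse_cons, wE_append, ih, wE_cons, wE_cons, wE_nil, mul_one, _root_.mul_inv_rev]
    congr 1
    exact (inv_eq_of_mul_eq_one_right (xA_one_sq r)).symm

set_option maxRecDepth 1000000 in
theorem e6_eProd : ∀ r < 72, fdE6.eProd gaE6a r 1 = 1 ∨ fdE6.eProd gaE6a r 1 = -1 := by decide +kernel

/-- the `σ`-fixed element with parameter `1` is the word of the orbit -/
theorem xS_one (φ : K →+* K) (r : ℕ) (hr : r < 72) : cert12_E6.xS gaE6a 2 φ r (1 : K) = wE K (orbX r) := by
  have hone : ∀ z : ℤ, (z = 1 ∨ z = -1) → ((z : ℤ) : K) = 1 := by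
    rintro z (rfl | rfl)
    · simp
    · rw [Int.cast_neg, Int.cast_one, CharTwo.neg_eq]
  unfold Cert12.xS FD.os orbX
  by_cases hfix : fdE6.gRoot gaE6a r = r
  · rw [if_pos hfix, if_pos hfix]
    simp only [List.range_one, List.map_cons, List.map_nil, List.prod_cons, List.prod_nil, mul_one]
    rw [wE_cons, wE_nil, mul_one]
    unfold Cert12.aj
    rw [fdE6.gIt_zero, FD.eProd, Int.cast_one, one_mul, Function.iterate_zero, id]
  · rw [if_neg hfix, if_neg hfix]
    simp only [List.range_succ, List.range_zero, List.nil_append, List.cons_append, List.map_cons, List.map_nil,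
      List.prod_cons, List.prod_nil, mul_one]
    rw [wE_cons, wE_cons, wE_nil, mul_one]
    unfold Cert12.aj
    rw [fdE6.gIt_zero, FD.eProd, Int.cast_one, one_mul, Function.iterate_zero, id, fdE6.gIt_succ, fdE6.gIt_zero,
      hone _ (e6_eProd r hr), one_mul, Function.iterate_one, map_one]

end Char2

variable {φ : K →+* K} {q : ℕ} (W : TwPack cert12_E6 gaE6a 2 φ rlE6a srE6a fqE6a q)
include W

/-- the `σ`-fixed elements `x_S(t)` lie in the twisted group, for every root -/
theorem xS_mem_GE (r : ℕ) (hr : r < 72) (t : K) (ht : t ∈ Kr fdE6 gaE6a φ r) :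
    cert12_E6.xS gaE6a 2 φ r t ∈ GE φ := by
  have hfix := cert12_E6.sigma_xS W.T φ W.hk W.hφk r hr t ht
  by_cases hpos : 36 ≤ r
  · exact cert12_E6.fixU_le_G1 W (Subgroup.mem_inf.mpr ⟨hfix, cert12_E6.xS_pos_mem W r hr hpos t⟩)
  · exact cert12_E6.fixV_le_G1 W (Subgroup.mem_inf.mpr ⟨hfix, cert12_E6.xS_neg_mem W r hr (not_le.mp hpos) t⟩)

variable [CharP K 2]

/-- a symmetric word lies in the twisted group -/
theorem symX_mem (L : List ℕ) (hL : ∀ r ∈ L, r < 72) : wE K (symX L) ∈ GE φ := by
  induction L with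
  | nil => exact one_mem _
  | cons r L ih =>
    have hr := hL r List.mem_cons_self
    unfold symX at ih ⊢
    rw [List.flatMap_cons, wE_append, ← xS_one φ r hr]
    refine mul_mem (xS_mem_GE W r hr 1 (fun _ => map_one φ)) (ih fun s hs => hL s (List.mem_cons_of_mem _ hs))

/-- conjugacy in the twisted group by a symmetric word, from the word checker -/
theorem conjT_of_chk (L S T : List ℕ) (hL : ∀ r ∈ symX L, r < 72) (hL' : ∀ r ∈ L, r < 72)
    (hS : ∀ r ∈ S, r < 72) (hT : ∀ r ∈ T, r < 72)
    (hc : chkWordN fdE6 fxE6 2 ((symX L ++ S ++ (symX L).reverse).map fun r => (r, false))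
      (T.map fun r => (r, false)) = true) :
    ConjT φ (wE K S) (wE K T) := by
  refine ⟨wE K (symX L), symX_mem W L hL', ?_⟩
  rw [← wE_reverse, ← wE_append, ← wE_append]
  unfold wE
  rw [← wordG2_xs, ← wordG2_xs]
  apply wordN_eq 2 cert12_E6.c6.c2
  · intro p hp
    obtain ⟨r, hr, rfl⟩ := List.mem_map.mp hp
    simp only [List.mem_append, List.mem_reverse] at hr
    rcases hr with (hr | hr) | hr
    · exact hL r hr
    · exact hS r hr
    · exact hL r hr
  · intro p hp
    obtain ⟨r, hr, rfl⟩ := List.mem_map.mp hp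
    exact hT r hr
  · exact hc

end Cfsg.Agent.Lib.H9.TE6
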