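import Mathlib
import Cfsg.Agent.S3995

set_option autoImplicit false

/-!
# S4004 (helper20 architect) pieces FIX and ORB helper: conjugation action on elements of a given order (helper9)
-/

namespace Cfsg.Agent.Lib.H9.TV3

open Cfsg.Agent.S3995 (f)

universe u

variable {G : Type u} [Group G] [Finite G]

omit [Finite G] in
theorem orderOf_conj_eq (z x : G) : orderOf (z * x * z⁻¹) = orderOf x := by
  have h : z * x * z⁻¹ = MulAut.conj z x := by simp [MulAut.conj_apply]
  rw [h]
  exact orderOf_injective (MulAut.conj z).toMonoidHom (MulAut.conj z).injective x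

/-- conjugation action of a subgroup on the elements of order `m` -/
@[reducible] def conjActOrd (H : Subgroup G) (m : ℕ) : MulAction H {x : G // orderOf x = m} where
  smul z x := ⟨(z : G) * x.1 * (z : G)⁻¹, by rw [orderOf_conj_eq]; exact x.2⟩
  one_smul x := by
    apply Subtype.ext
    change ((1 : H) : G) * x.1 * ((1 : H) : G)⁻¹ = x.1
    simp
  mul_smul a b x := by
    apply Subtype.ext
    change ((a * b : H) : G) * x.1 * ((a * b : H) : G)⁻¹ = (a : G) * ((b : G) * x.1 * (b : G)⁻¹) * (a : G)⁻¹
    simp [mul_assoc]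

omit [Finite G] in
theorem conjActOrd_smul_val (H : Subgroup G) (m : ℕ) (z : H) (x : {x : G // orderOf x = m}) :
    (letI := conjActOrd H m; (z • x).1) = (z : G) * x.1 * (z : G)⁻¹ := rfl

/-- **ORB**. -/
theorem dvd_f_of_no_commuting {q : ℕ} (hq : q.Prime) (y : G) (hy : orderOf y = q) (m : ℕ)
    (hm : ∀ x : G, orderOf x = m → x * y ≠ y * x) : q ∣ f G m := by
  have : Fact q.Prime := ⟨hq⟩
  let _ := conjActOrd (Subgroup.zpowers y) m
  have hZ : IsPGroup q (Subgroup.zpowers y) := by
    apply IsPGroup.of_card (n := 1)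
    rw [Nat.card_zpowers, hy, pow_one]
  have h := hZ.card_modEq_card_fixedPoints {x : G // orderOf x = m}
  have hfix : IsEmpty (MulAction.fixedPoints (Subgroup.zpowers y) {x : G // orderOf x = m}) := by
    refine ⟨?_⟩
    rintro ⟨x, hx⟩
    have h1 := hx ⟨y, Subgroup.mem_zpowers y⟩
    have h2 : y * x.1 * y⁻¹ = x.1 := congrArg Subtype.val h1
    apply hm x.1 x.2
    calc x.1 * y = (y * x.1 * y⁻¹) * y := by rw [h2]
      _ = y * x.1 := by group
  have h0 : Nat.card (MulAction.fixedPoints (Subgroup.zpowers y) {x : G // orderOf x = m}) = 0 :=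
    Nat.card_of_isEmpty
  rw [h0] at h
  unfold f
  exact (Nat.modEq_zero_iff_dvd.1 h)

end Cfsg.Agent.Lib.H9.TV3
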