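import Mathlib
import Cfsg.Agent.S3995
import Cfsg.Agent.Lib.H9.TV3ORB

set_option autoImplicit false

/-!
# S4004 (helper20 architect) piece FIX: a Sylow subgroup centralises an element of order `q` (helper9)
-/

namespace Cfsg.Agent.Lib.H9.TV3

open Cfsg.Agent.S3995 (f)

universe u

variable {G : Type u} [Group G] [Finite G]

/-- **FIX**. -/
theorem exists_centralized {p q : ℕ} [Fact p.Prime] (P : Sylow p G) (hnd : ¬ p ∣ f G q) :
    ∃ y : G, orderOf y = q ∧ ∀ x ∈ (P : Subgroup G), x * y = y * x := by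
  let _ := conjActOrd (P : Subgroup G) q
  have hP : IsPGroup p (P : Subgroup G) := P.isPGroup'
  obtain ⟨y, hy⟩ := IsPGroup.nonempty_fixed_point_of_prime_not_dvd_card hP {x : G // orderOf x = q} hnd
  refine ⟨y.1, y.2, fun x hx => ?_⟩
  have h1 := hy ⟨x, hx⟩
  have h2 : x * y.1 * x⁻¹ = y.1 := congrArg Subtype.val h1
  calc x * y.1 = (x * y.1 * x⁻¹) * x := by group
    _ = y.1 * x := by rw [h2]

end Cfsg.Agent.Lib.H9.TV3
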