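import Mathlib
import Cfsg.Agent.Lib.H14.ThetaDefs

/-!
# S1632 piece TH2 (helper9): a convergent `q`-expansion + the `S`-functional equation give a level one
modular form of weight 12
-/

set_option autoImplicit false

namespace Cfsg.Agent.Lib.H9.Theta

open Complex Matrix UpperHalfPlane ModularForm ModularFormClass MatrixGroups EisensteinSeries
open Cfsg.Agent.Lib.H14.Theta
open Function Filter SlashInvariantForm
open scoped Manifold

/-- copy of a private Mathlib lemma -/
theorem th2_hasSum_cusp {h : ℝ} {f : ℍ → ℂ} (hh : 0 < h) {c : ℕ → ℂ}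
    (hf : ∀ (τ : ℍ), HasSum (fun m => c m • Function.Periodic.qParam h τ ^ m) (f τ)) {q : ℂ}
    (hq : ‖q‖ < 1) (hq1 : q ≠ 0) : HasSum (fun m => c m • q ^ m) (cuspFunction h f q) := by
  have h1 := Periodic.im_invQParam_pos_of_norm_lt_one hh hq hq1
  let τ : ℍ := ⟨Periodic.invQParam h q, h1⟩
  have h2 := (Periodic.cuspFunction_eq_of_nonzero h (f ∘ ofComplex) hq1)
  have h3 : cuspFunction h f q = f τ := by
    simpa [UpperHalfPlane.ofComplex_apply_of_im_pos h1] using! h2
  have h4 : Function.Periodic.qParam h (τ : ℂ) = q := Periodic.qParam_right_inv hh.ne' hq1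
  rw [h3]
  have := hf τ
  rwa [h4] at this

/-- copy of a private Mathlib lemma -/
theorem th2_hasFPS {h : ℝ} {f : ℍ → ℂ} (hh : 0 < h) {c : ℕ → ℂ}
    (hf : ∀ τ : ℍ, HasSum (fun m : ℕ => (c m) • Function.Periodic.qParam h τ ^ m) (f τ)) :
    HasFPowerSeriesOnBall (update (cuspFunction h f) 0 (c 0)) (.ofScalars ℂ c) 0 1 := by
  constructor
  · refine le_of_forall_lt_imp_le_of_dense fun r hr => ?_
    rcases eq_or_ne r 0 with rfl | hr'
    · simp
    · lift r to NNReal using hr.ne_top
      let : FiniteDimensional ℝ ℂ := basisOneI.finiteDimensional_of_finite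
      apply FormalMultilinearSeries.le_radius_of_summable
      simpa [smul_eq_mul, norm_mul, mul_comm, mul_left_comm, mul_assoc] using
        (th2_hasSum_cusp hh hf (q := r) (by simpa using hr)
          (mod_cast hr')).summable.norm
  · simp
  · intro y hy
    rw [← ENNReal.coe_one, Metric.eball_coe, NNReal.coe_one, mem_ball_zero_iff] at hy
    rcases eq_or_ne y 0 with rfl | hy'
    · simpa +contextual [zero_pow_eq] using hasSum_ite_eq 0 (c 0)
    · simpa [update_of_ne hy', mul_comm]
        using th2_hasSum_cusp hh hf hy hy'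

theorem exists_modularForm_of_qExpansion (θ : ℍ → ℂ) (c : ℕ → ℂ)
    (hq : ∀ τ : ℍ, HasSum (fun m : ℕ => c m • Function.Periodic.qParam 1 (τ : ℂ) ^ m) (θ τ))
    (hS : ∀ τ : ℍ, θ (ModularGroup.S • τ) = (τ : ℂ) ^ 12 * θ τ) :
    ∃ F : ModularForm 𝒮ℒ 12, ∀ τ : ℍ, F τ = θ τ := by
  have hT' : (θ ∣[(12 : ℤ)] ModularGroup.T) = θ := by
    ext z
    rw [SL_slash_apply, modular_T_smul]
    have h1 : denom ModularGroup.T z = 1 := by
      rw [ModularGroup.denom_apply]
      simp [ModularGroup.T]
    rw [h1, _root_.one_zpow, mul_one]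
    have h2 : Function.Periodic.qParam 1 (((1 : ℝ) +ᵥ z : ℍ) : ℂ) = Function.Periodic.qParam 1 (z : ℂ) := by
      simp only [Function.Periodic.qParam, UpperHalfPlane.coe_vadd, ofReal_one, div_one]
      rw [mul_add, mul_one, add_comm]
      exact Complex.exp_periodic _
    have h3 := hq ((1 : ℝ) +ᵥ z)
    rw [h2] at h3
    exact h3.unique (hq z)
  have hS' : (θ ∣[(12 : ℤ)] ModularGroup.S) = θ := by
    ext z
    rw [SL_slash_apply, hS z, ModularGroup.denom_S]
    have hz : (z : ℂ) ≠ 0 := z.ne_zero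
    rw [_root_.zpow_neg, mul_comm, ← mul_assoc]
    have : ((z : ℂ) ^ (12 : ℤ))⁻¹ * (z : ℂ) ^ 12 = 1 := by
      rw [show ((z : ℂ) ^ (12 : ℤ)) = (z : ℂ) ^ 12 by norm_cast]
      exact inv_mul_cancel₀ (pow_ne_zero _ hz)
    rw [this, one_mul]
  have hgen : ∀ γ : SL(2, ℤ), θ ∣[(12 : ℤ)] γ = θ := slash_action_generators_SL2Z hS' hT'
  have hbdd : IsBoundedAtImInfty θ := isBoundedAtImInfty_of_hasSum_qExpansion one_pos hq
  have hfps := th2_hasFPS one_pos hq
  have hholo : MDiff θ := by
    rw [UpperHalfPlane.mdifferentiable_iff]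
    have hd : DifferentiableOn ℂ (update (cuspFunction 1 θ) 0 (c 0)) (Metric.ball 0 1) := by
      have := hfps.differentiableOn
      rwa [← ENNReal.coe_one, Metric.eball_coe, NNReal.coe_one] at this
    have hcomp : DifferentiableOn ℂ
        ((update (cuspFunction 1 θ) 0 (c 0)) ∘ (Function.Periodic.qParam 1)) upperHalfPlaneSet := by
      apply DifferentiableOn.comp hd
      · exact (Function.Periodic.differentiable_qParam).differentiableOn
      · intro z hz
        rw [mem_ball_zero_iff]
        exact Function.Periodic.norm_qParam_lt_one one_pos hz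
    refine hcomp.congr fun z hz => ?_
    simp only [Function.comp_apply]
    rw [ofComplex_apply_of_im_pos hz, update_of_ne (Function.Periodic.qParam_ne_zero _)]
    have h1 := th2_hasSum_cusp one_pos hq (q := Function.Periodic.qParam 1 z)
      (Function.Periodic.norm_qParam_lt_one one_pos hz) (Function.Periodic.qParam_ne_zero _)
    exact (hq ⟨z, hz⟩).unique h1
  refine ⟨{ toFun := θ, slash_action_eq' := ?_, holo' := hholo, bdd_at_cusps' := ?_ }, fun τ => rfl⟩
  · intro A hA
    obtain ⟨A, rfl⟩ := hA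
    exact hgen A
  · intro cc hc
    rw [Subgroup.IsArithmetic.isCusp_iff_isCusp_SL2Z] at hc
    rw [OnePoint.isBoundedAt_iff_forall_SL2Z hc]
    intro γ _
    rw [hgen γ]
    exact hbdd

end Cfsg.Agent.Lib.H9.Theta
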