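import Cfsg.Agent.Lib.H9.U62LBPres
import Cfsg.Agent.Lib.H16.U62M.Sigs
import Cfsg.Prelude.Def_KGroupFacts

set_option autoImplicit false
set_option maxRecDepth 100000

/-!
# S2091, piece (L): the presented group `⟨a, b, c | PE exact, ZL central⟩` is a stem extension of a group
with the `U6(2)` data, with kernel `3 × 2 × 2` (helper9)

Two-stage counting with helper16's `P2Bound` (stage 1) and `mono_mainC2` (stage 2); the kernel is separated by the
two models `Model1`, `Model2`.  Clone of helper25's `Lib/H25/G24LB.lean` and helper6's `Lib/H6/U43M/Main.lean`.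
-/

namespace Cfsg.Agent.Lib.H9.U62LB

open Subgroup
open scoped commutatorElement
open Cfsg.Agent.Lib.H16.U62M
open Cfsg.Agent.Lib.H12.J3M (gl2 wv2 gl3 wv3 map_wv3 map_wv2 wv3_eq_wv2 wv2_mem)

theorem PE_of_exact2 : ∀ w ∈ C2.exactL, w ∈ PE := fun _ hw => List.mem_append_left _ hw

theorem PE_of_s1 : ∀ w ∈ s1L, subW w ∈ PE := fun _ hw =>
  List.mem_append_right _ (List.mem_append_left _ (List.mem_map_of_mem hw))

theorem PE_of_xL : ∀ w ∈ xL, w ∈ PE := fun _ hw =>
  List.mem_append_right _ (List.mem_append_right _ (List.mem_append_left _ hw))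

theorem PE_of_p6 : ∀ w ∈ C2.symL, w ++ (w ++ (w ++ (w ++ (w ++ w)))) ∈ PE := fun w hw =>
  List.mem_append_right _ (List.mem_append_right _ (List.mem_append_right _
    (List.mem_map.mpr ⟨w, hw, rfl⟩)))

/-- the sixth power of a word -/
theorem wv3_pow6 {K : Type*} [Group K] (x y z : K) (w : List ℕ) :
    wv3 x y z (w ++ (w ++ (w ++ (w ++ (w ++ w))))) = (wv3 x y z w) ^ 6 := by
  rw [wv3_append, wv3_append, wv3_append, wv3_append, wv3_append]
  simp only [pow_succ, pow_zero, one_mul, mul_assoc]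

/-- the words of the relators of stage 1 hold for `x`, `t = tW(x, y)`, `y` -/
theorem s1_of_PE {K : Type*} [Group K] (x y z : K) (hex : ∀ w ∈ PE, wv3 x y z w = 1) :
    ∀ w ∈ s1L, wv3 x (wv3 x y z tW) y w = 1 := by
  intro w hw
  rw [← wv3_subW]
  exact hex _ (PE_of_s1 w hw)

/-- the exact relators make the three elements products of commutators -/
theorem mem_commutator_of_PE {K : Type*} [Group K] (x y z : K) (hex : ∀ w ∈ PE, wv3 x y z w = 1) :
    x ∈ commutator K ∧ y ∈ commutator K ∧ z ∈ commutator K := by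
  have hc : ∀ p q : K, ⁅p, q⁆ ∈ commutator K := fun p q =>
    Subgroup.commutator_mem_commutator (Subgroup.mem_top p) (Subgroup.mem_top q)
  have hs1 := s1_of_PE x y z hex
  have hx11 : x ^ 11 = 1 := by
    have h := hs1 (List.replicate 11 0) (by decide)
    rwa [wv3_replicate0] at h
  have hy11 : y ^ 11 = 1 := by
    have h := hs1 (List.replicate 11 4) (by decide)
    rwa [wv3_replicate4] at h
  have hconj : wv3 x y z tW * x * (wv3 x y z tW)⁻¹ = x ^ 3 :=
    (conjW_iff _ _ _).mp (hs1 [2, 0, 3, 1, 1, 1] (by decide))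
  have hxb := (xbW_iff x y z).1 (hex xbW (PE_of_xL _ (by simp [xL])))
  have hxc := (xcW_iff x y z).1 (hex xcW (PE_of_xL _ (by simp [xL])))
  have hn : (commutator K).Normal := inferInstance
  have hx : x ∈ commutator K := by
    have e : ⁅wv3 x y z tW, x⁆ = x ^ 2 := by
      rw [commutatorElement_def, hconj]; group
    have h2 : x ^ 2 ∈ commutator K := by rw [← e]; exact hc _ _
    have e2 : x = (x ^ 2) ^ 6 * (x ^ 11)⁻¹ := by group
    rw [e2, hx11, inv_one, mul_one]
    exact pow_mem h2 6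
  have hy : y ∈ commutator K := by
    have h4 : y ^ 4 ∈ commutator K := by
      have h := hn.conj_mem x hx (wv3 x y z hW)⁻¹
      rw [inv_inv, hxb] at h
      exact h
    have e2 : y = (y ^ 4) ^ 3 * (y ^ 11)⁻¹ := by group
    rw [e2, hy11, inv_one, mul_one]
    exact pow_mem h4 3
  refine ⟨hx, hy, ?_⟩
  have h := hn.conj_mem x hx (wv3 x y z uW)⁻¹
  rw [inv_inv, hxc] at h
  exact h

/-- the commutation hypothesis of `homP3` from the `Commute` form -/
theorem hcen_of_commute {K : Type*} [Group K] (x y z : K)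
    (hZ : ∀ w ∈ ZL, Commute (wv3 x y z w) x ∧ Commute (wv3 x y z w) y ∧ Commute (wv3 x y z w) z) :
    ∀ w ∈ ZL, ∀ i : Fin 3, wv3 x y z w * ![x, y, z] i = ![x, y, z] i * wv3 x y z w := by
  intro w hw i
  obtain ⟨c1, c2, c3⟩ := hZ w hw
  fin_cases i
  · exact c1.eq
  · exact c2.eq
  · exact c3.eq

/-- **(L)**: the presented group `⟨a, b, c | PE exact, ZL central⟩` is a finite stem extension of `G` with
kernel `3 × 2 × 2`. -/
theorem exists_cover {G : Type} [Group G] {am bm cm : G} (B : Base am bm cm)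
    (hP2 : P2Bound) (h1 : Model1) (h2 : Model2) : CoverExists G := by
  -- the relators hold in `G`
  have hexG : ∀ w ∈ PE, wv3 am bm cm w = 1 := by
    intro w hw
    rcases List.mem_append.mp hw with h | h
    · exact B.rel2 w (List.mem_append_left _ h)
    rcases List.mem_append.mp h with h | h
    · obtain ⟨v, hv, rfl⟩ := List.mem_map.mp h
      rw [wv3_subW]
      exact B.rel1 v hv
    rcases List.mem_append.mp h with h | h
    · exact B.relx w h
    · obtain ⟨v, hv, rfl⟩ := List.mem_map.mp h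
      rw [wv3_pow6, B.rel2 v (List.mem_append_right _ (List.mem_append_left _ hv)), one_pow]
  have hcenG : ∀ w ∈ ZL, ∀ i : Fin 3,
      wv3 am bm cm w * ![am, bm, cm] i = ![am, bm, cm] i * wv3 am bm cm w := by
    intro w hw i
    rw [B.rel2 w (List.mem_append_right _ hw), one_mul, mul_one]
  let σ : P3 →* G := homP3 am bm cm hexG hcenG
  have hσa : σ qa = am := homP3_qa _ _ _ _ _
  have hσb : σ qb = bm := homP3_qb _ _ _ _ _
  have hσc : σ qc = cm := homP3_qc _ _ _ _ _
  have hσw : ∀ w, σ (wv3 qa qb qc w) = wv3 am bm cm w := homP3_wv _ _ _ _ _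
  have hs : Function.Surjective σ := by
    rw [← MonoidHom.range_eq_top, eq_top_iff, ← B.gen, closure_le]
    intro g hg
    simp only [Set.mem_insert_iff, Set.mem_singleton_iff] at hg
    rcases hg with h | h | h
    · exact ⟨qa, hσa.trans h.symm⟩
    · exact ⟨qb, hσb.trans h.symm⟩
    · exact ⟨qc, hσc.trans h.symm⟩
  -- stage 1 inside `K0 = ⟨qa, qt, qb⟩`
  obtain ⟨qt, hqt⟩ : ∃ g : P3, g = wv3 qa qb qc tW := ⟨_, rfl⟩
  have hσt : σ qt = wv3 am bm cm tW := by rw [hqt, hσw]
  have hs1 : ∀ w ∈ s1L, wv3 qa qt qb w = 1 := by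
    rw [hqt]
    exact s1_of_PE qa qb qc P3_exact
  have ha11 : qa ^ 11 = 1 := by
    have h := hs1 (List.replicate 11 0) (by decide)
    rwa [wv3_replicate0] at h
  have ht5 : qt ^ 5 = 1 := by
    have h := hs1 (List.replicate 5 2) (by decide)
    rwa [wv3_replicate2] at h
  have hconj : qt * qa * qt⁻¹ = qa ^ 3 :=
    (conjW_iff _ _ _).mp (hs1 [2, 0, 3, 1, 1, 1] (by decide))
  set K0 : Subgroup P3 := closure {qa, qt, qb} with hK0
  have haK : qa ∈ K0 := subset_closure (by simp)
  have htK : qt ∈ K0 := subset_closure (by simp)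
  have hbK : qb ∈ K0 := subset_closure (by simp)
  let ga1 : ↥K0 := ⟨qa, haK⟩
  let gt1 : ↥K0 := ⟨qt, htK⟩
  let gb1 : ↥K0 := ⟨qb, hbK⟩
  have hcoe : ∀ w, ((wv3 ga1 gt1 gb1 w : ↥K0) : P3) = wv3 qa qt qb w := fun w =>
    map_wv3 K0.subtype ga1 gt1 gb1 w
  have SP : SettingP2 ga1 gt1 gb1 :=
    { exact := fun w hw => by
        apply Subtype.ext
        rw [hcoe]
        exact hs1 w (p2_sub w hw)
      gen := by
        have h := Subgroup.closure_closure_coe_preimage (k := ({qa, qt, qb} : Set P3))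
        convert h using 2
        ext g
        simp only [Set.mem_insert_iff, Set.mem_singleton_iff, Set.mem_preimage]
        constructor
        · rintro (rfl | rfl | rfl)
          · left; rfl
          · right; left; rfl
          · right; right; rfl
        · rintro (h | h | h)
          · left; exact Subtype.ext h
          · right; left; exact Subtype.ext h
          · right; right; exact Subtype.ext h }
  obtain ⟨hfinQ1, hq1⟩ := hP2 ↥K0 ga1 gt1 gb1 SP
  have hga11 : ga1 ^ 11 = 1 := Subtype.ext ha11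
  have hgt5 : gt1 ^ 5 = 1 := Subtype.ext ht5
  have hgconj : gt1 * ga1 * gt1⁻¹ = ga1 ^ 3 := Subtype.ext hconj
  obtain ⟨hfinH1, hH1⟩ := card_closure_le_55 hga11 hgt5 hgconj
  have hfinK0 : Finite ↥K0 :=
    Finite.of_equiv _ (Subgroup.groupEquivQuotientProdSubgroup (s := closure ({ga1, gt1} : Set ↥K0))).symm
  have hcardK0 : Nat.card ↥K0 ≤ 13685760 := by
    have h1 := Subgroup.card_eq_card_quotient_mul_card_subgroup (closure ({ga1, gt1} : Set ↥K0))
    calc Nat.card ↥K0 = _ := h1
      _ ≤ 248832 * 55 := Nat.mul_le_mul hq1 hH1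
      _ = 13685760 := by norm_num
  -- `σ` is injective on `K0`, hence on `U = ⟨qa, qb⟩`
  have hinj0 : ∀ g ∈ K0, σ g = 1 → g = 1 :=
    B.inj_of_card_le σ qa qt qb hσa hσt hσb hcardK0
  set U : Subgroup P3 := closure {qa, qb} with hU
  have hUK : U ≤ K0 := by
    apply Subgroup.closure_mono
    intro x hx
    simp only [Set.mem_insert_iff, Set.mem_singleton_iff] at hx ⊢
    rcases hx with rfl | rfl
    · left; rfl
    · right; right; rfl
  have hinj : ∀ g ∈ U, σ g = 1 → g = 1 := fun g hg => hinj0 g (hUK hg)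
  have hfinU : Finite ↥U := Finite.of_injective (Subgroup.inclusion hUK) (Subgroup.inclusion_injective hUK)
  have hcardU : Nat.card ↥U ≤ 13685760 := le_trans (Subgroup.card_le_of_le hUK) hcardK0
  -- stage 2
  have h6 : ∀ w ∈ C2.symL, (wv3 qa qb qc w) ^ 6 = 1 := by
    intro w hw
    rw [← wv3_pow6]
    exact P3_exact _ (PE_of_p6 w hw)
  have S2 : SettingC2 qa qb qc (center P3 ⊓ σ.ker) :=
    { central := inf_le_left
      disj := fun g hg hgA => hinj g hg (MonoidHom.mem_ker.mp hgA.2)
      exact := fun w hw => P3_exact w (PE_of_exact2 w hw)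
      rel := by
        intro w hw
        refine ⟨P3_central w hw, MonoidHom.mem_ker.mpr ?_⟩
        rw [hσw]
        exact B.rel2 w (List.mem_append_right _ hw)
      gen := P3_gen
      tors := by
        intro w hw
        rw [show 23887872 = 6 * 3981312 from rfl, pow_mul, h6 w hw, one_pow] }
  have hmain := mono_mainC2 S2
  obtain ⟨X, hXdef⟩ : ∃ g : P3, g = (wv3 qa qb qc x0W)⁻¹ * (wv3 qa qb qc x8W)⁻¹ := ⟨_, rfl⟩
  obtain ⟨W, hWdef⟩ : ∃ g : P3, g = (wv3 qa qb qc w10W)⁻¹ := ⟨_, rfl⟩
  rw [← hXdef, ← hWdef] at hmain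
  obtain ⟨hXA, hWA, hX6, hW2, fq, hfq⟩ := hmain
  have hcomm : Commute X W := ((mem_center_iff.1 hXA.1) W).symm
  obtain ⟨f0, hf0, -⟩ := Cfsg.Agent.Lib.H24.U62Hom.exists_hom_T322 X W hcomm hX6 hW2
    (closure {X, W}) rfl
  have hfinZ : Finite ↥(closure ({X, W} : Set P3)) := Finite.of_surjective f0 hf0
  have hcardZ : Nat.card ↥(closure ({X, W} : Set P3)) ≤ 12 := by
    have := Nat.card_le_card_of_surjective f0 hf0
    rwa [Cfsg.Agent.Lib.H24.U62Hom.card_T322] at this
  have hfinQ2 : Finite (P3 ⧸ U) := Finite.of_surjective fq hfq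
  have hq2 : Nat.card (P3 ⧸ U) ≤ 672 * Nat.card ↥(closure ({X, W} : Set P3)) := by
    have := Nat.card_le_card_of_surjective fq hfq
    rwa [Nat.card_prod, Nat.card_fin] at this
  have hfinP : Finite P3 :=
    Finite.of_equiv _ (Subgroup.groupEquivQuotientProdSubgroup (s := U)).symm
  have hc1 : Nat.card P3 = Nat.card (P3 ⧸ U) * Nat.card ↥U :=
    Subgroup.card_eq_card_quotient_mul_card_subgroup _
  have hc2 : Nat.card P3 = Nat.card σ.ker * Nat.card G := by
    rw [← Subgroup.card_mul_index σ.ker, Subgroup.index_ker, MonoidHom.range_eq_top.2 hs,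
      Subgroup.card_top]
  have hc3 : Nat.card σ.ker * 9196830720 ≤ Nat.card ↥(closure ({X, W} : Set P3)) * 9196830720 := by
    calc Nat.card σ.ker * 9196830720 = Nat.card P3 := by rw [hc2, B.card]
      _ = _ := hc1
      _ ≤ (672 * Nat.card ↥(closure ({X, W} : Set P3))) * 13685760 := Nat.mul_le_mul hq2 hcardU
      _ = Nat.card ↥(closure ({X, W} : Set P3)) * 9196830720 := by ring
  have hc4 : Nat.card σ.ker ≤ Nat.card ↥(closure ({X, W} : Set P3)) :=
    Nat.le_of_mul_le_mul_right hc3 (by norm_num)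
  have hle : closure ({X, W} : Set P3) ≤ σ.ker := by
    rw [closure_le]
    intro g hg
    simp only [Set.mem_insert_iff, Set.mem_singleton_iff] at hg
    rcases hg with rfl | rfl
    · exact hXA.2
    · exact hWA.2
  have hker : σ.ker = closure ({X, W} : Set P3) :=
    (Subgroup.eq_of_le_of_card_ge hle hc4).symm
  have hkc : σ.ker ≤ center P3 := by
    rw [hker, closure_le]
    intro g hg
    simp only [Set.mem_insert_iff, Set.mem_singleton_iff] at hg
    rcases hg with rfl | rfl
    · exact hXA.1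
    · exact hWA.1
  have hperf : commutator P3 = ⊤ := by
    obtain ⟨c1, c2, c3⟩ := mem_commutator_of_PE qa qb qc P3_exact
    rw [eq_top_iff, ← P3_gen, closure_le]
    intro g hg
    simp only [Set.mem_insert_iff, Set.mem_singleton_iff] at hg
    rcases hg with rfl | rfl | rfl
    · exact c1
    · exact c2
    · exact c3
  refine ⟨P3, inferInstance, hfinP, σ, ⟨hs, hkc, by rw [hperf]; exact le_top⟩, ?_⟩
  -- the kernel is `3 × 2 × 2`
  obtain ⟨f, hf, hform⟩ := Cfsg.Agent.Lib.H24.U62Hom.exists_hom_T322 X W hcomm hX6 hW2 σ.ker hker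
  have hinjf : Function.Injective f := by
    rw [injective_iff_map_eq_one]
    intro t ht
    have e1 : ((f t : ↥σ.ker) : P3) = 1 := by rw [ht]; rfl
    rw [hform t] at e1
    set n : ℕ := 2 * (Multiplicative.toAdd t).1.val + 3 * (Multiplicative.toAdd t).2.1.val with hn
    set k : ℕ := (Multiplicative.toAdd t).2.2.val with hk
    have hk2 : k < 2 := ZMod.val_lt _
    -- the first model
    have hn6 : ((n : ℕ) : ZMod 6) = 0 := by
      obtain ⟨M, _, x, y, z, hE, hZ, hXo, hWo⟩ := h1
      let μ : P3 →* M := homP3 x y z hE (hcen_of_commute x y z hZ)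
      have hμw : ∀ w, μ (wv3 qa qb qc w) = wv3 x y z w := homP3_wv _ _ _ _ _
      have hμX : μ X = (wv3 x y z x0W)⁻¹ * (wv3 x y z x8W)⁻¹ := by
        rw [hXdef, map_mul, map_inv, map_inv, hμw, hμw]
      have hμW : μ W = 1 := by
        rw [hWdef, map_inv, hμw, hWo, inv_one]
      have e2 := congrArg μ e1
      rw [map_mul, map_pow, map_pow, hμW, one_pow, mul_one, map_one] at e2
      have e6 : (μ X) ^ 6 = 1 := by rw [← map_pow, hX6, map_one]
      rw [pow_eq_pow_mod n e6, hμX] at e2
      have := hXo (n % 6) (Nat.mod_lt _ (by norm_num)) e2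
      rw [ZMod.natCast_eq_zero_iff]
      exact Nat.dvd_of_mod_eq_zero this
    -- the second model
    have hk0 : ((k : ℕ) : ZMod 2) = 0 := by
      obtain ⟨M, _, x, y, z, hE, hZ, hXo, hWo⟩ := h2
      let μ : P3 →* M := homP3 x y z hE (hcen_of_commute x y z hZ)
      have hμw : ∀ w, μ (wv3 qa qb qc w) = wv3 x y z w := homP3_wv _ _ _ _ _
      have hμX : μ X = 1 := by
        rw [hXdef, map_mul, map_inv, map_inv, hμw, hμw]
        exact hXo
      have hμW : μ W = (wv3 x y z w10W)⁻¹ := by
        rw [hWdef, map_inv, hμw]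
      have e2 := congrArg μ e1
      rw [map_mul, map_pow, map_pow, hμX, one_pow, one_mul, map_one, hμW] at e2
      have hk01 : k = 0 := by
        rcases Nat.lt_or_ge k 1 with h | h
        · omega
        · exfalso
          have hk1 : k = 1 := by omega
          rw [hk1, pow_one, inv_eq_one] at e2
          exact hWo e2
      rw [hk01]
      rfl
    exact Cfsg.Agent.Lib.H24.U62Hom.sep_T322 (Multiplicative.toAdd t) ⟨hn6, hk0⟩
  exact ⟨(MulEquiv.ofBijective f ⟨hinjf, hf⟩).symm⟩

end Cfsg.Agent.Lib.H9.U62LB
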