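import Cfsg.Agent.Lib.H16.U62M.Base

set_option autoImplicit false

/-!
# S2091, piece (L), part 1: the presented group on three generators with the exact relators `PE` and the
central relators `ZL` of `U6(2)` (helper9; clone of `Lib/H25/G24LBPres.lean` of helper25)
-/

namespace Cfsg.Agent.Lib.H9.U62LB

open FreeGroup
open Cfsg.Agent.Lib.H16.U62M
open Cfsg.Agent.Lib.H12.J3M (gl2 wv2 gl3 wv3 map_wv3 map_wv2 wv3_eq_wv2)

/-- the word in the free group -/
def wF3 (w : List ℕ) : FreeGroup (Fin 3) := wv3 (of 0) (of 1) (of 2) w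

/-- the relators: the exact words and the commutators of the central words with the generators -/
def rels3 : Set (FreeGroup (Fin 3)) :=
  {r | (∃ w ∈ PE, r = wF3 w) ∨
    (∃ w ∈ ZL, ∃ i : Fin 3, r = wF3 w * of i * (wF3 w)⁻¹ * (of i)⁻¹)}

/-- the presented group -/
abbrev P3 : Type := PresentedGroup rels3

/-- the generators of `P3` -/
def qa : P3 := PresentedGroup.of 0
/-- the generators of `P3` -/
def qb : P3 := PresentedGroup.of 1
/-- the generators of `P3` -/
def qc : P3 := PresentedGroup.of 2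

theorem mk_wF3 (w : List ℕ) : PresentedGroup.mk rels3 (wF3 w) = wv3 qa qb qc w := by
  unfold wF3
  rw [map_wv3]
  rfl

theorem lift_wF3 {K : Type*} [Group K] (f : Fin 3 → K) (w : List ℕ) :
    FreeGroup.lift f (wF3 w) = wv3 (f 0) (f 1) (f 2) w := by
  unfold wF3
  rw [map_wv3]
  simp only [FreeGroup.lift_apply_of]

theorem P3_exact : ∀ w ∈ PE, wv3 qa qb qc w = 1 := by
  intro w hw
  rw [← mk_wF3]
  exact (PresentedGroup.one_of_mem (Or.inl ⟨w, hw, rfl⟩))

theorem P3_comm : ∀ w ∈ ZL, ∀ i : Fin 3,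
    wv3 qa qb qc w * (PresentedGroup.of i : P3) = PresentedGroup.of i * wv3 qa qb qc w := by
  intro w hw i
  rw [← mk_wF3]
  have : PresentedGroup.mk rels3 (wF3 w * of i * (wF3 w)⁻¹ * (of i)⁻¹) = 1 :=
    PresentedGroup.one_of_mem (Or.inr ⟨w, hw, i, rfl⟩)
  rw [_root_.map_mul, _root_.map_mul, _root_.map_mul, _root_.map_inv, _root_.map_inv] at this
  have h2 : PresentedGroup.mk rels3 (wF3 w) * PresentedGroup.mk rels3 (of i) =
      PresentedGroup.mk rels3 (of i) * PresentedGroup.mk rels3 (wF3 w) := by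
    rw [mul_inv_eq_one, mul_inv_eq_iff_eq_mul] at this
    exact this
  exact h2

theorem P3_gen : Subgroup.closure {qa, qb, qc} = (⊤ : Subgroup P3) := by
  have h := PresentedGroup.closure_range_of rels3
  rw [eq_top_iff, ← h, Subgroup.closure_le]
  rintro _ ⟨i, rfl⟩
  apply Subgroup.subset_closure
  fin_cases i
  · left; rfl
  · right; left; rfl
  · right; right; rfl

/-- the central words are central in `P3` -/
theorem P3_central : ∀ w ∈ ZL, wv3 qa qb qc w ∈ Subgroup.center P3 := by
  intro w hw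
  have hcen : Subgroup.centralizer {wv3 qa qb qc w} = ⊤ := by
    rw [eq_top_iff, ← P3_gen, Subgroup.closure_le]
    intro g hg
    have key : ∀ i : Fin 3, (PresentedGroup.of i : P3) ∈ Subgroup.centralizer {wv3 qa qb qc w} := by
      intro i
      rw [Subgroup.mem_centralizer_iff]
      intro h hh
      rw [Set.mem_singleton_iff] at hh
      subst hh
      exact P3_comm w hw i
    simp only [Set.mem_insert_iff, Set.mem_singleton_iff] at hg
    rcases hg with rfl | rfl | rfl
    · exact key 0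
    · exact key 1
    · exact key 2
  rw [Subgroup.mem_center_iff]
  intro g
  have hg : g ∈ Subgroup.centralizer {wv3 qa qb qc w} := by rw [hcen]; trivial
  rw [Subgroup.mem_centralizer_iff] at hg
  exact (hg _ rfl).symm

/-- a homomorphism from `P3` -/
def homP3 {K : Type*} [Group K] (x y z : K) (hex : ∀ w ∈ PE, wv3 x y z w = 1)
    (hcen : ∀ w ∈ ZL, ∀ i : Fin 3, wv3 x y z w * ![x, y, z] i = ![x, y, z] i * wv3 x y z w) :
    P3 →* K :=
  PresentedGroup.toGroup (f := ![x, y, z]) (by
    intro r hr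
    rcases hr with ⟨w, hw, rfl⟩ | ⟨w, hw, i, rfl⟩
    · rw [lift_wF3]
      exact hex w hw
    · rw [_root_.map_mul, _root_.map_mul, _root_.map_mul, _root_.map_inv, _root_.map_inv, lift_wF3,
        mul_inv_eq_one, mul_inv_eq_iff_eq_mul, FreeGroup.lift_apply_of]
      exact hcen w hw i)

section

variable {K : Type*} [Group K] (x y z : K) (hex : ∀ w ∈ PE, wv3 x y z w = 1)
    (hcen : ∀ w ∈ ZL, ∀ i : Fin 3, wv3 x y z w * ![x, y, z] i = ![x, y, z] i * wv3 x y z w)

theorem homP3_qa : homP3 x y z hex hcen qa = x := by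
  unfold homP3 qa
  rw [PresentedGroup.toGroup.of]
  rfl

theorem homP3_qb : homP3 x y z hex hcen qb = y := by
  unfold homP3 qb
  rw [PresentedGroup.toGroup.of]
  rfl

theorem homP3_qc : homP3 x y z hex hcen qc = z := by
  unfold homP3 qc
  rw [PresentedGroup.toGroup.of]
  rfl

theorem homP3_wv (w : List ℕ) : homP3 x y z hex hcen (wv3 qa qb qc w) = wv3 x y z w := by
  rw [map_wv3, homP3_qa, homP3_qb, homP3_qc]

end

end Cfsg.Agent.Lib.H9.U62LB
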