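import Mathlib

/-!
Helper9: prime-order permutations and uniform partitions (for S3575).
`Fixes a b σ`: σ permutes the fibres of a map onto `Fin b` with all fibres of size `a`.
Main tools: `support_card_bounds` (analysis), `exists_fixes_model` (construction),
`isConj_of_card_support`, `exists_perm_card_support`, `cover_of_cond`, `cond_of_cover`,
`factorial_pow_mul_dvd`, `le_of_dvd_count`.
-/

set_option autoImplicit false

namespace Cfsg.Agent.Lib.H9.UnifPart

open Equiv Equiv.Perm

/-- `r ∣ #supp τ` when `τ ^ r = 1`, `r` prime. -/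
theorem dvd_card_support {α : Type*} [Fintype α] [DecidableEq α] {r : ℕ} (hr : r.Prime)
    {τ : Perm α} (h : τ ^ r = 1) : r ∣ τ.support.card := by
  have : Fact r.Prime := ⟨hr⟩
  rw [← sum_cycleType]
  apply Multiset.dvd_sum
  intro k hk
  rw [pow_prime_eq_one_iff.mp h k hk]

/-- Two `r`-th roots of unity in `Perm α` with supports of the same size are conjugate. -/
theorem isConj_of_card_support {α : Type*} [Fintype α] [DecidableEq α] {r : ℕ} (hr : r.Prime)
    {σ τ : Perm α} (hσ : σ ^ r = 1) (hτ : τ ^ r = 1)
    (h : σ.support.card = τ.support.card) : IsConj σ τ := by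
  have : Fact r.Prime := ⟨hr⟩
  rw [isConj_iff_cycleType_eq]
  have h1 := cycleType_of_pow_prime_eq_one hσ
  have h2 := cycleType_of_pow_prime_eq_one hτ
  have s1 : σ.cycleType.card * r = σ.support.card := by
    rw [← sum_cycleType]
    conv_rhs => rw [h1]
    simp
  have s2 : τ.cycleType.card * r = τ.support.card := by
    rw [← sum_cycleType]
    conv_rhs => rw [h2]
    simp
  have : σ.cycleType.card = τ.cycleType.card := by
    have : σ.cycleType.card * r = τ.cycleType.card * r := by rw [s1, s2, h]
    exact Nat.eq_of_mul_eq_mul_right hr.pos this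
  rw [h1, h2, this]

/-- There is an `r`-th root of unity with support of size `r * j`, when this fits. -/
theorem exists_perm_card_support {α : Type*} [Fintype α] [DecidableEq α] {r : ℕ} (hr : r.Prime)
    (j : ℕ) (hj : r * j ≤ Fintype.card α) :
    ∃ σ : Perm α, σ ^ r = 1 ∧ σ.support.card = r * j := by
  have : Fact r.Prime := ⟨hr⟩
  obtain ⟨g, hg⟩ := (Equiv.Perm.exists_with_cycleType_iff (α := α)
    (m := Multiset.replicate j r)).mpr ⟨by simpa [mul_comm] using hj, fun a ha => by
      rw [Multiset.eq_of_mem_replicate ha]; exact hr.two_le⟩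
  refine ⟨g, ?_, ?_⟩
  · rw [pow_prime_eq_one_iff]
    intro c hc
    rw [hg] at hc
    exact Multiset.eq_of_mem_replicate hc
  · rw [← sum_cycleType, hg]
    simp [mul_comm]



/-- `σ` permutes the fibres of some map onto `Fin b` with all fibres of size `a`. -/
def Fixes (a b : ℕ) {α : Type*} (σ : Perm α) : Prop :=
  ∃ f : α → Fin b, (∀ j : Fin b, Nat.card {x : α // f x = j} = a) ∧
    ∃ π : Perm (Fin b), ∀ x : α, f (σ x) = π (f x)

theorem Fixes.permCongr {a b : ℕ} {α β : Type*} (e : α ≃ β) {σ : Perm α} (h : Fixes a b σ) :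
    Fixes a b (e.permCongr σ) := by
  obtain ⟨f, hf, π, hπ⟩ := h
  refine ⟨f ∘ e.symm, ?_, π, ?_⟩
  · intro j
    rw [← hf j]
    exact Nat.card_congr (e.symm.subtypeEquiv (fun y => Iff.rfl))
  · intro y
    simp [Equiv.permCongr_apply, hπ]

theorem Fixes.conj {a b : ℕ} {α : Type*} {σ τ : Perm α} (h : Fixes a b σ) (hc : IsConj σ τ) :
    Fixes a b τ := by
  obtain ⟨c, hc⟩ := isConj_iff.mp hc
  have := h.permCongr (c : α ≃ α)
  have e : (c : α ≃ α).permCongr σ = τ := by
    rw [← hc]
    ext x
    simp [Equiv.permCongr_apply, Equiv.Perm.inv_def]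
  rwa [e] at this

/-- Analysis: if `σ ^ r = 1` permutes the blocks of a uniform partition then the size of its
support is constrained. -/
theorem support_card_bounds {a b r : ℕ} (hr : r.Prime) (ha : 0 < a) {α : Type*} [Fintype α]
    [DecidableEq α] (σ : Perm α) (hσ : σ ^ r = 1) (h : Fixes a b σ) :
    ∃ t s, r * t + s = b ∧ (r * t) * a ≤ σ.support.card ∧
      σ.support.card ≤ (r * t) * a + s * (r * (a / r)) := by
  classical
  obtain ⟨f, hf, π, hπ⟩ := h
  have hfib : ∀ i : Fin b, (Finset.univ.filter (fun x => f x = i)).card = a := by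
    intro i
    rw [← hf i, Nat.card_eq_fintype_card, Fintype.card_subtype]
  have hsurj : Function.Surjective f := by
    intro i
    have : 0 < (Finset.univ.filter (fun x => f x = i)).card := by rw [hfib i]; exact ha
    obtain ⟨x, hx⟩ := Finset.card_pos.mp this
    exact ⟨x, (Finset.mem_filter.mp hx).2⟩
  have hpow : ∀ (m : ℕ) (x : α), f ((σ ^ m) x) = (π ^ m) (f x) := by
    intro m
    induction m with
    | zero => intro x; simp
    | succ m ih =>
      intro x
      rw [pow_succ', pow_succ', Perm.mul_apply, Perm.mul_apply, hπ, ih]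
  have hπr : π ^ r = 1 := by
    ext i
    obtain ⟨x, rfl⟩ := hsurj i
    rw [← hpow r x, hσ]
    simp
  obtain ⟨t, ht⟩ := dvd_card_support hr hπr
  have htb : r * t ≤ b := by
    rw [← ht]
    calc π.support.card ≤ Fintype.card (Fin b) := Finset.card_le_univ _
      _ = b := Fintype.card_fin b
  refine ⟨t, b - r * t, by omega, ?_, ?_⟩
  all_goals
    have hsum : σ.support.card = ∑ i : Fin b, (σ.support.filter (fun x => f x = i)).card :=
      Finset.card_eq_sum_card_fiberwise (fun x _ => Finset.mem_univ (f x))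
    have hmoved : ∀ i ∈ π.support, (σ.support.filter (fun x => f x = i)).card = a := by
      intro i hi
      rw [← hfib i]
      congr 1
      ext x
      simp only [Finset.mem_filter, Finset.mem_univ, true_and, Perm.mem_support, and_iff_right_iff_imp]
      intro hx hfix
      rw [Perm.mem_support] at hi
      apply hi
      rw [← hx, ← hπ, hfix]
    have hsplit : ∑ i : Fin b, (σ.support.filter (fun x => f x = i)).card =
        ∑ i ∈ π.support, (σ.support.filter (fun x => f x = i)).card +
        ∑ i ∈ π.supportᶜ, (σ.support.filter (fun x => f x = i)).card :=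
      (Finset.sum_add_sum_compl _ _).symm
    have hm : ∑ i ∈ π.support, (σ.support.filter (fun x => f x = i)).card = (r * t) * a := by
      rw [Finset.sum_congr rfl hmoved, Finset.sum_const, smul_eq_mul, ht]
  · rw [hsum, hsplit, hm]
    exact Nat.le_add_right _ _
  · rw [hsum, hsplit, hm]
    apply Nat.add_le_add_left
    have hfixed : ∀ i ∈ π.supportᶜ, (σ.support.filter (fun x => f x = i)).card ≤ r * (a / r) := by
      intro i hi
      have hi' : π i = i := by
        rw [Finset.mem_compl, Perm.mem_support, not_not] at hi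
        exact hi
      have hp : ∀ x, f (σ x) = i ↔ f x = i := by
        intro x
        rw [hπ]
        constructor
        · intro h1
          apply π.injective
          rw [h1, hi']
        · intro h1
          rw [h1, hi']
      set τ : Perm {x // f x = i} := σ.subtypePerm hp with hτ
      have hτr : τ ^ r = 1 := by
        rw [hτ, subtypePerm_pow]
        ext x
        simp [hσ]
      obtain ⟨q, hq⟩ := dvd_card_support hr hτr
      have hsupp : τ.support = σ.support.subtype (fun x => f x = i) := by
        ext x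
        simp [hτ, Perm.mem_support, Subtype.ext_iff]
      have hcard : τ.support.card = (σ.support.filter (fun x => f x = i)).card := by
        rw [hsupp, Finset.card_subtype]
      have hle : (σ.support.filter (fun x => f x = i)).card ≤ a := by
        rw [← hfib i]
        apply Finset.card_le_card
        intro x hx
        simp only [Finset.mem_filter, Finset.mem_univ, true_and] at hx ⊢
        exact hx.2
      rw [← hcard, hq]
      apply Nat.mul_le_mul_left
      rw [Nat.le_div_iff_mul_le hr.pos]
      rw [← hcard, hq] at hle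
      linarith
    calc ∑ i ∈ π.supportᶜ, (σ.support.filter (fun x => f x = i)).card
        ≤ ∑ _i ∈ π.supportᶜ, r * (a / r) := Finset.sum_le_sum hfixed
      _ = (b - r * t) * (r * (a / r)) := by
        rw [Finset.sum_const, smul_eq_mul, Finset.card_compl, ht, Fintype.card_fin]



theorem exists_bounded_sum {ι : Type*} [DecidableEq ι] (F : Finset ι) (A : ℕ) :
    ∀ j : ℕ, j ≤ F.card * A → ∃ c : ι → ℕ, (∀ i, c i ≤ A) ∧ ∑ i ∈ F, c i = j := by
  induction F using Finset.induction_on with
  | empty =>
    intro j hj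
    refine ⟨fun _ => 0, fun _ => Nat.zero_le _, ?_⟩
    simp at hj
    simp [hj]
  | insert x F hx ih =>
    intro j hj
    rw [Finset.card_insert_of_notMem hx] at hj
    obtain ⟨c, hc, hsum⟩ := ih (j - min j A) (by
      rcases le_total j A with h | h
      · rw [min_eq_left h]; simp
      · rw [min_eq_right h]
        have : (F.card + 1) * A = F.card * A + A := by ring
        omega)
    refine ⟨Function.update c x (min j A), ?_, ?_⟩
    · intro i
      by_cases hi : i = x
      · subst hi; simp
      · rw [Function.update_of_ne hi]; exact hc i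
    · rw [Finset.sum_insert hx, Function.update_self]
      have : ∑ i ∈ F, Function.update c x (min j A) i = ∑ i ∈ F, c i := by
        apply Finset.sum_congr rfl
        intro i hi
        rw [Function.update_of_ne]
        rintro rfl
        exact hx hi
      rw [this, hsum]
      have : min j A ≤ j := min_le_left _ _
      omega

theorem card_filter_fst {a b : ℕ} (i : Fin b) (S : Finset (Fin a)) :
    (Finset.univ.filter (fun y : Fin b × Fin a => y.1 = i ∧ y.2 ∈ S)).card = S.card := by
  have : Finset.univ.filter (fun y : Fin b × Fin a => y.1 = i ∧ y.2 ∈ S) =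
      S.map ⟨fun x => (i, x), Prod.mk_right_injective i⟩ := by
    ext ⟨y1, y2⟩
    simp only [Finset.mem_filter, Finset.mem_univ, true_and, Finset.mem_map,
      Function.Embedding.coeFn_mk, Prod.mk.injEq]
    constructor
    · rintro ⟨rfl, h2⟩
      exact ⟨y2, h2, rfl, rfl⟩
    · rintro ⟨x, hx, rfl, rfl⟩
      exact ⟨rfl, hx⟩
  rw [this, Finset.card_map]

theorem exists_fixes_model {a b r : ℕ} (hr : r.Prime) (t s j' : ℕ) (hts : r * t + s = b)
    (hj' : j' ≤ s * (a / r)) :
    ∃ σ₀ : Perm (Fin b × Fin a), σ₀ ^ r = 1 ∧ σ₀.support.card = r * (t * a + j') ∧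
      Fixes a b σ₀ := by
  classical
  obtain ⟨π₀, hπr, hπs⟩ := exists_perm_card_support (α := Fin b) hr t
    (by rw [Fintype.card_fin]; omega)
  have hFc : (π₀.supportᶜ).card = s := by
    rw [Finset.card_compl, hπs, Fintype.card_fin]; omega
  obtain ⟨c, hcA, hcsum⟩ := exists_bounded_sum (π₀.supportᶜ) (a / r) j' (by rw [hFc]; exact hj')
  have hρ : ∀ i : Fin b, ∃ ρ : Perm (Fin a), ρ ^ r = 1 ∧ ρ.support.card = r * c i := by
    intro i
    apply exists_perm_card_support hr
    rw [Fintype.card_fin]
    calc r * c i ≤ r * (a / r) := Nat.mul_le_mul_left _ (hcA i)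
      _ ≤ a := Nat.mul_div_le a r
  choose ρ hρr hρs using hρ
  set τ : Fin b → Perm (Fin a) := fun i => if π₀ i = i then ρ i else 1 with hτ
  have hτinv : ∀ i, τ (π₀ i) = τ i := by
    intro i
    by_cases hi : π₀ i = i
    · rw [hi]
    · have : π₀ (π₀ i) ≠ π₀ i := fun h => hi (π₀.injective h)
      simp only [hτ, if_neg hi, if_neg this]
  have hτinv' : ∀ (m : ℕ) (i : Fin b), τ ((π₀ ^ m) i) = τ i := by
    intro m
    induction m with
    | zero => intro i; simp
    | succ m ih =>
      intro i
      rw [pow_succ', Perm.mul_apply, hτinv, ih]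
  have hτr : ∀ i, (τ i) ^ r = 1 := by
    intro i
    simp only [hτ]
    split_ifs
    · exact hρr i
    · exact one_pow r
  set σ₀ : Perm (Fin b × Fin a) := Equiv.prodShear π₀ (fun i => τ i) with hσ₀
  have happ : ∀ i x, σ₀ (i, x) = (π₀ i, τ i x) := fun i x => rfl
  have hpow : ∀ (m : ℕ) (i : Fin b) (x : Fin a), (σ₀ ^ m) (i, x) = ((π₀ ^ m) i, ((τ i) ^ m) x) := by
    intro m
    induction m with
    | zero => intro i x; simp
    | succ m ih =>
      intro i x
      rw [pow_succ', Perm.mul_apply, ih, happ, hτinv', pow_succ', Perm.mul_apply, pow_succ',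
        Perm.mul_apply]
  refine ⟨σ₀, ?_, ?_, ?_⟩
  · ext ⟨i, x⟩
    · rw [hpow, hπr]; simp
    · rw [hpow, hτr]; simp
  · have hsum : σ₀.support.card =
        ∑ i : Fin b, (σ₀.support.filter (fun y => y.1 = i)).card :=
      Finset.card_eq_sum_card_fiberwise (fun y _ => Finset.mem_univ y.1)
    have hmoved : ∀ i ∈ π₀.support, (σ₀.support.filter (fun y => y.1 = i)).card = a := by
      intro i hi
      have : σ₀.support.filter (fun y => y.1 = i) =
          Finset.univ.filter (fun y : Fin b × Fin a => y.1 = i ∧ y.2 ∈ (Finset.univ : Finset (Fin a))) := by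
        ext ⟨y1, y2⟩
        simp only [Finset.mem_filter, Perm.mem_support, Finset.mem_univ, true_and, and_true,
          and_iff_right_iff_imp]
        rintro rfl
        rw [happ]
        intro h
        rw [Perm.mem_support] at hi
        exact hi (congrArg Prod.fst h)
      rw [this, card_filter_fst, Finset.card_univ, Fintype.card_fin]
    have hfixed : ∀ i ∈ π₀.supportᶜ, (σ₀.support.filter (fun y => y.1 = i)).card = r * c i := by
      intro i hi
      have hi' : π₀ i = i := by
        rw [Finset.mem_compl, Perm.mem_support, not_not] at hi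
        exact hi
      have : σ₀.support.filter (fun y => y.1 = i) =
          Finset.univ.filter (fun y : Fin b × Fin a => y.1 = i ∧ y.2 ∈ (ρ i).support) := by
        ext ⟨y1, y2⟩
        simp only [Finset.mem_filter, Perm.mem_support, Finset.mem_univ, true_and]
        constructor
        · rintro ⟨h1, rfl⟩
          refine ⟨rfl, ?_⟩
          intro h2
          apply h1
          rw [happ, hi']
          simp only [hτ, if_pos hi', h2]
        · rintro ⟨rfl, h2⟩
          refine ⟨?_, rfl⟩
          intro h1
          apply h2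
          rw [happ] at h1
          have := congrArg Prod.snd h1
          simpa only [hτ, if_pos hi'] using this
      rw [this, card_filter_fst, hρs]
    rw [hsum, ← Finset.sum_add_sum_compl π₀.support, Finset.sum_congr rfl hmoved,
      Finset.sum_congr rfl hfixed, Finset.sum_const, smul_eq_mul, hπs, ← Finset.mul_sum, hcsum]
    ring
  · refine ⟨Prod.fst, ?_, π₀, ?_⟩
    · intro j
      rw [Nat.card_eq_fintype_card, Fintype.card_subtype]
      have : Finset.univ.filter (fun y : Fin b × Fin a => y.1 = j) =
          Finset.univ.filter (fun y : Fin b × Fin a => y.1 = j ∧ y.2 ∈ (Finset.univ : Finset (Fin a))) := by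
        ext y; simp
      rw [this, card_filter_fst, Finset.card_univ, Fintype.card_fin]
    · rintro ⟨i, x⟩
      rw [happ]


theorem cover_of_cond {r A ℓ B k : ℕ} (hr : 0 < r) (hA : 1 ≤ A)
    (h1 : ℓ * k < r) (h2 : 1 ≤ B → ℓ ≤ k * A + 1) (j : ℕ)
    (hj : r * j ≤ (r * A + ℓ) * (r * B + k)) :
    ∃ t s, r * t + s = r * B + k ∧ t * (r * A + ℓ) ≤ j ∧ j ≤ t * (r * A + ℓ) + s * A := by
  set a := r * A + ℓ with ha
  have ha0 : 0 < a := by
    have : 0 < r * A := Nat.mul_pos hr hA
    omega
  rcases le_or_gt B (j / a) with hB | hB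
  · refine ⟨B, k, rfl, ?_, ?_⟩
    · calc B * a ≤ (j / a) * a := Nat.mul_le_mul_right _ hB
        _ ≤ j := Nat.div_mul_le_self j a
    · obtain ⟨X, hX⟩ : ∃ X, X = B * a + k * A := ⟨_, rfl⟩
      have h3 : r * j < r * (X + 1) := by
        have e : a * (r * B + k) = r * X + ℓ * k := by
          rw [hX, ha]; ring
        rw [e] at hj
        have : r * (X + 1) = r * X + r := by ring
        omega
      have := Nat.lt_of_mul_lt_mul_left h3
      omega
  · have hB1 : 1 ≤ B := Nat.succ_le_of_lt (Nat.lt_of_le_of_lt (Nat.zero_le _) hB)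
    have h2' := h2 hB1
    obtain ⟨t, ht⟩ : ∃ t, t = j / a := ⟨_, rfl⟩
    rw [← ht] at hB
    obtain ⟨d, hd⟩ : ∃ d, B = t + d + 1 := ⟨B - t - 1, by omega⟩
    refine ⟨t, r * (d + 1) + k, ?_, ?_, ?_⟩
    · rw [hd]; ring
    · rw [ht]; exact Nat.div_mul_le_self j a
    · have h3 : j < a * (j / a + 1) := Nat.lt_mul_div_succ j ha0
      rw [← ht] at h3
      have h4 : a * (t + 1) = t * a + a := by ring
      have h5 : a ≤ (r * (d + 1) + k) * A + 1 := by
        have e : (r * (d + 1) + k) * A = r * A + (r * d * A + k * A) := by ring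
        rw [e, ha]
        omega
      omega

theorem cond_of_cover {r A ℓ B k : ℕ} (hr : 0 < r) (hk : k < r)
    (ha2 : 2 ≤ r * A + ℓ) (hrab : r ≤ (r * A + ℓ) * (r * B + k))
    (H : ∀ j, 1 ≤ j → r * j ≤ (r * A + ℓ) * (r * B + k) →
      ∃ t s, r * t + s = r * B + k ∧ t * (r * A + ℓ) ≤ j ∧ j ≤ t * (r * A + ℓ) + s * A) :
    1 ≤ A ∧ ℓ * k < r ∧ (1 ≤ B → ℓ ≤ k * A + 1) := by
  set a := r * A + ℓ with ha
  set b := r * B + k with hb
  have key : ∀ t s, r * t + s = b → t * a + s * A = b * A + t * ℓ := by
    intro t s h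
    rw [← h, ha]; ring
  have htB : ∀ t s, r * t + s = b → t ≤ B := by
    intro t s h
    have h1 : r * t < r * (B + 1) := by
      have : r * (B + 1) = r * B + r := by ring
      omega
    have := Nat.lt_of_mul_lt_mul_left h1
    omega
  refine ⟨?_, ?_, ?_⟩
  · obtain ⟨t, s, hts, h1, h2⟩ := H 1 le_rfl (by simpa using hrab)
    have ht0 : t = 0 := by
      by_contra h
      have : 1 ≤ t := Nat.one_le_iff_ne_zero.mpr h
      have : a ≤ t * a := Nat.le_mul_of_pos_left a this
      omega
    subst ht0
    by_contra hA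
    have : A = 0 := by omega
    subst this
    simp at h2
  · have hM1 : 1 ≤ a * b / r := Nat.div_pos hrab hr
    obtain ⟨t, s, hts, h1, h2⟩ := H (a * b / r) hM1 (Nat.mul_div_le _ _)
    rw [key t s hts] at h2
    have htB' := htB t s hts
    have h3 : a * b < r * (a * b / r + 1) := Nat.lt_mul_div_succ _ hr
    have h4 : a * b / r + 1 ≤ b * A + B * ℓ + 1 := by
      have : t * ℓ ≤ B * ℓ := Nat.mul_le_mul_right _ htB'
      omega
    have h5 : r * (a * b / r + 1) ≤ r * (b * A + B * ℓ + 1) := Nat.mul_le_mul_left _ h4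
    have e : a * b = r * (b * A + B * ℓ) + ℓ * k := by
      rw [ha, hb]; ring
    have e2 : r * (b * A + B * ℓ + 1) = r * (b * A + B * ℓ) + r := by ring
    omega
  · intro hB1
    obtain ⟨B', rfl⟩ : ∃ B', B = B' + 1 := ⟨B - 1, by omega⟩
    have hBa : (B' + 1) * a = B' * a + a := by ring
    have hj1 : 1 ≤ (B' + 1) * a - 1 := by omega
    have hj2 : r * ((B' + 1) * a - 1) ≤ a * b := by
      have : r * ((B' + 1) * a - 1) ≤ r * ((B' + 1) * a) := Nat.mul_le_mul_left _ (Nat.sub_le _ _)
      have e : a * b = r * ((B' + 1) * a) + a * k := by rw [hb]; ring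
      omega
    obtain ⟨t, s, hts, h1, h2⟩ := H _ hj1 hj2
    rw [key t s hts] at h2
    have htB' : t ≤ B' := by
      by_contra h
      have : B' + 1 ≤ t := by omega
      have : (B' + 1) * a ≤ t * a := Nat.mul_le_mul_right _ this
      omega
    have h3 : t * ℓ ≤ B' * ℓ := Nat.mul_le_mul_right _ htB'
    have e1 : (B' + 1) * a = r * (B' + 1) * A + B' * ℓ + ℓ := by rw [ha]; ring
    have e2 : b * A = r * (B' + 1) * A + k * A := by rw [hb]; ring
    omega


open Nat in
theorem factorial_pow_mul_dvd {a : ℕ} (ha : 1 ≤ a) (b : ℕ) :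
    a.factorial ^ b * b.factorial ∣ (a * b).factorial := by
  induction b with
  | zero => simp
  | succ b ih =>
    obtain ⟨a', rfl⟩ : ∃ a', a = a' + 1 := ⟨a - 1, by omega⟩
    obtain ⟨m, hm⟩ := ih
    have h1 := Nat.add_one_mul_choose_eq ((a' + 1) * b + a') a'
    have h2 := Nat.add_choose_mul_factorial_mul_factorial ((a' + 1) * b) (a' + 1)
    have e : (a' + 1) * (b + 1) = (a' + 1) * b + (a' + 1) := by ring
    have h3 : (b + 1) * choose ((a' + 1) * b + a') a' =
        choose ((a' + 1) * b + (a' + 1)) (a' + 1) := by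
      have e2 : (a' + 1) * b + a' + 1 = (a' + 1) * (b + 1) := by ring
      have e3 : (a' + 1) * b + (a' + 1) = (a' + 1) * b + a' + 1 := by ring
      rw [e3]
      apply Nat.eq_of_mul_eq_mul_left (Nat.succ_pos a')
      calc (a' + 1) * ((b + 1) * choose ((a' + 1) * b + a') a')
          = ((a' + 1) * b + a' + 1) * choose ((a' + 1) * b + a') a' := by rw [e2]; ring
        _ = choose ((a' + 1) * b + a' + 1) (a' + 1) * (a' + 1) := h1
        _ = (a' + 1) * choose ((a' + 1) * b + a' + 1) (a' + 1) := by ring
    refine ⟨choose ((a' + 1) * b + a') a' * m, ?_⟩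
    rw [e, ← h2, ← h3, hm, pow_succ, Nat.factorial_succ b]
    ring

theorem le_of_dvd_count {a b r : ℕ} (ha : 1 ≤ a) (hr : r.Prime)
    (hrd : r ∣ (a * b).factorial / (a.factorial ^ b * b.factorial)) : r ≤ a * b := by
  rw [← hr.dvd_factorial]
  exact hrd.trans (Nat.div_dvd_of_dvd (factorial_pow_mul_dvd ha b))

end Cfsg.Agent.Lib.H9.UnifPart
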