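import Mathlib

set_option autoImplicit false

/-!
# S0720 piece ALT2T (`two_trans_of_alt_le`; helper9)
-/

namespace Cfsg.Agent.Lib.H9.W2P

/-- ALT2T: a group containing the alternating group of degree at least 4 is doubly transitive. -/
theorem two_trans_of_alt_le {α : Type*} [Fintype α] [DecidableEq α] (hα : 4 ≤ Fintype.card α)
    (G : Subgroup (Equiv.Perm α)) (h : alternatingGroup α ≤ G) :
    MulAction.IsMultiplyPretransitive G α 2 := by
  have hA : MulAction.IsMultiplyPretransitive (alternatingGroup α) α (Nat.card α - 2) :=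
    alternatingGroup.isMultiplyPretransitive α
  have hc : Nat.card α = Fintype.card α := Nat.card_eq_fintype_card
  have hA2 : MulAction.IsMultiplyPretransitive (alternatingGroup α) α 2 := by
    apply MulAction.isMultiplyPretransitive_of_le (n := Nat.card α - 2)
    · omega
    · omega
  rw [MulAction.is_two_pretransitive_iff] at hA2 ⊢
  intro a b c d hab hcd
  obtain ⟨g, hg1, hg2⟩ := hA2 hab hcd
  exact ⟨⟨(g : Equiv.Perm α), h g.2⟩, hg1, hg2⟩

end Cfsg.Agent.Lib.H9.W2P
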