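import Mathlib

set_option autoImplicit false

/-!
# S0720 piece R2 (`two_trans_of_rank_two`; helper9)
-/

namespace Cfsg.Agent.Lib.H9.W2P

/-- a point stabiliser with two orbits is transitive on the complement of the point -/
theorem exists_stab_smul_of_rank_two {G : Type*} [Group G] {Ω : Type*} [MulAction G Ω] (a : Ω)
    (h : Nat.card (MulAction.orbitRel.Quotient (MulAction.stabilizer G a) Ω) = 2)
    (x y : Ω) (hx : x ≠ a) (hy : y ≠ a) : ∃ g : G, g • a = a ∧ g • x = y := by
  classical
  let q : Ω → MulAction.orbitRel.Quotient (MulAction.stabilizer G a) Ω := Quotient.mk''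
  have hq : ∀ x y, q x = q y ↔ x ∈ MulAction.orbit (MulAction.stabilizer G a) y :=
    fun x y => Quotient.eq''
  have ha : ∀ x, q x = q a → x = a := by
    intro x hx
    rw [hq] at hx
    obtain ⟨k, rfl⟩ := hx
    exact k.2
  obtain ⟨u, v, -, huniv⟩ := Nat.card_eq_two_iff.mp h
  have h1 : q x ≠ q a := fun e => hx (ha x e)
  have h2 : q y ≠ q a := fun e => hy (ha y e)
  have h3 : q x = q y := by
    have mx : q x ∈ ({u, v} : Set _) := by rw [huniv]; trivial
    have my : q y ∈ ({u, v} : Set _) := by rw [huniv]; trivial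
    have ma : q a ∈ ({u, v} : Set _) := by rw [huniv]; trivial
    simp only [Set.mem_insert_iff, Set.mem_singleton_iff] at mx my ma
    rcases mx with e1 | e1 <;> rcases my with e2 | e2 <;> rcases ma with e3 | e3
    all_goals first
      | exact e1.trans e2.symm
      | exact absurd (e1.trans e3.symm) h1
      | exact absurd (e2.trans e3.symm) h2
  rw [hq] at h3
  obtain ⟨k, hk⟩ := h3
  refine ⟨((k⁻¹ : MulAction.stabilizer G a) : G), (k⁻¹).2, ?_⟩
  have hk' : (k : G) • y = x := hk
  rw [← hk', Subgroup.coe_inv, inv_smul_smul]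

/-- R2: rank 2 means doubly transitive. -/
theorem two_trans_of_rank_two {G : Type*} [Group G] {Ω : Type*} [Finite Ω] [MulAction G Ω]
    [MulAction.IsPretransitive G Ω] (a : Ω)
    (h : Nat.card (MulAction.orbitRel.Quotient (MulAction.stabilizer G a) Ω) = 2) :
    MulAction.IsMultiplyPretransitive G Ω 2 := by
  rw [MulAction.is_two_pretransitive_iff]
  intro a' b' c' d' hab hcd
  obtain ⟨g1, hg1⟩ := MulAction.exists_smul_eq G a' a
  obtain ⟨g2, hg2⟩ := MulAction.exists_smul_eq G c' a
  have hx : g1 • b' ≠ a := by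
    intro e
    apply hab
    have := e.trans hg1.symm
    exact (MulAction.injective g1 this).symm
  have hy : g2 • d' ≠ a := by
    intro e
    apply hcd
    have := e.trans hg2.symm
    exact (MulAction.injective g2 this).symm
  obtain ⟨k, hka, hkx⟩ := exists_stab_smul_of_rank_two a h (g1 • b') (g2 • d') hx hy
  refine ⟨g2⁻¹ * k * g1, ?_, ?_⟩
  · rw [mul_smul, mul_smul, hg1, hka, ← hg2, inv_smul_smul]
  · rw [mul_smul, mul_smul, hkx, inv_smul_smul]

end Cfsg.Agent.Lib.H9.W2P
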