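import Mathlib
import Cfsg.Agent.Lib.H4.CentRingK
import Cfsg.Agent.Lib.H9.W2PR2

set_option autoImplicit false

/-!
# S0720 piece TWO (`two_trans_of_card_four`; helper9)
-/

namespace Cfsg.Agent.Lib.H9.W2P

/-- TWO: a primitive group of degree 4 is doubly transitive. -/
theorem two_trans_of_card_four {α : Type*} [Fintype α] [DecidableEq α] (hα : Fintype.card α = 4)
    (G : Subgroup (Equiv.Perm α)) (hG : MulAction.IsPreprimitive G α) :
    MulAction.IsMultiplyPretransitive G α 2 := by
  classical
  have : Fintype ↥G := Fintype.ofFinite _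
  have : MulAction.IsPretransitive G α := hG.toIsPretransitive
  -- every suborbit off the base point has at least two points
  have hbig : ∀ a b : α, b ≠ a →
      2 ≤ (MulAction.orbit (MulAction.stabilizer G a) b).ncard := by
    intro a b hab
    have h1 := Cfsg.Agent.Lib.H4.CentRing.prim_no_unit_suborbit hG (m := 2) (by rw [hα]) le_rfl a b hab
    rw [Nat.card_coe_set_eq] at h1
    have h2 : 0 < (MulAction.orbit (MulAction.stabilizer G a) b).ncard := by
      rw [Set.ncard_pos]
      exact MulAction.nonempty_orbit b
    omega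
  -- the stabiliser is transitive on the complement
  have key : ∀ a x y : α, x ≠ a → y ≠ a → ∃ g : G, g • a = a ∧ g • x = y := by
    intro a x y hx hy
    by_contra hne
    have hdisj : Disjoint (MulAction.orbit (MulAction.stabilizer G a) x)
        (MulAction.orbit (MulAction.stabilizer G a) y) := by
      rw [Set.disjoint_left]
      intro z hzx hzy
      apply hne
      obtain ⟨k1, hk1⟩ := hzx
      obtain ⟨k2, hk2⟩ := hzy
      refine ⟨((k2⁻¹ * k1 : MulAction.stabilizer G a) : G), (k2⁻¹ * k1).2, ?_⟩
      have e1 : (k1 : G) • x = z := hk1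
      have e2 : (k2 : G) • y = z := hk2
      rw [Subgroup.coe_mul, mul_smul, e1, ← e2, Subgroup.coe_inv, inv_smul_smul]
    have hsub : MulAction.orbit (MulAction.stabilizer G a) x ∪
        MulAction.orbit (MulAction.stabilizer G a) y ⊆ ({a}ᶜ : Set α) := by
      intro z hz
      rw [Set.mem_compl_iff, Set.mem_singleton_iff]
      rintro rfl
      rcases hz with hz | hz
      · obtain ⟨k, hk⟩ := hz
        have e1 : (k : G) • x = z := hk
        have e2 : (k : G) • z = z := k.2
        exact hx (MulAction.injective (k : G) (e1.trans e2.symm))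
      · obtain ⟨k, hk⟩ := hz
        have e1 : (k : G) • y = z := hk
        have e2 : (k : G) • z = z := k.2
        exact hy (MulAction.injective (k : G) (e1.trans e2.symm))
    have hc : ({a}ᶜ : Set α).ncard = 3 := by
      rw [Set.ncard_compl, Set.ncard_singleton, Nat.card_eq_fintype_card, hα]
    have h1 := Set.ncard_le_ncard hsub (Set.toFinite _)
    rw [Set.ncard_union_eq hdisj (Set.toFinite _) (Set.toFinite _), hc] at h1
    have h2 := hbig a x hx
    have h3 := hbig a y hy
    omega
  rw [MulAction.is_two_pretransitive_iff]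
  intro a' b' c' d' hab hcd
  obtain ⟨g2, hg2⟩ := MulAction.exists_smul_eq G a' c'
  have hy : g2⁻¹ • d' ≠ a' := by
    intro e
    apply hcd
    rw [← hg2, ← e, smul_inv_smul]
  obtain ⟨k, hka, hkx⟩ := key a' b' (g2⁻¹ • d') hab.symm hy
  refine ⟨g2 * k, ?_, ?_⟩
  · rw [mul_smul, hka, hg2]
  · rw [mul_smul, hkx, smul_inv_smul]

end Cfsg.Agent.Lib.H9.W2P
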